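import Cfsg.Agent.Omega.NO3S.TwoOne.Faith

/-!
# NO-3S, `q = 2`, `n = 1` (helper881's text #13700): (VI) planes

* `Pln V U` : `U` is elementary abelian of order 8, any two of its points are on a line;
* `One.exists_plane` : a line `L` on `z`, `L ≤ ii V`, `L ≠ V`, gives a plane `⟨V, L⟩ ≤ ii V`;
* `One.pln_trv` : `K_p` induces on a plane all transvections with centre `p`.
-/

set_option autoImplicit false
set_option linter.unusedSectionVars false

namespace Cfsg.Agent.Omega.NO3S.TwoOne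

open Subgroup Cfsg Cfsg.Agent.ZN Cfsg.Agent.MinSimple.Geo Cfsg.Agent.Omega.CaseL
open Cfsg.Agent.ZN.Block (conj_mem_of_normalizer conj_mem_of_normalizer' le_normalizer_of_forall
  mem_normalizer_of)

universe u

variable {G : Type u} [Group G]

/-- `U` is a plane -/
structure Pln (V U : Subgroup G) : Prop where
  card : Nat.card U = 8
  sq : ∀ u ∈ U, u * u = 1
  line : ∀ p ∈ U, ∀ q ∈ U, p ≠ 1 → q ≠ 1 → p ≠ q → ∃ L ∈ lines V p, q ∈ L

namespace One

variable {T V : Subgroup G} {z : G}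

theorem line_of_line [Finite G] (h : One T V z) {u : G} (hu : u ∈ ii V) (huV : u ∉ V) {p q : G} (hp : p ∈ V)
    (hp1 : p ≠ 1) (hq : q ∈ V) (hq1 : q ≠ 1) (hL : ∃ L ∈ lines V q, u ∈ L) : ∃ L ∈ lines V p, u ∈ L := by
  obtain ⟨L, hL, huL⟩ := hL
  obtain ⟨g, -, hgu, hgq⟩ := h.ftwo hu huV hq hq1 hp hp1
  refine ⟨cj g L, ?_, ?_⟩
  · have := mem_lines_cj (g := g) hL
    rwa [hgq] at this
  · have := conj_mem_cj (g := g) huL
    rwa [conj_eq_of_comm hgu] at this

/-- (VI): the lines of the plane `⟨V, u⟩` -/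
theorem plane_line [Finite G] (h : One T V z) {u : G} (hu : u ∈ ii V) (huV : u ∉ V)
    (hL : ∃ L ∈ lines V z, u ∈ L) {p v : G} (hp : p ∈ V) (hp1 : p ≠ 1) (hv : v ∈ V) :
    ∃ L ∈ lines V p, v * u ∈ L := by
  have hz := h.ln.z_mem
  have hz1 := h.ln.z_ne
  by_cases hv1 : v = 1
  · rw [hv1, one_mul]
    exact h.line_of_line hu huV hp hp1 hz hz1 hL
  · have huV' : v * u ∉ V := fun e => huV (by
      have := mul_mem (inv_mem hv) e
      rwa [inv_mul_cancel_left] at this)
    refine h.line_of_line (mul_mem (h.V_le_ii hv) hu) huV' hp hp1 hv hv1 ?_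
    obtain ⟨L, hL', huL⟩ := h.line_of_line hu huV hv hv1 hz hz1 hL
    exact ⟨L, hL', mul_mem hL'.2 huL⟩

/-- a line `L` on `z`, in `ii V`, `L ≠ V`, spans with `V` a plane -/
theorem exists_plane [Finite G] (h : One T V z) {u : G} (hu : u ∈ ii V) (huV : u ∉ V)
    (hL : ∃ L ∈ lines V z, u ∈ L) : ∃ U : Subgroup G, Pln V U ∧ V ≤ U ∧ u ∈ U ∧ U ≤ ii V := by
  have hz := h.ln.z_mem
  have hz1 := h.ln.z_ne
  have hsq := h.sqz
  have hab := h.ab
  have hiz : ∀ x ∈ ii V, x ∈ ws V z := fun x hx => ii_le hz hz1 hx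
  have huu : u * u = 1 := hsq u (hiz u hu)
  have hvu : ∀ v ∈ V, v * u = u * v := fun v hv => hab v (h.V_le hz hz1 hv) u (hiz u hu)
  let U : Subgroup G :=
    { carrier := {x | x ∈ V ∨ u * x ∈ V}
      mul_mem' := by
        rintro a b (ha | ha) (hb | hb)
        · exact Or.inl (mul_mem ha hb)
        · right
          have e : u * (a * b) = a * (u * b) := by
            rw [← mul_assoc, ← hvu a ha, mul_assoc]
          rw [e]; exact mul_mem ha hb
        · right
          rw [← mul_assoc]; exact mul_mem ha hb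
        · left
          have e : a * b = (u * a) * (u * b) := by
            have h1 := hvu _ ha
            calc a * b = (u * u) * a * b := by rw [huu, one_mul]
              _ = u * (u * a) * b := by group
              _ = (u * a) * u * b := by rw [← h1]
              _ = (u * a) * (u * b) := by group
          rw [e]; exact mul_mem ha hb
      one_mem' := Or.inl (one_mem _)
      inv_mem' := by
        rintro a (ha | ha)
        · exact Or.inl (inv_mem ha)
        · right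
          have h1 := hvu _ (inv_mem ha)
          have e : u * a⁻¹ = (u * a)⁻¹ := by
            rw [mul_inv_rev, inv_eq_self huu] at h1 ⊢
            calc u * a⁻¹ = u * (a⁻¹ * u) * u⁻¹ := by group
              _ = a⁻¹ * u * u * u⁻¹ := by rw [← h1]
              _ = a⁻¹ * u := by group
          rw [e]; exact inv_mem ha }
  have hVU : V ≤ U := fun v hv => Or.inl hv
  have huU : u ∈ U := by
    right; rw [huu]; exact one_mem _
  have hUi : U ≤ ii V := by
    rintro x (hx | hx)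
    · exact h.V_le_ii hx
    · have := mul_mem (inv_mem hu) (h.V_le_ii hx)
      rwa [inv_mul_cancel_left] at this
  -- an element outside `V` is `v u`
  have hout : ∀ x ∈ U, x ∉ V → ∃ v ∈ V, x = v * u := by
    rintro x (hx | hx) hxV
    · exact absurd hx hxV
    · refine ⟨u * x, hx, ?_⟩
      have hxz : x ∈ ws V z := by
        have := mul_mem (inv_mem hu) (h.V_le_ii hx)
        rw [inv_mul_cancel_left] at this
        exact hiz x this
      rw [hab u (hiz u hu) x hxz, mul_assoc, huu, mul_one]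
  have hsqU : ∀ x ∈ U, x * x = 1 := fun x hx => hsq x (hiz x (hUi hx))
  have hcard : Nat.card U = 8 := by
    have h1 : V.relIndex U = 2 := by
      refine Subgroup.relIndex_eq_two_iff.mpr ?_
      refine ⟨u, huU, fun b hb => ?_⟩
      by_cases hbV : b ∈ V
      · right
        refine ⟨hbV, fun e => huV ?_⟩
        have := mul_mem (inv_mem hbV) e
        rwa [inv_mul_cancel_left] at this
      · left
        obtain ⟨v, hv, rfl⟩ := hout b hb hbV
        refine ⟨?_, hbV⟩
        rw [mul_assoc, huu, mul_one]; exact hv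
    have h2 := Block.card_mul_relIndex' hVU
    rw [← h2, h1, h.ln.card_V]
  refine ⟨U, ⟨hcard, hsqU, fun p hp q hq hp1 hq1 hpq => ?_⟩, hVU, huU, hUi⟩
  -- the lines
  have key : ∀ p ∈ V, p ≠ 1 → ∀ q ∈ U, q ∉ V → ∃ L ∈ lines V p, q ∈ L := by
    intro p hp hp1 q hq hqV
    obtain ⟨v, hv, rfl⟩ := hout q hq hqV
    exact h.plane_line hu huV hL hp hp1 hv
  by_cases hpV : p ∈ V
  · by_cases hqV : q ∈ V
    · exact ⟨V, ⟨⟨1, (cj_one V).symm⟩, hpV⟩, hqV⟩
    · exact key p hpV hp1 q hq hqV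
  · by_cases hqV : q ∈ V
    · obtain ⟨L, hL', hpL⟩ := key q hqV hq1 p hp hpV
      exact ⟨L, ⟨hL'.1, hpL⟩, hL'.2⟩
    · -- `p q ∈ V`
      obtain ⟨v, hv, hpv⟩ := hout p hp hpV
      obtain ⟨w, hw, hqw⟩ := hout q hq hqV
      have hpq' : p * q = v * w := by
        have h1 := hvu w hw
        rw [hpv, hqw]
        calc v * u * (w * u) = v * (u * w) * u := by group
          _ = v * w * (u * u) := by rw [← h1]; group
          _ = v * w := by rw [huu, mul_one]
      have hpqV : p * q ∈ V := by rw [hpq']; exact mul_mem hv hw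
      have hpq1 : p * q ≠ 1 := fun e => hpq (by
        rw [mul_eq_one_iff_eq_inv.mp e, inv_eq_self (hsqU q hq)])
      obtain ⟨L, hL', hpL⟩ := key _ hpqV hpq1 p hp hpV
      refine ⟨L, ⟨hL'.1, hpL⟩, ?_⟩
      have := mul_mem (inv_mem hpL) hL'.2
      rwa [inv_mul_cancel_left] at this

/-- `K_p` induces on a plane all transvections with centre `p`. -/
theorem pln_trv [Finite G] (h : One T V z) {U : Subgroup G} (hU : Pln V U) {p q r : G} (hp : p ∈ U)
    (hp1 : p ≠ 1) (hq : q ∈ U) (hq1 : q ≠ 1) (hqp : q ≠ p) (hr : r ∈ U) (hr1 : r ≠ 1) (hrp : r ≠ p)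
    (hrq : r ≠ q) (hrpq : r ≠ p * q) : ∃ k ∈ kq V p, k * q * k⁻¹ = p * q ∧ k * r * k⁻¹ = r := by
  have hpp := hU.sq p hp
  have hUw : ∀ x ∈ U, x ∈ ws V p := by
    intro x hx
    by_cases hx1 : x = 1
    · rw [hx1]; exact one_mem _
    by_cases hxp : x = p
    · obtain ⟨L, hL, -⟩ := hU.line p hp q hq hp1 hq1 (Ne.symm hqp)
      rw [hxp]; exact le_ws hL hL.2
    · obtain ⟨L, hL, hxL⟩ := hU.line p hp x hx hp1 hx1 (Ne.symm hxp)
      exact le_ws hL hxL
  have cases : ∀ k ∈ kq V p, ∀ x ∈ U, k * x * k⁻¹ = x ∨ k * x * k⁻¹ = p * x := by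
    intro k hk x hx
    rcases (mem_zpowers_iff_of_mul_self hpp).mp (kq_comm hk (hUw x hx)) with e | e
    · left
      calc k * x * k⁻¹ = (k * x * k⁻¹ * x⁻¹) * x := by group
        _ = x := by rw [e, one_mul]
    · right
      calc k * x * k⁻¹ = (k * x * k⁻¹ * x⁻¹) * x := by group
        _ = p * x := by rw [e]
  have hkp : ∀ k ∈ kq V p, k * p * k⁻¹ = p := fun k hk =>
    conj_eq_of_comm (mem_centralizer_singleton_iff.mp (kq_le_centralizer V p hk))
  -- (F1) on the line `⟨p, x⟩`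
  have mv : ∀ x ∈ U, x ≠ 1 → x ≠ p → ∃ k ∈ kq V p, k * x * k⁻¹ = p * x := by
    intro x hx hx1 hxp
    obtain ⟨L, hL, hxL⟩ := hU.line p hp x hx hp1 hx1 (Ne.symm hxp)
    obtain ⟨g, rfl, T', h'⟩ := h.of_line hL hp1
    obtain ⟨k, hk, hk1⟩ := h'.f1
    refine ⟨k, by rwa [kq_cj] at hk, ?_⟩
    exact h'.move hL.2 hp1 hxL hx1 hxp hk hk1
  -- products
  have hmul : ∀ a ∈ kq V p, ∀ b ∈ kq V p, ∀ x, a * b * x * (a * b)⁻¹ = a * (b * x * b⁻¹) * a⁻¹ :=
    fun a _ b _ x => by group
  have hpx : ∀ k ∈ kq V p, ∀ x, k * (p * x) * k⁻¹ = p * (k * x * k⁻¹) := by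
    intro k hk x
    calc k * (p * x) * k⁻¹ = (k * p * k⁻¹) * (k * x * k⁻¹) := by group
      _ = p * (k * x * k⁻¹) := by rw [hkp k hk]
  have hppx : ∀ x, p * (p * x) = x := fun x => by rw [← mul_assoc, hpp, one_mul]
  obtain ⟨a, ha, haq⟩ := mv q hq hq1 hqp
  obtain ⟨b, hb, hbr⟩ := mv r hr hr1 hrp
  rcases cases a ha r hr with har | har
  · exact ⟨a, ha, haq, har⟩
  rcases cases b hb q hq with hbq | hbq
  · -- `a b`
    refine ⟨a * b, mul_mem ha hb, ?_, ?_⟩
    · rw [hmul a ha b hb, hbq, haq]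
    · rw [hmul a ha b hb, hbr, hpx a ha, har, hppx]
  · -- third line
    have hqr : q * r ≠ 1 := fun e => hrq (by
      rw [mul_eq_one_iff_eq_inv.mp e, inv_eq_self (hU.sq r hr)])
    have hqrp : q * r ≠ p := fun e => hrpq (by
      have h1 : r = q⁻¹ * p := by rw [← e]; group
      have h2 := hU.sq _ (mul_mem (inv_mem hq) hp)
      have h3 : q⁻¹ = q := inv_eq_self (hU.sq q hq)
      rw [h3] at h1 h2
      rw [h1]
      have h4 : (q * p)⁻¹ = q * p := inv_eq_self h2
      rw [← h4, mul_inv_rev, h3, inv_eq_self hpp])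
    obtain ⟨c, hc, hcx⟩ := mv (q * r) (mul_mem hq hr) hqr hqrp
    have e : c * (q * r) * c⁻¹ = (c * q * c⁻¹) * (c * r * c⁻¹) := by group
    have hpq : p * q = q * p := by
      have h1 := hU.sq _ (mul_mem hp hq)
      have h2 := inv_eq_self h1
      rw [mul_inv_rev, inv_eq_self hpp, inv_eq_self (hU.sq q hq)] at h2
      exact h2.symm
    rw [e] at hcx
    rcases cases c hc q hq with hcq | hcq <;> rcases cases c hc r hr with hcr | hcr
    · exfalso
      rw [hcq, hcr] at hcx
      exact hp1 (by simpa using hcx.symm)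
    · -- `c` moves `r`, not `q`
      refine ⟨a * c, mul_mem ha hc, ?_, ?_⟩
      · rw [hmul a ha c hc, hcq, haq]
      · rw [hmul a ha c hc, hcr, hpx a ha, har, hppx]
    · exact ⟨c, hc, hcq, hcr⟩
    · exfalso
      rw [hcq, hcr] at hcx
      have e2 : p * q * (p * r) = q * r := by
        calc p * q * (p * r) = (q * p) * (p * r) := by rw [hpq]
          _ = q * (p * p) * r := by group
          _ = q * r := by rw [hpp, mul_one]
      rw [e2] at hcx
      exact hp1 (by simpa using hcx.symm)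

/-- the stabilizer of a plane is transitive on its points -/
theorem pln_trans [Finite G] (h : One T V z) {U : Subgroup G} (hU : Pln V U) {p q : G} (hp : p ∈ U)
    (hp1 : p ≠ 1) (hq : q ∈ U) (hq1 : q ≠ 1) : ∃ g : G, g * p * g⁻¹ = q := by
  by_cases hpq : p = q
  · exact ⟨1, by rw [hpq]; group⟩
  obtain ⟨L, hL, hqL⟩ := hU.line p hp q hq hp1 hq1 hpq
  obtain ⟨g, rfl, T', h'⟩ := h.of_line hL hp1
  obtain ⟨k, -, hk⟩ := h'.ln.trans q hqL hq1
  exact ⟨k, hk⟩

end One

end Cfsg.Agent.Omega.NO3S.TwoOne
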