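import Cfsg.Agent.Omega.NO3S.TwoOne.Three
import Cfsg.Agent.MinSimple.BTwoD

/-!
# NO-3S, `q = 2`, `n = 1` (helper881's text #13700): parts (III.b), (IV), (V)

`h : One T V z`; `p ≠ q` points.  `|A| = |W_q : E_q| = (ee V q).relIndex (ws V q)`,
`|Φ| = |E_p : D_p| = (dd V p).relIndex (ee V p)`, both do not depend on the point (`One.relIndex_ee_ws`, ...).

* `n0 V p` = `{w ∈ W_p | [w, W_q] ≤ V}` = preimage of `rad β` (`One.mem_n0` : one `q ≠ p` is enough);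
  `E_p ≤ n0 V p`;
* `cb V p b` = `{w ∈ W_p | [w, b] ∈ ⟨p⟩}`, the preimage of `C_M(b)`, `M = W_p / p`;
  `One.cb_le` (III.b) : `|M : C_M(b)| ≤ 2 |A|` for `b ∈ W_q`;
* `One.phi_card` : `|Φ| = |E_p : D_p| = |W_q : w1 V q|`, hence `|Φ| ≤ |A|` (`One.phi_le`);
* (IV) `One.comm_mem_V_of_phi` : `Φ = 0` implies `[W_p, W_q] ≤ V`; `One.exists_ee_comm`, `One.V_le_of_phi` : `Φ ≠ 0`
  implies that some `[e, w] = q`, `e ∈ E_p`, `w ∈ W_q`, and `V ≤ [W_p, W_q]`; `One.exists_lambda` : in both cases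
  some `[a, b]` lies in `V - ⟨p⟩` (`λ ∈ [M, A]`);
* (V) `NT V` : `A` contains no `λ`-transvection; `One.nt_of`;
  under `NT V` : `One.nt_phi` (`Φ ≠ 0`), `One.nt_mem_ee` (`Ē = {m | [m, A] ≤ λ}`), `One.nt_mem_dd` (`D̄ = C_M(A)`),
  `One.relIndex_dd` (`|W_p : D_p| = |Φ| |A|`), `One.nt_sq_le` (`|A| ≤ |Φ|²` if `|R / V| ≤ 2`),
  `One.nt_V_le` (`V ≤ [W_p, W_q]`);
  `k = 1` : `One.nt_phi_two` (`|Φ| = 2`), `One.nt_card_four` (`|M : C_M(A)| = 4`), `One.nt_card_eight` (`|R| = 8`),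
  `One.cent_of_two` (`C_G(V)` centralises `W_q / E_q`).
-/

set_option autoImplicit false
set_option linter.unusedSectionVars false

namespace Cfsg.Agent.Omega.NO3S.TwoOne

open Subgroup Cfsg Cfsg.Agent.ZN Cfsg.Agent.MinSimple.Geo Cfsg.Agent.Omega.CaseL
open Cfsg.Agent.ZN.Block (conj_mem_of_normalizer conj_mem_of_normalizer' le_normalizer_of_forall
  mem_normalizer_of)
open scoped commutatorElement

universe u

variable {G : Type u} [Group G]

theorem sum_units {B : Type*} [Group B] [Fintype B] (t : B → ℤˣ) (ht : ∀ b b', t (b * b') = t b * t b') :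
    ∑ b, ((t b : ℤˣ) : ℤ) = by classical exact if (∀ b, t b = 1) then (Fintype.card B : ℤ) else 0 := by
  classical
  split_ifs with h
  · simp [h]
  · push Not at h
    obtain ⟨c, hc⟩ := h
    have hc' : t c = -1 := (Int.units_eq_one_or (t c)).resolve_left hc
    have h1 : ∑ b, ((t b : ℤˣ) : ℤ) = ∑ b, ((t (c * b) : ℤˣ) : ℤ) :=
      (Fintype.sum_equiv (Equiv.mulLeft c) _ _ (fun b => rfl)).symm
    have h2 : ∑ b, ((t (c * b) : ℤˣ) : ℤ) = - ∑ b, ((t b : ℤˣ) : ℤ) := by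
      rw [← Finset.sum_neg_distrib]
      refine Finset.sum_congr rfl fun b _ => ?_
      rw [ht, hc']
      simp
    omega

/-- double counting for a pairing with values `±1` -/
theorem pairing_units {A B : Type*} [Group A] [Group B] [Finite A] [Finite B] (s : A → B → ℤˣ)
    (hl : ∀ a a' b, s (a * a') b = s a b * s a' b) (hr : ∀ a b b', s a (b * b') = s a b * s a b') :
    Nat.card {a // ∀ b, s a b = 1} * Nat.card B = Nat.card A * Nat.card {b // ∀ a, s a b = 1} := by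
  classical
  have := Fintype.ofFinite A
  have := Fintype.ofFinite B
  have h1 : ∑ a, ∑ b, ((s a b : ℤˣ) : ℤ) = Nat.card {a // ∀ b, s a b = 1} * Nat.card B := by
    have : ∀ a, ∑ b, ((s a b : ℤˣ) : ℤ) = if (∀ b, s a b = 1) then (Fintype.card B : ℤ) else 0 :=
      fun a => by
        rw [sum_units (s a) (hr a)]
    simp only [this]
    rw [Finset.sum_ite, Finset.sum_const_zero, add_zero, Finset.sum_const, nsmul_eq_mul,
      Nat.card_eq_fintype_card, Nat.card_eq_fintype_card, Fintype.card_subtype]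
  have h2 : ∑ b, ∑ a, ((s a b : ℤˣ) : ℤ) = Nat.card {b // ∀ a, s a b = 1} * Nat.card A := by
    have : ∀ b, ∑ a, ((s a b : ℤˣ) : ℤ) = if (∀ a, s a b = 1) then (Fintype.card A : ℤ) else 0 :=
      fun b => by
        rw [sum_units (fun a => s a b) (fun a a' => hl a a' b)]
    simp only [this]
    rw [Finset.sum_ite, Finset.sum_const_zero, add_zero, Finset.sum_const, nsmul_eq_mul,
      Nat.card_eq_fintype_card, Nat.card_eq_fintype_card, Fintype.card_subtype]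
  rw [Finset.sum_comm, h2] at h1
  have h3 : (Nat.card {a // ∀ b, s a b = 1} * Nat.card B : ℤ) =
      Nat.card A * Nat.card {b // ∀ a, s a b = 1} := by rw [← h1, mul_comm]
  exact_mod_cast h3

theorem relIndex_ne_zero' [Finite G] (C D : Subgroup G) : C.relIndex D ≠ 0 :=
  Subgroup.index_ne_zero_of_finite

theorem relIndex_le_two {C D : Subgroup G} (h : ∀ a ∈ D, ∀ b ∈ D, a ∉ C → b ∉ C → a * b ∈ C) :
    C.relIndex D ≤ 2 := by
  by_cases hD : D ≤ C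
  · rw [relIndex_eq_one.mpr hD]; norm_num
  · obtain ⟨a, ha, ha'⟩ := SetLike.not_le_iff_exists.mp hD
    have : C.relIndex D = 2 := by
      rw [relIndex_eq_two_iff_exists_notMem_and]
      refine ⟨a, ha, ha', fun b hb => ?_⟩
      by_cases hbC : b ∈ C
      · exact Or.inr hbC
      · exact Or.inl (h b hb a ha hbC ha')
    rw [this]

theorem relIndex_mul_card [Finite G] {C D : Subgroup G} (h : C ≤ D) :
    C.relIndex D * Nat.card C = Nat.card D := by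
  have := relIndex_mul_relIndex (⊥ : Subgroup G) C D bot_le h
  rw [relIndex_bot_left, relIndex_bot_left] at this
  rw [mul_comm]; exact this

theorem relIndex_le_of_le [Finite G] {C D W : Subgroup G} (h : C ≤ D) : D.relIndex W ≤ C.relIndex W :=
  Nat.le_of_dvd (Nat.pos_of_ne_zero (relIndex_ne_zero' _ _)) (relIndex_dvd_of_le_left W h)

/-! ### the subgroups -/

/-- `{w ∈ W_p | [w, W_q] ≤ V}` -/
def n0 (V : Subgroup G) (p : G) : Subgroup G where
  carrier := {w | w ∈ ws V p ∧ w ∈ centralizer (V : Set G) ∧ ∀ q ∈ V, q ≠ 1 → ∀ b ∈ ws V q, ⁅w, b⁆ ∈ V}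
  mul_mem' := by
    rintro a b ⟨ha, ha1, ha2⟩ ⟨hb, hb1, hb2⟩
    refine ⟨mul_mem ha hb, mul_mem ha1 hb1, fun q hq hq1 c hc => ?_⟩
    have h1 : ⁅b, c⁆ * a = a * ⁅b, c⁆ := mem_centralizer_iff.mp ha1 _ (hb2 q hq hq1 c hc)
    have e : ⁅a * b, c⁆ = ⁅b, c⁆ * ⁅a, c⁆ := by
      calc ⁅a * b, c⁆ = (a * ⁅b, c⁆) * a⁻¹ * ⁅a, c⁆ := by simp only [commutatorElement_def]; group
        _ = ⁅b, c⁆ * ⁅a, c⁆ := by rw [← h1]; group
    rw [e]
    exact mul_mem (hb2 q hq hq1 c hc) (ha2 q hq hq1 c hc)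
  one_mem' := ⟨one_mem _, one_mem _, fun q _ _ b _ => by simp⟩
  inv_mem' := by
    rintro a ⟨ha, ha1, ha2⟩
    refine ⟨inv_mem ha, inv_mem ha1, fun q hq hq1 c hc => ?_⟩
    have h1 : ⁅a, c⁆ * a = a * ⁅a, c⁆ := mem_centralizer_iff.mp ha1 _ (ha2 q hq hq1 c hc)
    have e : ⁅a⁻¹, c⁆ = ⁅a, c⁆⁻¹ := by
      calc ⁅a⁻¹, c⁆ = a⁻¹ * ⁅a, c⁆⁻¹ * a := by simp only [commutatorElement_def]; group
        _ = a⁻¹ * (⁅a, c⁆⁻¹ * a) := by group
        _ = a⁻¹ * (a * ⁅a, c⁆⁻¹) := by rw [← comm_inv_of h1.symm]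
        _ = ⁅a, c⁆⁻¹ := by group
    rw [e]
    exact inv_mem (ha2 q hq hq1 c hc)

/-- `{w ∈ W_p | [w, b] ∈ U}`, `U` centralised by `w` -/
def cu (U : Subgroup G) (V : Subgroup G) (p b : G) : Subgroup G where
  carrier := {w | w ∈ ws V p ∧ w ∈ centralizer (U : Set G) ∧ ⁅w, b⁆ ∈ U}
  mul_mem' := by
    rintro a c ⟨ha, ha1, ha2⟩ ⟨hc, hc1, hc2⟩
    refine ⟨mul_mem ha hc, mul_mem ha1 hc1, ?_⟩
    have h1 : ⁅c, b⁆ * a = a * ⁅c, b⁆ := mem_centralizer_iff.mp ha1 _ hc2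
    have e : ⁅a * c, b⁆ = ⁅c, b⁆ * ⁅a, b⁆ := by
      calc ⁅a * c, b⁆ = (a * ⁅c, b⁆) * a⁻¹ * ⁅a, b⁆ := by simp only [commutatorElement_def]; group
        _ = ⁅c, b⁆ * ⁅a, b⁆ := by rw [← h1]; group
    rw [e]
    exact mul_mem hc2 ha2
  one_mem' := ⟨one_mem _, one_mem _, by simp⟩
  inv_mem' := by
    rintro a ⟨ha, ha1, ha2⟩
    refine ⟨inv_mem ha, inv_mem ha1, ?_⟩
    have h1 : ⁅a, b⁆ * a = a * ⁅a, b⁆ := mem_centralizer_iff.mp ha1 _ ha2
    have e : ⁅a⁻¹, b⁆ = ⁅a, b⁆⁻¹ := by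
      calc ⁅a⁻¹, b⁆ = a⁻¹ * ⁅a, b⁆⁻¹ * a := by simp only [commutatorElement_def]; group
        _ = a⁻¹ * (⁅a, b⁆⁻¹ * a) := by group
        _ = a⁻¹ * (a * ⁅a, b⁆⁻¹) := by rw [← comm_inv_of h1.symm]
        _ = ⁅a, b⁆⁻¹ := by group
    rw [e]
    exact inv_mem ha2

/-- the preimage of `C_M(b)`, `M = W_p / p` -/
abbrev cb (V : Subgroup G) (p b : G) : Subgroup G := cu (zpowers p) V p b

/-- `A` contains no `λ`-transvection -/
def NT (V : Subgroup G) : Prop := ∀ p ∈ V, p ≠ 1 → n0 V p ≤ ee V p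

theorem conj_mem_n0 {V : Subgroup G} {g w p : G} (hg : g ∈ normalizer (V : Set G)) (hw : w ∈ n0 V p) :
    g * w * g⁻¹ ∈ n0 V (g * p * g⁻¹) := by
  refine ⟨conj_mem_ws g hw.1, conj_mem_of_normalizer (normalizer_le_normalizer_centralizer V) hg hw.2.1,
    fun q hq hq1 b hb => ?_⟩
  have h1 : g⁻¹ * b * g ∈ ws V (g⁻¹ * q * g) := by
    have := conj_mem_ws g⁻¹ hb
    rwa [inv_inv] at this
  have h2 := hw.2.2 _ ((mem_normalizer_iff''.mp hg q).mp hq) (conj_ne_one hq1) _ h1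
  have h3 := (mem_normalizer_iff.mp hg _).mp h2
  have e : g * ⁅w, g⁻¹ * b * g⁆ * g⁻¹ = ⁅g * w * g⁻¹, b⁆ := by
    simp only [commutatorElement_def]; group
  rwa [e] at h3

namespace One

variable {T V : Subgroup G} {z : G} {p q r : G}

theorem zpowers_le (h : One T V z) (hp : p ∈ V) {x : G} (hx : x ∈ zpowers p) : x = 1 ∨ x = p :=
  (mem_zpowers_iff_of_mul_self (h.ln.sq p hp)).mp hx

theorem mem_cu (h : One T V z) {U : Subgroup G} (hU : U ≤ ws V p) (hp : p ∈ V) (hp1 : p ≠ 1) {b w : G} :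
    w ∈ cu U V p b ↔ w ∈ ws V p ∧ ⁅w, b⁆ ∈ U := by
  constructor
  · exact fun hw => ⟨hw.1, hw.2.2⟩
  · exact fun hw => ⟨hw.1, mem_centralizer_iff.mpr fun x hx => h.comm hp hp1 x (hU hx) w hw.1, hw.2⟩

theorem mem_cb (h : One T V z) (hp : p ∈ V) (hp1 : p ≠ 1) {b w : G} :
    w ∈ cb V p b ↔ w ∈ ws V p ∧ ⁅w, b⁆ ∈ zpowers p :=
  h.mem_cu (zpowers_le_of_mem (h.V_le hp hp1 hp)) hp hp1

/-- `E_p ≤ n0 V p` -/
theorem ee_le_n0 (h : One T V z) (hp : p ∈ V) (hp1 : p ≠ 1) : ee V p ≤ n0 V p := fun w hw =>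
  ⟨hw.1, h.ws_le_centralizer_V hp hp1 hw.1, fun q hq hq1 b hb => by
    rcases h.ee_cases hq hq1 hw hb with e | e
    · rw [e]; exact one_mem _
    · rw [e]; exact hq⟩

/-- one `q ≠ p` is enough for `n0` -/
theorem mem_n0 (h : One T V z) (hp : p ∈ V) (hp1 : p ≠ 1) (hq : q ∈ V) (hq1 : q ≠ 1) (hqp : q ≠ p)
    {w : G} (hw : w ∈ ws V p) (hc : ∀ b ∈ ws V q, ⁅w, b⁆ ∈ V) : w ∈ n0 V p := by
  refine ⟨hw, h.ws_le_centralizer_V hp hp1 hw, fun r hr hr1 b hb => ?_⟩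
  rcases h.third hp hp1 hq hq1 hqp hr hr1 with e | e | e
  · rw [e] at hb
    rw [commutatorElement_eq_one_iff_mul_comm.mpr (h.comm hp hp1 w hw b hb)]
    exact one_mem _
  · rw [e] at hb; exact hc b hb
  · obtain ⟨t, ht, -, ht2⟩ := h.exists_move hp hp1 hq hq1 hqp
    have htn := h.kq_le_normalizer hp hp1 ht
    have h1 : t⁻¹ * b * t ∈ ws V q := by
      have h2 := conj_mem_ws t⁻¹ hb
      rw [inv_inv] at h2
      have e3 : t⁻¹ * r * t = q := by rw [e, ← ht2]; group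
      rwa [e3] at h2
    have h3 := (mem_normalizer_iff.mp htn _).mp (hc _ h1)
    have e4 : t * ⁅w, t⁻¹ * b * t⁆ * t⁻¹ = ⁅t * w * t⁻¹, b⁆ := by
      simp only [commutatorElement_def]; group
    rw [e4] at h3
    rcases h.kq_cases hp ht hw with e2 | e2
    · rwa [e2] at h3
    · rw [e2, h.comm_mul_left hp hp1 hr hr1 (h.V_le hp hp1 hp) hw hb] at h3
      have h5 : ⁅p, b⁆ = 1 := commutatorElement_eq_one_iff_mul_comm.mpr
        (h.V_comm hp (h.ws_le_centralizer_V hr hr1 hb))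
      rwa [h5, one_mul] at h3

/-! ### indices do not depend on the point -/

theorem relIndex_conj (h : One T V z) (A B : G → Subgroup G) (hA : ∀ g ∈ normalizer (V : Set G), ∀ p, ∀ w ∈ A p,
      g * w * g⁻¹ ∈ A (g * p * g⁻¹)) (hB : ∀ g ∈ normalizer (V : Set G), ∀ p, ∀ w ∈ B p,
      g * w * g⁻¹ ∈ B (g * p * g⁻¹)) (hp : p ∈ V) (hp1 : p ≠ 1) (hq : q ∈ V) (hq1 : q ≠ 1) :
    (A p).relIndex (B p) = (A q).relIndex (B q) := by
  obtain ⟨g, hg, hgp⟩ := h.xl_trans hp hp1 hq hq1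
  have hgn := h.xl_le_normalizer hg
  have key : ∀ A : G → Subgroup G, (∀ g ∈ normalizer (V : Set G), ∀ p, ∀ w ∈ A p,
      g * w * g⁻¹ ∈ A (g * p * g⁻¹)) → cj g (A p) = A q := by
    intro A hA
    apply le_antisymm
    · intro x hx
      rw [mem_cj] at hx
      have := hA g hgn p _ hx
      have e : g * (g⁻¹ * x * g) * g⁻¹ = x := by group
      rwa [e, hgp] at this
    · intro x hx
      rw [mem_cj]
      have := hA g⁻¹ (inv_mem hgn) q x hx
      have e : g⁻¹ * q * g⁻¹⁻¹ = p := by rw [← hgp]; group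
      rwa [e, inv_inv] at this
  rw [← key A hA, ← key B hB, relIndex_cj]

theorem relIndex_ee_ws (h : One T V z) (hp : p ∈ V) (hp1 : p ≠ 1) (hq : q ∈ V) (hq1 : q ≠ 1) :
    (ee V p).relIndex (ws V p) = (ee V q).relIndex (ws V q) :=
  h.relIndex_conj (ee V) (ws V) (fun _ hg _ _ hw => conj_mem_ee hg hw) (fun g _ _ _ hw => conj_mem_ws g hw)
    hp hp1 hq hq1

theorem relIndex_dd_ee (h : One T V z) (hp : p ∈ V) (hp1 : p ≠ 1) (hq : q ∈ V) (hq1 : q ≠ 1) :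
    (dd V p).relIndex (ee V p) = (dd V q).relIndex (ee V q) :=
  h.relIndex_conj (dd V) (ee V) (fun _ hg _ _ hw => conj_mem_dd hg hw) (fun _ hg _ _ hw => conj_mem_ee hg hw)
    hp hp1 hq hq1

theorem relIndex_dd_ws (h : One T V z) (hp : p ∈ V) (hp1 : p ≠ 1) (hq : q ∈ V) (hq1 : q ≠ 1) :
    (dd V p).relIndex (ws V p) = (dd V q).relIndex (ws V q) :=
  h.relIndex_conj (dd V) (ws V) (fun _ hg _ _ hw => conj_mem_dd hg hw) (fun g _ _ _ hw => conj_mem_ws g hw)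
    hp hp1 hq hq1

theorem relIndex_w1_ws (h : One T V z) (hp : p ∈ V) (hp1 : p ≠ 1) (hq : q ∈ V) (hq1 : q ≠ 1) :
    (w1 V p).relIndex (ws V p) = (w1 V q).relIndex (ws V q) :=
  h.relIndex_conj (w1 V) (ws V) (fun _ hg _ _ hw => conj_mem_w1 hg hw) (fun g _ _ _ hw => conj_mem_ws g hw)
    hp hp1 hq hq1

theorem relIndex_ee_w1 (h : One T V z) (hp : p ∈ V) (hp1 : p ≠ 1) (hq : q ∈ V) (hq1 : q ≠ 1) :
    (ee V p).relIndex (w1 V p) = (ee V q).relIndex (w1 V q) :=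
  h.relIndex_conj (ee V) (w1 V) (fun _ hg _ _ hw => conj_mem_ee hg hw) (fun _ hg _ _ hw => conj_mem_w1 hg hw)
    hp hp1 hq hq1

/-! ### (III.b) -/

/-- **(III.b)** : `|M : C_M(b)| ≤ 2 |A|`, `M = W_p / p`, `b ∈ W_q`. -/
theorem cb_le [Finite G] (h : One T V z) (hp : p ∈ V) (hp1 : p ≠ 1) (hq : q ∈ V) (hq1 : q ≠ 1) (hqp : q ≠ p)
    {b : G} (hb : b ∈ ws V q) : (cb V p b).relIndex (ws V p) ≤ 2 * (ee V q).relIndex (ws V q) := by
  have hV := h.V_le hp hp1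
  have h1 : cb V p b ≤ cu V V p b := fun w hw => by
    rw [h.mem_cb hp hp1] at hw
    exact (h.mem_cu hV hp hp1).mpr ⟨hw.1, zpowers_le_of_mem hp hw.2⟩
  have h2 : cu V V p b ≤ ws V p := fun w hw => hw.1
  have h3 : ee V p ≤ cu V V p b := fun w hw => by
    refine (h.mem_cu hV hp hp1).mpr ⟨hw.1, ?_⟩
    rcases h.ee_cases hq hq1 hw hb with e | e
    · rw [e]; exact one_mem _
    · rw [e]; exact hq
  rw [← relIndex_mul_relIndex _ _ _ h1 h2, h.relIndex_ee_ws hq hq1 hp hp1]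
  refine Nat.mul_le_mul (relIndex_le_two fun a ha c hc ha' hc' => ?_) (relIndex_le_of_le h3)
  rw [h.mem_cu hV hp hp1] at ha hc
  rw [h.mem_cb hp hp1] at ha' hc' ⊢
  have ha2 : ⁅a, b⁆ ∉ zpowers p := fun e => ha' ⟨ha.1, e⟩
  have hc2 : ⁅c, b⁆ ∉ zpowers p := fun e => hc' ⟨hc.1, e⟩
  refine ⟨mul_mem ha.1 hc.1, ?_⟩
  rw [h.comm_mul_left hp hp1 hq hq1 ha.1 hc.1 hb]
  have key : ∀ v ∈ V, v ∉ zpowers p → v = q ∨ v = p * q := by
    intro v hv hv'
    rcases h.third hp hp1 hq hq1 hqp hv (fun e => hv' (by rw [e]; exact one_mem _)) with e | e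
    · exact absurd (by rw [e]; exact mem_zpowers p) hv'
    · exact e
  have hqq := h.ln.sq q hq
  have hpq := h.ln.comm hp hq
  rcases key _ ha.2 ha2 with e1 | e1 <;> rcases key _ hc.2 hc2 with e2 | e2
  · rw [e1, e2, hqq]; exact one_mem _
  · rw [e1, e2, ← mul_assoc, ← hpq, mul_assoc, hqq, mul_one]; exact mem_zpowers p
  · rw [e1, e2, mul_assoc, hqq, mul_one]; exact mem_zpowers p
  · rw [e1, e2, h.ln.sq _ (mul_mem hp hq)]; exact one_mem _

/-! ### `Φ` -/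

/-- `|Φ| = |E_p : D_p| = |W_q : C_{W_q}(E_p)|` -/
theorem phi_card [Finite G] (h : One T V z) (hp : p ∈ V) (hp1 : p ≠ 1) (hq : q ∈ V) (hq1 : q ≠ 1) :
    (dd V p).relIndex (ee V p) = (w1 V q).relIndex (ws V q) := by
  -- it is enough to show this for some `q ≠ p`
  obtain ⟨r, hr, hr1, hrp⟩ := h.exists_q hp hp1
  rw [h.relIndex_w1_ws hq hq1 hr hr1]
  have h1 : ee V p ⊓ centralizer (ws V r : Set G) = dd V p := by
    apply le_antisymm
    · intro w hw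
      exact h.mem_dd hp hp1 hr hr1 hrp hw.1.1 fun b hb => (mem_centralizer_iff.mp hw.2 b hb).symm
    · intro w hw
      exact ⟨h.dd_le_ee p hw, mem_centralizer_iff.mpr fun b hb => (hw.2 r hr hr1 b hb).symm⟩
  have h2 : ws V r ⊓ centralizer (ee V p : Set G) = w1 V r := by
    apply le_antisymm
    · intro w hw
      exact h.mem_w1 hr hr1 hp hp1 (Ne.symm hrp) hw.1 fun b hb => (mem_centralizer_iff.mp hw.2 b hb).symm
    · intro w hw
      exact ⟨hw.1, mem_centralizer_iff.mpr fun b hb => (hw.2 p hp hp1 b hb).symm⟩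
  have h3 := MinSimple.BTwoD.pairing (A := ee V p) (B := ws V r) (z := r) (h.ln.sq r hr) hr1
    (fun a ha => h.V_comm hr (h.ws_le_centralizer_V hp hp1 ha.1))
    (fun b hb => h.V_comm hr (h.ws_le_centralizer_V hr hr1 hb))
    (fun a ha b hb => by
      rcases h.kq_cases hr (ha.2 r hr hr1) hb with e | e
      · left; exact comm_of_conj_eq e
      · right
        calc a * b = (a * b * a⁻¹) * a := by group
          _ = r * (b * a) := by rw [e]; group)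
  rw [h1, h2, ← relIndex_mul_card (h.dd_le_ee p), ← relIndex_mul_card (w1_le_ws V r)] at h3
  have h4 : 0 < Nat.card (dd V p) := Nat.card_pos
  have h5 : 0 < Nat.card (w1 V r) := Nat.card_pos
  have h6 : (w1 V r).relIndex (ws V r) * (Nat.card (dd V p) * Nat.card (w1 V r)) =
      (dd V p).relIndex (ee V p) * (Nat.card (dd V p) * Nat.card (w1 V r)) := by
    calc (w1 V r).relIndex (ws V r) * (Nat.card (dd V p) * Nat.card (w1 V r))
        = Nat.card (dd V p) * ((w1 V r).relIndex (ws V r) * Nat.card (w1 V r)) := by ring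
      _ = (dd V p).relIndex (ee V p) * Nat.card (dd V p) * Nat.card (w1 V r) := h3
      _ = (dd V p).relIndex (ee V p) * (Nat.card (dd V p) * Nat.card (w1 V r)) := by ring
  exact (Nat.eq_of_mul_eq_mul_right (Nat.mul_pos h4 h5) h6).symm

/-- `|Φ| ≤ |A|` -/
theorem phi_le [Finite G] (h : One T V z) (hp : p ∈ V) (hp1 : p ≠ 1) (hq : q ∈ V) (hq1 : q ≠ 1) :
    (dd V p).relIndex (ee V p) ≤ (ee V q).relIndex (ws V q) := by
  rw [h.phi_card hp hp1 hq hq1]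
  exact relIndex_le_of_le (h.ee_le_w1 hq hq1)

/-- `|W_p : D_p| = |Φ| |A|` -/
theorem relIndex_dd (h : One T V z) (p : G) :
    (dd V p).relIndex (ws V p) = (dd V p).relIndex (ee V p) * (ee V p).relIndex (ws V p) :=
  (relIndex_mul_relIndex _ _ _ (h.dd_le_ee p) (ee_le_ws V p)).symm

/-- `|A| = |Φ| |Φ^⊥|` -/
theorem relIndex_ee [Finite G] (h : One T V z) (hp : p ∈ V) (hp1 : p ≠ 1) :
    (ee V p).relIndex (ws V p) = (ee V p).relIndex (w1 V p) * (dd V p).relIndex (ee V p) := by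
  rw [h.phi_card hp hp1 hp hp1]
  exact (relIndex_mul_relIndex _ _ _ (h.ee_le_w1 hp hp1) (w1_le_ws V p)).symm

/-! ### (IV) -/

/-- `E_p = D_p` does not depend on `p` -/
theorem ee_eq_dd (h : One T V z) (hp : p ∈ V) (hp1 : p ≠ 1) (hq : q ∈ V) (hq1 : q ≠ 1)
    (hE : ee V p ≤ dd V p) : ee V q ≤ dd V q := by
  have h1 : (dd V p).relIndex (ee V p) = 1 := relIndex_eq_one.mpr hE
  rw [h.relIndex_dd_ee hp hp1 hq hq1] at h1
  exact relIndex_eq_one.mp h1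

/-- **(IV)** : `Φ = 0` implies `[W_p, W_q] ≤ V`. -/
theorem comm_mem_V_of_phi [Finite G] (h : One T V z) (hr : r ∈ V) (hr1 : r ≠ 1) (hE : ee V r ≤ dd V r)
    (hp : p ∈ V) (hp1 : p ≠ 1) (hq : q ∈ V) (hq1 : q ≠ 1) {a b : G} (ha : a ∈ ws V p) (hb : b ∈ ws V q) :
    ⁅a, b⁆ ∈ V := by
  have key : ∀ p ∈ V, p ≠ 1 → ws V p ≤ w1 V p := by
    intro p hp hp1 a ha
    refine ⟨ha, fun q hq hq1 b hb => ?_⟩
    exact ((h.ee_eq_dd hr hr1 hq hq1 hE hb).2 p hp hp1 a ha).symm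
  exact h.w1_comm hp hp1 hq hq1 (key p hp hp1 ha) (key q hq hq1 hb)

/-- **(IV)** : `Φ ≠ 0` implies `[e, w] = q` for some `e ∈ E_p`, `w ∈ W_q`. -/
theorem exists_ee_comm (h : One T V z) (hr : r ∈ V) (hr1 : r ≠ 1) (hE : ¬ ee V r ≤ dd V r)
    (hp : p ∈ V) (hp1 : p ≠ 1) (hq : q ∈ V) (hq1 : q ≠ 1) (hqp : q ≠ p) :
    ∃ e ∈ ee V p, ∃ b ∈ ws V q, ⁅e, b⁆ = q := by
  have h1 : ¬ ee V p ≤ dd V p := fun h2 => hE (h.ee_eq_dd hp hp1 hr hr1 h2)
  obtain ⟨e, he, he'⟩ := SetLike.not_le_iff_exists.mp h1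
  by_contra hcon
  push Not at hcon
  apply he'
  refine h.mem_dd hp hp1 hq hq1 hqp he.1 fun b hb => ?_
  rcases h.ee_cases hq hq1 he hb with e1 | e1
  · exact commutatorElement_eq_one_iff_mul_comm.mp e1
  · exact absurd e1 (hcon e he b hb)

/-- **(IV)** : `Φ ≠ 0` implies `V ≤ [W_p, W_q]`. -/
theorem V_le_of_phi (h : One T V z) (hr : r ∈ V) (hr1 : r ≠ 1) (hE : ¬ ee V r ≤ dd V r)
    (hp : p ∈ V) (hp1 : p ≠ 1) (hq : q ∈ V) (hq1 : q ≠ 1) (hqp : q ≠ p) :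
    V ≤ ⁅ws V p, ws V q⁆ := by
  obtain ⟨e, he, b, hb, h1⟩ := h.exists_ee_comm hr hr1 hE hp hp1 hq hq1 hqp
  obtain ⟨f, hf, a, ha, h2⟩ := h.exists_ee_comm hr hr1 hE hq hq1 hp hp1 (Ne.symm hqp)
  have h3 : q ∈ ⁅ws V p, ws V q⁆ := by
    have := commutator_mem_commutator (H₁ := ws V p) (H₂ := ws V q) he.1 hb
    rwa [h1] at this
  have h4 : p ∈ ⁅ws V p, ws V q⁆ := by
    have := commutator_mem_commutator (H₁ := ws V p) (H₂ := ws V q) ha hf.1
    rwa [← h.comm_swap hp hp1 hq hq1 ha hf.1, h2] at this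
  intro v hv
  by_cases hv1 : v = 1
  · rw [hv1]; exact one_mem _
  rcases h.third hp hp1 hq hq1 hqp hv hv1 with e | e | e
  · rw [e]; exact h4
  · rw [e]; exact h3
  · rw [e]; exact mul_mem h4 h3

/-- `[W_p, W_q] ≠ 1` for all `p ≠ q` -/
theorem exists_not_comm (h : One T V z) (hp : p ∈ V) (hp1 : p ≠ 1) (hq : q ∈ V) (hq1 : q ≠ 1) (hqp : q ≠ p) :
    ∃ a ∈ ws V p, ∃ b ∈ ws V q, ⁅a, b⁆ ≠ 1 := by
  obtain ⟨y, hy, hy1, hyz, a, ha, b, hb, hab⟩ := h.nc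
  obtain ⟨g, hg, hg1, hg2⟩ := h.xl_trans₂ h.ln.z_mem h.ln.z_ne hy hy1 hyz hp hp1 hq hq1 hqp
  refine ⟨g * a * g⁻¹, ?_, g * b * g⁻¹, ?_, ?_⟩
  · rw [← hg1]; exact conj_mem_ws g ha
  · rw [← hg2]; exact conj_mem_ws g hb
  · rw [← conjugate_commutatorElement]
    intro e
    exact hab (commutatorElement_eq_one_iff_mul_comm.mp (conj_eq_one_iff.mp e))

theorem not_ws_le_ee (h : One T V z) (hp : p ∈ V) (hp1 : p ≠ 1) : ¬ ws V p ≤ ee V p := by
  intro hle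
  obtain ⟨q, hq, hq1, hqp⟩ := h.exists_q hp hp1
  obtain ⟨a, ha, b, hb, hab⟩ := h.exists_not_comm hp hp1 hq hq1 hqp
  have h1 : (ee V p).relIndex (ws V p) = 1 := relIndex_eq_one.mpr hle
  rw [h.relIndex_ee_ws hp hp1 hq hq1] at h1
  exact hab (commutatorElement_eq_one_iff_mul_comm.mpr
    (h.ee_comm hp hp1 hq hq1 (hle ha) (relIndex_eq_one.mp h1 hb)))

/-- **(IV)** : in both cases `λ ∈ [M, A]` : some commutator lies in `V - ⟨p⟩`. -/
theorem exists_lambda [Finite G] (h : One T V z) (hp : p ∈ V) (hp1 : p ≠ 1) (hq : q ∈ V) (hq1 : q ≠ 1)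
    (hqp : q ≠ p) : ∃ a ∈ ws V p, ∃ b ∈ ws V q, ⁅a, b⁆ ∈ V ∧ ⁅a, b⁆ ∉ zpowers p := by
  by_cases hE : ee V p ≤ dd V p
  · by_contra hcon
    push Not at hcon
    apply h.not_ws_le_ee hq hq1
    intro b hb
    refine h.mem_ee hq hq1 hp hp1 (Ne.symm hqp) hb ?_
    refine h.mem_kq hp (h.V_comm hp (h.ws_le_centralizer_V hq hq1 hb)).symm fun w hw => ?_
    have h1 := hcon w hw b hb (h.comm_mem_V_of_phi hp hp1 hE hp hp1 hq hq1 hw hb)
    rw [← h.comm_swap hp hp1 hq hq1 hw hb] at h1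
    rcases h.zpowers_le hp h1 with e | e
    · left
      exact conj_eq_of_comm (commutatorElement_eq_one_iff_mul_comm.mp e)
    · right
      rw [commutatorElement_def] at e
      rw [← e]; group
  · obtain ⟨e, he, b, hb, h1⟩ := h.exists_ee_comm hp hp1 hE hp hp1 hq hq1 hqp
    refine ⟨e, he.1, b, hb, by rw [h1]; exact hq, ?_⟩
    rw [h1]
    intro h2
    rcases h.zpowers_le hp h2 with e | e
    · exact hq1 e
    · exact hqp e

/-! ### (V) -/

/-- `NT V` from one pair of points: if `[W_p, b] ≤ V`, `b ∈ W_q`, implies `b ∈ K_p`. -/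
theorem nt_of (h : One T V z) (hp : p ∈ V) (hp1 : p ≠ 1) (hq : q ∈ V) (hq1 : q ≠ 1) (hqp : q ≠ p)
    (hN : ∀ b ∈ ws V q, (∀ a ∈ ws V p, ⁅a, b⁆ ∈ V) → b ∈ kq V p) : NT V := by
  have h1 : n0 V q ≤ ee V q := fun b hb => by
    refine h.mem_ee hq hq1 hp hp1 (Ne.symm hqp) hb.1 (hN b hb.1 fun a ha => ?_)
    rw [← h.comm_swap hp hp1 hq hq1 ha hb.1]
    exact hb.2.2 p hp hp1 a ha
  intro r hr hr1
  have h2 : (ee V q).relIndex (n0 V q) = 1 := relIndex_eq_one.mpr h1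
  rw [h.relIndex_conj (ee V) (n0 V) (fun _ hg _ _ hw => conj_mem_ee hg hw)
    (fun _ hg _ _ hw => conj_mem_n0 hg hw) hq hq1 hr hr1] at h2
  exact relIndex_eq_one.mp h2

/-- `Ē = {m | [m, A] ≤ λ}` -/
theorem nt_mem_ee (h : One T V z) (hN : NT V) (hp : p ∈ V) (hp1 : p ≠ 1) (hq : q ∈ V) (hq1 : q ≠ 1)
    (hqp : q ≠ p) {w : G} : w ∈ ee V p ↔ w ∈ ws V p ∧ ∀ b ∈ ws V q, ⁅w, b⁆ ∈ V := by
  constructor
  · intro hw
    exact ⟨hw.1, (h.ee_le_n0 hp hp1 hw).2.2 q hq hq1⟩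
  · rintro ⟨hw, hc⟩
    exact hN p hp hp1 (h.mem_n0 hp hp1 hq hq1 hqp hw hc)

/-- `D̄ = C_M(A)` -/
theorem nt_mem_dd (h : One T V z) (hN : NT V) (hp : p ∈ V) (hp1 : p ≠ 1) (hq : q ∈ V) (hq1 : q ≠ 1)
    (hqp : q ≠ p) {w : G} : w ∈ dd V p ↔ w ∈ ws V p ∧ ∀ b ∈ ws V q, ⁅w, b⁆ ∈ zpowers p := by
  constructor
  · intro hw
    refine ⟨hw.1, fun b hb => ?_⟩
    rw [commutatorElement_eq_one_iff_mul_comm.mpr (hw.2 q hq hq1 b hb)]
    exact one_mem _
  · rintro ⟨hw, hc⟩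
    have h1 : w ∈ ee V p := (h.nt_mem_ee hN hp hp1 hq hq1 hqp).mpr
      ⟨hw, fun b hb => zpowers_le_of_mem hp (hc b hb)⟩
    refine h.mem_dd hp hp1 hq hq1 hqp hw fun b hb => ?_
    rcases h.ee_cases hq hq1 h1 hb with e | e
    · exact commutatorElement_eq_one_iff_mul_comm.mp e
    · exfalso
      have h2 := hc b hb
      rw [e] at h2
      rcases h.zpowers_le hp h2 with e2 | e2
      · exact hq1 e2
      · exact hqp e2

/-- no `λ`-transvections: `Φ ≠ 0` -/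
theorem nt_phi [Finite G] (h : One T V z) (hN : NT V) (hp : p ∈ V) (hp1 : p ≠ 1) : ¬ ee V p ≤ dd V p := by
  intro hE
  apply h.not_ws_le_ee hp hp1
  intro w hw
  obtain ⟨q, hq, hq1, hqp⟩ := h.exists_q hp hp1
  exact (h.nt_mem_ee hN hp hp1 hq hq1 hqp).mpr
    ⟨hw, fun b hb => h.comm_mem_V_of_phi hp hp1 hE hp hp1 hq hq1 hw hb⟩

/-- no `λ`-transvections: `V ≤ [W_p, W_q]`, so `R = [W_p, W_q]`. -/
theorem nt_V_le [Finite G] (h : One T V z) (hN : NT V) (hp : p ∈ V) (hp1 : p ≠ 1) (hq : q ∈ V) (hq1 : q ≠ 1)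
    (hqp : q ≠ p) : V ≤ ⁅ws V p, ws V q⁆ :=
  h.V_le_of_phi hp hp1 (h.nt_phi hN hp hp1) hp hp1 hq hq1 hqp

/-- no `λ`-transvections, `|R / V| ≤ 2` : `|A| ≤ |Φ|²`. -/
theorem nt_sq_le [Finite G] (h : One T V z) (hN : NT V) (hp : p ∈ V) (hp1 : p ≠ 1) (hq : q ∈ V) (hq1 : q ≠ 1)
    (hqp : q ≠ p) (hR : V.relIndex ⁅ws V p, ws V q⁆ ≤ 2) :
    (ee V p).relIndex (ws V p) ≤ (dd V p).relIndex (ee V p) ^ 2 := by
  classical
  -- two elements of `R - V` have their product in `V`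
  have hR2 : ∀ x ∈ ⁅ws V p, ws V q⁆, ∀ y ∈ ⁅ws V p, ws V q⁆, x ∉ V → y ∉ V → x * y ∈ V := by
    intro x hx y hy hxV hyV
    have h1 : V.relIndex ⁅ws V p, ws V q⁆ = 2 := by
      have h2 : V.relIndex ⁅ws V p, ws V q⁆ ≠ 0 := relIndex_ne_zero' _ _
      have h3 : V.relIndex ⁅ws V p, ws V q⁆ ≠ 1 := fun e => hxV (relIndex_eq_one.mp e hx)
      omega
    have h4 : (V.subgroupOf ⁅ws V p, ws V q⁆).index = 2 := h1
    have h5 := Subgroup.mul_mem_iff_of_index_two h4 (a := ⟨x, hx⟩) (b := ⟨y, hy⟩)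
    rw [mem_subgroupOf, mem_subgroupOf, mem_subgroupOf] at h5
    exact h5.mpr ⟨fun e => absurd e hxV, fun e => absurd e hyV⟩
  let s : ws V p → w1 V q → ℤˣ := fun a b => if ⁅(a : G), (b : G)⁆ ∈ V then 1 else -1
  have hsV : ∀ (a : ws V p) (b : w1 V q), s a b = 1 ↔ ⁅(a : G), (b : G)⁆ ∈ V := by
    intro a b
    by_cases hc : ⁅(a : G), (b : G)⁆ ∈ V
    · simp [s, hc]
    · simp [s, hc]
  have hmul : ∀ x ∈ ⁅ws V p, ws V q⁆, ∀ y ∈ ⁅ws V p, ws V q⁆,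
      (if x * y ∈ V then (1 : ℤˣ) else -1) = (if x ∈ V then 1 else -1) * (if y ∈ V then 1 else -1) := by
    intro x hx y hy
    by_cases h1 : x ∈ V <;> by_cases h2 : y ∈ V
    · simp [h1, h2, mul_mem h1 h2]
    · have : x * y ∉ V := fun e => h2 ((mul_mem_cancel_left h1).mp e)
      simp [h1, h2, this]
    · have : x * y ∉ V := fun e => h1 ((mul_mem_cancel_right h2).mp e)
      simp [h1, h2, this]
    · simp [h1, h2, hR2 x hx y hy h1 h2]
  have hcm : ∀ (a : ws V p) (b : w1 V q), ⁅(a : G), (b : G)⁆ ∈ ⁅ws V p, ws V q⁆ := fun a b =>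
    commutator_mem_commutator a.2 b.2.1
  have h1 := pairing_units s
    (fun a a' b => by
      change (if ⁅((a * a' : ws V p) : G), (b : G)⁆ ∈ V then (1 : ℤˣ) else -1) = _
      rw [Subgroup.coe_mul, h.comm_mul_left hp hp1 hq hq1 a.2 a'.2 b.2.1]
      exact hmul _ (hcm a b) _ (hcm a' b))
    (fun a b b' => by
      change (if ⁅(a : G), ((b * b' : w1 V q) : G)⁆ ∈ V then (1 : ℤˣ) else -1) = _
      rw [Subgroup.coe_mul, h.comm_mul_right hp hp1 hq hq1 a.2 b.2.1 b'.2.1]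
      exact hmul _ (hcm a b) _ (hcm a b'))
  -- the left kernel contains `w1 V p`, the right kernel is `E_q`
  have h2 : Nat.card (w1 V p) ≤ Nat.card {a : ws V p // ∀ b, s a b = 1} := by
    refine Nat.card_le_card_of_injective (fun a : w1 V p => ⟨⟨a.1, a.2.1⟩, fun b => ?_⟩) ?_
    · rw [hsV]
      exact h.w1_comm hp hp1 hq hq1 a.2 b.2
    · intro a b hab
      have := congrArg (fun x => ((x : {a : ws V p // ∀ b, s a b = 1}).1 : G)) hab
      exact Subtype.ext this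
  have h3 : Nat.card {b : w1 V q // ∀ a, s a b = 1} ≤ Nat.card (ee V q) := by
    refine Nat.card_le_card_of_injective (fun b => ⟨(b.1 : G), ?_⟩) ?_
    · refine (h.nt_mem_ee hN hq hq1 hp hp1 (Ne.symm hqp)).mpr ⟨b.1.2.1, fun a ha => ?_⟩
      rw [h.comm_swap hp hp1 hq hq1 ha b.1.2.1]
      exact (hsV ⟨a, ha⟩ b.1).mp (b.2 ⟨a, ha⟩)
    · intro a b hab
      have := congrArg (fun x : ee V q => (x : G)) hab
      exact Subtype.ext (Subtype.ext this)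
  -- `|w1 V p| |w1 V q| ≤ |W_p| |E_q|`
  have h4 : Nat.card (w1 V p) * Nat.card (w1 V q) ≤ Nat.card (ws V p) * Nat.card (ee V q) :=
    (Nat.mul_le_mul_right _ h2).trans (h1.le.trans (Nat.mul_le_mul_left _ h3))
  have h5 := relIndex_mul_card (h.ee_le_w1 hq hq1)
  have h6 := relIndex_mul_card (w1_le_ws V p)
  rw [← h5, ← h6] at h4
  have h7 : (ee V q).relIndex (w1 V q) ≤ (w1 V p).relIndex (ws V p) := by
    have h8 : (ee V q).relIndex (w1 V q) * (Nat.card (w1 V p) * Nat.card (ee V q)) ≤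
        (w1 V p).relIndex (ws V p) * (Nat.card (w1 V p) * Nat.card (ee V q)) := by
      calc (ee V q).relIndex (w1 V q) * (Nat.card (w1 V p) * Nat.card (ee V q))
          = Nat.card (w1 V p) * ((ee V q).relIndex (w1 V q) * Nat.card (ee V q)) := by ring
        _ ≤ (w1 V p).relIndex (ws V p) * Nat.card (w1 V p) * Nat.card (ee V q) := h4
        _ = (w1 V p).relIndex (ws V p) * (Nat.card (w1 V p) * Nat.card (ee V q)) := by ring
    exact Nat.le_of_mul_le_mul_right h8 (Nat.mul_pos Nat.card_pos Nat.card_pos)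
  rw [h.relIndex_ee hp hp1, h.relIndex_ee_w1 hp hp1 hq hq1, pow_two]
  refine Nat.mul_le_mul_right _ ?_
  rwa [h.phi_card hp hp1 hp hp1]

/-! ### `k = 1` -/

/-- `|A| = 2` : `C_G(V)` centralises `W_q / E_q`. -/
theorem cent_of_two (h : One T V z) (hq : q ∈ V) (h2 : (ee V q).relIndex (ws V q) = 2) {c b : G}
    (hc : c ∈ centralizer (V : Set G)) (hb : b ∈ ws V q) : c * b * c⁻¹ * b⁻¹ ∈ ee V q := by
  have hcn := centralizer_le_normalizer _ hc
  have hcq : c * q * c⁻¹ = q := conj_eq_of_comm (h.V_comm hq hc).symm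
  have hcb : c * b * c⁻¹ ∈ ws V q := conj_mem_of_normalizer (h.cent_norm hq) hc hb
  have h3 : ((ee V q).subgroupOf (ws V q)).index = 2 := h2
  have h5 := Subgroup.mul_mem_iff_of_index_two h3 (a := ⟨c * b * c⁻¹, hcb⟩) (b := ⟨b⁻¹, inv_mem hb⟩)
  rw [mem_subgroupOf, mem_subgroupOf, mem_subgroupOf] at h5
  refine h5.mpr ?_
  change c * b * c⁻¹ ∈ ee V q ↔ b⁻¹ ∈ ee V q
  rw [inv_mem_iff]
  constructor
  · intro h6
    have h7 := conj_mem_ee (inv_mem hcn) h6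
    have e1 : c⁻¹ * q * c⁻¹⁻¹ = q := by
      calc c⁻¹ * q * c⁻¹⁻¹ = c⁻¹ * (c * q * c⁻¹) * c⁻¹⁻¹ := by rw [hcq]
        _ = q := by group
    have e2 : c⁻¹ * (c * b * c⁻¹) * c⁻¹⁻¹ = b := by group
    rwa [e1, e2] at h7
  · intro h6
    have h7 := conj_mem_ee hcn h6
    rwa [hcq] at h7

/-- `|A| = 2`, no `λ`-transvections : `|Φ| = 2`. -/
theorem nt_phi_two [Finite G] (h : One T V z) (hN : NT V) (hp : p ∈ V) (hp1 : p ≠ 1)
    (h2 : (ee V p).relIndex (ws V p) = 2) : (dd V p).relIndex (ee V p) = 2 := by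
  have h3 := h.phi_le hp hp1 hp hp1
  have h4 : (dd V p).relIndex (ee V p) ≠ 1 := fun e => h.nt_phi hN hp hp1 (relIndex_eq_one.mp e)
  have h5 : (dd V p).relIndex (ee V p) ≠ 0 := relIndex_ne_zero' _ _
  omega

/-- `|A| = 2`, no `λ`-transvections : `|M : C_M(A)| = 4`. -/
theorem nt_card_four [Finite G] (h : One T V z) (hN : NT V) (hp : p ∈ V) (hp1 : p ≠ 1)
    (h2 : (ee V p).relIndex (ws V p) = 2) : (dd V p).relIndex (ws V p) = 4 := by
  rw [h.relIndex_dd, h.nt_phi_two hN hp hp1 h2, h2]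

/-- `|A| = 2`, no `λ`-transvections : `|R| = 8`, `R = [W_p, W_q]`. -/
theorem nt_card_eight [Finite G] (h : One T V z) (hN : NT V) (hp : p ∈ V) (hp1 : p ≠ 1) (hq : q ∈ V)
    (hq1 : q ≠ 1) (hqp : q ≠ p) (h2 : (ee V p).relIndex (ws V p) = 2) :
    Nat.card (⁅ws V p, ws V q⁆ : Subgroup G) = 8 := by
  have hVR := h.nt_V_le hN hp hp1 hq hq1 hqp
  have h2' : (ee V q).relIndex (ws V q) = 2 := by rw [h.relIndex_ee_ws hq hq1 hp hp1]; exact h2
  have hpi : ((ee V p).subgroupOf (ws V p)).index = 2 := h2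
  have hqi : ((ee V q).subgroupOf (ws V q)).index = 2 := h2'
  -- two commutators outside `V` are congruent modulo `V`
  have hcong : ∀ a ∈ ws V p, ∀ b ∈ ws V q, ∀ a' ∈ ws V p, ∀ b' ∈ ws V q, ⁅a, b⁆ ∉ V → ⁅a', b'⁆ ∉ V →
      ⁅a, b⁆ * ⁅a', b'⁆⁻¹ ∈ V := by
    intro a ha b hb a' ha' b' hb' h3 h4
    have hna : ∀ a ∈ ws V p, ∀ b ∈ ws V q, ⁅a, b⁆ ∉ V → a ∉ ee V p ∧ b ∉ ee V q := by
      intro a ha b hb h3
      constructor
      · intro h5
        exact h3 ((h.nt_mem_ee hN hp hp1 hq hq1 hqp).mp h5 |>.2 b hb)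
      · intro h5
        apply h3
        rw [← h.comm_swap hp hp1 hq hq1 ha hb]
        exact (h.nt_mem_ee hN hq hq1 hp hp1 (Ne.symm hqp)).mp h5 |>.2 a ha
    obtain ⟨h5, h6⟩ := hna a ha b hb h3
    obtain ⟨h7, h8⟩ := hna a' ha' b' hb' h4
    have h9 : a * a'⁻¹ ∈ ee V p := by
      have := Subgroup.mul_mem_iff_of_index_two hpi (a := ⟨a, ha⟩) (b := ⟨a'⁻¹, inv_mem ha'⟩)
      rw [mem_subgroupOf, mem_subgroupOf, mem_subgroupOf] at this
      refine this.mpr ⟨fun e => absurd e h5, fun e => absurd (inv_mem_iff.mp e) h7⟩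
    have h10 : b * b'⁻¹ ∈ ee V q := by
      have := Subgroup.mul_mem_iff_of_index_two hqi (a := ⟨b, hb⟩) (b := ⟨b'⁻¹, inv_mem hb'⟩)
      rw [mem_subgroupOf, mem_subgroupOf, mem_subgroupOf] at this
      refine this.mpr ⟨fun e => absurd e h6, fun e => absurd (inv_mem_iff.mp e) h8⟩
    have h11 := h.beta_left hp hp1 hq hq1 ha ha' hb h9
    have h12 := h.beta_right hp hp1 hq hq1 ha' hb hb' h10
    have := mul_mem h11 h12
    rwa [mul_assoc, inv_mul_cancel_left] at this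
  -- some commutator is not in `V`
  obtain ⟨a₀, ha₀, b₀, hb₀, h₀⟩ : ∃ a ∈ ws V p, ∃ b ∈ ws V q, ⁅a, b⁆ ∉ V := by
    by_contra hcon
    push Not at hcon
    exact h.not_ws_le_ee hp hp1 fun w hw => (h.nt_mem_ee hN hp hp1 hq hq1 hqp).mpr ⟨hw, hcon w hw⟩
  set c := ⁅a₀, b₀⁆ with hc
  have hci := h.comm_ii_mem hp hp1 hq hq1 ha₀ hb₀
  have hcc : c * c = 1 := h.comm_sq hp hp1 hq hq1 ha₀ hb₀
  have hcV : ∀ v ∈ V, v * c = c * v := fun v hv => h.V_comm hv (h.ii_le_centralizer hci)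
  -- `R ≤ V ∪ V c`
  let R' : Subgroup G :=
    { carrier := {x | x ∈ V ∨ x * c ∈ V}
      mul_mem' := by
        have hcV' : ∀ x, x * c ∈ V → ∃ v ∈ V, x = v * c := fun x hx =>
          ⟨x * c, hx, by rw [mul_assoc, hcc, mul_one]⟩
        rintro a b (ha | ha) (hb | hb)
        · exact Or.inl (mul_mem ha hb)
        · exact Or.inr (by rw [mul_assoc]; exact mul_mem ha hb)
        · obtain ⟨v, hv, rfl⟩ := hcV' a ha
          right
          have : v * c * b * c = v * b := by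
            calc v * c * b * c = v * (c * b) * c := by group
              _ = v * (b * c) * c := by rw [hcV b hb]
              _ = v * b * (c * c) := by group
              _ = v * b := by rw [hcc, mul_one]
          rw [this]; exact mul_mem hv hb
        · obtain ⟨v, hv, rfl⟩ := hcV' a ha
          obtain ⟨w, hw, rfl⟩ := hcV' b hb
          left
          have : v * c * (w * c) = v * w := by
            calc v * c * (w * c) = v * (c * w) * c := by group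
              _ = v * (w * c) * c := by rw [hcV w hw]
              _ = v * w * (c * c) := by group
              _ = v * w := by rw [hcc, mul_one]
          rw [this]; exact mul_mem hv hw
      one_mem' := Or.inl (one_mem _)
      inv_mem' := by
        rintro a (ha | ha)
        · exact Or.inl (inv_mem ha)
        · right
          have e : a⁻¹ * c = (a * c)⁻¹ := by
            have h1 := hcV _ ha
            have h2 : a = (a * c) * c := by rw [mul_assoc, hcc, mul_one]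
            calc a⁻¹ * c = ((a * c) * c)⁻¹ * c := by rw [← h2]
              _ = (c * (a * c))⁻¹ * c := by rw [h1]
              _ = (a * c)⁻¹ * (c⁻¹ * c) := by group
              _ = (a * c)⁻¹ := by group
          rw [e]; exact inv_mem ha }
  have hle : ⁅ws V p, ws V q⁆ ≤ R' := by
    rw [commutator_le]
    intro a ha b hb
    by_cases h3 : ⁅a, b⁆ ∈ V
    · exact Or.inl h3
    · right
      have := hcong a ha b hb a₀ ha₀ b₀ hb₀ h3 h₀
      rwa [← hc, inv_eq_self hcc] at this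
  have h3 : V.relIndex ⁅ws V p, ws V q⁆ = 2 := by
    rw [relIndex_eq_two_iff_exists_notMem_and]
    refine ⟨c, commutator_mem_commutator ha₀ hb₀, h₀, fun b hb => ?_⟩
    exact (hle hb).symm
  rw [← relIndex_mul_card hVR, h3, h.ln.card_V]

end One

end Cfsg.Agent.Omega.NO3S.TwoOne
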