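import Cfsg.Agent.Omega.NO3S.TwoOne.Base

/-!
# NO-3S, `q = 2`, `n = 1` (helper881's text #13700): (I), (II), (VI)

`M = W_z/⟨z⟩`, `H = C_G(z)/K_z`.  Submodules of `M` are the subgroups `X` with `IsSub V z X`.
`ll V z = ⟨W_y : y ~ z⟩` (it covers `H⁰`), `cm V z` the preimage of `C_M(H⁰)`.

* `One.lemma_i` (I) : a proper submodule meets `I = ii V` in `⟨z⟩`;
* `One.le_kq` : `O₂(H) = 1`;
* `One.eq_ws_of_comm` (II) : `M = [M, H⁰]`;
* `One.le_cm`, `One.cm_ne` (II) : `M/C_M(H⁰)` is irreducible;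
* `One.faithful` (II) : `M/C_M(H⁰)` is faithful for `H`;
* `One.plane_line`, `One.plane_trans` (VI) : planes.
-/

set_option autoImplicit false
set_option linter.unusedSectionVars false

namespace Cfsg.Agent.Omega.NO3S.TwoOne

open Subgroup Cfsg Cfsg.Agent.ZN Cfsg.Agent.MinSimple.Geo Cfsg.Agent.Omega.CaseL
open Cfsg.Agent.ZN.Block (conj_mem_of_normalizer conj_mem_of_normalizer' le_normalizer_of_forall
  mem_normalizer_of)

universe u

variable {G : Type u} [Group G]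

/-- `X/⟨z⟩` is a submodule of `W_z/⟨z⟩` -/
structure IsSub (V : Subgroup G) (z : G) (X : Subgroup G) : Prop where
  z_mem : z ∈ X
  le : X ≤ ws V z
  norm : centralizer ({z} : Set G) ≤ normalizer (X : Set G)

/-- the points collinear with `z` -/
def nb (V : Subgroup G) (z : G) : Set G := {y | ∃ L ∈ lines V z, y ∈ L ∧ y ≠ 1 ∧ y ≠ z}

/-- `⟨W_y : y ~ z⟩` -/
def ll (V : Subgroup G) (z : G) : Subgroup G := ⨆ y : nb V z, ws V (y : G)

theorem ws_le_ll {V : Subgroup G} {z y : G} (hy : y ∈ nb V z) : ws V y ≤ ll V z :=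
  le_iSup (fun y : nb V z => ws V (y : G)) ⟨y, hy⟩

theorem ll_le {V : Subgroup G} {z : G} {X : Subgroup G} (h : ∀ y ∈ nb V z, ws V y ≤ X) : ll V z ≤ X :=
  iSup_le fun y => h y y.2

theorem conj_mem_nb {V : Subgroup G} {z y c : G} (hc : c ∈ centralizer ({z} : Set G)) (hy : y ∈ nb V z) :
    c * y * c⁻¹ ∈ nb V z := by
  obtain ⟨L, hL, hyL, hy1, hyz⟩ := hy
  have hcz : c * z * c⁻¹ = z := conj_eq_of_comm (mem_centralizer_singleton_iff.mp hc)
  have h1 := mem_lines_cj (g := c) hL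
  rw [hcz] at h1
  refine ⟨_, h1, conj_mem_cj hyL, fun e => hy1 (conj_eq_one_iff.mp e), fun e => hyz ?_⟩
  rw [← hcz] at e
  simpa using e

theorem centralizer_le_normalizer_ll (V : Subgroup G) (z : G) :
    centralizer ({z} : Set G) ≤ normalizer ((ll V z : Subgroup G) : Set G) := by
  have key : ∀ c ∈ centralizer ({z} : Set G), ll V z ≤ cj c⁻¹ (ll V z) := by
    intro c hc
    refine ll_le fun y hy => ?_
    rw [← cj_le_iff, cj_ws]
    exact ws_le_ll (conj_mem_nb hc hy)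
  refine le_normalizer_of_forall fun c hc a ha => ?_
  have h1 := key c hc ha
  rw [mem_cj, inv_inv] at h1
  exact h1

namespace One

variable {T V : Subgroup G} {z : G}

theorem mem_nb (h : One T V z) {y : G} (hy : y ∈ V) (hy1 : y ≠ 1) (hyz : y ≠ z) : y ∈ nb V z :=
  ⟨V, h.ln.V_mem_lines, hy, hy1, hyz⟩

/-- every line on a point gives the same situation -/
theorem of_line (h : One T V z) {L : Subgroup G} {p : G} (hL : L ∈ lines V p) (hp1 : p ≠ 1) :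
    ∃ g : G, L = cj g V ∧ ∃ T', One T' L p := by
  obtain ⟨⟨g, rfl⟩, hp⟩ := hL
  rw [mem_cj] at hp
  have hp1' : g⁻¹ * p * g ≠ 1 := fun e => hp1 (by
    have : p = g * (g⁻¹ * p * g) * g⁻¹ := by group
    rw [this, e]; group)
  obtain ⟨k, hk, -, hk3⟩ := h.point hp hp1'
  have h1 := hk3.conj g
  have e : g * (g⁻¹ * p * g) * g⁻¹ = p := by group
  rw [e] at h1
  exact ⟨g, rfl, _, h1⟩

/-- `[a, w] ∈ I` for `a ∈ W_p`, `w ∈ W_q`, `p, q` distinct points of `V` -/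
theorem comm_mem_ii (h : One T V z) {p q : G} (hp : p ∈ V) (hp1 : p ≠ 1) (hq : q ∈ V) (hq1 : q ≠ 1)
    (hqp : q ≠ p) {a w : G} (ha : a ∈ ws V p) (hw : w ∈ ws V q) : a * w * a⁻¹ * w⁻¹ ∈ ii V := by
  refine h.mem_ii hp hp1 hq hq1 hqp ?_ ?_
  · have e : a * w * a⁻¹ * w⁻¹ = a * (w * a⁻¹ * w⁻¹) := by group
    rw [e]
    exact mul_mem ha (conj_mem_of_normalizer (h.cent_norm hp) (h.ws_le_centralizer_V hq hq1 hw)
      (inv_mem ha))
  · exact mul_mem (conj_mem_of_normalizer (h.cent_norm hq) (h.ws_le_centralizer_V hp hp1 ha) hw)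
      (inv_mem hw)

variable {X : Subgroup G}

/-- a submodule containing `V` is everything -/
theorem eq_ws_of_V_le (h : One T V z) (hX : IsSub V z X) (hV : V ≤ X) : X = ws V z := by
  refine le_antisymm hX.le (ws_le fun L hL => ?_)
  obtain ⟨c, hc, rfl⟩ := h.ln.exists_of_mem_lines hL
  rw [cj_le_iff]
  have : cj c⁻¹ X = X := cj_eq_of_mem_normalizer (inv_mem (hX.norm hc))
  rw [this]; exact hV

theorem inf_V (h : One T V z) (hX : IsSub V z X) (hne : X ≠ ws V z) {v : G} (hv : v ∈ V) (hvX : v ∈ X) :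
    v = 1 ∨ v = z := by
  by_contra hcon
  push Not at hcon
  apply hne
  refine h.eq_ws_of_V_le hX fun x hx => ?_
  rcases h.ln.four h.ln.z_mem hv h.ln.z_ne hcon.1 (Ne.symm hcon.2) hx with e | e | e | e
  · rw [e]; exact one_mem _
  · rw [e]; exact hX.z_mem
  · rw [e]; exact hvX
  · rw [e]; exact mul_mem hX.z_mem hvX

/-- **(I) LEMMA I.** A proper submodule meets `I` in `⟨z⟩`. -/
theorem lemma_i [Finite G] (h : One T V z) (hX : IsSub V z X) (hne : X ≠ ws V z) {u : G} (hu : u ∈ X)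
    (hui : u ∈ ii V) : u = 1 ∨ u = z := by
  by_contra hcon
  push Not at hcon
  have hz := h.ln.z_mem
  have hz1 := h.ln.z_ne
  have huV : u ∉ V := fun e => by
    rcases h.inf_V hX hne e hu with e' | e'
    · exact hcon.1 e'
    · exact hcon.2 e'
  have huzV : z * u ∉ V := fun e => huV (by
    have := mul_mem hz e
    rwa [← mul_assoc, h.ln.zz, one_mul] at this)
  have huzi : z * u ∈ ii V := mul_mem (h.V_le_ii hz) hui
  obtain ⟨y, hy, hy1, hyz⟩ := h.ln.exists_y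
  obtain ⟨g, -, hgu, hgz⟩ := h.ftwo hui huV hz hz1 hy hy1
  obtain ⟨k, -, hku, hkz⟩ := h.ftwo huzi huzV hz hz1 hy hy1
  -- `u` and `z u` are in `X^g = X^k`
  have hgk : g⁻¹ * k ∈ centralizer ({z} : Set G) := by
    rw [mem_centralizer_singleton_iff]
    refine comm_of_conj_eq ?_
    calc g⁻¹ * k * z * (g⁻¹ * k)⁻¹ = g⁻¹ * (k * z * k⁻¹) * g := by group
      _ = g⁻¹ * (g * z * g⁻¹) * g := by rw [hkz, hgz]
      _ = z := by group
  have h1 : g⁻¹ * u * g ∈ X := by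
    have e : g⁻¹ * u * g = u := by
      calc g⁻¹ * u * g = g⁻¹ * (u * g) := by group
        _ = g⁻¹ * (g * u) := by rw [hgu]
        _ = u := by group
    rw [e]; exact hu
  have h2 : g⁻¹ * (z * u) * g ∈ X := by
    have e : g⁻¹ * (z * u) * g = (g⁻¹ * k) * (z * u) * (g⁻¹ * k)⁻¹ := by
      have : k * (z * u) * k⁻¹ = z * u := conj_eq_of_comm hku
      calc g⁻¹ * (z * u) * g = g⁻¹ * (k * (z * u) * k⁻¹) * g := by rw [this]
        _ = (g⁻¹ * k) * (z * u) * (g⁻¹ * k)⁻¹ := by group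
    rw [e]
    exact conj_mem_of_normalizer hX.norm hgk (mul_mem hX.z_mem hu)
  have h3 : g⁻¹ * z * g ∈ X := by
    have e : g⁻¹ * z * g = g⁻¹ * (z * u) * g * (g⁻¹ * u * g)⁻¹ := by group
    rw [e]
    exact mul_mem h2 (inv_mem h1)
  -- `g⁻¹ z g` is a point of `V` different from `z`
  obtain ⟨g', hg'n, hg'u, hg'z⟩ := h.ftwo hui huV hz hz1 hy hy1
  have hgg : g⁻¹ * g' ∈ centralizer ({z} : Set G) := by
    rw [mem_centralizer_singleton_iff]
    refine comm_of_conj_eq ?_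
    calc g⁻¹ * g' * z * (g⁻¹ * g')⁻¹ = g⁻¹ * (g' * z * g'⁻¹) * g := by group
      _ = g⁻¹ * (g * z * g⁻¹) * g := by rw [hg'z, hgz]
      _ = z := by group
  have h4 : g'⁻¹ * z * g' ∈ X := by
    have e : g'⁻¹ * z * g' = (g⁻¹ * g')⁻¹ * (g⁻¹ * z * g) * (g⁻¹ * g') := by group
    rw [e]
    exact conj_mem_of_normalizer' hX.norm hgg h3
  have h5 : g'⁻¹ * z * g' ∈ V := (mem_normalizer_iff''.mp hg'n z).mp hz
  rcases h.inf_V hX hne h5 h4 with e | e
  · apply hz1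
    calc z = g' * (g'⁻¹ * z * g') * g'⁻¹ := by group
      _ = 1 := by rw [e]; group
  · apply hyz
    rw [← hg'z]
    calc g' * z * g'⁻¹ = g' * (g'⁻¹ * z * g') * g'⁻¹ := by rw [e]
      _ = z := by group

/-- (I): `[X, W_p] ≤ ⟨z⟩` for a proper submodule `X`. -/
theorem comm_sub [Finite G] (h : One T V z) (hX : IsSub V z X) (hne : X ≠ ws V z) {p : G} (hp : p ∈ V)
    (hp1 : p ≠ 1) (hpz : p ≠ z) {a x : G} (ha : a ∈ ws V p) (hx : x ∈ X) :
    a * x * a⁻¹ * x⁻¹ ∈ zpowers z := by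
  have hz := h.ln.z_mem
  have hz1 := h.ln.z_ne
  have haC : a ∈ centralizer ({z} : Set G) := h.cent_le_centralizer hz (h.ws_le_centralizer_V hp hp1 ha)
  rw [mem_zpowers_iff_of_mul_self h.ln.zz]
  exact h.lemma_i hX hne (mul_mem (conj_mem_of_normalizer hX.norm haC hx) (inv_mem hx))
    (h.comm_mem_ii hp hp1 hz hz1 (Ne.symm hpz) ha (hX.le hx))

end One

theorem conj_zpowers {z c y : G} (hc : c ∈ centralizer ({z} : Set G)) (hy : y ∈ zpowers z) :
    c * y * c⁻¹ = y := by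
  obtain ⟨n, rfl⟩ := mem_zpowers_iff.mp hy
  have h : Commute c z := mem_centralizer_singleton_iff.mp hc
  rw [(h.zpow_right n).eq, mul_inv_cancel_right]

/-- the preimage of `C_M(H⁰)` -/
def cm (V : Subgroup G) (z : G) : Subgroup G where
  carrier := {w | w ∈ ws V z ∧ w ∈ centralizer ({z} : Set G) ∧
    ∀ y ∈ nb V z, ∀ a ∈ ws V y, a * w * a⁻¹ * w⁻¹ ∈ zpowers z}
  mul_mem' := by
    rintro v w ⟨hv, hvz, hv1⟩ ⟨hw, hwz, hw1⟩
    refine ⟨mul_mem hv hw, mul_mem hvz hwz, fun y hy a ha => ?_⟩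
    have e : a * (v * w) * a⁻¹ * (v * w)⁻¹ = (a * v * a⁻¹ * v⁻¹) * (v * (a * w * a⁻¹ * w⁻¹) * v⁻¹) := by
      group
    rw [e, conj_zpowers hvz (hw1 y hy a ha)]
    exact mul_mem (hv1 y hy a ha) (hw1 y hy a ha)
  one_mem' := ⟨one_mem _, one_mem _, fun y hy a ha => by simp⟩
  inv_mem' := by
    rintro w ⟨hw, hwz, hw1⟩
    refine ⟨inv_mem hw, inv_mem hwz, fun y hy a ha => ?_⟩
    have e : a * w⁻¹ * a⁻¹ * w⁻¹⁻¹ = w⁻¹ * (a * w * a⁻¹ * w⁻¹)⁻¹ * w⁻¹⁻¹ := by group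
    rw [e, conj_zpowers (inv_mem hwz) (inv_mem (hw1 y hy a ha))]
    exact inv_mem (hw1 y hy a ha)

theorem cm_le (V : Subgroup G) (z : G) : cm V z ≤ ws V z := fun _ h => h.1

namespace One

variable {T V : Subgroup G} {z : G}

theorem ws_le_cent [Finite G] (h : One T V z) : ws V z ≤ centralizer ({z} : Set G) := h.ln.ws_le_centralizer

/-- `W_y ≤ C(z)` for `y ~ z` -/
theorem nb_le_cent (h : One T V z) {y : G} (hy : y ∈ nb V z) : ws V y ≤ centralizer ({z} : Set G) := by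
  obtain ⟨L, hL, hyL, hy1, hyz⟩ := hy
  obtain ⟨c, hc, rfl⟩ := h.ln.exists_of_mem_lines hL
  have hy' : c⁻¹ * y * c ∈ V := mem_of_cj hyL
  have hy1' : c⁻¹ * y * c ≠ 1 := fun e => hy1 (by
    have : y = c * (c⁻¹ * y * c) * c⁻¹ := by group
    rw [this, e]; group)
  intro a ha
  have h1 : c⁻¹ * a * c ∈ ws V (c⁻¹ * y * c) := by
    have := conj_mem_ws c⁻¹ ha
    rwa [inv_inv] at this
  have h2 := h.cent_le_centralizer h.ln.z_mem (h.ws_le_centralizer_V hy' hy1' h1)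
  have e : a = c * (c⁻¹ * a * c) * c⁻¹ := by group
  rw [e]
  exact mul_mem (mul_mem hc h2) (inv_mem hc)

theorem ll_le_cent (h : One T V z) : ll V z ≤ centralizer ({z} : Set G) := ll_le fun _ hy => h.nb_le_cent hy

/-- for `y ~ z` the pair `(z, y)` is conjugate under `C(z)` to a pair on `V` -/
theorem nb_cases (h : One T V z) {y : G} (hy : y ∈ nb V z) :
    ∃ c ∈ centralizer ({z} : Set G), ∃ y' ∈ V, y' ≠ 1 ∧ y' ≠ z ∧ y = c * y' * c⁻¹ := by
  obtain ⟨L, hL, hyL, hy1, hyz⟩ := hy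
  obtain ⟨c, hc, rfl⟩ := h.ln.exists_of_mem_lines hL
  refine ⟨c, hc, c⁻¹ * y * c, mem_of_cj hyL, fun e => hy1 ?_, fun e => hyz ?_, by group⟩
  · have : y = c * (c⁻¹ * y * c) * c⁻¹ := by group
    rw [this, e]; group
  · have : y = c * (c⁻¹ * y * c) * c⁻¹ := by group
    rw [this, e]
    exact conj_eq_of_comm (mem_centralizer_singleton_iff.mp hc)

/-- (I): `[X, W_y] ≤ ⟨z⟩` for all `y ~ z`, for a proper submodule `X`: `X ≤ cm V z`. -/
theorem le_cm [Finite G] (h : One T V z) {X : Subgroup G} (hX : IsSub V z X) (hne : X ≠ ws V z) :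
    X ≤ cm V z := by
  intro x hx
  refine ⟨hX.le hx, h.ws_le_cent (hX.le hx), fun y hy a ha => ?_⟩
  obtain ⟨c, hc, y', hy', hy1', hyz', rfl⟩ := h.nb_cases hy
  have h1 : c⁻¹ * a * c ∈ ws V y' := by
    have := conj_mem_ws c⁻¹ ha
    have e : c⁻¹ * (c * y' * c⁻¹) * c⁻¹⁻¹ = y' := by group
    rwa [e, inv_inv] at this
  have h2 := h.comm_sub hX hne hy' hy1' hyz' h1 (conj_mem_of_normalizer' hX.norm hc hx)
  have e : a * x * a⁻¹ * x⁻¹ =
      c * (c⁻¹ * a * c * (c⁻¹ * x * c) * (c⁻¹ * a * c)⁻¹ * (c⁻¹ * x * c)⁻¹) * c⁻¹ := by group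
  rw [e, conj_zpowers hc h2]
  exact h2

theorem mem_cm [Finite G] (h : One T V z) {w a : G} (hw : w ∈ cm V z) (ha : a ∈ ll V z) :
    a * w * a⁻¹ * w⁻¹ ∈ zpowers z := by
  let A : Subgroup G :=
    { carrier := {a | a ∈ centralizer ({z} : Set G) ∧ a * w * a⁻¹ * w⁻¹ ∈ zpowers z}
      mul_mem' := by
        rintro a b ⟨ha, ha1⟩ ⟨hb, hb1⟩
        refine ⟨mul_mem ha hb, ?_⟩
        have e : a * b * w * (a * b)⁻¹ * w⁻¹ = a * (b * w * b⁻¹ * w⁻¹) * a⁻¹ * (a * w * a⁻¹ * w⁻¹) := by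
          group
        rw [e, conj_zpowers ha hb1]
        exact mul_mem hb1 ha1
      one_mem' := ⟨one_mem _, by simp⟩
      inv_mem' := by
        rintro a ⟨ha, ha1⟩
        refine ⟨inv_mem ha, ?_⟩
        have e : a⁻¹ * w * a⁻¹⁻¹ * w⁻¹ = a⁻¹ * (a * w * a⁻¹ * w⁻¹)⁻¹ * a⁻¹⁻¹ := by group
        rw [e, conj_zpowers (inv_mem ha) (inv_mem ha1)]
        exact inv_mem ha1 }
  exact (ll_le (X := A) (fun y hy a ha => ⟨h.nb_le_cent hy ha, hw.2.2 y hy a ha⟩) ha).2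

theorem isSub_cm [Finite G] (h : One T V z) : IsSub V z (cm V z) where
  z_mem := by
    have hz := h.ln.V_le_ws h.ln.z_mem
    refine ⟨hz, h.ws_le_cent hz, fun y hy a ha => ?_⟩
    rw [conj_zpowers (h.nb_le_cent hy ha) (mem_zpowers z), mul_inv_cancel]
    exact one_mem _
  le := cm_le V z
  norm := by
    refine le_normalizer_of_forall fun c hc w hw => ?_
    have hcz : c * z * c⁻¹ = z := conj_eq_of_comm (mem_centralizer_singleton_iff.mp hc)
    refine ⟨?_, mul_mem (mul_mem hc hw.2.1) (inv_mem hc), fun y hy a ha => ?_⟩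
    · have := conj_mem_ws c hw.1
      rwa [hcz] at this
    · have hy' : c⁻¹ * y * c ∈ nb V z := by
        have := conj_mem_nb (inv_mem hc) hy
        rwa [inv_inv] at this
      have ha' : c⁻¹ * a * c ∈ ws V (c⁻¹ * y * c) := by
        have := conj_mem_ws c⁻¹ ha
        rwa [inv_inv] at this
      have h1 := hw.2.2 _ hy' _ ha'
      have e : a * (c * w * c⁻¹) * a⁻¹ * (c * w * c⁻¹)⁻¹ =
          c * (c⁻¹ * a * c * w * (c⁻¹ * a * c)⁻¹ * w⁻¹) * c⁻¹ := by group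
      rw [e, conj_zpowers hc h1]
      exact h1

/-- `[W_p, W_q] ≠ 1` for all points `p ≠ q` of `V` -/
theorem exists_nc (h : One T V z) {p q : G} (hp : p ∈ V) (hp1 : p ≠ 1) (hq : q ∈ V) (hq1 : q ≠ 1)
    (hqp : q ≠ p) : ∃ a ∈ ws V p, ∃ b ∈ ws V q, a * b ≠ b * a := by
  obtain ⟨g, -, -, hg⟩ := h.point hp hp1
  obtain ⟨r, hr, hr1, hrp, a, ha, b, hb, hab⟩ := hg.nc
  rcases h.ln.four hp hr hp1 hr1 (Ne.symm hrp) hq with e | e | e | e
  · exact absurd e hq1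
  · exact absurd e hqp
  · subst e; exact ⟨a, ha, b, hb, hab⟩
  · obtain ⟨k, hk, hk1⟩ := h.exists_mover hp hp1
    have e1 := h.move hp hp1 hr hr1 hrp hk hk1
    rw [← e] at e1
    have ha' := conj_mem_ws k ha
    have hb' := conj_mem_ws k hb
    rw [conj_eq_of_comm (h.kq_p hk)] at ha'
    rw [e1] at hb'
    refine ⟨_, ha', _, hb', fun e' => hab ?_⟩
    calc a * b = k⁻¹ * ((k * a * k⁻¹) * (k * b * k⁻¹)) * k := by group
      _ = k⁻¹ * ((k * b * k⁻¹) * (k * a * k⁻¹)) * k := by rw [e']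
      _ = b * a := by group

/-- `[W_y, W_z]` is not contained in `⟨z⟩` -/
theorem not_comm_z (h : One T V z) {y : G} (hy : y ∈ V) (hy1 : y ≠ 1) (hyz : y ≠ z)
    (hcon : ∀ a ∈ ws V y, ∀ w ∈ ws V z, a * w * a⁻¹ * w⁻¹ ∈ zpowers z) : False := by
  have hz := h.ln.z_mem
  have hz1 := h.ln.z_ne
  -- a mover of `K_{zy}` swaps `z` and `y`
  have hr : z * y ∈ V := mul_mem hz hy
  have hr1 : z * y ≠ 1 := h.mul_ne_one hy (Ne.symm hyz)
  have hrz : z ≠ z * y := fun e => hy1 (by simpa using e.symm)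
  have hry : y ≠ z * y := fun e => hz1 (by simpa using e.symm)
  obtain ⟨k, hk, hk1⟩ := h.exists_mover hr hr1
  have e1 : k * z * k⁻¹ = y := by
    rw [h.move hr hr1 hz hz1 hrz hk hk1, h.ln.comm hz hy, mul_assoc, h.ln.zz, mul_one]
  have e2 : k * y * k⁻¹ = z := by
    rw [h.move hr hr1 hy hy1 hry hk hk1, mul_assoc, h.ln.sq y hy, mul_one]
  obtain ⟨a, ha, b, hb, hab⟩ := h.exists_nc hz hz1 hy hy1 hyz
  have h1 := hcon b hb a ha
  have h2 : a * b * a⁻¹ * b⁻¹ ∈ zpowers z := by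
    have := inv_mem h1
    have e : (b * a * b⁻¹ * a⁻¹)⁻¹ = a * b * a⁻¹ * b⁻¹ := by group
    rwa [e] at this
  have ha' : k⁻¹ * a * k ∈ ws V y := by
    have := conj_mem_ws k⁻¹ ha
    have e : k⁻¹ * z * k⁻¹⁻¹ = y := by rw [← e2]; group
    rwa [e, inv_inv] at this
  have hb' : k⁻¹ * b * k ∈ ws V z := by
    have := conj_mem_ws k⁻¹ hb
    have e : k⁻¹ * y * k⁻¹⁻¹ = z := by rw [← e1]; group
    rwa [e, inv_inv] at this
  have h3 := hcon _ ha' _ hb'
  have h4 : a * b * a⁻¹ * b⁻¹ ∈ zpowers y := by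
    obtain ⟨n, hn⟩ := mem_zpowers_iff.mp h3
    refine mem_zpowers_iff.mpr ⟨n, ?_⟩
    rw [← e1, conj_zpow, hn]
    group
  apply hab
  rcases (mem_zpowers_iff_of_mul_self h.ln.zz).mp h2 with e | e
  · calc a * b = (a * b * a⁻¹ * b⁻¹) * (b * a) := by group
      _ = b * a := by rw [e, one_mul]
  · rcases (mem_zpowers_iff_of_mul_self (h.ln.sq y hy)).mp h4 with e' | e'
    · exact absurd (e.symm.trans e') hz1
    · exact absurd (e'.symm.trans e) hyz

theorem cm_ne [Finite G] (h : One T V z) : cm V z ≠ ws V z := by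
  intro e
  obtain ⟨y, hy, hy1, hyz⟩ := h.ln.exists_y
  refine h.not_comm_z hy hy1 hyz fun a ha w hw => ?_
  rw [← e] at hw
  exact hw.2.2 y (h.mem_nb hy hy1 hyz) a ha

/-- (II) `M = [M, H⁰]`, already `M = ⟨[M, A]^H⟩`. -/
theorem eq_ws_of_comm [Finite G] (h : One T V z) {X : Subgroup G} (hX : IsSub V z X) {y : G} (hy : y ∈ V)
    (hy1 : y ≠ 1) (hyz : y ≠ z)
    (hc : ∀ a ∈ ws V y, ∀ w ∈ ws V z, a * w * a⁻¹ * w⁻¹ ∈ X) : X = ws V z := by
  by_contra hne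
  refine h.not_comm_z hy hy1 hyz fun a ha w hw => ?_
  rw [mem_zpowers_iff_of_mul_self h.ln.zz]
  exact h.lemma_i hX hne (hc a ha w hw)
    (h.comm_mem_ii hy hy1 h.ln.z_mem h.ln.z_ne (Ne.symm hyz) ha hw)

/-- (II) `M/C_M(H⁰)` is irreducible. -/
theorem irr [Finite G] (h : One T V z) {X : Subgroup G} (hX : IsSub V z X) (hcX : cm V z ≤ X) :
    X = cm V z ∨ X = ws V z := by
  by_cases hne : X = ws V z
  · exact Or.inr hne
  · exact Or.inl (le_antisymm (h.le_cm hX hne) hcX)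

end One

end Cfsg.Agent.Omega.NO3S.TwoOne
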