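import Cfsg.Agent.Omega.NO3S.TwoOne.DRel
import Cfsg.Agent.Omega.NO3S.KOne.GrpA

/-!
# NO-3S, `q = 2`, `n = 1`: THEOREM ALPHA (helper881's texts #17145, section 2, and #18307, section 2)

`h : One T V z`, `hN : NT V` (no `λ`-transvections), `S : Spr V L z y q e g`, `u ∈ I_V ∩ I_L`, `u ∉ V`:
* `Spr.alpha` : `V ≤ O₂(C_G(u))`;
* `nu u z = ⟨z^{C_G(u)}⟩`; `One.V_le_nu`, `Spr.nu_le`, `Spr.nu_comm` (2.1): `[N ∩ W_p, N ∩ W_r] ≤ ⟨u⟩`, `N = nu u z`;
* `m0 V x = C_{W_x}(K_x)`; `One.exists_mover_cent` : movers of `K_p` which centralise `u`.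
-/

set_option autoImplicit false
set_option linter.unusedSectionVars false

namespace Cfsg.Agent.Omega.NO3S.TwoOne

open Subgroup Cfsg Cfsg.Agent.ZN Cfsg.Agent.MinSimple.Geo Cfsg.Agent.Omega.CaseL
open Cfsg.Agent.ZN.Block (conj_mem_of_normalizer conj_mem_of_normalizer' le_normalizer_of_forall
  mem_normalizer_of)
open scoped commutatorElement

universe u

variable {G : Type u} [Group G]

/-! ### a growing normaliser -/

/-- `A` normalised by `B`, `A`, `B` 2-groups, `R₀ < A ⊔ B`: some element of `A ⊔ B` outside `R₀` normalises `R₀` -/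
theorem exists_norm_of_lt [Finite G] {A R₀ : Subgroup G} (hA : IsPGroup 2 A) (hle : R₀ ≤ A) (hne : ¬ A ≤ R₀) :
    ∃ x ∈ A, x ∉ R₀ ∧ x ∈ normalizer (R₀ : Set G) := by
  have : Fact (Nat.Prime 2) := ⟨Nat.prime_two⟩
  have hlt : R₀.subgroupOf A < ⊤ := by
    refine lt_of_le_of_ne le_top fun e => hne ?_
    exact subgroupOf_eq_top.mp e
  have : Group.IsNilpotent A := hA.isNilpotent
  have h1 := Group.normalizerCondition_of_isNilpotent (G := A) _ hlt
  obtain ⟨x, hx, hxT⟩ := SetLike.exists_of_lt h1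
  refine ⟨x, x.2, fun hc => hxT (mem_subgroupOf.mpr hc), ?_⟩
  rw [mem_normalizer_iff] at hx ⊢
  intro t
  constructor
  · intro ht
    exact mem_subgroupOf.mp ((hx ⟨t, hle ht⟩).mp (mem_subgroupOf.mpr ht))
  · intro ht
    have h2 : (x : G) * t * (x : G)⁻¹ ∈ A := hle ht
    have h3 : t ∈ A := by
      have := mul_mem (mul_mem (inv_mem x.2) h2) x.2
      have e : (x : G)⁻¹ * (x * t * (x : G)⁻¹) * x = t := by group
      rwa [e] at this
    exact mem_subgroupOf.mp ((hx ⟨t, h3⟩).mpr (mem_subgroupOf.mpr ht))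

theorem mem_sup_norm {H N : Subgroup G} (hn : H ≤ normalizer (N : Set G)) {x : G}
    (hx : x ∈ H ⊔ N) : ∃ a ∈ H, ∃ b ∈ N, x = a * b := by
  have h1 : x ∈ ((H ⊔ N : Subgroup G) : Set G) := hx
  rw [coe_mul_of_left_le_normalizer_right H N hn] at h1
  obtain ⟨a, ha, b, hb, hab⟩ := h1
  exact ⟨a, ha, b, hb, hab.symm⟩

/-- a form of the three subgroups lemma -/
theorem three_sub {Γ : Type*} [Group Γ] {K A B : Γ} (h1 : Commute (K * A * K⁻¹ * A⁻¹) A)
    (h2 : Commute (K * A * K⁻¹ * A⁻¹) B) (h3 : Commute (K * B * K⁻¹ * B⁻¹) A)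
    (h4 : Commute (K * B * K⁻¹ * B⁻¹) B) (h5 : Commute (K⁻¹ * A * K * A⁻¹) B) :
    K * (A * B * A⁻¹ * B⁻¹) * K⁻¹ = A * B * A⁻¹ * B⁻¹ := by
  obtain ⟨a, ha⟩ : ∃ a, a = K * A * K⁻¹ * A⁻¹ := ⟨_, rfl⟩
  obtain ⟨b, hb⟩ : ∃ b, b = K * B * K⁻¹ * B⁻¹ := ⟨_, rfl⟩
  rw [← ha] at h1 h2
  rw [← hb] at h3 h4
  have h6 : Commute a⁻¹ (b * B) := by
    have e1 : a⁻¹ = K * (K⁻¹ * A * K * A⁻¹) * K⁻¹ := by rw [ha]; group
    have e2 : b * B = K * B * K⁻¹ := by rw [hb]; group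
    rw [e1, e2]
    have := h5.eq
    change K * (K⁻¹ * A * K * A⁻¹) * K⁻¹ * (K * B * K⁻¹) = K * B * K⁻¹ * (K * (K⁻¹ * A * K * A⁻¹) * K⁻¹)
    calc K * (K⁻¹ * A * K * A⁻¹) * K⁻¹ * (K * B * K⁻¹) = K * ((K⁻¹ * A * K * A⁻¹) * B) * K⁻¹ := by group
      _ = K * (B * (K⁻¹ * A * K * A⁻¹)) * K⁻¹ := by rw [this]
      _ = K * B * K⁻¹ * (K * (K⁻¹ * A * K * A⁻¹) * K⁻¹) := by group
  have h7 : Commute a b := by
    have h8 : Commute a⁻¹ b := by
      have := h6.mul_right (h2.inv_left.inv_right)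
      rwa [mul_inv_cancel_right] at this
    rw [← inv_inv a]
    exact h8.inv_left
  have e1 : K * (A * B * A⁻¹ * B⁻¹) * K⁻¹ = (a * A) * (b * B) * (a * A)⁻¹ * (b * B)⁻¹ := by
    rw [ha, hb]; group
  have e2 : A * b = b * A := h3.eq.symm
  have e3 : A⁻¹ * a⁻¹ = a⁻¹ * A⁻¹ := (h1.inv_left.inv_right).eq.symm
  have e4 : (A * B) * a⁻¹ = a⁻¹ * (A * B) := ((h1.mul_right h2).inv_left).eq.symm
  have e5 : a * b * a⁻¹ = b := by rw [h7.eq]; group
  have e6 : b * (A * B * A⁻¹ * B⁻¹) = (A * B * A⁻¹ * B⁻¹) * b :=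
    (((h3.mul_right h4).mul_right h3.inv_right).mul_right h4.inv_right).eq
  rw [e1]
  calc (a * A) * (b * B) * (a * A)⁻¹ * (b * B)⁻¹ = a * (A * b) * B * (A⁻¹ * a⁻¹) * (B⁻¹ * b⁻¹) := by group
    _ = a * (b * A) * B * (a⁻¹ * A⁻¹) * (B⁻¹ * b⁻¹) := by rw [e2, e3]
    _ = a * b * ((A * B) * a⁻¹) * A⁻¹ * B⁻¹ * b⁻¹ := by group
    _ = a * b * (a⁻¹ * (A * B)) * A⁻¹ * B⁻¹ * b⁻¹ := by rw [e4]
    _ = (a * b * a⁻¹) * (A * B * A⁻¹ * B⁻¹) * b⁻¹ := by group
    _ = (A * B * A⁻¹ * B⁻¹) * b * b⁻¹ := by rw [e5, e6]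
    _ = A * B * A⁻¹ * B⁻¹ := by group

/-! ### `C_{W_x}(K_x)` -/

/-- `C_{W_x}(K_x)` -/
def m0 (V : Subgroup G) (x : G) : Subgroup G where
  carrier := {w | w ∈ ws V x ∧ ∀ k ∈ kq V x, k * w = w * k}
  mul_mem' := fun ha hb => ⟨mul_mem ha.1 hb.1, fun k hk => comm_mul_of (ha.2 k hk) (hb.2 k hk)⟩
  one_mem' := ⟨one_mem _, fun k _ => by simp⟩
  inv_mem' := fun ha => ⟨inv_mem ha.1, fun k hk => comm_inv_of (ha.2 k hk)⟩

theorem conj_mem_m0 {V : Subgroup G} {x w : G} (g : G) (hw : w ∈ m0 V x) : g * w * g⁻¹ ∈ m0 V (g * x * g⁻¹) := by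
  refine ⟨conj_mem_ws g hw.1, fun k hk => ?_⟩
  have h1 : g⁻¹ * k * g ∈ kq V x := by
    have := conj_mem_kq g⁻¹ hk
    have e : g⁻¹ * (g * x * g⁻¹) * g⁻¹⁻¹ = x := by group
    rwa [e, inv_inv] at this
  have h2 := hw.2 _ h1
  calc k * (g * w * g⁻¹) = g * ((g⁻¹ * k * g) * w) * g⁻¹ := by group
    _ = g * (w * (g⁻¹ * k * g)) * g⁻¹ := by rw [h2]
    _ = g * w * g⁻¹ * k := by group

/-- `⟨z^{C_G(u)}⟩` -/
def nu (u z : G) : Subgroup G := closure {a | ∃ c ∈ centralizer ({u} : Set G), a = c * z * c⁻¹}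

theorem conj_mem_nu {u z c a : G} (hc : c ∈ centralizer ({u} : Set G)) (ha : a ∈ nu u z) :
    c * a * c⁻¹ ∈ nu u z := by
  refine closure_induction (p := fun a _ => c * a * c⁻¹ ∈ nu u z) ?_ ?_ ?_ ?_ ha
  · rintro _ ⟨d, hd, rfl⟩
    exact subset_closure ⟨c * d, mul_mem hc hd, by group⟩
  · simp
  · intro a b _ _ ha hb
    have e : c * (a * b) * c⁻¹ = (c * a * c⁻¹) * (c * b * c⁻¹) := by group
    rw [e]; exact mul_mem ha hb
  · intro a _ ha
    have e : c * a⁻¹ * c⁻¹ = (c * a * c⁻¹)⁻¹ := by group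
    rw [e]; exact inv_mem ha

theorem mem_nu_self (u z : G) : z ∈ nu u z := subset_closure ⟨1, one_mem _, by simp⟩

namespace One

variable {T V L : Subgroup G} {z : G} {p q r u : G}

/-- movers in `C(u)` -/
theorem exists_mover_cent [Finite G] (h : One T V z) (hu : u ∈ ii V) (huV : u ∉ V) (hp : p ∈ V) (hp1 : p ≠ 1) :
    ∃ k ∈ kq V p, k ∉ centralizer (V : Set G) ∧ k * u = u * k := by
  obtain ⟨t, ht, ht1⟩ := h.exists_mover hp hp1
  rcases h.kq_cases hp ht (hu p hp hp1) with e | e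
  · exact ⟨t, ht, ht1, comm_of_conj_eq e⟩
  · obtain ⟨k, hk, hkV, hku⟩ := h.fu hu huV hp hp1
    refine ⟨k * t, mul_mem hk ht, fun hc => ht1 ?_, comm_of_conj_eq ?_⟩
    · have := mul_mem (inv_mem hkV) hc
      rwa [inv_mul_cancel_left] at this
    · have hkp : k * p * k⁻¹ = p := conj_eq_of_comm (h.kq_p hk)
      calc k * t * u * (k * t)⁻¹ = k * (t * u * t⁻¹) * k⁻¹ := by group
        _ = (k * p * k⁻¹) * (k * u * k⁻¹) := by rw [e]; group
        _ = (p * p) * u := by rw [hkp, hku]; group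
        _ = u := by rw [h.ln.sq p hp, one_mul]

theorem isSub_m0 [Finite G] (h : One T V z) : IsSub V z (m0 V z) where
  z_mem := ⟨h.V_le h.ln.z_mem h.ln.z_ne h.ln.z_mem, fun _ hk => h.kq_p hk⟩
  le := fun _ hw => hw.1
  norm := by
    refine le_normalizer_of_forall fun c hc w hw => ?_
    have := conj_mem_m0 c hw
    rwa [conj_eq_of_comm (mem_centralizer_singleton_iff.mp hc)] at this

theorem m0_ne [Finite G] (h : One T V z) : m0 V z ≠ ws V z := by
  intro e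
  obtain ⟨k, hk, hk1⟩ := h.f1
  apply hk1
  rw [mem_centralizer_iff]
  intro v hv
  have : v ∈ m0 V z := by rw [e]; exact h.V_le h.ln.z_mem h.ln.z_ne hv
  exact (this.2 k hk).symm

/-- `C_{W_x}(K_x) ∩ I = ⟨x⟩` -/
theorem m0_ii [Finite G] (h : One T V z) {w : G} (hw : w ∈ m0 V z) (hwi : w ∈ ii V) : w = 1 ∨ w = z :=
  h.lemma_i h.isSub_m0 h.m0_ne hw hwi

/-- `C_{W_x}(K_x) ≤ D_x` -/
theorem m0_le_dd [Finite G] (h : One T V z) (hN : NT V) {w : G} (hw : w ∈ m0 V z) : w ∈ dd V z := by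
  obtain ⟨y, hy, hy1, hyz⟩ := h.ln.exists_y
  have hz := h.ln.z_mem
  have hz1 := h.ln.z_ne
  have hwW : w ∈ ws V z := hw.1
  have h1 : ∀ b ∈ ws V y, ⁅w, b⁆ ∈ zpowers z := by
    intro b hb
    have h2 := h.comm_sub h.isSub_m0 h.m0_ne hy hy1 hyz hb hw
    have e : ⁅w, b⁆ = (b * w * b⁻¹ * w⁻¹)⁻¹ := by rw [commutatorElement_def]; group
    rw [e]; exact inv_mem h2
  exact (h.nt_mem_dd hN hz hz1 hy hy1 hyz).mpr ⟨hwW, h1⟩

/-- the same facts at every point -/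
theorem m0_ii' [Finite G] (h : One T V z) (hp : p ∈ V) (hp1 : p ≠ 1) {w : G} (hw : w ∈ m0 V p)
    (hwi : w ∈ ii V) : w = 1 ∨ w = p := by
  obtain ⟨g, -, -, hg⟩ := h.point hp hp1
  exact hg.m0_ii hw hwi

theorem m0_le_dd' [Finite G] (h : One T V z) (hN : NT V) (hp : p ∈ V) (hp1 : p ≠ 1) {w : G}
    (hw : w ∈ m0 V p) : w ∈ dd V p := by
  obtain ⟨g, -, -, hg⟩ := h.point hp hp1
  exact hg.m0_le_dd hN hw

/-- duality: `C_{W_x}(K_x ∩ C(u)) = C_{W_x}(K_x) ⟨u⟩` -/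
theorem mem_m0_or (h : One T V z) (hp : p ∈ V) (hu : u ∈ ws V p) {w : G} (hw : w ∈ ws V p)
    (hc : ∀ k ∈ kq V p, k * u = u * k → k * w = w * k) : w ∈ m0 V p ∨ w * u ∈ m0 V p := by
  by_contra hcon
  push Not at hcon
  obtain ⟨h1, h2⟩ := hcon
  have h1' : ∃ k ∈ kq V p, k * w ≠ w * k := by
    by_contra hn
    push Not at hn
    exact h1 ⟨hw, hn⟩
  have h2' : ∃ k ∈ kq V p, k * (w * u) ≠ w * u * k := by
    by_contra hn
    push Not at hn
    exact h2 ⟨mul_mem hw hu, hn⟩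
  obtain ⟨k, hk, hkw⟩ := h1'
  obtain ⟨m, hm, hmw⟩ := h2'
  have hp1 : p ≠ 1 := by
    rintro rfl
    rcases h.kq_cases hp hk hw with e | e
    · exact hkw (comm_of_conj_eq e)
    · rw [one_mul] at e; exact hkw (comm_of_conj_eq e)
  have hwp : w * p = p * w := h.comm hp hp1 w hw p (h.V_le hp hp1 hp)
  have ekw : k * w * k⁻¹ = p * w := (h.kq_cases hp hk hw).resolve_left fun e => hkw (comm_of_conj_eq e)
  have eku : k * u * k⁻¹ = p * u :=
    (h.kq_cases hp hk hu).resolve_left fun e => hkw (hc k hk (comm_of_conj_eq e))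
  have hmu : m * u * m⁻¹ = p * u := by
    refine (h.kq_cases hp hm hu).resolve_left fun e => hmw ?_
    have h3 := hc m hm (comm_of_conj_eq e)
    exact comm_mul_of h3 (comm_of_conj_eq e)
  have hmw' : m * w * m⁻¹ = w := by
    refine (h.kq_cases hp hm hw).resolve_right fun e => hmw (comm_of_conj_eq ?_)
    calc m * (w * u) * m⁻¹ = (m * w * m⁻¹) * (m * u * m⁻¹) := by group
      _ = p * w * (p * u) := by rw [e, hmu]
      _ = p * (w * p) * u := by group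
      _ = (p * p) * (w * u) := by rw [hwp]; group
      _ = w * u := by rw [h.ln.sq p hp, one_mul]
  -- `k m` centralises `u` but not `w`
  have h4 : k * m * u = u * (k * m) := by
    refine comm_of_conj_eq ?_
    have hkp : k * p * k⁻¹ = p := conj_eq_of_comm (h.kq_p hk)
    calc k * m * u * (k * m)⁻¹ = k * (m * u * m⁻¹) * k⁻¹ := by group
      _ = (k * p * k⁻¹) * (k * u * k⁻¹) := by rw [hmu]; group
      _ = (p * p) * u := by rw [hkp, eku]; group
      _ = u := by rw [h.ln.sq p hp, one_mul]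
  have h5 := hc _ (mul_mem hk hm) h4
  have h6 : k * m * w * (k * m)⁻¹ = p * w := by
    calc k * m * w * (k * m)⁻¹ = k * (m * w * m⁻¹) * k⁻¹ := by group
      _ = p * w := by rw [hmw', ekw]
  rw [conj_eq_of_comm h5] at h6
  exact hp1 (by simpa using h6.symm)

/-! ### `C_G(u)`, `u ∈ I - V` -/

theorem ws_le_cent_u (h : One T V z) (hu : u ∈ ii V) (hp : p ∈ V) (hp1 : p ≠ 1) :
    ws V p ≤ centralizer ({u} : Set G) := by
  intro w hw
  rw [mem_centralizer_singleton_iff]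
  exact h.comm hp hp1 w hw u (hu p hp hp1)

theorem V_le_cent_u (h : One T V z) (hu : u ∈ ii V) : V ≤ centralizer ({u} : Set G) :=
  (h.V_le h.ln.z_mem h.ln.z_ne).trans (h.ws_le_cent_u hu h.ln.z_mem h.ln.z_ne)

/-- one point of `V` in a `C(u)`-invariant subgroup: `V` is in it -/
theorem V_le_of_mem [Finite G] (h : One T V z) (hu : u ∈ ii V) (huV : u ∉ V) {Q : Subgroup G}
    (hQ : centralizer ({u} : Set G) ≤ normalizer (Q : Set G)) (hp : p ∈ V) (hp1 : p ≠ 1) (hpQ : p ∈ Q) :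
    V ≤ Q := by
  intro v hv
  by_cases hv1 : v = 1
  · rw [hv1]; exact one_mem _
  obtain ⟨g, -, hgu, hgv⟩ := h.ftwo hu huV hp hp1 hv hv1
  rw [← hgv]
  exact conj_mem_of_normalizer hQ (mem_centralizer_singleton_iff.mpr hgu) hpQ

theorem V_le_nu [Finite G] (h : One T V z) (hu : u ∈ ii V) (huV : u ∉ V) : V ≤ nu u z := by
  refine h.V_le_of_mem hu huV (le_normalizer_of_forall fun c hc a ha => conj_mem_nu hc ha) h.ln.z_mem
    h.ln.z_ne (mem_nu_self u z)

/-- `W_p ∩ Q ≤ C_{W_p}(K_p) ⟨u⟩` for a `C(u)`-invariant subgroup `Q` with `V ∩ Q = 1` -/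
theorem mem_m0_or_of (h : One T V z) (hu : u ∈ ii V) {Q : Subgroup G}
    (hQ : centralizer ({u} : Set G) ≤ normalizer (Q : Set G)) (hp : p ∈ V) (hp1 : p ≠ 1) (hpQ : p ∉ Q) {w : G}
    (hw : w ∈ ws V p) (hwQ : w ∈ Q) : w ∈ m0 V p ∨ w * u ∈ m0 V p := by
  refine h.mem_m0_or hp (hu p hp hp1) hw fun k hk hku => ?_
  rcases h.kq_cases hp hk hw with e | e
  · exact comm_of_conj_eq e
  · exfalso
    have h1 := conj_mem_of_normalizer hQ (mem_centralizer_singleton_iff.mpr hku) hwQ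
    have h2 := mul_mem h1 (inv_mem hwQ)
    rw [e, mul_inv_cancel_right] at h2
    exact hpQ h2

/-- `I ∩ Q ≤ ⟨p, u⟩` -/
theorem ii_inf_of [Finite G] (h : One T V z) (hu : u ∈ ii V) {Q : Subgroup G}
    (hQ : centralizer ({u} : Set G) ≤ normalizer (Q : Set G)) (hp : p ∈ V) (hp1 : p ≠ 1) (hpQ : p ∉ Q) {w : G}
    (hw : w ∈ ii V) (hwQ : w ∈ Q) : w = 1 ∨ w = p ∨ w = u ∨ w = p * u := by
  have huu : u * u = 1 := h.sq hp hp1 u (hu p hp hp1)
  rcases h.mem_m0_or_of hu hQ hp hp1 hpQ (hw p hp hp1) hwQ with e | e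
  · rcases h.m0_ii' hp hp1 e hw with e1 | e1
    · exact Or.inl e1
    · exact Or.inr (Or.inl e1)
  · rcases h.m0_ii' hp hp1 e (mul_mem hw hu) with e1 | e1
    · right; right; left
      calc w = w * u * u⁻¹ := by group
        _ = u := by rw [e1, one_mul]; exact inv_eq_self huu
    · right; right; right
      calc w = w * u * u⁻¹ := by group
        _ = p * u := by rw [e1, inv_eq_self huu]

/-- Case (a) of ALPHA: `W_z ∩ Q ≤ ⟨u⟩`, `Q = O₂(C_G(u))`, `V ∩ Q = 1` is impossible. -/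
theorem alpha_a [Finite G] (h : One T V z) (hN : NT V) (hu : u ∈ ii V) (huV : u ∉ V)
    (hVQ : ∀ v ∈ V, v ∈ o2 (centralizer ({u} : Set G)) → v = 1)
    (hWQ : ∀ w ∈ ws V z, w ∈ o2 (centralizer ({u} : Set G)) → w = 1 ∨ w = u) : False := by
  classical
  have hz := h.ln.z_mem
  have hz1 := h.ln.z_ne
  set J := centralizer ({u} : Set G) with hJ
  set Q := o2 J with hQdef
  have hQJ : Q ≤ J := o2_le _
  have hQp : IsPGroup 2 Q := isPGroup_o2 _
  have hQn : J ≤ normalizer (Q : Set G) := le_normalizer_o2 _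
  have huu : u * u = 1 := h.sq hz hz1 u (hu z hz hz1)
  have hu1 : u ≠ 1 := fun e => huV (e ▸ one_mem V)
  have huJ : u ∈ J := by rw [hJ, mem_centralizer_singleton_iff]
  have huc : ∀ a ∈ J, a * u = u * a := fun a ha => mem_centralizer_singleton_iff.mp ha
  -- all points of `V`
  have hWQ' : ∀ p ∈ V, p ≠ 1 → ∀ w ∈ ws V p, w ∈ Q → w = 1 ∨ w = u := by
    intro p hp hp1 w hw hwQ
    obtain ⟨c, -, hcu, hcp⟩ := h.ftwo hu huV hp hp1 hz hz1
    have hcJ : c ∈ J := mem_centralizer_singleton_iff.mpr hcu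
    have h1 := conj_mem_ws c hw
    rw [hcp] at h1
    have h2 := conj_mem_of_normalizer hQn hcJ hwQ
    rcases hWQ _ h1 h2 with e | e
    · exact Or.inl (conj_eq_one_iff.mp e)
    · right
      calc w = c⁻¹ * (c * w * c⁻¹) * c := by group
        _ = c⁻¹ * (u * c) := by rw [e]; group
        _ = c⁻¹ * (c * u) := by rw [hcu]
        _ = u := by group
  -- `Q ∩ N_G(V) ≤ C_G(V)`
  have hQ0 : ∀ a ∈ Q, a ∈ normalizer (V : Set G) → a ∈ centralizer (V : Set G) := by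
    intro a haQ haN
    rw [mem_centralizer_iff]
    intro v hv
    have h1 : a * v * a⁻¹ * v⁻¹ ∈ V := mul_mem ((mem_normalizer_iff.mp haN v).mp hv) (inv_mem hv)
    have h2 : a * v * a⁻¹ * v⁻¹ ∈ Q := by
      have e : a * v * a⁻¹ * v⁻¹ = a * (v * a⁻¹ * v⁻¹) := by group
      rw [e]
      exact mul_mem haQ (conj_mem_of_normalizer hQn (h.V_le_cent_u hu hv) (inv_mem haQ))
    have h3 := hVQ _ h1 h2
    have h4 : a * v * a⁻¹ = v := by
      calc a * v * a⁻¹ = (a * v * a⁻¹ * v⁻¹) * v := by group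
        _ = v := by rw [h3, one_mul]
    exact (comm_of_conj_eq h4).symm
  -- `[Q ∩ N_G(V), W_p] ≤ ⟨u⟩`
  have hQ1 : ∀ a ∈ Q, a ∈ normalizer (V : Set G) → ∀ p ∈ V, p ≠ 1 → ∀ w ∈ ws V p,
      a * w * a⁻¹ * w⁻¹ = 1 ∨ a * w * a⁻¹ * w⁻¹ = u := by
    intro a haQ haN p hp hp1 w hw
    refine hWQ' p hp hp1 _ ?_ ?_
    · exact mul_mem (conj_mem_of_normalizer (h.cent_norm hp) (hQ0 a haQ haN) hw) (inv_mem hw)
    · have e : a * w * a⁻¹ * w⁻¹ = a * (w * a⁻¹ * w⁻¹) := by group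
      rw [e]
      exact mul_mem haQ (conj_mem_of_normalizer hQn (h.ws_le_cent_u hu hp hp1 hw) (inv_mem haQ))
  -- `Q` does not normalise `V`
  have hQV : ¬ Q ≤ normalizer (V : Set G) := by
    intro hle
    apply hz1
    refine hVQ z hz ?_
    refine mem_o2_of_stab h.ln.charTwo huu hu1 (h.V_le_cent_u hu hz) fun q hq => ?_
    have h1 := mem_centralizer_iff.mp (hQ0 q hq (hle hq)) z hz
    have e : z * q * z⁻¹ * q⁻¹ = 1 := by rw [h1]; group
    rw [e]; exact one_mem _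
  obtain ⟨y, hy, hy1, hyz⟩ := h.ln.exists_y
  -- `F = W_z W_y`
  set F := ws V z ⊔ ws V y with hF
  have hWCz : ws V z ≤ centralizer (V : Set G) := h.ws_le_centralizer_V hz hz1
  have hWCy : ws V y ≤ centralizer (V : Set G) := h.ws_le_centralizer_V hy hy1
  have hFC : F ≤ centralizer (V : Set G) := sup_le hWCz hWCy
  have hFJ : F ≤ J := sup_le (h.ws_le_cent_u hu hz hz1) (h.ws_le_cent_u hu hy hy1)
  have h2W : ∀ p ∈ V, p ≠ 1 → IsPGroup 2 (ws V p) := by
    rintro p hp hp1 ⟨a, ha⟩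
    refine ⟨1, Subtype.ext ?_⟩
    change a ^ 2 ^ 1 = 1
    rw [pow_one, pow_two]
    exact h.sq hp hp1 a ha
  have hF2 : IsPGroup 2 F := (h2W z hz hz1).to_sup_of_normal_left' (h2W y hy hy1)
    (hWCy.trans (h.cent_norm hz))
  set R₀ := (Q ⊓ normalizer (V : Set G)) ⊔ F with hR₀
  have hR₀N : R₀ ≤ normalizer (V : Set G) := sup_le inf_le_right (hFC.trans (centralizer_le_normalizer _))
  have hA2 : IsPGroup 2 ↥(Q ⊔ F) := hQp.to_sup_of_normal_left' hF2 (hFJ.trans hQn)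
  have hR₀A : R₀ ≤ Q ⊔ F := sup_le (inf_le_left.trans le_sup_left) le_sup_right
  obtain ⟨x, hx, hxR, hxn⟩ := exists_norm_of_lt hA2 hR₀A fun hle => hQV (le_sup_left.trans (hle.trans hR₀N))
  obtain ⟨f, hf, k, hk, hxe⟩ := mem_sup_norm (hFJ.trans hQn) (show x ∈ F ⊔ Q by rwa [sup_comm])
  have hFR : F ≤ R₀ := le_sup_right
  have hkn : k ∈ normalizer (R₀ : Set G) := by
    have e : k = f⁻¹ * x := by rw [hxe]; group
    rw [e]
    exact mul_mem (inv_mem (le_normalizer (hFR hf))) hxn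
  have hkV : k ∉ normalizer (V : Set G) := fun hc => hxR (by
    rw [hxe]
    exact mul_mem (hFR hf) (le_sup_left (a := Q ⊓ normalizer (V : Set G)) ⟨hk, hc⟩))
  have hkJ := hQJ hk
  have hcomk : ∀ w ∈ F, k * w * k⁻¹ * w⁻¹ ∈ Q ∧ k * w * k⁻¹ * w⁻¹ ∈ normalizer (V : Set G) := by
    intro w hw
    constructor
    · have e : k * w * k⁻¹ * w⁻¹ = k * (w * k⁻¹ * w⁻¹) := by group
      rw [e]
      exact mul_mem hk (conj_mem_of_normalizer hQn (hFJ hw) (inv_mem hk))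
    · exact hR₀N (mul_mem ((mem_normalizer_iff.mp hkn w).mp (hFR hw)) (inv_mem (hFR hw)))
  have hcomk' : ∀ w ∈ F, k⁻¹ * w * k * w⁻¹ ∈ Q ∧ k⁻¹ * w * k * w⁻¹ ∈ normalizer (V : Set G) := by
    intro w hw
    constructor
    · have e : k⁻¹ * w * k * w⁻¹ = k⁻¹ * (w * k * w⁻¹) := by group
      rw [e]
      exact mul_mem (inv_mem hk) (conj_mem_of_normalizer hQn (hFJ hw) hk)
    · exact hR₀N (mul_mem ((mem_normalizer_iff''.mp hkn w).mp (hFR hw)) (inv_mem (hFR hw)))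
  -- work in `J / ⟨u⟩`
  have hZn : ((zpowers u).subgroupOf J).Normal := by
    refine ⟨fun a ha b => ?_⟩
    rw [mem_subgroupOf] at ha ⊢
    change (b : G) * a * (b : G)⁻¹ ∈ zpowers u
    obtain ⟨n, hn⟩ := mem_zpowers_iff.mp ha
    have hb : Commute (b : G) (u ^ n) := (show Commute (b : G) u from huc b b.2).zpow_right n
    rw [← hn, hb.eq, mul_inv_cancel_right]
    exact zpow_mem (mem_zpowers u) n
  let π : J →* J ⧸ (zpowers u).subgroupOf J := QuotientGroup.mk' _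
  have hπ : ∀ x : J, π x = 1 ↔ (x : G) ∈ zpowers u := fun x => by
    rw [QuotientGroup.mk'_apply, QuotientGroup.eq_one_iff, mem_subgroupOf]
  have hπc : ∀ a b : J, ((a : G) * b * (a : G)⁻¹ * (b : G)⁻¹ = 1 ∨ (a : G) * b * (a : G)⁻¹ * (b : G)⁻¹ = u) →
      Commute (π a) (π b) := by
    intro a b hab
    have h1 : π (a * b * a⁻¹ * b⁻¹) = 1 := by
      rw [hπ]
      change (a : G) * b * (a : G)⁻¹ * (b : G)⁻¹ ∈ zpowers u
      rcases hab with e | e
      · rw [e]; exact one_mem _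
      · rw [e]; exact mem_zpowers u
    rw [map_mul, map_mul, map_mul, map_inv, map_inv] at h1
    change π a * π b = π b * π a
    calc π a * π b = (π a * π b * (π a)⁻¹ * (π b)⁻¹) * (π b * π a) := by group
      _ = π b * π a := by rw [h1, one_mul]
  have hcomm : ∀ a ∈ ws V z, ∀ b ∈ ws V y, k * ⁅a, b⁆ * k⁻¹ * ⁅a, b⁆⁻¹ ∈ zpowers u := by
    intro a ha b hb
    have haF : a ∈ F := (le_sup_left : ws V z ≤ F) ha
    have hbF : b ∈ F := (le_sup_right : ws V y ≤ F) hb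
    have haJ := hFJ haF
    have hbJ := hFJ hbF
    let K' : J := ⟨k, hkJ⟩
    let A' : J := ⟨a, haJ⟩
    let B' : J := ⟨b, hbJ⟩
    have c1 := hcomk a haF
    have c2 := hcomk b hbF
    have c3 := hcomk' a haF
    have g1 : Commute (π K' * π A' * (π K')⁻¹ * (π A')⁻¹) (π A') := by
      have := hπc (K' * A' * K'⁻¹ * A'⁻¹) A' (hQ1 _ c1.1 c1.2 z hz hz1 a ha)
      rwa [map_mul, map_mul, map_mul, map_inv, map_inv] at this
    have g2 : Commute (π K' * π A' * (π K')⁻¹ * (π A')⁻¹) (π B') := by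
      have := hπc (K' * A' * K'⁻¹ * A'⁻¹) B' (hQ1 _ c1.1 c1.2 y hy hy1 b hb)
      rwa [map_mul, map_mul, map_mul, map_inv, map_inv] at this
    have g3 : Commute (π K' * π B' * (π K')⁻¹ * (π B')⁻¹) (π A') := by
      have := hπc (K' * B' * K'⁻¹ * B'⁻¹) A' (hQ1 _ c2.1 c2.2 z hz hz1 a ha)
      rwa [map_mul, map_mul, map_mul, map_inv, map_inv] at this
    have g4 : Commute (π K' * π B' * (π K')⁻¹ * (π B')⁻¹) (π B') := by
      have := hπc (K' * B' * K'⁻¹ * B'⁻¹) B' (hQ1 _ c2.1 c2.2 y hy hy1 b hb)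
      rwa [map_mul, map_mul, map_mul, map_inv, map_inv] at this
    have g5 : Commute ((π K')⁻¹ * π A' * π K' * (π A')⁻¹) (π B') := by
      have := hπc (K'⁻¹ * A' * K' * A'⁻¹) B' (hQ1 _ c3.1 c3.2 y hy hy1 b hb)
      rwa [map_mul, map_mul, map_mul, map_inv, map_inv] at this
    have g6 := three_sub g1 g2 g3 g4 g5
    have g7 : π (K' * (A' * B' * A'⁻¹ * B'⁻¹) * K'⁻¹ * (A' * B' * A'⁻¹ * B'⁻¹)⁻¹) = 1 := by
      simp only [map_mul, map_inv]
      rw [g6, mul_inv_cancel]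
    have g8 := (hπ _).mp g7
    rw [commutatorElement_def]
    exact g8
  -- `[k, v] ∈ ⟨u⟩` for `v ∈ V`
  have hkv : ∀ v ∈ V, k * v * k⁻¹ = v ∨ k * v * k⁻¹ = u * v := by
    let C : Subgroup G :=
      { carrier := {v | v ∈ J ∧ k * v * k⁻¹ * v⁻¹ ∈ zpowers u}
        mul_mem' := by
          rintro a b ⟨ha, ha1⟩ ⟨hb, hb1⟩
          refine ⟨mul_mem ha hb, ?_⟩
          have e : k * (a * b) * k⁻¹ * (a * b)⁻¹ = (k * a * k⁻¹ * a⁻¹) * (a * (k * b * k⁻¹ * b⁻¹) * a⁻¹) := by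
            group
          rw [e]
          refine mul_mem ha1 ?_
          rw [conj_zpowers (z := u) ha hb1]
          exact hb1
        one_mem' := ⟨one_mem _, by simp⟩
        inv_mem' := by
          rintro a ⟨ha, ha1⟩
          refine ⟨inv_mem ha, ?_⟩
          have e : k * a⁻¹ * k⁻¹ * a⁻¹⁻¹ = a⁻¹ * (k * a * k⁻¹ * a⁻¹)⁻¹ * a⁻¹⁻¹ := by group
          rw [e, conj_zpowers (z := u) (inv_mem ha) (inv_mem ha1)]
          exact inv_mem ha1 }
    have hle : ⁅ws V z, ws V y⁆ ≤ C := by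
      rw [commutator_le]
      intro a ha b hb
      refine ⟨?_, hcomm a ha b hb⟩
      have haJ := h.ws_le_cent_u hu hz hz1 ha
      have hbJ := h.ws_le_cent_u hu hy hy1 hb
      rw [commutatorElement_def]
      exact mul_mem (mul_mem (mul_mem haJ hbJ) (inv_mem haJ)) (inv_mem hbJ)
    intro v hv
    have h1 := (hle (h.nt_V_le hN hz hz1 hy hy1 hyz hv)).2
    rcases (mem_zpowers_iff_of_mul_self huu).mp h1 with e | e
    · left
      calc k * v * k⁻¹ = (k * v * k⁻¹ * v⁻¹) * v := by group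
        _ = v := by rw [e, one_mul]
    · right
      calc k * v * k⁻¹ = (k * v * k⁻¹ * v⁻¹) * v := by group
        _ = u * v := by rw [e]
  -- `v₀` is moved, `p` is fixed
  obtain ⟨v₀, hv₀, hv₀k⟩ : ∃ v ∈ V, k * v * k⁻¹ = u * v := by
    by_contra hcon
    push Not at hcon
    apply hkV
    refine mem_normalizer_fintype fun v hv => ?_
    rcases hkv v hv with e | e
    · rw [e]; exact hv
    · exact absurd e (hcon v hv)
  have hv₀1 : v₀ ≠ 1 := by
    rintro rfl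
    rw [mul_one, mul_one, mul_inv_cancel] at hv₀k
    exact hu1 hv₀k.symm
  have huv₀ : u * v₀ = v₀ * u := (huc v₀ (h.V_le_cent_u hu hv₀)).symm
  obtain ⟨p, hp, hp1, hpk⟩ : ∃ p ∈ V, p ≠ 1 ∧ k * p * k⁻¹ = p := by
    obtain ⟨v₁, hv₁, hv₁1, hv₁0⟩ := h.exists_q hv₀ hv₀1
    rcases hkv v₁ hv₁ with e | e
    · exact ⟨v₁, hv₁, hv₁1, e⟩
    · refine ⟨v₀ * v₁, mul_mem hv₀ hv₁, h.mul_ne_one hv₁ (Ne.symm hv₁0), ?_⟩
      calc k * (v₀ * v₁) * k⁻¹ = (k * v₀ * k⁻¹) * (k * v₁ * k⁻¹) := by group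
        _ = (u * v₀) * (u * v₁) := by rw [hv₀k, e]
        _ = (v₀ * u) * (u * v₁) := by rw [huv₀]
        _ = v₀ * (u * u) * v₁ := by group
        _ = v₀ * v₁ := by rw [huu, mul_one]
  obtain ⟨m, -, hmV, hmu⟩ := h.fu hu huV hv₀ hv₀1
  have hmp : m * p * m⁻¹ = p := conj_eq_of_comm (h.V_comm hp hmV).symm
  have hLu : u ∈ cj (m⁻¹ * k) V := by
    rw [mem_cj]
    have e : (m⁻¹ * k)⁻¹ * u * (m⁻¹ * k) = k⁻¹ * (m * u * m⁻¹) * k := by group
    rw [e, hmu, ← huv₀, ← hv₀k]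
    have e2 : k⁻¹ * (k * v₀ * k⁻¹) * k = v₀ := by group
    rw [e2]; exact hv₀
  have hLp : p ∈ cj (m⁻¹ * k) V := by
    rw [mem_cj]
    have e : (m⁻¹ * k)⁻¹ * p * (m⁻¹ * k) = k⁻¹ * (m * p * m⁻¹) * k := by group
    have e2 : k⁻¹ * p * k = p := by
      calc k⁻¹ * p * k = k⁻¹ * (k * p * k⁻¹) * k := by rw [hpk]
        _ = p := by group
    rw [e, hmp, e2]; exact hp
  obtain ⟨-, -, T', h'⟩ := h.of_line (L := cj (m⁻¹ * k) V) (p := u) ⟨⟨_, rfl⟩, hLu⟩ hu1
  exact hp1 (hVQ p hp (h'.ln.V_le_o2 hLp))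

end One

namespace Spr

variable {T V L : Subgroup G} {z y q e g u : G}

/-- **THEOREM ALPHA.** -/
theorem alpha [Finite G] (S : Spr V L z y q e g) (h : One T V z) (hN : NT V) (hu : u ∈ ii V) (hu' : u ∈ ii L)
    (huV : u ∉ V) : V ≤ o2 (centralizer ({u} : Set G)) := by
  classical
  have hz := h.ln.z_mem
  have hz1 := h.ln.z_ne
  set J := centralizer ({u} : Set G) with hJ
  set Q := o2 J with hQdef
  have hQn : J ≤ normalizer (Q : Set G) := le_normalizer_o2 _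
  have huu : u * u = 1 := h.sq hz hz1 u (hu z hz hz1)
  have hu1 : u ≠ 1 := fun e' => huV (e' ▸ one_mem V)
  by_contra hVQ
  -- no point of `V` is in `Q`
  have hVQ' : ∀ v ∈ V, v ∈ Q → v = 1 := by
    intro v hv hvQ
    by_contra hv1
    exact hVQ (h.V_le_of_mem hu huV hQn hv hv1 hvQ)
  -- `u ∈ Q`
  have huQ : u ∈ Q := by
    have h1 : IsPGroup 2 (zpowers u) := isPGroup_zpowers huu
    have h2 : zpowers u ≤ J := by
      rw [zpowers_le, hJ, mem_centralizer_singleton_iff]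
    refine le_o2 h2 h1 ?_ (mem_zpowers u)
    refine le_normalizer_of_forall fun c hc x hx => ?_
    rw [conj_zpowers (z := u) hc hx]
    exact hx
  by_cases hcase : ∀ w ∈ ws V z, w ∈ Q → w = 1 ∨ w = u
  · exact h.alpha_a hN hu huV hVQ' hcase
  push Not at hcase
  obtain ⟨w, hw, hwQ, hw1, hwu⟩ := hcase
  have hzQ : z ∉ Q := fun hc => hz1 (hVQ' z hz hc)
  -- `m ∈ C_{W_z}(K_z) ∩ Q`, `m ≠ 1, z`
  obtain ⟨m, hm, hmQ, hm1⟩ : ∃ m ∈ m0 V z, m ∈ Q ∧ m ≠ 1 := by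
    rcases h.mem_m0_or_of hu hQn hz hz1 hzQ hw hwQ with e1 | e1
    · exact ⟨w, e1, hwQ, hw1⟩
    · refine ⟨w * u, e1, mul_mem hwQ huQ, fun e2 => hwu ?_⟩
      calc w = w * u * u⁻¹ := by group
        _ = u := by rw [e2, one_mul]; exact inv_eq_self huu
  have hmz : m ≠ z := fun e' => hzQ (e' ▸ hmQ)
  have hmI : m ∉ ii V := fun hc => by
    rcases h.m0_ii hm hc with e' | e'
    · exact hm1 e'
    · exact hmz e'
  have hs := S.hs h
  have hs1 := S.hs1 h
  have hsy := S.hsy h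
  have hsz := S.hsz h
  have hzy := h.ln.comm hz S.hy
  have hyy := h.ln.sq y S.hy
  have hzz := h.ln.zz
  -- movers in `C(u)`
  obtain ⟨t, ht, ht1, htu⟩ := h.exists_mover_cent hu huV hs hs1
  obtain ⟨k, hk, hk1, hku⟩ := h.exists_mover_cent hu huV hz hz1
  have htJ : t ∈ J := mem_centralizer_singleton_iff.mpr htu
  have hkJ : k ∈ J := mem_centralizer_singleton_iff.mpr hku
  have htn := h.kq_le_normalizer hs hs1 ht
  have hkn := h.kq_le_normalizer hz hz1 hk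
  have htz : t * z * t⁻¹ = y := by
    rw [h.move hs hs1 hz hz1 (Ne.symm hsz) ht ht1, hzy, mul_assoc, hzz, mul_one]
  have hty : t * y * t⁻¹ = z := by
    rw [h.move hs hs1 S.hy S.hy1 (Ne.symm hsy) ht ht1, mul_assoc, hyy, mul_one]
  have hky : k * y * k⁻¹ = z * y := h.move hz hz1 S.hy S.hy1 S.hyz hk hk1
  -- `a = m^t`, `b = a^k`
  set a := t * m * t⁻¹ with ha
  have hay : a ∈ m0 V y := by
    have := conj_mem_m0 t hm
    rwa [htz] at this
  have haQ : a ∈ Q := conj_mem_of_normalizer hQn htJ hmQ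
  set b := k * a * k⁻¹ with hb
  have hbs : b ∈ m0 V (z * y) := by
    have := conj_mem_m0 k hay
    rwa [hky] at this
  have hbQ : b ∈ Q := conj_mem_of_normalizer hQn hkJ haQ
  have hmD := h.m0_le_dd' hN hz hz1 hm
  have haD := h.m0_le_dd' hN S.hy S.hy1 hay
  have hbD := h.m0_le_dd' hN hs hs1 hbs
  have hmm : m * m = 1 := h.dd_sq hz hz1 hmD
  have haa : a * a = 1 := h.dd_sq S.hy S.hy1 haD
  have hbb : b * b = 1 := h.dd_sq hs hs1 hbD
  have hab := h.dd_comm hs hs1 haD hbD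
  have ham := h.dd_comm hz hz1 haD hmD
  have hbm := h.dd_comm hz hz1 hbD hmD
  -- `r = a b m ∈ I ∩ Q`
  have hr : a * b * m ∈ ii V := by
    have h1 := S.theta h hz hz1 S.hy S.hy1 S.hyz hk hk1 ht ht1 haD
    -- `t a t⁻¹ = m` modulo `I`
    have h2 : t * a * t⁻¹ * m⁻¹ ∈ ii V := by
      have h3 : t * t ∈ kq V (z * y) := mul_mem ht ht
      have h4 : t * t ∈ centralizer (V : Set G) := by
        refine h.mem_centralizer_of hz hz1 S.hy S.hy1 S.hyz (comm_of_conj_eq ?_) (comm_of_conj_eq ?_)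
        · calc t * t * z * (t * t)⁻¹ = t * (t * z * t⁻¹) * t⁻¹ := by group
            _ = z := by rw [htz, hty]
        · calc t * t * y * (t * t)⁻¹ = t * (t * y * t⁻¹) * t⁻¹ := by group
            _ = y := by rw [hty, htz]
      have h5 := S.triv h hs hs1 hz hz1 h3 h4 hmD
      have e1 : t * t * m * (t * t)⁻¹ * m⁻¹ = t * a * t⁻¹ * m⁻¹ := by rw [ha]; group
      rwa [e1] at h5
    have h6 := mul_mem h1 h2
    have e1 : a * (k * a * k⁻¹) * (t * a * t⁻¹)⁻¹ * (t * a * t⁻¹ * m⁻¹) = a * b * m := by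
      rw [← hb]
      calc a * b * (t * a * t⁻¹)⁻¹ * (t * a * t⁻¹ * m⁻¹) = a * b * m⁻¹ := by group
        _ = a * b * m := by rw [inv_eq_self hmm]
    rwa [e1] at h6
  have hrQ : a * b * m ∈ Q := mul_mem (mul_mem haQ hbQ) hmQ
  have hru : a * b * m = 1 ∨ a * b * m = u := by
    rcases h.ii_inf_of hu hQn hz hz1 hzQ hr hrQ with e1 | e1 | e1 | e1
    · exact Or.inl e1
    · exact absurd (e1 ▸ hrQ) hzQ
    · exact Or.inr e1
    · exfalso
      apply hzQ
      have h1 := mul_mem hrQ (inv_mem huQ)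
      rwa [e1, mul_inv_cancel_right] at h1
  -- (1.1)
  have h1 := S.mem_ii h haD
  -- `a^e = b v`, `v ∈ ⟨s⟩`
  have hae : e * a * e⁻¹ ∈ m0 V (z * y) := by
    have := conj_mem_m0 e hay
    rwa [S.ey] at this
  have h2 : e * a * e⁻¹ * b⁻¹ ∈ ii V := by
    have h3 : e * k⁻¹ ∈ kq V z := mul_mem (S.e_kq h) (inv_mem hk)
    have h4 : e * k⁻¹ ∈ centralizer (V : Set G) :=
      h.mover_coset hz hz1 hk hk1 (S.e_kq h) (S.e_move h)
    have h5 := S.triv h hz hz1 hs hs1 h3 h4 hbD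
    have e1 : e * k⁻¹ * b * (e * k⁻¹)⁻¹ * b⁻¹ = e * a * e⁻¹ * b⁻¹ := by rw [hb]; group
    rwa [e1] at h5
  have h3 : e * a * e⁻¹ * b⁻¹ = 1 ∨ e * a * e⁻¹ * b⁻¹ = z * y :=
    h.m0_ii' hs hs1 (mul_mem hae (inv_mem hbs)) h2
  -- `m v ∈ I_L`
  have hLz : z ∈ L := S.line.2
  obtain ⟨-, -, T', h'⟩ := h.of_line S.line hz1
  have huL : ∀ {x : G}, (x = 1 ∨ x = u) → x ∈ ii L := by
    rintro x (rfl | rfl)
    · exact one_mem _
    · exact hu'
  -- `a b = r m`
  have habm : a * b = (a * b * m) * m := by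
    calc a * b = a * b * (m * m) := by rw [hmm, mul_one]
      _ = (a * b * m) * m := by group
  have hm0L : m ∈ m0 L z := by
    refine ⟨by rw [One.ws_line S.line]; exact hm.1, fun k hk => hm.2 k ?_⟩
    rwa [One.kq_line S.line] at hk
  rcases h3 with e1 | e1
  · -- `a^e = b`
    have e2 : e * a * e⁻¹ = b := by
      calc e * a * e⁻¹ = (e * a * e⁻¹ * b⁻¹) * b := by group
        _ = b := by rw [e1, one_mul]
    rw [e2, habm] at h1
    have h4 : m ∈ ii L := by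
      have := mul_mem (inv_mem (huL hru)) h1
      rwa [inv_mul_cancel_left] at this
    rcases h'.m0_ii hm0L h4 with e' | e'
    · exact hm1 e'
    · exact hmz e'
  · -- `a^e = s b`
    have e2 : e * a * e⁻¹ = (z * y) * b := by
      calc e * a * e⁻¹ = (e * a * e⁻¹ * b⁻¹) * b := by group
        _ = (z * y) * b := by rw [e1]
    have hsa : a * (z * y) = (z * y) * a := haD.2 _ hs hs1 _ (h.V_le hs hs1 hs)
    have e3 : a * (e * a * e⁻¹) = (a * b * m) * (m * (z * y)) := by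
      have hms : m * (z * y) = (z * y) * m := hmD.2 _ hs hs1 _ (h.V_le hs hs1 hs)
      rw [e2]
      calc a * ((z * y) * b) = (a * (z * y)) * b := by group
        _ = (z * y) * (a * b) := by rw [hsa]; group
        _ = (z * y) * ((a * b * m) * m) := by rw [← habm]
        _ = (a * b * m) * (m * (z * y)) := by
          have hsb : b * (z * y) = (z * y) * b := hbD.2 _ hs hs1 _ (h.V_le hs hs1 hs)
          rw [hms]
          calc (z * y) * (a * b * m * m) = ((z * y) * a) * b * m * m := by group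
            _ = (a * (z * y)) * b * m * m := by rw [hsa]
            _ = a * ((z * y) * b) * m * m := by group
            _ = a * (b * (z * y)) * m * m := by rw [hsb]
            _ = a * b * ((z * y) * m) * m := by group
            _ = a * b * (m * (z * y)) * m := by rw [hms]
            _ = a * b * m * ((z * y) * m) := by group
    rw [e3] at h1
    have h4 : m * (z * y) ∈ ii L := by
      have := mul_mem (inv_mem (huL hru)) h1
      rwa [inv_mul_cancel_left] at this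
    -- `W_q` centralises `z y`
    have hmL := h'.m0_le_dd (hN.of_lines S.line) hm0L
    have h5 : m * (z * y) * e = e * (m * (z * y)) :=
      h'.comm S.hq S.hq1 _ (h4 q S.hq S.hq1) e S.he.1
    have h6 : m * e = e * m := hmL.2 q S.hq S.hq1 e S.he.1
    have h7 : (z * y) * e = e * (z * y) := by
      calc (z * y) * e = m⁻¹ * (m * (z * y) * e) := by group
        _ = m⁻¹ * (e * (m * (z * y))) := by rw [h5]
        _ = m⁻¹ * (e * m) * (z * y) := by group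
        _ = m⁻¹ * (m * e) * (z * y) := by rw [h6]
        _ = e * (z * y) := by group
    have h8 : e * (z * y) * e⁻¹ = z * y := conj_eq_of_comm h7.symm
    have h9 : e * (z * y) * e⁻¹ = z * (z * y) := by
      calc e * (z * y) * e⁻¹ = (e * z * e⁻¹) * (e * y * e⁻¹) := by group
        _ = z * (z * y) := by rw [S.e_z h, S.ey]
    rw [h8] at h9
    exact hz1 (by simpa using h9.symm)

/-- (2.1) `N = ⟨z^{C(u)}⟩ ≤ O₂(C_G(u))` -/
theorem nu_le [Finite G] (S : Spr V L z y q e g) (h : One T V z) (hN : NT V) (hu : u ∈ ii V) (hu' : u ∈ ii L)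
    (huV : u ∉ V) : nu u z ≤ o2 (centralizer ({u} : Set G)) := by
  have h1 := S.alpha h hN hu hu' huV h.ln.z_mem
  refine (closure_le _).mpr ?_
  rintro _ ⟨c, hc, rfl⟩
  exact conj_mem_of_normalizer (le_normalizer_o2 _) hc h1

/-- (2.1) `[N ∩ W_p, N ∩ W_r] ≤ ⟨u⟩` -/
theorem nu_comm [Finite G] (S : Spr V L z y q e g) (h : One T V z) (hN : NT V) (hu : u ∈ ii V)
    (hu' : u ∈ ii L) (huV : u ∉ V) {p r a b : G} (hp : p ∈ V) (hp1 : p ≠ 1) (hr : r ∈ V) (hr1 : r ≠ 1)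
    (hrp : r ≠ p) (ha : a ∈ nu u z) (ha' : a ∈ ws V p) (hb : b ∈ nu u z) (hb' : b ∈ ws V r) :
    a * b * a⁻¹ * b⁻¹ = 1 ∨ a * b * a⁻¹ * b⁻¹ = u := by
  have hN2 : IsPGroup 2 (nu u z) := (isPGroup_o2 _).to_le (S.nu_le h hN hu hu' huV)
  set N := nu u z with hNdef
  set N' := ⁅N, N⁆ with hN'
  have hNn : centralizer ({u} : Set G) ≤ normalizer (N : Set G) :=
    le_normalizer_of_forall fun c hc a ha => conj_mem_nu hc ha
  have hN'n : centralizer ({u} : Set G) ≤ normalizer (N' : Set G) := by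
    refine le_normalizer_of_forall fun c hc a ha => ?_
    have hle : N' ≤ cj c⁻¹ N' := by
      rw [hN', commutator_le]
      intro x hx y hy
      rw [mem_cj, inv_inv]
      have e1 : c * ⁅x, y⁆ * c⁻¹ = ⁅c * x * c⁻¹, c * y * c⁻¹⁆ := by
        simp only [commutatorElement_def]; group
      rw [e1]
      exact commutator_mem_commutator (conj_mem_nu hc hx) (conj_mem_nu hc hy)
    have := mem_cj.mp (hle ha)
    rwa [inv_inv] at this
  have hVN := h.V_le_nu hu huV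
  -- no point of `V` is in `N'`
  have hpt : ∀ v ∈ V, v ≠ 1 → v ∉ N' := by
    intro v hv hv1 hvN
    have hzN' : z ∈ N' := h.V_le_of_mem hu huV hN'n hv hv1 hvN h.ln.z_mem
    have hle : N ≤ N' := by
      refine (closure_le _).mpr ?_
      rintro _ ⟨c, hc, rfl⟩
      exact conj_mem_of_normalizer hN'n hc hzN'
    have : Fact (Nat.Prime 2) := ⟨Nat.prime_two⟩
    have hnil : Group.IsNilpotent N := hN2.isNilpotent
    have hsol : Group.IsSolvable N := inferInstance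
    have h1 : commutator N = ⊤ := by
      rw [eq_top_iff]
      intro x _
      have h2 : (x : G) ∈ ⁅N, N⁆ := hle x.2
      have h3 : (commutator N).map N.subtype = ⁅N, N⁆ := by
        rw [_root_.commutator_def, map_commutator, ← MonoidHom.range_eq_map, range_subtype]
      rw [← h3] at h2
      obtain ⟨x', hx', e1⟩ := h2
      have : x' = x := Subtype.ext e1
      rwa [← this]
    have h4 : Subsingleton N := by
      by_contra hns
      rw [not_subsingleton_iff_nontrivial] at hns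
      exact (Group.IsSolvable.commutator_lt_top_of_nontrivial N).ne h1
    have h5 : (⟨z, mem_nu_self u z⟩ : N) = 1 := Subsingleton.elim _ _
    exact h.ln.z_ne (congrArg Subtype.val h5)
  have hc1 : a * b * a⁻¹ * b⁻¹ ∈ N' := by
    have := commutator_mem_commutator ha hb
    rwa [commutatorElement_def] at this
  have hc2 : a * b * a⁻¹ * b⁻¹ ∈ ii V := by
    have := h.comm_ii_mem hp hp1 hr hr1 ha' hb'
    rwa [commutatorElement_def] at this
  have huu : u * u = 1 := h.sq hp hp1 u (hu p hp hp1)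
  have hdis : ∀ {p : G}, p ∈ V → p ≠ 1 → a * b * a⁻¹ * b⁻¹ = 1 ∨ a * b * a⁻¹ * b⁻¹ = u ∨
      a * b * a⁻¹ * b⁻¹ = p * u := by
    intro p hp hp1
    rcases h.ii_inf_of hu hN'n hp hp1 (hpt p hp hp1) hc2 hc1 with e1 | e1 | e1 | e1
    · exact Or.inl e1
    · exact absurd (e1 ▸ hc1) (hpt p hp hp1)
    · exact Or.inr (Or.inl e1)
    · exact Or.inr (Or.inr e1)
  rcases hdis hp hp1 with e1 | e1 | e1
  · exact Or.inl e1
  · exact Or.inr e1
  · rcases hdis hr hr1 with e2 | e2 | e2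
    · exact Or.inl e2
    · exact Or.inr e2
    · rw [e1] at e2
      exact absurd (mul_right_cancel e2) (Ne.symm hrp)

end Spr

end Cfsg.Agent.Omega.NO3S.TwoOne
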