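import Cfsg.Agent.Omega.NO3S.TwoOne.PlaneKE
import Cfsg.Agent.Omega.NO3S.TwoOne.Main

/-!
# NO-3S, `q = 2`, `n = 1`: THEOREM P in the language of `MRep`

`R : MRep V cg z M H` (the full family), `A = R.img (ww V cg y)`, `v₀ = R.pi y`.

* `One.rep_norm` : `N_H(A) ≤ Stab(v₀)`; `One.rep_comm` : `C_H(A) ≤ Stab(v₀)`;
* `One.rep_eq_bot` : a normal subgroup of `H` centralised by `A` is trivial;
* `One.fit_eq_bot` : `CenFit R` implies that every nilpotent normal subgroup of `H` is trivial.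
-/

set_option autoImplicit false

namespace Cfsg.Agent.Omega.NO3S.TwoOne

open Subgroup Cfsg Cfsg.Agent.MinSimple.Geo Cfsg.Agent.Omega.CaseL
open Cfsg.Agent.Omega.NO3S.Fit
open Cfsg.Agent.ZN.Block (conj_mem_of_normalizer conj_mem_of_normalizer' le_normalizer_of_forall
  mem_normalizer_of)

universe u

variable {G : Type u} [Group G]

namespace One

variable {T V : Subgroup G} {z : G}

theorem ww_cg (h : One T V z) {p : G} (hp : p ∈ V) (hp1 : p ≠ 1) : ww V cg p = ws V p := by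
  obtain ⟨g, -, -, hg⟩ := h.point hp hp1
  exact wf_cent_eq hg.ln

theorem qq_cg (h : One T V z) : qq V cg z = kq V z := by
  have hw := h.ww_cg h.ln.z_mem h.ln.z_ne
  have key : ∀ c ∈ qq V cg z, ∀ w ∈ ws V z, c * w * c⁻¹ * w⁻¹ ∈ zpowers z := by
    intro c hc w hw'
    exact hc.2.2 w (by rw [← hw] at hw'; exact hw')
  apply le_antisymm
  · intro c hc
    refine ⟨hc.1, key c hc, fun w hw' => ?_⟩
    have := key c⁻¹ (inv_mem hc) w hw'
    rwa [inv_inv] at this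
  · intro c hc
    refine ⟨hc.1, mem_centralizer_singleton_iff.mp hc.1, fun w hw' => hc.2.1 w ?_⟩
    rw [← hw]; exact hw'

variable {M H : Type u} [AddCommGroup M] [Group H] [DistribMulAction H M]

theorem ws_le_cg (h : One T V z) {y : G} (hy : y ∈ V) (hy1 : y ≠ 1) : ws V y ≤ cg z :=
  (h.ws_le_centralizer_V hy hy1).trans (h.cent_le_centralizer h.ln.z_mem)

theorem phi_eq_one (h : One T V z) (R : MRep V cg z M H) {c : G} (hc : c ∈ cg z) :
    R.phi c = 1 ↔ c ∈ kq V z := by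
  rw [R.phi_ker c hc, h.qq_cg]

theorem phi_inv' (R : MRep V cg z M H) {c : G} (hc : c ∈ cg z) : R.phi c⁻¹ = (R.phi c)⁻¹ := by
  have h1 := map_inv R.hom ⟨c, hc⟩
  exact h1

/-- `N_H(A)` fixes `v₀` -/
theorem rep_norm [Finite G] (h : One T V z) (R : MRep V cg z M H) {y : G} (hy : y ∈ V) (hy1 : y ≠ 1)
    (hyz : y ≠ z) {x : H} (hx : ∀ a ∈ R.img (ww V cg y), x * a * x⁻¹ ∈ R.img (ww V cg y)) :
    x • R.pi y = R.pi y := by
  obtain ⟨f, hf, rfl⟩ := R.phi_surj x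
  have hfam := h.fam
  have hwy := h.ww_cg hy hy1
  have hle : ww V cg y ≤ cg z := by rw [hwy]; exact h.ws_le_cg hy hy1
  rw [MRep.smul_v0_iff R hfam hy hy1 hyz hf]
  refine h.norm_of_image hy hy1 hyz hf fun a ha => ?_
  rw [← hwy] at ha
  obtain ⟨b, hb, e⟩ := (R.mem_img hle).mp (hx _ ((R.mem_img hle).mpr ⟨a, ha, rfl⟩))
  refine ⟨b, by rwa [← hwy], ?_⟩
  have haC := hle ha
  have hbC := hle hb
  have h1 : R.phi (f * a * f⁻¹ * b⁻¹) = 1 := by
    rw [R.phi_mul _ (mul_mem (mul_mem hf haC) (inv_mem hf)) _ (inv_mem hbC),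
      R.phi_mul _ (mul_mem hf haC) _ (inv_mem hf), R.phi_mul _ hf _ haC, phi_inv' R hf, phi_inv' R hbC, e,
      mul_inv_cancel]
  exact (h.phi_eq_one R (mul_mem (mul_mem (mul_mem hf haC) (inv_mem hf)) (inv_mem hbC))).mp h1

/-- `C_H(A)` fixes `v₀` -/
theorem rep_comm [Finite G] (h : One T V z) (R : MRep V cg z M H) {y : G} (hy : y ∈ V) (hy1 : y ≠ 1)
    (hyz : y ≠ z) {x : H} (hx : ∀ a ∈ R.img (ww V cg y), x * a = a * x) : x • R.pi y = R.pi y :=
  h.rep_norm R hy hy1 hyz fun a ha => by rw [hx a ha, mul_inv_cancel_right]; exact ha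

/-- a normal subgroup of `H` centralised by `A` is trivial -/
theorem rep_eq_bot [Finite G] (h : One T V z) (R : MRep V cg z M H) {y : G} (hy : y ∈ V) (hy1 : y ≠ 1)
    (hyz : y ≠ z) {N : Subgroup H} (hN : N.Normal) (hc : R.img (ww V cg y) ≤ centralizer (N : Set H)) :
    N = ⊥ := by
  have hwy := h.ww_cg hy hy1
  have hle : ww V cg y ≤ cg z := by rw [hwy]; exact h.ws_le_cg hy hy1
  rw [eq_bot_iff]
  intro x hx
  obtain ⟨f, hf, rfl⟩ := R.phi_surj x
  have hpre := R.pre_le N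
  have h1 : R.pre N ≤ kq V z := by
    refine h.le_kq_of_comm hy hy1 hyz hpre ?_ ?_
    · refine le_normalizer_of_forall fun c hc' n hn => ?_
      rw [R.mem_pre] at hn ⊢
      refine ⟨mul_mem (mul_mem hc' hn.1) (inv_mem hc'), ?_⟩
      rw [R.phi_mul _ (mul_mem hc' hn.1) _ (inv_mem hc'), R.phi_mul _ hc' _ hn.1, phi_inv' R hc']
      exact hN.conj_mem _ hn.2 _
    · intro r hr a ha
      rw [R.mem_pre] at hr
      rw [← hwy] at ha
      have haC := hle ha
      have h2 := mem_centralizer_iff.mp (hc ((R.mem_img hle).mpr ⟨a, ha, rfl⟩)) _ hr.2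
      refine (h.phi_eq_one R (mul_mem (mul_mem (mul_mem hr.1 haC) (inv_mem hr.1)) (inv_mem haC))).mp ?_
      rw [R.phi_mul _ (mul_mem (mul_mem hr.1 haC) (inv_mem hr.1)) _ (inv_mem haC),
        R.phi_mul _ (mul_mem hr.1 haC) _ (inv_mem hr.1), R.phi_mul _ hr.1 _ haC, phi_inv' R hr.1,
        phi_inv' R haC, h2]
      group
  rw [mem_bot]
  exact (h.phi_eq_one R hf).mpr (h1 (R.mem_pre.mpr ⟨hf, hx⟩))

/-- `A` centralises `F(H)` implies `F(H) = 1` -/
theorem fit_eq_bot [Finite G] (h : One T V z) (R : MRep V cg z M H) (hR : CenFit R) {N : Subgroup H}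
    (hN : N.Normal) (hn : Group.IsNilpotent N) : N = ⊥ := by
  obtain ⟨y, hy, hy1, hyz⟩ := h.ln.exists_y
  exact h.rep_eq_bot R hy hy1 hyz hN (hR N hN hn y hy hy1 hyz)

end One

end Cfsg.Agent.Omega.NO3S.TwoOne
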