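import Cfsg.Agent.Omega.NO3S.TwoOne.Irr

/-!
# NO-3S, `q = 2`, `n = 1` (helper881's text #13700): (II), faithfulness; (VI) planes

* `One.le_kq` : `O₂(H) = 1`;
* `One.faithful` (II) : `M/C_M(H⁰)` is faithful for `H = C_G(z)/K_z`;
* `One.plane_line`, `One.plane_act` (VI) : planes.
-/

set_option autoImplicit false
set_option linter.unusedSectionVars false

namespace Cfsg.Agent.Omega.NO3S.TwoOne

open Subgroup Cfsg Cfsg.Agent.ZN Cfsg.Agent.MinSimple.Geo Cfsg.Agent.Omega.CaseL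
open Cfsg.Agent.ZN.Block (conj_mem_of_normalizer conj_mem_of_normalizer' le_normalizer_of_forall
  mem_normalizer_of)

universe u

variable {G : Type u} [Group G]

/-- `T` Sylow in `C`, `N` normal in `C`: `T ∩ N` is Sylow in `N`. -/
theorem not_dvd_relIndex_of_normal [Finite G] {C T N : Subgroup G} (hTC : T ≤ C) (hT : IsPGroup 2 T)
    (hs : ¬ 2 ∣ T.relIndex C) (hNC : N ≤ C) (hn : C ≤ normalizer (N : Set G)) : ¬ 2 ∣ T.relIndex N := by
  have hfact : Fact (Nat.Prime 2) := ⟨Nat.prime_two⟩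
  obtain ⟨P⟩ : Nonempty (Sylow 2 N) := inferInstance
  have hA : IsPGroup 2 ((P : Subgroup N).map N.subtype) := P.2.map _
  have hAN : (P : Subgroup N).map N.subtype ≤ N := map_subtype_le _
  obtain ⟨c, hc, hcT⟩ := exists_cj_le_of_sylow hTC hT hs (hAN.trans hNC) hA
  have h1 : (cj c ((P : Subgroup N).map N.subtype)).relIndex N = (P : Subgroup N).index := by
    have e : cj c N = N := cj_eq_of_mem_normalizer (hn hc)
    have h2 := relIndex_cj c ((P : Subgroup N).map N.subtype) N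
    rw [e] at h2
    rw [h2]
    unfold relIndex
    congr 1
    ext x
    simp [mem_subgroupOf]
  intro hd
  apply P.not_dvd_index
  rw [← h1]
  exact hd.trans (relIndex_dvd_of_le_left N hcT)

namespace One

variable {T V : Subgroup G} {z : G}

/-- `C_G(z)` normal subgroups which are 2-groups modulo `K_z` are in `K_z`. -/
theorem le_kq [Finite G] (h : One T V z) {R : Subgroup G} (hR : R ≤ centralizer ({z} : Set G))
    (hn : centralizer ({z} : Set G) ≤ normalizer (R : Set G)) (h2 : ∀ r ∈ R, ∃ n : ℕ, r ^ 2 ^ n ∈ kq V z) :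
    R ≤ kq V z := by
  have hfact : Fact (Nat.Prime 2) := ⟨Nat.prime_two⟩
  have hz := h.ln.z_mem
  have hz1 := h.ln.z_ne
  -- `N(V) ∩ C(z)` covers `R`
  have hodd := not_dvd_relIndex_of_normal h.ln.T_le h.ln.two h.ln.T_syl hR hn
  have hT : T ⊓ R ≤ normalizer (V : Set G) ⊓ R := inf_le_inf_right _ h.ln.T_norm
  have hodd' : ¬ 2 ∣ (normalizer (V : Set G) ⊓ R).relIndex R := fun hd =>
    hodd (by
      rw [← inf_relIndex_right T R]
      exact hd.trans (relIndex_dvd_of_le_left R hT))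
  have hK : kq V z ⊓ R ≤ normalizer (V : Set G) ⊓ R := inf_le_inf_right _ (h.kq_le_normalizer hz hz1)
  have hnorm : ((kq V z).subgroupOf R).Normal :=
    normal_subgroupOf_of_le_normalizer (hR.trans (centralizer_le_normalizer_kq V z))
  have h3 : IsPGroup 2 (R ⧸ (kq V z).subgroupOf R) := by
    intro x
    obtain ⟨r, rfl⟩ := QuotientGroup.mk_surjective x
    obtain ⟨n, hn'⟩ := h2 r r.2
    refine ⟨n, ?_⟩
    rw [← QuotientGroup.mk_pow, QuotientGroup.eq_one_iff]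
    exact mem_subgroupOf.mpr hn'
  obtain ⟨m, hm⟩ := IsPGroup.iff_card.mp h3
  have h4 : (kq V z).relIndex R = 2 ^ m := hm
  have h5 : (normalizer (V : Set G) ⊓ R).relIndex R ∣ 2 ^ m := by
    rw [← h4, ← inf_relIndex_right (kq V z) R]
    exact relIndex_dvd_of_le_left R hK
  have h6 : R ≤ normalizer (V : Set G) := by
    obtain ⟨k, -, hk⟩ := (Nat.dvd_prime_pow Nat.prime_two).mp h5
    have h7 : (normalizer (V : Set G) ⊓ R).relIndex R = 1 := by
      rcases Nat.eq_zero_or_pos k with e | e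
      · rw [hk, e, pow_zero]
      · exact absurd (hk ▸ dvd_pow_self 2 (by omega)) hodd'
    exact (relIndex_eq_one.mp h7).trans inf_le_left
  have h8 : ∀ r ∈ R, ∀ w ∈ ws V z, r * w * r⁻¹ * w⁻¹ ∈ zpowers z := by
    intro r hr
    let A : Subgroup G :=
      { carrier := {w | ∀ r ∈ R, r * w * r⁻¹ * w⁻¹ ∈ zpowers z ∧ w * z = z * w}
        mul_mem' := by
          intro a b ha hb r hr
          have haz := (ha r hr).2
          have hbz := (hb r hr).2
          refine ⟨?_, mul_comm_of haz hbz⟩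
          have e : r * (a * b) * r⁻¹ * (a * b)⁻¹ =
              (r * a * r⁻¹ * a⁻¹) * (a * (r * b * r⁻¹ * b⁻¹) * a⁻¹) := by group
          rw [e, conj_zpowers (mem_centralizer_singleton_iff.mpr haz) (hb r hr).1]
          exact mul_mem (ha r hr).1 (hb r hr).1
        one_mem' := fun r hr => ⟨by simp, by simp⟩
        inv_mem' := by
          intro a ha r hr
          have haz := (ha r hr).2
          refine ⟨?_, inv_comm_of haz⟩
          have e : r * a⁻¹ * r⁻¹ * a⁻¹⁻¹ = a⁻¹ * (r * a * r⁻¹ * a⁻¹)⁻¹ * a⁻¹⁻¹ := by group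
          rw [e, conj_zpowers (inv_mem (mem_centralizer_singleton_iff.mpr haz)) (inv_mem (ha r hr).1)]
          exact inv_mem (ha r hr).1 }
    have hA : ws V z ≤ A := by
      refine ws_le fun L hL => ?_
      obtain ⟨c, hc, rfl⟩ := h.ln.exists_of_mem_lines hL
      intro x hx r hr
      have hx' := mem_of_cj hx
      have hr' := conj_mem_of_normalizer' hn hc hr
      refine ⟨?_, mem_centralizer_singleton_iff.mp (h.ws_le_cent (le_ws hL hx))⟩
      have h9 : c⁻¹ * r * c * (c⁻¹ * x * c) * (c⁻¹ * r * c)⁻¹ * (c⁻¹ * x * c)⁻¹ ∈ zpowers z := by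
        rcases h.ln.conj_cases hz hx' hz1 (mem_centralizer_singleton_iff.mp (hR hr')) (h6 hr') with e | e
        · rw [e, mul_inv_cancel]; exact one_mem _
        · rw [e, mul_inv_cancel_right]; exact mem_zpowers z
      have e : r * x * r⁻¹ * x⁻¹ =
          c * (c⁻¹ * r * c * (c⁻¹ * x * c) * (c⁻¹ * r * c)⁻¹ * (c⁻¹ * x * c)⁻¹) * c⁻¹ := by group
      rw [e, conj_zpowers hc h9]
      exact h9
    exact fun w hw => (hA hw r hr).1
  intro r hr
  refine ⟨hR hr, h8 r hr, fun w hw => ?_⟩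
  have := h8 r⁻¹ (inv_mem hr) w hw
  rwa [inv_inv] at this

/-- **(II)** `M/C_M(H⁰)` is faithful for `H`. -/
theorem faithful [Finite G] (h : One T V z) {g : G} (hg : g ∈ centralizer ({z} : Set G))
    (hgw : ∀ w ∈ ws V z, g * w * g⁻¹ * w⁻¹ ∈ cm V z) : g ∈ kq V z := by
  have hz := h.ln.z_mem
  have hcm := h.isSub_cm
  have hzcm : ∀ y ∈ zpowers z, y ∈ cm V z := fun y hy => (zpowers_le.mpr hcm.z_mem) hy
  have hsq := h.sqz
  let N : Subgroup G :=
    { carrier := {g | g ∈ centralizer ({z} : Set G) ∧ ∀ w ∈ ws V z, g * w * g⁻¹ * w⁻¹ ∈ cm V z}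
      mul_mem' := by
        rintro a b ⟨ha, ha1⟩ ⟨hb, hb1⟩
        refine ⟨mul_mem ha hb, fun w hw => ?_⟩
        have e : a * b * w * (a * b)⁻¹ * w⁻¹ = a * (b * w * b⁻¹ * w⁻¹) * a⁻¹ * (a * w * a⁻¹ * w⁻¹) := by
          group
        rw [e]
        exact mul_mem (conj_mem_of_normalizer hcm.norm ha (hb1 w hw)) (ha1 w hw)
      one_mem' := ⟨one_mem _, fun w _ => by simp⟩
      inv_mem' := by
        rintro a ⟨ha, ha1⟩
        refine ⟨inv_mem ha, fun w hw => ?_⟩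
        have e : a⁻¹ * w * a⁻¹⁻¹ * w⁻¹ = a⁻¹ * (a * w * a⁻¹ * w⁻¹)⁻¹ * a := by group
        rw [e]
        exact conj_mem_of_normalizer' hcm.norm ha (inv_mem (ha1 w hw)) }
  have hNn : centralizer ({z} : Set G) ≤ normalizer (N : Set G) := by
    refine le_normalizer_of_forall fun c hc n hn => ⟨mul_mem (mul_mem hc hn.1) (inv_mem hc), fun w hw => ?_⟩
    have hcz : c * z * c⁻¹ = z := conj_eq_of_comm (mem_centralizer_singleton_iff.mp hc)
    have hw' : c⁻¹ * w * c ∈ ws V z := by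
      have := conj_mem_ws c⁻¹ hw
      have e : c⁻¹ * z * c⁻¹⁻¹ = z := by
        calc c⁻¹ * z * c⁻¹⁻¹ = c⁻¹ * (c * z * c⁻¹) * c := by rw [hcz, inv_inv]
          _ = z := by group
      rwa [e, inv_inv] at this
    have h1 := conj_mem_of_normalizer hcm.norm hc (hn.2 _ hw')
    have e : c * (n * (c⁻¹ * w * c) * n⁻¹ * (c⁻¹ * w * c)⁻¹) * c⁻¹ =
        c * n * c⁻¹ * w * (c * n * c⁻¹)⁻¹ * w⁻¹ := by group
    rwa [e] at h1
  have hll := h.ll_le_cent
  -- Step A: `N ∩ ll ≤ K`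
  have hA : N ⊓ ll V z ≤ kq V z := by
    have key : ∀ r ∈ N ⊓ ll V z, ∀ w ∈ ws V z, r * r * w * (r * r)⁻¹ * w⁻¹ ∈ zpowers z := by
      intro r hr w hw
      have hr1 := hr.1
      have hr2 := hr.2
      have h1 := hr1.2 w hw
      have h2 := h.mem_cm h1 hr2
      set c := r * w * r⁻¹ * w⁻¹ with hc
      have hcw : c ∈ ws V z := cm_le V z h1
      have e : r * r * w * (r * r)⁻¹ * w⁻¹ = (r * c * r⁻¹ * c⁻¹) * (c * c) := by
        rw [hc]; group
      rw [e, hsq c hcw, mul_one]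
      exact h2
    refine h.le_kq (inf_le_right.trans hll) ?_ fun r hr => ⟨1, ?_⟩
    · refine le_normalizer_of_forall fun c hc n hn => ?_
      exact ⟨conj_mem_of_normalizer hNn hc hn.1,
        conj_mem_of_normalizer (centralizer_le_normalizer_ll V z) hc hn.2⟩
    · rw [pow_one, pow_two]
      refine ⟨mul_mem (hll hr.2) (hll hr.2), key r hr, fun w hw => ?_⟩
      have := key r⁻¹ (inv_mem hr) w hw
      have e : r⁻¹ * r⁻¹ * w * (r⁻¹ * r⁻¹)⁻¹ * w⁻¹ = (r * r)⁻¹ * w * (r * r) * w⁻¹ := by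
        simp only [mul_inv_rev, inv_inv, mul_assoc]
      rwa [e] at this
  -- Step B
  let X : Subgroup G :=
    { carrier := {w | w ∈ ws V z ∧ w ∈ centralizer ({z} : Set G) ∧ ∀ g ∈ N, g * w * g⁻¹ * w⁻¹ ∈ zpowers z}
      mul_mem' := by
        rintro v w ⟨hv, hvz, hv1⟩ ⟨hw, hwz, hw1⟩
        refine ⟨mul_mem hv hw, mul_mem hvz hwz, fun a ha => ?_⟩
        have e : a * (v * w) * a⁻¹ * (v * w)⁻¹ = (a * v * a⁻¹ * v⁻¹) * (v * (a * w * a⁻¹ * w⁻¹) * v⁻¹) := by
          group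
        rw [e, conj_zpowers hvz (hw1 a ha)]
        exact mul_mem (hv1 a ha) (hw1 a ha)
      one_mem' := ⟨one_mem _, one_mem _, fun a ha => by simp⟩
      inv_mem' := by
        rintro w ⟨hw, hwz, hw1⟩
        refine ⟨inv_mem hw, inv_mem hwz, fun a ha => ?_⟩
        have e : a * w⁻¹ * a⁻¹ * w⁻¹⁻¹ = w⁻¹ * (a * w * a⁻¹ * w⁻¹)⁻¹ * w⁻¹⁻¹ := by group
        rw [e, conj_zpowers (inv_mem hwz) (inv_mem (hw1 a ha))]
        exact inv_mem (hw1 a ha) }
  have hX : IsSub V z X :=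
    { z_mem := by
        refine ⟨h.ln.V_le_ws hz, h.ws_le_cent (h.ln.V_le_ws hz), fun a ha => ?_⟩
        rw [conj_zpowers ha.1 (mem_zpowers z), mul_inv_cancel]
        exact one_mem _
      le := fun _ hx => hx.1
      norm := by
        refine le_normalizer_of_forall fun c hc w hw => ?_
        have hcz : c * z * c⁻¹ = z := conj_eq_of_comm (mem_centralizer_singleton_iff.mp hc)
        refine ⟨?_, mul_mem (mul_mem hc hw.2.1) (inv_mem hc), fun a ha => ?_⟩
        · have := conj_mem_ws c hw.1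
          rwa [hcz] at this
        · have h1 := hw.2.2 _ (conj_mem_of_normalizer' hNn hc ha)
          have e : a * (c * w * c⁻¹) * a⁻¹ * (c * w * c⁻¹)⁻¹ =
              c * (c⁻¹ * a * c * w * (c⁻¹ * a * c)⁻¹ * w⁻¹) * c⁻¹ := by group
          rw [e, conj_zpowers hc h1]
          exact h1 }
  obtain ⟨y, hy, hy1, hyz⟩ := h.ln.exists_y
  have hXw : X = ws V z := by
    refine h.eq_ws_of_comm hX hy hy1 hyz fun a ha w hw => ?_
    have hal : a ∈ ll V z := ws_le_ll (h.mem_nb hy hy1 hyz) ha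
    have haz := hll hal
    have haw : a * w * a⁻¹ ∈ ws V z := by
      have := conj_mem_ws a hw
      rwa [conj_eq_of_comm (mem_centralizer_singleton_iff.mp haz)] at this
    have hd : a * w * a⁻¹ * w⁻¹ ∈ ws V z := mul_mem haw (inv_mem hw)
    refine ⟨hd, h.ws_le_cent hd, fun g hg => ?_⟩
    -- `g w g⁻¹ = c w`, `g a g⁻¹ = κ a`
    have hc := hg.2 w hw
    set c := g * w * g⁻¹ * w⁻¹ with hcdef
    have hcw : c ∈ ws V z := cm_le V z hc
    have hκ : g * a * g⁻¹ * a⁻¹ ∈ kq V z := by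
      refine hA ⟨?_, ?_⟩
      · have e : g * a * g⁻¹ * a⁻¹ = g * (a * g⁻¹ * a⁻¹) := by group
        rw [e]
        exact N.mul_mem hg (conj_mem_of_normalizer hNn haz (N.inv_mem hg))
      · exact (ll V z).mul_mem (conj_mem_of_normalizer (centralizer_le_normalizer_ll V z) hg.1 hal)
          ((ll V z).inv_mem hal)
    set κ := g * a * g⁻¹ * a⁻¹ with hκdef
    have h1 := h.mem_cm hc hal
    have hac : a * c * a⁻¹ ∈ ws V z := by
      have := conj_mem_ws a hcw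
      rwa [conj_eq_of_comm (mem_centralizer_singleton_iff.mp haz)] at this
    have hx : (a * c * a⁻¹) * (a * w * a⁻¹) ∈ ws V z := mul_mem hac haw
    have h2 := kq_comm hκ hx
    have hab := h.ab
    -- the commutator is `[κ, x] [a, c]` up to conjugation
    have e : g * (a * w * a⁻¹ * w⁻¹) * g⁻¹ * (a * w * a⁻¹ * w⁻¹)⁻¹ =
        (κ * ((a * c * a⁻¹) * (a * w * a⁻¹)) * κ⁻¹ * ((a * c * a⁻¹) * (a * w * a⁻¹))⁻¹) *
        ((a * c * a⁻¹) * ((a * w * a⁻¹) * (w⁻¹ * c⁻¹)) * (w * (a * w * a⁻¹)⁻¹)) := by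
      have e1 : g * a * g⁻¹ = κ * a := by rw [hκdef]; group
      have e2 : g * w * g⁻¹ = c * w := by rw [hcdef]; group
      have e3 : g * w⁻¹ * g⁻¹ = w⁻¹ * c⁻¹ := by rw [hcdef]; group
      have e4 : g * a⁻¹ * g⁻¹ = a⁻¹ * κ⁻¹ := by rw [hκdef]; group
      calc g * (a * w * a⁻¹ * w⁻¹) * g⁻¹ * (a * w * a⁻¹ * w⁻¹)⁻¹ =
          (g * a * g⁻¹) * (g * w * g⁻¹) * (g * a⁻¹ * g⁻¹) * (g * w⁻¹ * g⁻¹) * (a * w * a⁻¹ * w⁻¹)⁻¹ := by
            group
        _ = _ := by rw [e1, e2, e3, e4]; group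
    have e5 : (a * c * a⁻¹) * ((a * w * a⁻¹) * (w⁻¹ * c⁻¹)) * (w * (a * w * a⁻¹)⁻¹) =
        a * c * a⁻¹ * c⁻¹ := by
      set b := a * w * a⁻¹ with hb
      have f1 := hab _ (inv_mem hw) _ (inv_mem hcw)
      have f2 := hab _ haw _ (inv_mem hcw)
      calc (a * c * a⁻¹) * (b * (w⁻¹ * c⁻¹)) * (w * b⁻¹) =
          (a * c * a⁻¹) * (b * (c⁻¹ * w⁻¹)) * (w * b⁻¹) := by rw [f1]
        _ = (a * c * a⁻¹) * (b * c⁻¹) * b⁻¹ := by group
        _ = (a * c * a⁻¹) * (c⁻¹ * b) * b⁻¹ := by rw [f2]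
        _ = a * c * a⁻¹ * c⁻¹ := by group
    rw [e, e5]
    exact mul_mem h2 h1
  have hgN : g ∈ N := ⟨hg, hgw⟩
  have h8 : ∀ g ∈ N, ∀ w ∈ ws V z, g * w * g⁻¹ * w⁻¹ ∈ zpowers z := by
    intro g hg w hw
    rw [← hXw] at hw
    exact hw.2.2 g hg
  refine ⟨hg, h8 g hgN, fun w hw => ?_⟩
  have := h8 g⁻¹ (inv_mem hgN) w hw
  rwa [inv_inv] at this

end One

end Cfsg.Agent.Omega.NO3S.TwoOne
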