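import Cfsg.Agent.Omega.NO3S.Fit.Fix

/-!
# NO-3S, `q = 2`, `n = 1`: `C_G(W_x)` is a 2-group (helper881's text #17145, section 1)

For a family `h : Fam T V z cf` (so `x = z`, `G_x = cf z`, `K_x = qq V cf z`, `B_x = kk V cf z = C_G(W_x)`):
* `lx V cf z = ⟨W_p^c : p ∈ V#, c ∈ cf z⟩` (`L_x`, together with `W_x`);
* hypothesis (P) `hP : cf z ≤ lx V cf z ⊔ (N_G(V) ⊓ cf z)`;
* hypothesis (0.1) `he : e ∈ lx V cf z ⊓ qq V cf z`, `e ∉ C_G(V)`, `e * e = 1`;
* `Fam.kk_comm_lx` (1.1) : `[B_x, L_x] ≤ O₂(B_x)`;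
* `Fam.kk_inf_two` (1.2) : `B_p ⊓ B_q` is a 2-group for all points `p ≠ q` of `V`;
* `Fam.kk_two` (1.3) : `B_p` is a 2-group for every point `p` of `V`;
* `Fam.qq_two` : `K_p` is a 2-group;
* `Fam.qq_cent_le` : `[K_p, C_G(V)] ≤ O₂(C_G(V))`.
-/

set_option autoImplicit false
set_option linter.unusedSectionVars false

namespace Cfsg.Agent.Omega.NO3S.Fit

open Subgroup Cfsg Cfsg.Agent.ZN Cfsg.Agent.MinSimple.Geo Cfsg.Agent.Omega.CaseL
open Cfsg.Agent.ZN.Block (conj_mem_of_normalizer conj_mem_of_normalizer' le_normalizer_of_forall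
  mem_normalizer_of)

universe u

variable {G : Type u} [Group G]

/-! ### elements of odd order -/

theorem mem_of_pow_two {N : Subgroup G} {b : G} {k n : ℕ} (hn : Odd n) (h1 : b ^ n = 1)
    (h2 : b ^ 2 ^ k ∈ N) : b ∈ N := by
  have hc : Nat.Coprime (2 ^ k) n := Nat.Coprime.pow_left k (Nat.coprime_two_left.mpr hn)
  have h3 : ((2 ^ k : ℕ) : ℤ) * Nat.gcdA (2 ^ k) n + (n : ℤ) * Nat.gcdB (2 ^ k) n = 1 := by
    rw [← Nat.gcd_eq_gcd_ab, hc.gcd_eq_one]; rfl
  have h4 : b = (b ^ 2 ^ k) ^ Nat.gcdA (2 ^ k) n * (b ^ n) ^ Nat.gcdB (2 ^ k) n := by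
    rw [← zpow_natCast, ← zpow_natCast, ← zpow_mul, ← zpow_mul, ← zpow_add, h3, zpow_one]
  rw [h4, h1, one_zpow, mul_one]
  exact zpow_mem h2 _

/-- an element of odd order of `P N`, `P` a 2-group normalising `N`, lies in `N` -/
theorem mem_of_odd {N P : Subgroup G} (hP : IsPGroup 2 P) (hPN : P ≤ normalizer (N : Set G)) {b p c : G}
    (hp : p ∈ P) (hc : c ∈ N) (hb : b = p * c) {n : ℕ} (hn : Odd n) (h1 : b ^ n = 1) : b ∈ N := by
  obtain ⟨k, hk⟩ := hP ⟨p, hp⟩
  have hk' : p ^ 2 ^ k = 1 := congrArg Subtype.val hk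
  have key : ∀ m : ℕ, b ^ m * (p ^ m)⁻¹ ∈ N := by
    intro m
    induction m with
    | zero => simp
    | succ m ih =>
      have e : b ^ (m + 1) * (p ^ (m + 1))⁻¹ = (b ^ m * (p ^ m)⁻¹) * (p ^ (m + 1) * c * (p ^ (m + 1))⁻¹) := by
        rw [pow_succ b, pow_succ' p m, hb]
        have e1 : p * p ^ m = p ^ m * p := ((Commute.refl p).pow_right m).eq
        rw [e1]
        group
      rw [e]
      exact mul_mem ih (conj_mem_of_normalizer hPN (pow_mem hp _) hc)
  have h2 := key (2 ^ k)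
  rw [hk', inv_one, mul_one] at h2
  exact mem_of_pow_two hn h1 h2

/-- an element which acts on `w` as `1` or as multiplication with the central involution `q` and has odd order
centralises `w` -/
theorem odd_cent {b w q : G} (hbq : b * q = q * b) (hqq : q * q = 1)
    (h : b * w * b⁻¹ = w ∨ b * w * b⁻¹ = q * w) {n : ℕ} (hn : Odd n) (h1 : b ^ n = 1) : b * w = w * b := by
  rcases h with e | e
  · exact comm_of_conj_eq e
  · have h2 : b ^ 2 * w = w * b ^ 2 := by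
      have e1 : b * (q * w) * b⁻¹ = w := by
        calc b * (q * w) * b⁻¹ = (b * q) * w * b⁻¹ := by group
          _ = (q * b) * w * b⁻¹ := by rw [hbq]
          _ = q * (b * w * b⁻¹) := by group
          _ = (q * q) * w := by rw [e]; group
          _ = w := by rw [hqq, one_mul]
      rw [pow_two]
      calc b * b * w = b * (b * w * b⁻¹) * b⁻¹ * (b * b) := by group
        _ = b * (q * w) * b⁻¹ * (b * b) := by rw [e]
        _ = w * (b * b) := by rw [e1]
    have h3 : b ∈ centralizer ({w} : Set G) := by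
      refine mem_of_pow_two (k := 1) hn h1 ?_
      rw [pow_one, mem_centralizer_singleton_iff]
      exact h2
    exact mem_centralizer_singleton_iff.mp h3

/-! ### `L_x` -/

/-- `⟨W_p^c : p ∈ V#, c ∈ cf z⟩` -/
def lx (V : Subgroup G) (cf : G → Subgroup G) (z : G) : Subgroup G :=
  closure {a | ∃ c ∈ cf z, ∃ p ∈ V, p ≠ 1 ∧ c⁻¹ * a * c ∈ ww V cf p}

theorem ww_le_lx {V : Subgroup G} {cf : G → Subgroup G} {z p : G} (hp : p ∈ V) (hp1 : p ≠ 1) :
    ww V cf p ≤ lx V cf z := fun a ha => subset_closure ⟨1, one_mem _, p, hp, hp1, by simpa using ha⟩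

theorem cf_norm_lx (V : Subgroup G) (cf : G → Subgroup G) (z : G) :
    cf z ≤ normalizer ((lx V cf z : Subgroup G) : Set G) := by
  refine le_normalizer_of_forall fun d hd a ha => ?_
  have hle : lx V cf z ≤ cj d⁻¹ (lx V cf z) := by
    refine (closure_le _).mpr ?_
    rintro a ⟨c, hc, p, hp, hp1, ha⟩
    change a ∈ cj d⁻¹ _
    rw [mem_cj, inv_inv]
    refine subset_closure ⟨d * c, mul_mem hd hc, p, hp, hp1, ?_⟩
    have e : (d * c)⁻¹ * (d * a * d⁻¹) * (d * c) = c⁻¹ * a * c := by group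
    rw [e]; exact ha
  have := mem_cj.mp (hle ha)
  rwa [inv_inv] at this

theorem conj_cj {g x : G} : g * (g⁻¹ * x * g) * g⁻¹ = x := by group

/-- the elements which centralise all `W_p` -/
def kall (V : Subgroup G) (cf : G → Subgroup G) : Subgroup G where
  carrier := {b | ∀ p ∈ V, p ≠ 1 → b ∈ kk V cf p}
  mul_mem' := fun ha hb p hp hp1 => mul_mem (ha p hp hp1) (hb p hp hp1)
  one_mem' := fun _ _ _ => one_mem _
  inv_mem' := fun ha p hp hp1 => inv_mem (ha p hp hp1)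

namespace Fam

variable {T V : Subgroup G} {z : G} {cf : G → Subgroup G} {p q : G}

theorem lx_le (h : Fam T V z cf) : lx V cf z ≤ cf z := by
  refine (closure_le _).mpr ?_
  rintro a ⟨c, hc, p, hp, hp1, ha⟩
  have h1 := mul_mem (mul_mem hc (h.ww_le_cf' hp hp1 h.ln.z_mem h.ln.z_ne ha)) (inv_mem hc)
  have e : c * (c⁻¹ * a * c) * c⁻¹ = a := by group
  rw [e] at h1
  exact h1

/-- `C_G(V)` normalises `B_p` -/
theorem cent_norm_kk (h : Fam T V z cf) (hp : p ∈ V) (hp1 : p ≠ 1) :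
    centralizer (V : Set G) ≤ normalizer ((kk V cf p : Subgroup G) : Set G) :=
  (h.cent_le_cf hp hp1).trans h.cf_norm_kk

theorem isPGroup_ww [Finite G] (h : Fam T V z cf) (hp : p ∈ V) (hp1 : p ≠ 1) : IsPGroup 2 (ww V cf p) := by
  rintro ⟨a, ha⟩
  refine ⟨1, Subtype.ext ?_⟩
  change a ^ 2 ^ 1 = 1
  rw [pow_one, pow_two]
  exact h.sq hp hp1 a ha

/-- `W_p ∩ B_q ≤ O₂(B_q)` -/
theorem ww_inf_kk_le [Finite G] (h : Fam T V z cf) (hp : p ∈ V) (hp1 : p ≠ 1) :
    ww V cf p ⊓ kk V cf q ≤ o2 (kk V cf q) := by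
  refine le_o2 inf_le_right ((h.isPGroup_ww hp hp1).to_le inf_le_left) ?_
  refine le_normalizer_of_forall fun b hb w hw => ⟨?_, ?_⟩
  · exact conj_mem_of_normalizer (h.cent_norm hp hp1) (h.kk_le_cent hb) hw.1
  · exact (kk V cf q).mul_mem ((kk V cf q).mul_mem hb hw.2) ((kk V cf q).inv_mem hb)

/-- (1.1) `[B_x, L_x] ≤ O₂(B_x)` -/
theorem kk_comm_lx [Finite G] (h : Fam T V z cf) {l b : G} (hl : l ∈ lx V cf z) (hb : b ∈ kk V cf z) :
    l * b * l⁻¹ * b⁻¹ ∈ o2 (kk V cf z) := by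
  have hz := h.ln.z_mem
  have hz1 := h.ln.z_ne
  have hBn : cf z ≤ normalizer ((kk V cf z : Subgroup G) : Set G) := h.cf_norm_kk
  have hOn : cf z ≤ normalizer ((o2 (kk V cf z) : Subgroup G) : Set G) :=
    hBn.trans (normalizer_le_normalizer_o2 _)
  have hgen : ∀ l ∈ lx V cf z, ∀ b ∈ kk V cf z, l * b * l⁻¹ * b⁻¹ ∈ o2 (kk V cf z) := by
    intro l hl
    refine closure_induction
      (p := fun l _ => l ∈ cf z ∧ ∀ b ∈ kk V cf z, l * b * l⁻¹ * b⁻¹ ∈ o2 (kk V cf z)) ?_ ?_ ?_ ?_ hl |>.2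
    · rintro a ⟨c, hc, p, hp, hp1, ha⟩
      have hac : a ∈ cf z := h.lx_le (subset_closure ⟨c, hc, p, hp, hp1, ha⟩)
      refine ⟨hac, fun b hb => ?_⟩
      set w := c⁻¹ * a * c with hw
      have hb' : c⁻¹ * b * c ∈ kk V cf z := conj_mem_of_normalizer' hBn hc hb
      have hwV := h.ww_le_cent hp hp1 ha
      have h1 : w * (c⁻¹ * b * c) * w⁻¹ * (c⁻¹ * b * c)⁻¹ ∈ ww V cf p ⊓ kk V cf z := by
        constructor
        · have e : w * (c⁻¹ * b * c) * w⁻¹ * (c⁻¹ * b * c)⁻¹ =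
              w * ((c⁻¹ * b * c) * w⁻¹ * (c⁻¹ * b * c)⁻¹) := by group
          rw [e]
          exact mul_mem ha (conj_mem_of_normalizer (h.cent_norm hp hp1) (h.kk_le_cent hb') (inv_mem ha))
        · exact (kk V cf z).mul_mem (conj_mem_of_normalizer (h.cent_norm_kk hz hz1) hwV hb')
            ((kk V cf z).inv_mem hb')
      have h2 := h.ww_inf_kk_le hp hp1 h1
      have h3 := conj_mem_of_normalizer hOn hc h2
      have e : c * (w * (c⁻¹ * b * c) * w⁻¹ * (c⁻¹ * b * c)⁻¹) * c⁻¹ = a * b * a⁻¹ * b⁻¹ := by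
        rw [hw]; group
      rwa [e] at h3
    · exact ⟨one_mem _, fun b _ => by simp⟩
    · rintro a a' - - ⟨ha, iha⟩ ⟨ha', iha'⟩
      refine ⟨mul_mem ha ha', fun b hb => ?_⟩
      have e : a * a' * b * (a * a')⁻¹ * b⁻¹ = a * (a' * b * a'⁻¹ * b⁻¹) * a⁻¹ * (a * b * a⁻¹ * b⁻¹) := by
        group
      rw [e]
      exact mul_mem (conj_mem_of_normalizer hOn ha (iha' b hb)) (iha b hb)
    · rintro a - ⟨ha, iha⟩
      refine ⟨inv_mem ha, fun b hb => ?_⟩
      have e : a⁻¹ * b * a⁻¹⁻¹ * b⁻¹ = a⁻¹ * (a * b * a⁻¹ * b⁻¹)⁻¹ * a := by group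
      rw [e]
      exact conj_mem_of_normalizer' hOn ha (inv_mem (iha b hb))
  exact hgen l hl b hb

theorem mem_kall (h : Fam T V z cf) (hp : p ∈ V) (hp1 : p ≠ 1) (hq : q ∈ V) (hq1 : q ≠ 1) (hqp : q ≠ p)
    {b : G} (h1 : b ∈ kk V cf p) (h2 : b ∈ kk V cf q) (h3 : b ∈ kk V cf (p * q)) : b ∈ kall V cf := by
  intro r hr hr1
  rcases h.ln.four hp hq hp1 hq1 (Ne.symm hqp) hr with e | e | e | e
  · exact absurd e hr1
  · rw [e]; exact h1
  · rw [e]; exact h2
  · rw [e]; exact h3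

theorem kall_le_kk (_ : Fam T V z cf) (hp : p ∈ V) (hp1 : p ≠ 1) : kall V cf ≤ kk V cf p :=
  fun _ hb => hb p hp hp1

theorem norm_kall (h : Fam T V z cf) :
    normalizer (V : Set G) ≤ normalizer ((kall V cf : Subgroup G) : Set G) := by
  refine le_normalizer_of_forall fun g hg b hb p hp hp1 => ?_
  have := h.conj_kk hg (h.conj_pt' hg hp) (conj_ne' hp1) (hb _ (h.conj_pt' hg hp) (conj_ne' hp1))
  have e : g * (g⁻¹ * p * g) * g⁻¹ = p := by group
  rwa [e] at this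

/-- a subgroup normalised by `N_G(V)` and `cf z` which centralises `W_y` is trivial -/
theorem eq_bot_of_norm [Finite G] (h : Fam T V z cf) {D : Subgroup G} {y : G} (hy : y ∈ V) (hy1 : y ≠ 1)
    (hyz : y ≠ z) (hDy : D ≤ kk V cf y) (hN : normalizer (V : Set G) ≤ normalizer (D : Set G))
    (hC : cf z ≤ normalizer (D : Set G)) : D = ⊥ := by
  by_contra hne
  have hz := h.ln.z_mem
  have hz1 := h.ln.z_ne
  have hDV : D ≤ normalizer (V : Set G) := hDy.trans (h.kk_le_cent.trans (centralizer_le_normalizer _))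
  have hzD := h.ln.z_mem_of_normal hDV hN hne
  have hVD : V ≤ D := by
    intro v hv
    by_cases hv1 : v = 1
    · rw [hv1]; exact one_mem _
    obtain ⟨g, hg, rfl⟩ := h.ln.trans v hv hv1
    exact conj_mem_of_normalizer hN hg hzD
  have hWD : ww V cf z ≤ D := by
    refine wf_le fun c hc x hx => ?_
    rw [mem_cj] at hx
    have := conj_mem_of_normalizer hC hc (hVD hx)
    have e : c * (c⁻¹ * x * c) * c⁻¹ = x := by group
    rwa [e] at this
  obtain ⟨y', hy', hy1', hyz', a, ha, b, hb, hab⟩ := h.nc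
  -- `W_z` centralises `W_y`, hence `W_{y'}`
  have hcom : ∀ a ∈ ww V cf z, ∀ b ∈ ww V cf y, a * b = b * a := by
    intro a ha b hb
    exact (mem_centralizer_iff.mp (hDy (hWD ha)) b hb).symm
  rcases h.ln.four hz hy hz1 hy1 (Ne.symm hyz) hy' with e | e | e | e
  · exact hy1' e
  · exact hyz' e
  · rw [e] at hb; exact hab (hcom a ha b hb)
  · obtain ⟨k, hk, hk1⟩ := h.exists_mover hz hz1
    have e1 := h.move hz hz1 hy hy1 hyz hk hk1
    have hkn := h.qq_le_normalizer hz hk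
    rw [e, ← e1] at hb
    have hb' : k⁻¹ * b * k ∈ ww V cf y := by
      have h1 := h.conj_ww (inv_mem hkn) (h.conj_pt hkn hy) (conj_ne hy1) hb
      have e2 : k⁻¹ * (k * y * k⁻¹) * k⁻¹⁻¹ = y := by group
      rwa [e2, inv_inv] at h1
    have ha' : k⁻¹ * a * k ∈ ww V cf z := by
      have := h.conj_ww (inv_mem hkn) hz hz1 ha
      have e2 : k⁻¹ * z * k⁻¹⁻¹ = z := by
        rw [inv_inv]
        have := h.qq_p hk
        calc k⁻¹ * z * k = k⁻¹ * (z * k) := by group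
          _ = k⁻¹ * (k * z) := by rw [this]
          _ = z := by group
      rwa [e2, inv_inv] at this
    have h2 := hcom _ ha' _ hb'
    apply hab
    calc a * b = k * ((k⁻¹ * a * k) * (k⁻¹ * b * k)) * k⁻¹ := by group
      _ = k * ((k⁻¹ * b * k) * (k⁻¹ * a * k)) * k⁻¹ := by rw [h2]
      _ = b * a := by group

/-- (0.1): a mover in `L_x ∩ K_x` exists as soon as `[W_p ∩ K_x, W_x] ≠ 1` -/
theorem exists_e (h : Fam T V z cf) (hp : p ∈ V) (hp1 : p ≠ 1) {e₀ w : G} (he₀ : e₀ ∈ ww V cf p)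
    (he₁ : e₀ ∈ qq V cf z) (hw : w ∈ ww V cf z) (hne : e₀ * w ≠ w * e₀) :
    ∃ e ∈ lx V cf z, e ∈ qq V cf z ∧ e ∉ centralizer (V : Set G) ∧ e * e = 1 := by
  by_contra hcon
  push Not at hcon
  have hz := h.ln.z_mem
  have hz1 := h.ln.z_ne
  apply hne
  have hle : ww V cf z ≤ centralizer ({e₀} : Set G) := by
    refine wf_le fun c hc x hx => ?_
    rw [mem_cj] at hx
    have h1 : c⁻¹ * e₀ * c ∈ lx V cf z := by
      refine subset_closure ⟨c⁻¹, inv_mem hc, p, hp, hp1, ?_⟩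
      have e2 : c⁻¹⁻¹ * (c⁻¹ * e₀ * c) * c⁻¹ = e₀ := by group
      rw [e2]; exact he₀
    have h2 : c⁻¹ * e₀ * c ∈ qq V cf z := conj_mem_of_normalizer' (h.cf_norm_qq hz hz1) hc he₁
    have h3 : c⁻¹ * e₀ * c * (c⁻¹ * e₀ * c) = 1 := by
      calc c⁻¹ * e₀ * c * (c⁻¹ * e₀ * c) = c⁻¹ * (e₀ * e₀) * c := by group
        _ = 1 := by rw [h.sq hp hp1 e₀ he₀]; group
    have h4 : c⁻¹ * e₀ * c ∈ centralizer (V : Set G) := by
      by_contra hn
      exact hcon _ h1 h2 hn h3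
    have h5 := mem_centralizer_iff.mp h4 _ hx
    rw [mem_centralizer_singleton_iff]
    calc x * e₀ = c * ((c⁻¹ * x * c) * (c⁻¹ * e₀ * c)) * c⁻¹ := by group
      _ = c * ((c⁻¹ * e₀ * c) * (c⁻¹ * x * c)) * c⁻¹ := by rw [h5]
      _ = e₀ * x := by group
  exact (mem_centralizer_singleton_iff.mp (hle hw)).symm

/-- (0.1), (P) : the data for section 1 -/
structure HypB (V : Subgroup G) (z : G) (cf : G → Subgroup G) (e : G) : Prop where
  prod : cf z ≤ lx V cf z ⊔ (normalizer (V : Set G) ⊓ cf z)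
  lx : e ∈ lx V cf z
  qq : e ∈ qq V cf z
  move : e ∉ centralizer (V : Set G)
  sq : e * e = 1

section B

variable [Finite G] (h : Fam T V z cf) {e : G} (H : HypB V z cf e)
include h H

/-- an element of odd order of `B_z ∩ B_y` is in `B_{zy}` -/
theorem odd_kk {y b : G} (hy : y ∈ V) (hy1 : y ≠ 1) (hyz : y ≠ z) (hb : b ∈ kk V cf z) (hb' : b ∈ kk V cf y)
    {n : ℕ} (hn : Odd n) (h1 : b ^ n = 1) : b ∈ kk V cf (z * y) := by
  have hz := h.ln.z_mem
  have hz1 := h.ln.z_ne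
  have hs : z * y ∈ V := mul_mem hz hy
  have hs1 : z * y ≠ 1 := h.mul_ne_one hy (Ne.symm hyz)
  have hen := h.qq_le_normalizer hz H.qq
  have e1 := h.move hz hz1 hy hy1 hyz H.qq H.move
  have e0 : e * z * e⁻¹ = z := conj_eq_of_comm (h.qq_p H.qq)
  have hc1 := h.conj_kk hen hz hz1 hb
  rw [e0] at hc1
  have hc2 := h.conj_kk hen hy hy1 hb'
  rw [e1] at hc2
  have h2 := h.kk_comm_lx H.lx hb
  refine mem_of_odd (P := o2 (kk V cf z)) (isPGroup_o2 _) ?_ (inv_mem h2) hc2 ?_ hn h1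
  · exact ((o2_le _).trans h.kk_le_cent).trans (h.cent_norm_kk hs hs1)
  · group

/-- (1.2) an element of odd order of `B_z ∩ B_y` is trivial -/
theorem kk_inf_aux {y b : G} (hy : y ∈ V) (hy1 : y ≠ 1) (hyz : y ≠ z) (hb : b ∈ kk V cf z)
    (hb' : b ∈ kk V cf y) {n : ℕ} (hn : Odd n) (h1 : b ^ n = 1) : b = 1 := by
  have hz := h.ln.z_mem
  have hz1 := h.ln.z_ne
  have hball : b ∈ kall V cf :=
    h.mem_kall hz hz1 hy hy1 hyz hb hb' (h.odd_kk H hy hy1 hyz hb hb' hn h1)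
  let D : Subgroup G := closure {b | b ∈ kall V cf ∧ ∃ n : ℕ, Odd n ∧ b ^ n = 1}
  have hgen : ∀ (N : Subgroup G), (∀ g ∈ N, ∀ b ∈ kall V cf, ∀ n : ℕ, Odd n → b ^ n = 1 →
      g * b * g⁻¹ ∈ kall V cf) → N ≤ normalizer (D : Set G) := by
    intro N hN
    refine le_normalizer_of_forall fun g hg d hd => ?_
    refine closure_induction (p := fun d _ => g * d * g⁻¹ ∈ D) ?_ ?_ ?_ ?_ hd
    · rintro b ⟨hb, n, hn, h1⟩
      refine subset_closure ⟨hN g hg b hb n hn h1, n, hn, ?_⟩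
      rw [conj_pow, h1]; group
    · simp
    · intro a b _ _ ha hb
      have e : g * (a * b) * g⁻¹ = (g * a * g⁻¹) * (g * b * g⁻¹) := by group
      rw [e]; exact mul_mem ha hb
    · intro a _ ha
      have e : g * a⁻¹ * g⁻¹ = (g * a * g⁻¹)⁻¹ := by group
      rw [e]; exact inv_mem ha
  have hDall : D ≤ kall V cf := (closure_le _).mpr fun _ hb => hb.1
  have hND : normalizer (V : Set G) ≤ normalizer (D : Set G) :=
    hgen _ fun g hg b hb _ _ _ => conj_mem_of_normalizer h.norm_kall hg hb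
  have hLD : lx V cf z ≤ normalizer (D : Set G) := by
    refine hgen _ fun l hl b hb n hn h1 => ?_
    have h2 := h.kk_comm_lx hl (hb z hz hz1)
    refine mem_of_odd (P := o2 (kk V cf z)) (isPGroup_o2 _) ?_ h2 hb (n := n) ?_ hn ?_
    · exact (((o2_le _).trans h.kk_le_cent).trans (centralizer_le_normalizer _)).trans h.norm_kall
    · group
    · rw [conj_pow, h1]; group
  have hCD : cf z ≤ normalizer (D : Set G) :=
    H.prod.trans (sup_le hLD (inf_le_left.trans hND))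
  have hD : D = ⊥ := h.eq_bot_of_norm hy hy1 hyz (hDall.trans (h.kall_le_kk hy hy1)) hND hCD
  have hbD : b ∈ D := subset_closure ⟨hball, n, hn, h1⟩
  rw [hD] at hbD
  exact mem_bot.mp hbD

/-- (1.2) at all points -/
theorem kk_inf_odd {b : G} (hp : p ∈ V) (hp1 : p ≠ 1) (hq : q ∈ V) (hq1 : q ≠ 1) (hqp : q ≠ p)
    (hb : b ∈ kk V cf p) (hb' : b ∈ kk V cf q) {n : ℕ} (hn : Odd n) (h1 : b ^ n = 1) : b = 1 := by
  obtain ⟨g, hg, hgp, -⟩ := h.point hp hp1
  have hgi := inv_mem hg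
  have h2 := h.conj_kk hgi hp hp1 hb
  have h3 := h.conj_kk hgi hq hq1 hb'
  have e2 : g⁻¹ * p * g⁻¹⁻¹ = z := by rw [← hgp]; group
  rw [e2] at h2
  have h4 : g⁻¹ * q * g⁻¹⁻¹ ∈ V := h.conj_pt hgi hq
  have h5 : g⁻¹ * q * g⁻¹⁻¹ ≠ 1 := conj_ne hq1
  have h6 : g⁻¹ * q * g⁻¹⁻¹ ≠ z := fun e' => hqp (by
    rw [← e2] at e'
    simpa using e')
  have h7 := h.kk_inf_aux H h4 h5 h6 h2 h3 hn (by rw [conj_pow, h1]; group)
  exact conj_eq_one_iff.mp h7

/-- a subgroup without elements of odd order is a 2-group -/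
theorem kk_inf_two (hp : p ∈ V) (hp1 : p ≠ 1) (hq : q ∈ V) (hq1 : q ≠ 1) (hqp : q ≠ p) :
    IsPGroup 2 ((kk V cf p ⊓ kk V cf q : Subgroup G)) := by
  rintro ⟨b, hb⟩
  obtain ⟨k, m, hm, hkm⟩ := Nat.exists_eq_two_pow_mul_odd (n := orderOf b) (orderOf_pos _).ne'
  refine ⟨k, Subtype.ext ?_⟩
  change b ^ 2 ^ k = 1
  refine h.kk_inf_odd H hp hp1 hq hq1 hqp (pow_mem hb.1 _) (pow_mem hb.2 _) hm ?_
  rw [← pow_mul, ← hkm, pow_orderOf_eq_one]

/-- (1.3) `B_y` has no element of odd order, `y ≠ z` -/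
theorem kk_odd_aux {y b : G} (hy : y ∈ V) (hy1 : y ≠ 1) (hyz : y ≠ z) (hb : b ∈ kk V cf y)
    {n : ℕ} (hn : Odd n) (h1 : b ^ n = 1) : b = 1 := by
  have hz := h.ln.z_mem
  have hz1 := h.ln.z_ne
  have hs : z * y ∈ V := mul_mem hz hy
  have hs1 : z * y ≠ 1 := h.mul_ne_one hy (Ne.symm hyz)
  have hsy : z * y ≠ y := fun e' => hz1 (by simpa using e')
  have hen := h.qq_le_normalizer hz H.qq
  have e1 := h.move hz hz1 hy hy1 hyz H.qq H.move
  set CV := centralizer (V : Set G) with hCV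
  set O := o2 CV with hO
  have hOp : IsPGroup 2 O := isPGroup_o2 _
  have hOCV : O ≤ CV := o2_le _
  have hNCV : normalizer (V : Set G) ≤ normalizer ((CV : Subgroup G) : Set G) :=
    normalizer_le_normalizer_centralizer V
  have hNO : normalizer (V : Set G) ≤ normalizer ((O : Subgroup G) : Set G) :=
    hNCV.trans (normalizer_le_normalizer_o2 _)
  have hCO : CV ≤ normalizer ((O : Subgroup G) : Set G) := (centralizer_le_normalizer _).trans hNO
  have hbV : b ∈ CV := h.kk_le_cent hb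
  -- `f = b^e`
  set f := e * b * e⁻¹ with hf
  have hfs : f ∈ kk V cf (z * y) := by
    have := h.conj_kk hen hy hy1 hb
    rwa [e1] at this
  have hfV : f ∈ CV := h.kk_le_cent hfs
  have hfn : f ^ n = 1 := by rw [hf, conj_pow, h1]; group
  -- `B_y ∩ B_s ≤ O`
  have hle : kk V cf y ⊓ kk V cf (z * y) ≤ O := by
    refine le_o2 (inf_le_left.trans h.kk_le_cent) (h.kk_inf_two H hy hy1 hs hs1 hsy) ?_
    refine le_normalizer_of_forall fun c hc x hx => ⟨?_, ?_⟩
    · exact conj_mem_of_normalizer (h.cent_norm_kk hy hy1) hc hx.1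
    · exact conj_mem_of_normalizer (h.cent_norm_kk hs hs1) hc hx.2
  -- `P = O₂(B_z) ≤ O`
  have hPO : o2 (kk V cf z) ≤ O := by
    refine le_o2 ((o2_le _).trans h.kk_le_cent) (isPGroup_o2 _) ?_
    exact (h.cent_norm_kk hz hz1).trans (normalizer_le_normalizer_o2 _)
  -- `d = f b⁻¹`
  set d := f * b⁻¹ with hd
  have hdV : d ∈ CV := mul_mem hfV (inv_mem hbV)
  have hbc : b ∈ cf z := h.cent_le_cf hz hz1 hbV
  have hdq : d ∈ qq V cf z := by
    have e2 : d = e * (b * e⁻¹ * b⁻¹) := by rw [hd, hf]; group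
    rw [e2]
    exact mul_mem H.qq (conj_mem_of_normalizer (h.cf_norm_qq hz hz1) hbc (inv_mem H.qq))
  -- `d² ∈ B_z`
  have hdd : d ^ 2 ∈ kk V cf z := by
    rw [mem_centralizer_iff]
    intro w hw
    have hzz := h.ln.sq z hz
    have hdz := h.qq_p hdq
    rw [pow_two]
    rcases h.qq_cases hz hdq hw with e2 | e2
    · have e3 := comm_of_conj_eq e2
      calc w * (d * d) = (w * d) * d := by group
        _ = (d * w) * d := by rw [e3]
        _ = d * (w * d) := by group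
        _ = d * (d * w) := by rw [e3]
        _ = d * d * w := by group
    · have e3 : d * w = z * w * d := by
        calc d * w = d * w * d⁻¹ * d := by group
          _ = z * w * d := by rw [e2]
      calc w * (d * d) = (z * z) * (w * d * d) := by rw [hzz]; group
        _ = z * (z * w * d) * d := by group
        _ = z * (d * w) * d := by rw [e3]
        _ = (z * d) * w * d := by group
        _ = (d * z) * w * d := by rw [hdz]
        _ = d * (z * w * d) := by group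
        _ = d * (d * w) := by rw [e3]
        _ = d * d * w := by group
  -- modulo `O` : work in `N_G(O) / O`
  set N := normalizer ((O : Subgroup G) : Set G) with hN
  have heN : e ∈ N := hNO hen
  have hbN : b ∈ N := hCO hbV
  have hfN : f ∈ N := hCO hfV
  have hdN : d ∈ N := hCO hdV
  let π : N →* N ⧸ (O.subgroupOf N) := QuotientGroup.mk' _
  have hON : O ≤ N := le_normalizer
  have hker : ∀ x : N, π x = 1 ↔ (x : G) ∈ O := fun x => by
    rw [QuotientGroup.mk'_apply, QuotientGroup.eq_one_iff, mem_subgroupOf]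
  have hπ : ∀ x y : N, (x : G) * (y : G)⁻¹ ∈ O → π x = π y := fun x y hxy => by
    have : π (x * y⁻¹) = 1 := (hker _).mpr hxy
    rw [map_mul, map_inv, mul_inv_eq_one] at this
    exact this
  set B : N := ⟨b, hbN⟩ with hB
  set F : N := ⟨f, hfN⟩ with hF
  set D : N := ⟨d, hdN⟩ with hD
  set E : N := ⟨e, heN⟩ with hE
  have hDFB : D = F * B⁻¹ := Subtype.ext hd
  have hFE : F = E * B * E⁻¹ := Subtype.ext hf
  have hcomm : π B * π F = π F * π B := by
    rw [← map_mul, ← map_mul]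
    refine hπ _ _ (hle ⟨?_, ?_⟩)
    · change b * f * (f * b)⁻¹ ∈ _
      have e2 : b * f * (f * b)⁻¹ = b * (f * b⁻¹ * f⁻¹) := by group
      rw [e2]
      exact mul_mem hb (conj_mem_of_normalizer (h.cent_norm_kk hy hy1) hfV (inv_mem hb))
    · change b * f * (f * b)⁻¹ ∈ _
      have e2 : b * f * (f * b)⁻¹ = (b * f * b⁻¹) * f⁻¹ := by group
      rw [e2]
      exact (kk V cf (z * y)).mul_mem (conj_mem_of_normalizer (h.cent_norm_kk hs hs1) hbV hfs)
        ((kk V cf (z * y)).inv_mem hfs)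
  have hBn : π B ^ n = 1 := by
    rw [← map_pow]
    have : B ^ n = 1 := Subtype.ext h1
    rw [this, map_one]
  have hFn : π F ^ n = 1 := by
    rw [← map_pow]
    have : F ^ n = 1 := Subtype.ext hfn
    rw [this, map_one]
  have hDn : π D ^ n = 1 := by
    rw [hDFB, map_mul, map_inv]
    have hc : Commute (π F) (π B)⁻¹ := (show Commute (π F) (π B) from hcomm.symm).inv_right
    rw [hc.mul_pow, hFn, inv_pow, hBn, inv_one, mul_one]
  -- `π E` centralises `π (d²)`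
  have hED2 : π E * π D ^ 2 * (π E)⁻¹ = π D ^ 2 := by
    rw [← map_pow, ← map_inv, ← map_mul, ← map_mul]
    refine hπ _ _ (hPO ?_)
    change e * d ^ 2 * e⁻¹ * (d ^ 2)⁻¹ ∈ _
    exact h.kk_comm_lx H.lx hdd
  -- so it centralises `π D`
  have hED : π E * π D * (π E)⁻¹ = π D := by
    have hDD : π D = (π D ^ 2) ^ ((n + 1) / 2) := by
      rw [← pow_mul]
      obtain ⟨k, rfl⟩ := hn
      have : 2 * ((2 * k + 1 + 1) / 2) = (2 * k + 1) + 1 := by omega
      rw [this, pow_succ, hDn, one_mul]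
    rw [hDD, ← conj_pow, hED2]
  have hFDB : π F = π D * π B := by
    rw [hDFB, map_mul, map_inv, inv_mul_cancel_right]
  have hEE : π E * π E = 1 := by
    rw [← map_mul]
    have : E * E = 1 := Subtype.ext H.sq
    rw [this, map_one]
  have hEBE : π E * π B * (π E)⁻¹ = π F := by
    rw [hFE, map_mul, map_mul, map_inv]
  have hD2 : π D ^ 2 = 1 := by
    -- apply `E` twice
    have h2 : π E * π F * (π E)⁻¹ = π B := by
      rw [← hEBE]
      have hEi : (π E)⁻¹ = π E := inv_eq_of_mul_eq_one_left hEE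
      rw [hEi]
      calc π E * (π E * π B * π E) * π E = (π E * π E) * π B * (π E * π E) := by group
        _ = π B := by rw [hEE]; group
    have h3 : π E * π F * (π E)⁻¹ = π D * (π D * π B) := by
      rw [hFDB]
      calc π E * (π D * π B) * (π E)⁻¹ = (π E * π D * (π E)⁻¹) * (π E * π B * (π E)⁻¹) := by group
        _ = π D * (π D * π B) := by rw [hED, hEBE, hFDB]
    rw [h3, ← mul_assoc] at h2
    rw [pow_two]
    exact mul_eq_right.mp h2
  have hD1 : π D = 1 := by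
    obtain ⟨k, rfl⟩ := hn
    have := hDn
    rwa [pow_succ, pow_mul, hD2, one_pow, one_mul] at this
  have hdO : d ∈ O := (hker D).mp hD1
  -- `b = d⁻¹ f ∈ O B_s`
  have hbs : b ∈ kk V cf (z * y) := by
    refine mem_of_odd hOp ?_ (inv_mem hdO) hfs ?_ hn h1
    · exact hOCV.trans (h.cent_norm_kk hs hs1)
    · rw [hd]; group
  exact h.kk_inf_odd H hy hy1 hs hs1 hsy hb hbs hn h1

/-- (1.3) `B_p` has no element of odd order -/
theorem kk_odd {b : G} (hp : p ∈ V) (hp1 : p ≠ 1) (hb : b ∈ kk V cf p) {n : ℕ} (hn : Odd n)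
    (h1 : b ^ n = 1) : b = 1 := by
  obtain ⟨y, hy, hy1, hyz⟩ := h.ln.exists_y
  obtain ⟨g, hg, hgp, -⟩ := h.point hp hp1
  obtain ⟨k, hk, hky, -⟩ := h.point hy hy1
  have hgk : k * g⁻¹ ∈ normalizer (V : Set G) := mul_mem hk (inv_mem hg)
  have h2 := h.conj_kk hgk hp hp1 hb
  have e2 : k * g⁻¹ * p * (k * g⁻¹)⁻¹ = y := by rw [← hgp, ← hky]; group
  rw [e2] at h2
  have h7 := h.kk_odd_aux H hy hy1 hyz h2 hn (by rw [conj_pow, h1]; group)
  exact conj_eq_one_iff.mp h7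

/-- **(1.3) `B_p = C_G(W_p)` is a 2-group.** -/
theorem kk_two (hp : p ∈ V) (hp1 : p ≠ 1) : IsPGroup 2 (kk V cf p) := by
  rintro ⟨b, hb⟩
  obtain ⟨k, m, hm, hkm⟩ := Nat.exists_eq_two_pow_mul_odd (n := orderOf b) (orderOf_pos _).ne'
  refine ⟨k, Subtype.ext ?_⟩
  change b ^ 2 ^ k = 1
  refine h.kk_odd H hp hp1 (pow_mem hb _) hm ?_
  rw [← pow_mul, ← hkm, pow_orderOf_eq_one]

/-- `K_p` is a 2-group. -/
theorem qq_two (hp : p ∈ V) (hp1 : p ≠ 1) : IsPGroup 2 (qq V cf p) := by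
  rintro ⟨d, hd⟩
  have hpp := h.ln.sq p hp
  have hdp := h.qq_p hd
  have hdd : d ^ 2 ∈ kk V cf p := by
    rw [mem_centralizer_iff]
    intro w hw
    rw [pow_two]
    rcases h.qq_cases hp hd hw with e2 | e2
    · have e3 := comm_of_conj_eq e2
      calc w * (d * d) = (w * d) * d := by group
        _ = (d * w) * d := by rw [e3]
        _ = d * (w * d) := by group
        _ = d * (d * w) := by rw [e3]
        _ = d * d * w := by group
    · have e3 : d * w = p * w * d := by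
        calc d * w = d * w * d⁻¹ * d := by group
          _ = p * w * d := by rw [e2]
      calc w * (d * d) = (p * p) * (w * d * d) := by rw [hpp]; group
        _ = p * (p * w * d) * d := by group
        _ = p * (d * w) * d := by rw [e3]
        _ = (p * d) * w * d := by group
        _ = (d * p) * w * d := by rw [hdp]
        _ = d * (p * w * d) := by group
        _ = d * (d * w) := by rw [e3]
        _ = d * d * w := by group
  obtain ⟨k, hk⟩ := h.kk_two H hp hp1 ⟨d ^ 2, hdd⟩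
  refine ⟨k + 1, Subtype.ext ?_⟩
  have h2 : (d ^ 2) ^ 2 ^ k = 1 := congrArg Subtype.val hk
  change d ^ 2 ^ (k + 1) = 1
  rw [pow_succ', pow_mul]
  exact h2

/-- `K_p ∩ C_G(V) ≤ O₂(C_G(V))` -/
theorem qq_inf_le (hp : p ∈ V) (hp1 : p ≠ 1) :
    qq V cf p ⊓ centralizer (V : Set G) ≤ o2 (centralizer (V : Set G)) := by
  refine le_o2 inf_le_right ((h.qq_two H hp hp1).to_le inf_le_left) ?_
  refine le_normalizer_of_forall fun c hc x hx =>
    ⟨?_, (centralizer (V : Set G)).mul_mem ((centralizer (V : Set G)).mul_mem hc hx.2) (inv_mem hc)⟩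
  exact conj_mem_of_normalizer (h.cf_norm_qq hp hp1) (h.cent_le_cf hp hp1 hc) hx.1

/-- `[K_p, C_G(V)] ≤ O₂(C_G(V))` -/
theorem qq_cent_le (hp : p ∈ V) (hp1 : p ≠ 1) {k c : G} (hk : k ∈ qq V cf p)
    (hc : c ∈ centralizer (V : Set G)) : k * c * k⁻¹ * c⁻¹ ∈ o2 (centralizer (V : Set G)) := by
  refine h.qq_inf_le H hp hp1 ⟨?_, ?_⟩
  · have e2 : k * c * k⁻¹ * c⁻¹ = k * (c * k⁻¹ * c⁻¹) := by group
    rw [e2]
    exact mul_mem hk (conj_mem_of_normalizer (h.cf_norm_qq hp hp1) (h.cent_le_cf hp hp1 hc) (inv_mem hk))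
  · exact (centralizer (V : Set G)).mul_mem (conj_mem_of_normalizer
      (normalizer_le_normalizer_centralizer V) (h.qq_le_normalizer hp hk) hc) (inv_mem hc)

end B

end Fam

end Cfsg.Agent.Omega.NO3S.Fit
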