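import Cfsg.Agent.Omega.NO3S.TwoOne.BTwo

/-!
# NO-3S, `q = 2`, `n = 1`: `C_G(W_x)` is a 2-group WITHOUT hypothesis (P) (helper409's text #17866, (N2))

For a family `h : Fam T V z cf` and a mover `e ∈ L_x ∩ K_x`, `e * e = 1` (`HypE V z cf e`, i.e. `HypB` without the field
`prod`); the conclusions of `BTwo.lean` hold:
* `Fam.kk_inf_kall` : an element of odd order of `B_p ∩ B_q` (`p ≠ q`) centralises all `W_r`, `r ∈ V#`;
* `Fam.kk_two'` : `B_p = C_G(W_p)` is a 2-group for every point `p` of `V`;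
* `Fam.qq_two'` : `K_p` is a 2-group;
* `Fam.qq_inf_le'`, `Fam.qq_cent_le'` : `K_p ∩ C_G(V) ≤ O₂(C_G(V))`, `[K_p, C_G(V)] ≤ O₂(C_G(V))`.

Proof (shorter than (N2)): `Θ := ⟨elements of odd order of all B_p⟩ ⊴ N_G(V)`; `O/Θ := O₂(C_G(V)/Θ)`.  For `b ∈ B_y` of odd
order and `f = b^e`: `[b, f] ∈ B_y ∩ B_s ≤ O`, so `f b⁻¹` has odd order modulo `O`, its square is in `B_x`, `e` centralises it
modulo `O₂(B_x) ≤ O`, so `f b⁻¹ ∈ O` and `b ∈ B_y ∩ O B_s`, `b ∈ B_s`, `b ∈ Θ`.  So `O²(B_p) = Θ` for every `p`, normal in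
`C_G(x)` and `N_G(V)`, hence trivial.
-/

set_option autoImplicit false
set_option linter.unusedSectionVars false

namespace Cfsg.Agent.Omega.NO3S.Fit

open Subgroup Cfsg Cfsg.Agent.ZN Cfsg.Agent.MinSimple.Geo Cfsg.Agent.Omega.CaseL
open Cfsg.Agent.ZN.Block (conj_mem_of_normalizer conj_mem_of_normalizer' le_normalizer_of_forall
  mem_normalizer_of)

universe u

variable {G : Type u} [Group G]

/-! ### 2-groups modulo `Θ` -/

/-- `X` is a subgroup of `C`, normalised by `C`, every element of which has a 2-power in `Θ` -/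
structure TM (Θ C X : Subgroup G) : Prop where
  ge : Θ ≤ X
  le : X ≤ C
  nm : C ≤ normalizer (X : Set G)
  tw : ∀ x ∈ X, ∃ k : ℕ, x ^ 2 ^ k ∈ Θ

theorem mul_pow_mem {X : Subgroup G} {x y : G} (hy : y ∈ normalizer (X : Set G)) (hx : x ∈ X) (m : ℕ) :
    (x * y) ^ m * (y ^ m)⁻¹ ∈ X := by
  have hyy : zpowers y ≤ normalizer (X : Set G) := (zpowers_le).mpr hy
  induction m with
  | zero => simp
  | succ m ih =>
    have e : (x * y) ^ (m + 1) * (y ^ (m + 1))⁻¹ = ((x * y) ^ m * (y ^ m)⁻¹) * (y ^ m * x * (y ^ m)⁻¹) := by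
      have e1 : y ^ (m + 1) = y ^ m * y := pow_succ y m
      have e2 : y * y ^ m = y ^ m * y := ((Commute.refl y).pow_right m).eq
      rw [e1, pow_succ (x * y), mul_inv_rev]
      calc (x * y) ^ m * (x * y) * (y⁻¹ * (y ^ m)⁻¹) = (x * y) ^ m * x * (y ^ m)⁻¹ := by group
        _ = ((x * y) ^ m * (y ^ m)⁻¹) * (y ^ m * x * (y ^ m)⁻¹) := by group
    rw [e]
    exact mul_mem ih (conj_mem_of_normalizer hyy (pow_mem (mem_zpowers y) m) hx)

open scoped Pointwise in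
theorem mem_sup_mul {X Y : Subgroup G} (h : Y ≤ normalizer (X : Set G)) {g : G} (hg : g ∈ X ⊔ Y) :
    ∃ x ∈ X, ∃ y ∈ Y, g = x * y := by
  have h1 : ((Y ⊔ X : Subgroup G) : Set G) = (Y : Set G) * (X : Set G) := coe_mul_of_left_le_normalizer_right Y X h
  have h2 : g ∈ ((Y ⊔ X : Subgroup G) : Set G) := by rw [sup_comm]; exact hg
  rw [h1] at h2
  obtain ⟨y, hy, x, hx, rfl⟩ := Set.mem_mul.mp h2
  exact ⟨y * x * y⁻¹, conj_mem_of_normalizer h hy hx, y, hy, by group⟩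

theorem norm_sup {C X Y : Subgroup G} (hX : C ≤ normalizer (X : Set G)) (hY : C ≤ normalizer (Y : Set G)) :
    C ≤ normalizer ((X ⊔ Y : Subgroup G) : Set G) := by
  refine le_normalizer_of_forall fun c hc g hg => ?_
  have h1 : X ⊔ Y ≤ cj c⁻¹ (X ⊔ Y) := by
    refine sup_le (fun x hx => ?_) (fun y hy => ?_)
    · rw [mem_cj, inv_inv]
      exact mem_sup_left (conj_mem_of_normalizer hX hc hx)
    · rw [mem_cj, inv_inv]
      exact mem_sup_right (conj_mem_of_normalizer hY hc hy)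
  have := mem_cj.mp (h1 hg)
  rwa [inv_inv] at this

namespace TM

variable {Θ C X Y : Subgroup G}

theorem sup (hX : TM Θ C X) (hY : TM Θ C Y) : TM Θ C (X ⊔ Y) where
  ge := hX.ge.trans le_sup_left
  le := sup_le hX.le hY.le
  nm := norm_sup hX.nm hY.nm
  tw := by
    intro g hg
    obtain ⟨x, hx, y, hy, rfl⟩ := mem_sup_mul (hY.le.trans hX.nm) hg
    obtain ⟨k, hk⟩ := hY.tw y hy
    have h1 : (x * y) ^ 2 ^ k ∈ X := by
      have := mul_mem (mul_pow_mem (hX.nm (hY.le hy)) hx (2 ^ k)) (hX.ge hk)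
      rwa [inv_mul_cancel_right] at this
    obtain ⟨l, hl⟩ := hX.tw _ h1
    exact ⟨k + l, by rw [pow_add, pow_mul]; exact hl⟩

/-- a normal subgroup with all elements of 2-power order modulo `Θ` -/
theorem of_sup (hΘC : Θ ≤ C) (hΘn : C ≤ normalizer (Θ : Set G)) (hXC : X ≤ C)
    (hXn : C ≤ normalizer (X : Set G)) (hX : ∀ x ∈ X, ∃ k : ℕ, x ^ 2 ^ k ∈ Θ) : TM Θ C (Θ ⊔ X) where
  ge := le_sup_left
  le := sup_le hΘC hXC
  nm := norm_sup hΘn hXn
  tw := by
    intro g hg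
    obtain ⟨t, ht, x, hx, rfl⟩ := mem_sup_mul (hXC.trans hΘn) hg
    obtain ⟨k, hk⟩ := hX x hx
    refine ⟨k, ?_⟩
    have := mul_mem (mul_pow_mem (hΘn (hXC hx)) ht (2 ^ k)) hk
    rwa [inv_mul_cancel_right] at this

/-- the full preimage of `O₂(C/Θ)` -/
theorem exists_max [Finite G] (hΘC : Θ ≤ C) (hΘn : C ≤ normalizer (Θ : Set G)) :
    ∃ O, TM Θ C O ∧ ∀ X, TM Θ C X → X ≤ O := by
  have hne : {X : Subgroup G | TM Θ C X}.Nonempty :=
    ⟨Θ, le_rfl, hΘC, hΘn, fun x hx => ⟨0, by rw [pow_zero, pow_one]; exact hx⟩⟩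
  obtain ⟨O, hO⟩ := (Set.toFinite {X : Subgroup G | TM Θ C X}).exists_maximal hne
  refine ⟨O, hO.1, fun X hX => ?_⟩
  have h1 : X ⊔ O ≤ O := hO.2 (hX.sup hO.1) le_sup_right
  exact le_sup_left.trans h1

theorem norm {O N : Subgroup G} (hO : TM Θ C O) (hmax : ∀ X, TM Θ C X → X ≤ O)
    (hN : N ≤ normalizer (Θ : Set G)) (hNC : N ≤ normalizer (C : Set G)) : N ≤ normalizer (O : Set G) := by
  refine le_normalizer_of_forall fun g hg x hx => ?_
  have h1 : TM Θ C (cj g O) := by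
    constructor
    · intro t ht
      rw [mem_cj]
      exact hO.ge (conj_mem_of_normalizer' hN hg ht)
    · intro t ht
      rw [mem_cj] at ht
      have := conj_mem_of_normalizer hNC hg (hO.le ht)
      have e : g * (g⁻¹ * t * g) * g⁻¹ = t := by group
      rwa [e] at this
    · refine le_normalizer_of_forall fun c hc y hy => ?_
      rw [mem_cj] at hy ⊢
      have h2 := conj_mem_of_normalizer hO.nm (conj_mem_of_normalizer' hNC hg hc) hy
      have e : g⁻¹ * (c * y * c⁻¹) * g = (g⁻¹ * c * g) * (g⁻¹ * y * g) * (g⁻¹ * c * g)⁻¹ := by group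
      rw [e]; exact h2
    · intro y hy
      rw [mem_cj] at hy
      obtain ⟨k, hk⟩ := hO.tw _ hy
      refine ⟨k, ?_⟩
      have h2 := conj_mem_of_normalizer hN hg hk
      have e : g * (g⁻¹ * y * g) ^ 2 ^ k * g⁻¹ = y ^ 2 ^ k := by
        have := conj_pow (i := 2 ^ k) (a := g⁻¹) (b := y)
        rw [inv_inv] at this
        rw [this]; group
      rwa [e] at h2
  exact hmax _ h1 (conj_mem_cj hx)

end TM

/-- an element of odd order of `P N`, every element of `P` having a 2-power in `N`, lies in `N` -/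
theorem mem_of_odd' {N P : Subgroup G} (hP : ∀ p ∈ P, ∃ k : ℕ, p ^ 2 ^ k ∈ N)
    (hPN : P ≤ normalizer (N : Set G)) {b p c : G}
    (hp : p ∈ P) (hc : c ∈ N) (hb : b = c * p) {n : ℕ} (hn : Odd n) (h1 : b ^ n = 1) : b ∈ N := by
  obtain ⟨k, hk⟩ := hP p hp
  have h2 := mul_pow_mem (hPN hp) hc (2 ^ k)
  have h3 := mul_mem h2 hk
  rw [inv_mul_cancel_right, ← hb] at h3
  exact mem_of_pow_two hn h1 h3

/-- the subgroup generated by the elements of odd order -/
def oo (X : Subgroup G) : Subgroup G := closure {b | b ∈ X ∧ ∃ n : ℕ, Odd n ∧ b ^ n = 1}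

theorem oo_le (X : Subgroup G) : oo X ≤ X := (closure_le _).mpr fun _ hb => hb.1

theorem mem_oo {X : Subgroup G} {b : G} (hb : b ∈ X) {n : ℕ} (hn : Odd n) (h1 : b ^ n = 1) : b ∈ oo X :=
  subset_closure ⟨hb, n, hn, h1⟩

theorem oo_le_of {X Y : Subgroup G} (h : ∀ b ∈ X, ∀ n : ℕ, Odd n → b ^ n = 1 → b ∈ Y) : oo X ≤ Y :=
  (closure_le _).mpr fun b ⟨hb, n, hn, h1⟩ => h b hb n hn h1

theorem norm_oo {N X : Subgroup G} (h : N ≤ normalizer (X : Set G)) : N ≤ normalizer (oo X : Set G) := by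
  refine le_normalizer_of_forall fun g hg d hd => ?_
  refine closure_induction (p := fun d _ => g * d * g⁻¹ ∈ oo X) ?_ ?_ ?_ ?_ hd
  · rintro b ⟨hb, n, hn, h1⟩
    refine mem_oo (conj_mem_of_normalizer h hg hb) hn ?_
    rw [conj_pow, h1]; group
  · simp
  · intro a b _ _ ha hb
    have e : g * (a * b) * g⁻¹ = (g * a * g⁻¹) * (g * b * g⁻¹) := by group
    rw [e]; exact mul_mem ha hb
  · intro a _ ha
    have e : g * a⁻¹ * g⁻¹ = (g * a * g⁻¹)⁻¹ := by group
    rw [e]; exact inv_mem ha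

theorem exists_pow_oo [Finite G] {X : Subgroup G} {b : G} (hb : b ∈ X) : ∃ k : ℕ, b ^ 2 ^ k ∈ oo X := by
  obtain ⟨k, m, hm, hkm⟩ := Nat.exists_eq_two_pow_mul_odd (n := orderOf b) (orderOf_pos _).ne'
  refine ⟨k, mem_oo (pow_mem hb _) hm ?_⟩
  rw [← pow_mul, ← hkm, pow_orderOf_eq_one]

/-- (0.1) : a mover in `L_x ∩ K_x` -/
structure HypE (V : Subgroup G) (z : G) (cf : G → Subgroup G) (e : G) : Prop where
  lx : e ∈ lx V cf z
  qq : e ∈ qq V cf z
  move : e ∉ centralizer (V : Set G)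
  sq : e * e = 1

theorem HypE.of {V : Subgroup G} {z : G} {cf : G → Subgroup G} {e : G} (H : Fam.HypB V z cf e) :
    HypE V z cf e := ⟨H.lx, H.qq, H.move, H.sq⟩

namespace Fam

variable {T V : Subgroup G} {z : G} {cf : G → Subgroup G} {p q : G}

/-- `exists_e` in the form of `HypE` -/
theorem exists_hypE (h : Fam T V z cf) (hp : p ∈ V) (hp1 : p ≠ 1) {e₀ w : G} (he₀ : e₀ ∈ ww V cf p)
    (he₁ : e₀ ∈ qq V cf z) (hw : w ∈ ww V cf z) (hne : e₀ * w ≠ w * e₀) : ∃ e, HypE V z cf e := by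
  obtain ⟨e, h1, h2, h3, h4⟩ := h.exists_e hp hp1 he₀ he₁ hw hne
  exact ⟨e, h1, h2, h3, h4⟩

section E

variable [Finite G] (h : Fam T V z cf) {e : G} (H : HypE V z cf e)
include h H

/-- an element of odd order of `B_z ∩ B_y` is in `B_{zy}` -/
theorem odd_kk' {y b : G} (hy : y ∈ V) (hy1 : y ≠ 1) (hyz : y ≠ z) (hb : b ∈ kk V cf z) (hb' : b ∈ kk V cf y)
    {n : ℕ} (hn : Odd n) (h1 : b ^ n = 1) : b ∈ kk V cf (z * y) := by
  have hz := h.ln.z_mem
  have hz1 := h.ln.z_ne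
  have hs : z * y ∈ V := mul_mem hz hy
  have hs1 : z * y ≠ 1 := h.mul_ne_one hy (Ne.symm hyz)
  have hen := h.qq_le_normalizer hz H.qq
  have e1 := h.move hz hz1 hy hy1 hyz H.qq H.move
  have e0 : e * z * e⁻¹ = z := conj_eq_of_comm (h.qq_p H.qq)
  have hc1 := h.conj_kk hen hz hz1 hb
  rw [e0] at hc1
  have hc2 := h.conj_kk hen hy hy1 hb'
  rw [e1] at hc2
  have h2 := h.kk_comm_lx H.lx hb
  refine mem_of_odd (P := o2 (kk V cf z)) (isPGroup_o2 _) ?_ (inv_mem h2) hc2 ?_ hn h1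
  · exact ((o2_le _).trans h.kk_le_cent).trans (h.cent_norm_kk hs hs1)
  · group

/-- an element of odd order of `B_p ∩ B_q`, `p ≠ q`, is in all `B_r` -/
theorem kk_inf_kall {b : G} (hp : p ∈ V) (hp1 : p ≠ 1) (hq : q ∈ V) (hq1 : q ≠ 1) (hqp : q ≠ p)
    (hb : b ∈ kk V cf p) (hb' : b ∈ kk V cf q) {n : ℕ} (hn : Odd n) (h1 : b ^ n = 1) : b ∈ kall V cf := by
  obtain ⟨g, hg, hgp, -⟩ := h.point hp hp1
  have hgi := inv_mem hg
  have hz := h.ln.z_mem
  have hz1 := h.ln.z_ne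
  have h2 := h.conj_kk hgi hp hp1 hb
  have h3 := h.conj_kk hgi hq hq1 hb'
  have e2 : g⁻¹ * p * g⁻¹⁻¹ = z := by rw [← hgp]; group
  rw [e2] at h2
  have h4 : g⁻¹ * q * g⁻¹⁻¹ ∈ V := h.conj_pt hgi hq
  have h5 : g⁻¹ * q * g⁻¹⁻¹ ≠ 1 := conj_ne hq1
  have h6 : g⁻¹ * q * g⁻¹⁻¹ ≠ z := fun e' => hqp (by
    rw [← e2] at e'
    simpa using e')
  have h7 := h.mem_kall hz hz1 h4 h5 h6 h2 h3 (h.odd_kk' H h4 h5 h6 h2 h3 hn (by rw [conj_pow, h1]; group))
  have h8 := conj_mem_of_normalizer h.norm_kall hg h7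
  have e3 : g * (g⁻¹ * b * g⁻¹⁻¹) * g⁻¹ = b := by group
  rwa [e3] at h8

/-- (1.3) an element of odd order of `B_y`, `y ≠ z`, is in all `B_r` -/
theorem kk_odd_aux' {y b : G} (hy : y ∈ V) (hy1 : y ≠ 1) (hyz : y ≠ z) (hb : b ∈ kk V cf y)
    {n : ℕ} (hn : Odd n) (h1 : b ^ n = 1) : b ∈ kall V cf := by
  have hz := h.ln.z_mem
  have hz1 := h.ln.z_ne
  have hs : z * y ∈ V := mul_mem hz hy
  have hs1 : z * y ≠ 1 := h.mul_ne_one hy (Ne.symm hyz)
  have hsy : z * y ≠ y := fun e' => hz1 (by simpa using e')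
  have hen := h.qq_le_normalizer hz H.qq
  have e1 := h.move hz hz1 hy hy1 hyz H.qq H.move
  set CV := centralizer (V : Set G) with hCV
  set Θ := oo (kall V cf) with hΘ
  have hΘk : ∀ p ∈ V, p ≠ 1 → Θ ≤ kk V cf p := fun p hp hp1 => (oo_le _).trans (h.kall_le_kk hp hp1)
  have hΘC : Θ ≤ CV := (hΘk z hz hz1).trans h.kk_le_cent
  have hNΘ : normalizer (V : Set G) ≤ normalizer (Θ : Set G) := norm_oo h.norm_kall
  have hCN : CV ≤ normalizer (V : Set G) := centralizer_le_normalizer _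
  obtain ⟨O, hO, hmax⟩ := TM.exists_max hΘC (hCN.trans hNΘ)
  have hOCV : O ≤ CV := hO.le
  have hNCV : normalizer (V : Set G) ≤ normalizer ((CV : Subgroup G) : Set G) :=
    normalizer_le_normalizer_centralizer V
  have hNO : normalizer (V : Set G) ≤ normalizer ((O : Subgroup G) : Set G) := hO.norm hmax hNΘ hNCV
  have hCO : CV ≤ normalizer ((O : Subgroup G) : Set G) := hCN.trans hNO
  have hbV : b ∈ CV := h.kk_le_cent hb
  -- `f = b^e`
  set f := e * b * e⁻¹ with hf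
  have hfs : f ∈ kk V cf (z * y) := by
    have := h.conj_kk hen hy hy1 hb
    rwa [e1] at this
  have hfV : f ∈ CV := h.kk_le_cent hfs
  have hfn : f ^ n = 1 := by rw [hf, conj_pow, h1]; group
  -- `B_y ∩ B_s ≤ O`
  have hle : kk V cf y ⊓ kk V cf (z * y) ≤ O := by
    refine le_sup_right.trans (hmax (Θ ⊔ (kk V cf y ⊓ kk V cf (z * y))) (TM.of_sup hΘC (hCN.trans hNΘ) ?_ ?_ ?_))
    · exact inf_le_left.trans h.kk_le_cent
    · refine le_normalizer_of_forall fun c hc x hx => ⟨?_, ?_⟩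
      · exact conj_mem_of_normalizer (h.cent_norm_kk hy hy1) hc hx.1
      · exact conj_mem_of_normalizer (h.cent_norm_kk hs hs1) hc hx.2
    · intro x hx
      obtain ⟨k, hk⟩ := exists_pow_oo hx
      refine ⟨k, ?_⟩
      have h3 : oo (kk V cf y ⊓ kk V cf (z * y)) ≤ Θ := oo_le_of fun c hc m hm hcm =>
        mem_oo (h.kk_inf_kall H hy hy1 hs hs1 hsy hc.1 hc.2 hm hcm) hm hcm
      exact h3 hk
  -- `P = O₂(B_z) ≤ O`
  have hPO : o2 (kk V cf z) ≤ O := by
    refine le_sup_right.trans (hmax (Θ ⊔ o2 (kk V cf z)) (TM.of_sup hΘC (hCN.trans hNΘ) ?_ ?_ ?_))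
    · exact (o2_le _).trans h.kk_le_cent
    · exact (h.cent_norm_kk hz hz1).trans (normalizer_le_normalizer_o2 _)
    · intro x hx
      obtain ⟨k, hk⟩ := isPGroup_o2 (kk V cf z) ⟨x, hx⟩
      refine ⟨k, ?_⟩
      have : x ^ 2 ^ k = 1 := congrArg Subtype.val hk
      rw [this]; exact one_mem _
  -- `d = f b⁻¹`
  set d := f * b⁻¹ with hd
  have hdV : d ∈ CV := mul_mem hfV (inv_mem hbV)
  have hbc : b ∈ cf z := h.cent_le_cf hz hz1 hbV
  have hdq : d ∈ qq V cf z := by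
    have e2 : d = e * (b * e⁻¹ * b⁻¹) := by rw [hd, hf]; group
    rw [e2]
    exact mul_mem H.qq (conj_mem_of_normalizer (h.cf_norm_qq hz hz1) hbc (inv_mem H.qq))
  -- `d² ∈ B_z`
  have hdd : d ^ 2 ∈ kk V cf z := by
    rw [mem_centralizer_iff]
    intro w hw
    have hzz := h.ln.sq z hz
    have hdz := h.qq_p hdq
    rw [pow_two]
    rcases h.qq_cases hz hdq hw with e2 | e2
    · have e3 := comm_of_conj_eq e2
      calc w * (d * d) = (w * d) * d := by group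
        _ = (d * w) * d := by rw [e3]
        _ = d * (w * d) := by group
        _ = d * (d * w) := by rw [e3]
        _ = d * d * w := by group
    · have e3 : d * w = z * w * d := by
        calc d * w = d * w * d⁻¹ * d := by group
          _ = z * w * d := by rw [e2]
      calc w * (d * d) = (z * z) * (w * d * d) := by rw [hzz]; group
        _ = z * (z * w * d) * d := by group
        _ = z * (d * w) * d := by rw [e3]
        _ = (z * d) * w * d := by group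
        _ = (d * z) * w * d := by rw [hdz]
        _ = d * (z * w * d) := by group
        _ = d * (d * w) := by rw [e3]
        _ = d * d * w := by group
  -- modulo `O` : work in `N_G(O) / O`
  set N := normalizer ((O : Subgroup G) : Set G) with hN
  have heN : e ∈ N := hNO hen
  have hbN : b ∈ N := hCO hbV
  have hfN : f ∈ N := hCO hfV
  have hdN : d ∈ N := hCO hdV
  let π : N →* N ⧸ (O.subgroupOf N) := QuotientGroup.mk' _
  have hker : ∀ x : N, π x = 1 ↔ (x : G) ∈ O := fun x => by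
    rw [QuotientGroup.mk'_apply, QuotientGroup.eq_one_iff, mem_subgroupOf]
  have hπ : ∀ x y : N, (x : G) * (y : G)⁻¹ ∈ O → π x = π y := fun x y hxy => by
    have : π (x * y⁻¹) = 1 := (hker _).mpr hxy
    rw [map_mul, map_inv, mul_inv_eq_one] at this
    exact this
  set B : N := ⟨b, hbN⟩ with hB
  set F : N := ⟨f, hfN⟩ with hF
  set D : N := ⟨d, hdN⟩ with hD
  set E : N := ⟨e, heN⟩ with hE
  have hDFB : D = F * B⁻¹ := Subtype.ext hd
  have hFE : F = E * B * E⁻¹ := Subtype.ext hf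
  have hcomm : π B * π F = π F * π B := by
    rw [← map_mul, ← map_mul]
    refine hπ _ _ (hle ⟨?_, ?_⟩)
    · change b * f * (f * b)⁻¹ ∈ _
      have e2 : b * f * (f * b)⁻¹ = b * (f * b⁻¹ * f⁻¹) := by group
      rw [e2]
      exact mul_mem hb (conj_mem_of_normalizer (h.cent_norm_kk hy hy1) hfV (inv_mem hb))
    · change b * f * (f * b)⁻¹ ∈ _
      have e2 : b * f * (f * b)⁻¹ = (b * f * b⁻¹) * f⁻¹ := by group
      rw [e2]
      exact (kk V cf (z * y)).mul_mem (conj_mem_of_normalizer (h.cent_norm_kk hs hs1) hbV hfs)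
        ((kk V cf (z * y)).inv_mem hfs)
  have hBn : π B ^ n = 1 := by
    rw [← map_pow]
    have : B ^ n = 1 := Subtype.ext h1
    rw [this, map_one]
  have hFn : π F ^ n = 1 := by
    rw [← map_pow]
    have : F ^ n = 1 := Subtype.ext hfn
    rw [this, map_one]
  have hDn : π D ^ n = 1 := by
    rw [hDFB, map_mul, map_inv]
    have hc : Commute (π F) (π B)⁻¹ := (show Commute (π F) (π B) from hcomm.symm).inv_right
    rw [hc.mul_pow, hFn, inv_pow, hBn, inv_one, mul_one]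
  -- `π E` centralises `π (d²)`
  have hED2 : π E * π D ^ 2 * (π E)⁻¹ = π D ^ 2 := by
    rw [← map_pow, ← map_inv, ← map_mul, ← map_mul]
    refine hπ _ _ (hPO ?_)
    change e * d ^ 2 * e⁻¹ * (d ^ 2)⁻¹ ∈ _
    exact h.kk_comm_lx H.lx hdd
  -- so it centralises `π D`
  have hED : π E * π D * (π E)⁻¹ = π D := by
    have hDD : π D = (π D ^ 2) ^ ((n + 1) / 2) := by
      rw [← pow_mul]
      obtain ⟨k, rfl⟩ := hn
      have : 2 * ((2 * k + 1 + 1) / 2) = (2 * k + 1) + 1 := by omega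
      rw [this, pow_succ, hDn, one_mul]
    rw [hDD, ← conj_pow, hED2]
  have hFDB : π F = π D * π B := by
    rw [hDFB, map_mul, map_inv, inv_mul_cancel_right]
  have hEE : π E * π E = 1 := by
    rw [← map_mul]
    have : E * E = 1 := Subtype.ext H.sq
    rw [this, map_one]
  have hEBE : π E * π B * (π E)⁻¹ = π F := by
    rw [hFE, map_mul, map_mul, map_inv]
  have hD2 : π D ^ 2 = 1 := by
    -- apply `E` twice
    have h2 : π E * π F * (π E)⁻¹ = π B := by
      rw [← hEBE]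
      have hEi : (π E)⁻¹ = π E := inv_eq_of_mul_eq_one_left hEE
      rw [hEi]
      calc π E * (π E * π B * π E) * π E = (π E * π E) * π B * (π E * π E) := by group
        _ = π B := by rw [hEE]; group
    have h3 : π E * π F * (π E)⁻¹ = π D * (π D * π B) := by
      rw [hFDB]
      calc π E * (π D * π B) * (π E)⁻¹ = (π E * π D * (π E)⁻¹) * (π E * π B * (π E)⁻¹) := by group
        _ = π D * (π D * π B) := by rw [hED, hEBE, hFDB]
    rw [h3, ← mul_assoc] at h2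
    rw [pow_two]
    exact mul_eq_right.mp h2
  have hD1 : π D = 1 := by
    obtain ⟨k, rfl⟩ := hn
    have := hDn
    rwa [pow_succ, pow_mul, hD2, one_pow, one_mul] at this
  have hdO : d ∈ O := (hker D).mp hD1
  -- `b = f (f⁻¹ d⁻¹ f) ∈ B_s O`
  have hbs : b ∈ kk V cf (z * y) := by
    have h5 : f⁻¹ * d⁻¹ * f ∈ O := conj_mem_of_normalizer' hCO hfV (inv_mem hdO)
    refine mem_of_odd' (P := O) ?_ ?_ h5 hfs ?_ hn h1
    · intro x hx
      obtain ⟨k, hk⟩ := hO.tw x hx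
      exact ⟨k, hΘk _ hs hs1 hk⟩
    · exact hOCV.trans (h.cent_norm_kk hs hs1)
    · rw [hd]; group
  exact h.kk_inf_kall H hy hy1 hs hs1 hsy hb hbs hn h1

/-- every element of odd order of some `B_p` is in all `B_r` -/
theorem kk_odd_kall {b : G} (hp : p ∈ V) (hp1 : p ≠ 1) (hb : b ∈ kk V cf p) {n : ℕ} (hn : Odd n)
    (h1 : b ^ n = 1) : b ∈ kall V cf := by
  obtain ⟨y, hy, hy1, hyz⟩ := h.ln.exists_y
  obtain ⟨g, hg, hgp, -⟩ := h.point hp hp1
  obtain ⟨k, hk, hky, -⟩ := h.point hy hy1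
  have hgk : k * g⁻¹ ∈ normalizer (V : Set G) := mul_mem hk (inv_mem hg)
  have h2 := h.conj_kk hgk hp hp1 hb
  have e2 : k * g⁻¹ * p * (k * g⁻¹)⁻¹ = y := by rw [← hgp, ← hky]; group
  rw [e2] at h2
  have h7 := h.kk_odd_aux' H hy hy1 hyz h2 hn (by rw [conj_pow, h1]; group)
  have h8 := conj_mem_of_normalizer' h.norm_kall hgk h7
  have e3 : (k * g⁻¹)⁻¹ * (k * g⁻¹ * b * (k * g⁻¹)⁻¹) * (k * g⁻¹) = b := by group
  rwa [e3] at h8

/-- `O²(B_p) = 1` -/
theorem kk_odd' {b : G} (hp : p ∈ V) (hp1 : p ≠ 1) (hb : b ∈ kk V cf p) {n : ℕ} (hn : Odd n)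
    (h1 : b ^ n = 1) : b = 1 := by
  have hz := h.ln.z_mem
  have hz1 := h.ln.z_ne
  obtain ⟨y, hy, hy1, hyz⟩ := h.ln.exists_y
  have hΘ : oo (kall V cf) = oo (kk V cf z) := by
    apply le_antisymm
    · exact oo_le_of fun c hc m hm hcm => mem_oo (hc z hz hz1) hm hcm
    · exact oo_le_of fun c hc m hm hcm => mem_oo (h.kk_odd_kall H hz hz1 hc hm hcm) hm hcm
  have hD : oo (kall V cf) = ⊥ := by
    refine h.eq_bot_of_norm hy hy1 hyz ((oo_le _).trans (h.kall_le_kk hy hy1)) (norm_oo h.norm_kall) ?_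
    rw [hΘ]
    exact norm_oo h.cf_norm_kk
  have hb2 : b ∈ oo (kall V cf) := mem_oo (h.kk_odd_kall H hp hp1 hb hn h1) hn h1
  rw [hD] at hb2
  exact mem_bot.mp hb2

/-- **(N2) `B_p = C_G(W_p)` is a 2-group.** -/
theorem kk_two' (hp : p ∈ V) (hp1 : p ≠ 1) : IsPGroup 2 (kk V cf p) := by
  rintro ⟨b, hb⟩
  obtain ⟨k, m, hm, hkm⟩ := Nat.exists_eq_two_pow_mul_odd (n := orderOf b) (orderOf_pos _).ne'
  refine ⟨k, Subtype.ext ?_⟩
  change b ^ 2 ^ k = 1
  refine h.kk_odd' H hp hp1 (pow_mem hb _) hm ?_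
  rw [← pow_mul, ← hkm, pow_orderOf_eq_one]

/-- `K_p` is a 2-group. -/
theorem qq_two' (hp : p ∈ V) (hp1 : p ≠ 1) : IsPGroup 2 (qq V cf p) := by
  rintro ⟨d, hd⟩
  have hpp := h.ln.sq p hp
  have hdp := h.qq_p hd
  have hdd : d ^ 2 ∈ kk V cf p := by
    rw [mem_centralizer_iff]
    intro w hw
    rw [pow_two]
    rcases h.qq_cases hp hd hw with e2 | e2
    · have e3 := comm_of_conj_eq e2
      calc w * (d * d) = (w * d) * d := by group
        _ = (d * w) * d := by rw [e3]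
        _ = d * (w * d) := by group
        _ = d * (d * w) := by rw [e3]
        _ = d * d * w := by group
    · have e3 : d * w = p * w * d := by
        calc d * w = d * w * d⁻¹ * d := by group
          _ = p * w * d := by rw [e2]
      calc w * (d * d) = (p * p) * (w * d * d) := by rw [hpp]; group
        _ = p * (p * w * d) * d := by group
        _ = p * (d * w) * d := by rw [e3]
        _ = (p * d) * w * d := by group
        _ = (d * p) * w * d := by rw [hdp]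
        _ = d * (p * w * d) := by group
        _ = d * (d * w) := by rw [e3]
        _ = d * d * w := by group
  obtain ⟨k, hk⟩ := h.kk_two' H hp hp1 ⟨d ^ 2, hdd⟩
  refine ⟨k + 1, Subtype.ext ?_⟩
  have h2 : (d ^ 2) ^ 2 ^ k = 1 := congrArg Subtype.val hk
  change d ^ 2 ^ (k + 1) = 1
  rw [pow_succ', pow_mul]
  exact h2

/-- `K_p ≤ O₂(cf p)` -/
theorem qq_le_o2 (hp : p ∈ V) (hp1 : p ≠ 1) : qq V cf p ≤ o2 (cf p) :=
  le_o2 (fun _ hx => hx.1) (h.qq_two' H hp hp1) (h.cf_norm_qq hp hp1)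

/-- `K_p ∩ C_G(V) ≤ O₂(C_G(V))` -/
theorem qq_inf_le' (hp : p ∈ V) (hp1 : p ≠ 1) :
    qq V cf p ⊓ centralizer (V : Set G) ≤ o2 (centralizer (V : Set G)) := by
  refine le_o2 inf_le_right ((h.qq_two' H hp hp1).to_le inf_le_left) ?_
  refine le_normalizer_of_forall fun c hc x hx =>
    ⟨?_, (centralizer (V : Set G)).mul_mem ((centralizer (V : Set G)).mul_mem hc hx.2) (inv_mem hc)⟩
  exact conj_mem_of_normalizer (h.cf_norm_qq hp hp1) (h.cent_le_cf hp hp1 hc) hx.1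

/-- `[K_p, C_G(V)] ≤ O₂(C_G(V))` -/
theorem qq_cent_le' (hp : p ∈ V) (hp1 : p ≠ 1) {k c : G} (hk : k ∈ qq V cf p)
    (hc : c ∈ centralizer (V : Set G)) : k * c * k⁻¹ * c⁻¹ ∈ o2 (centralizer (V : Set G)) := by
  refine h.qq_inf_le' H hp hp1 ⟨?_, ?_⟩
  · have e2 : k * c * k⁻¹ * c⁻¹ = k * (c * k⁻¹ * c⁻¹) := by group
    rw [e2]
    exact mul_mem hk (conj_mem_of_normalizer (h.cf_norm_qq hp hp1) (h.cent_le_cf hp hp1 hc) (inv_mem hk))
  · exact (centralizer (V : Set G)).mul_mem (conj_mem_of_normalizer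
      (normalizer_le_normalizer_centralizer V) (h.qq_le_normalizer hp hk) hc) (inv_mem hc)

end E

end Fam

end Cfsg.Agent.Omega.NO3S.Fit
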