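import Cfsg.Agent.Omega.NO3S.TwoOne.Three
import Cfsg.Agent.Omega.NO3S.TwoOne.Irr

/-!
# NO-3S, `q = 2`, `n = 1`: relations between the `D_x` of two lines (helper881's text #17145, (3.0)-(3.3))

`h : One T V z`, `L` another line on `z`.  `D_p = dd V p`, `E_p = ee V p`, `I = ii V`.

* `One.mem_ii_of_move` (3.0) : `g` moves `p ∈ V` to `z p`: `W_p ∩ C(g) ≤ I`;
* `Spr V L z y q e g` : `y ∈ V`, `q ∈ L`, `e ∈ E_q` (of `L`) moves `y` to `z y`, `g` moves `q` to `z q` and centralises the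
  `D_p`, `p ∈ V#` (e.g. `g ∈ F_l = W_z W_y W_s`); in particular `Spr.of_ee` : a symmetric pair;
* `Spr.mem_ii` (3.1) : `d d^e ∈ I_L` for `d ∈ D_y`; `Spr.mem_dd` : it lies in `D_z`;
* (3.2) `Spr.inj`, `Spr.surj`, `Spr.exists_mul` : `D_z = I (D_z ∩ I_L)`;
  `Spr.triv` : `K_p ∩ C_G(V)` centralises `D_q / I` for all points `p`, `q`;
  `Spr.mul_mem_dd` : `d d^k ∈ D_p` for all points `p ≠ q`, `d ∈ D_q`, movers `k ∈ K_p`;
  `Spr.theta` : `d d^k = d^t` modulo `I` for `d ∈ D_q`, movers `k ∈ K_p`, `t ∈ K_{pq}` : `D_x D_y D_s / I = Δ ⊗ 2`;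
* (3.3) `One.dd_le_ii` : `D_y ≤ W_z D_q D_{zq}` implies `D_y = I`.
-/

set_option autoImplicit false
set_option linter.unusedSectionVars false

namespace Cfsg.Agent.Omega.NO3S.TwoOne

open Subgroup Cfsg Cfsg.Agent.ZN Cfsg.Agent.MinSimple.Geo Cfsg.Agent.Omega.CaseL
open Cfsg.Agent.ZN.Block (conj_mem_of_normalizer conj_mem_of_normalizer' le_normalizer_of_forall
  mem_normalizer_of)

universe u

variable {G : Type u} [Group G]

namespace One

variable {T V : Subgroup G} {z : G} {p q r : G}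

/-- (3.0) -/
theorem mem_ii_of_move (h : One T V z) (hp : p ∈ V) (hp1 : p ≠ 1) (hq : q ∈ V) (hq1 : q ≠ 1) (hqp : q ≠ p)
    {g w : G} (hg : g * p * g⁻¹ = q * p) (hw : w ∈ ws V p) (hc : w * g = g * w) : w ∈ ii V := by
  have h1 := conj_mem_ws g hw
  rw [conj_eq_of_comm hc.symm, hg] at h1
  refine h.mem_ii hp hp1 (mul_mem hq hp) (h.mul_ne_one hp hqp) ?_ hw h1
  intro e
  exact hq1 (by simpa using e)

/-- the elements of all `D_p` commute -/
theorem dd_comm (_ : One T V z) (hq : q ∈ V) (hq1 : q ≠ 1) {a b : G} (ha : a ∈ dd V p)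
    (hb : b ∈ dd V q) : a * b = b * a := ha.2 q hq hq1 b hb.1

theorem dd_sq (h : One T V z) (hp : p ∈ V) (hp1 : p ≠ 1) {a : G} (ha : a ∈ dd V p) : a * a = 1 :=
  h.sq hp hp1 a ha.1

theorem dd_inf (h : One T V z) (hp : p ∈ V) (hp1 : p ≠ 1) (hq : q ∈ V) (hq1 : q ≠ 1) (hqp : q ≠ p) {a : G}
    (ha : a ∈ dd V p) (ha' : a ∈ dd V q) : a ∈ ii V := h.mem_ii hp hp1 hq hq1 hqp ha.1 ha'.1

/-- an element of some `W_p` which centralises all `W_q` -/
theorem mem_dd_iff (_ : One T V z) {a : G} : a ∈ dd V p ↔ a ∈ ws V p ∧ ∀ q ∈ V, q ≠ 1 →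
    ∀ b ∈ ws V q, a * b = b * a := Iff.rfl

theorem kq_line {L : Subgroup G} (hL : L ∈ lines V z) (x : G) : kq L x = kq V x := by
  obtain ⟨⟨g, rfl⟩, -⟩ := hL
  exact kq_cj V g x

theorem ws_line {L : Subgroup G} (hL : L ∈ lines V z) (x : G) : ws L x = ws V x := by
  obtain ⟨⟨g, rfl⟩, -⟩ := hL
  exact ws_cj V g x

end One

/-- (3.1), the hypotheses: `y` is a point of `V`, `q` a point of `L`, `e ∈ E_q` moves `y`, `g` moves `q` and centralises
the `D_p`, `p ∈ V#` -/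
structure Spr (V L : Subgroup G) (z y q e g : G) : Prop where
  line : L ∈ lines V z
  hy : y ∈ V
  hy1 : y ≠ 1
  hyz : y ≠ z
  hq : q ∈ L
  hq1 : q ≠ 1
  hqz : q ≠ z
  he : e ∈ ee L q
  ey : e * y * e⁻¹ = z * y
  hg : ∀ p ∈ V, p ≠ 1 → ∀ c ∈ dd V p, c * g = g * c
  gq : g * q * g⁻¹ = z * q

namespace Spr

/-- a symmetric pair -/
theorem of_ee {V L : Subgroup G} {z y q e g y' : G} (hL : L ∈ lines V z) (hy : y ∈ V)
    (hy1 : y ≠ 1) (hyz : y ≠ z) (hq : q ∈ L) (hq1 : q ≠ 1) (hqz : q ≠ z) (he : e ∈ ee L q)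
    (ey : e * y * e⁻¹ = z * y) (hy' : y' ∈ V) (hy1' : y' ≠ 1) (hg : g ∈ ws V y') (gq : g * q * g⁻¹ = z * q) :
    Spr V L z y q e g :=
  ⟨hL, hy, hy1, hyz, hq, hq1, hqz, he, ey, fun _ _ _ _ hc => hc.2 y' hy' hy1' g hg, gq⟩

variable {T V L : Subgroup G} {z y q e g : G} (S : Spr V L z y q e g) (h : One T V z)
include S h

theorem e_kq : e ∈ kq V z := by
  rw [← One.kq_line S.line]
  exact S.he.2 z S.line.2 h.ln.z_ne

theorem e_norm : e ∈ normalizer (V : Set G) := h.kq_le_normalizer h.ln.z_mem h.ln.z_ne (S.e_kq h)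

theorem e_z : e * z * e⁻¹ = z := conj_eq_of_comm (h.kq_p (S.e_kq h))

theorem e_move : e ∉ centralizer (V : Set G) := fun hc => by
  have h1 : e * y * e⁻¹ = y := conj_eq_of_comm (h.V_comm S.hy hc).symm
  rw [S.ey] at h1
  exact h.ln.z_ne (by simpa using h1)

theorem hs : z * y ∈ V := mul_mem h.ln.z_mem S.hy

theorem hs1 : z * y ≠ 1 := h.mul_ne_one S.hy (Ne.symm S.hyz)

theorem hsz : z * y ≠ z := fun e' => S.hy1 (by simpa using e')

theorem hsy : z * y ≠ y := fun e' => h.ln.z_ne (by simpa using e')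

theorem conj_dd {d : G} (hd : d ∈ dd V y) : e * d * e⁻¹ ∈ dd V (z * y) := by
  have := conj_mem_dd (S.e_norm h) hd
  rwa [S.ey] at this

/-- (3.1) `d d^e ∈ I_L` -/
theorem mem_ii {d : G} (hd : d ∈ dd V y) : d * (e * d * e⁻¹) ∈ ii L := by
  obtain ⟨k, -, T', h'⟩ := h.of_line S.line h.ln.z_ne
  have hdd := h.dd_sq S.hy S.hy1 hd
  have hdi : d⁻¹ = d := inv_eq_self hdd
  have hLz : L ≤ ws V z := le_ws S.line
  have hdL : d ∈ centralizer (L : Set G) := by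
    rw [mem_centralizer_iff]
    intro v hv
    exact (hd.2 z h.ln.z_mem h.ln.z_ne v (hLz hv)).symm
  have heq : e ∈ ws L q := S.he.1
  have h1 : d * (e * d * e⁻¹) ∈ ws L q := by
    have e1 : d * (e * d * e⁻¹) = (d * e * d⁻¹) * e⁻¹ := by rw [hdi]; group
    rw [e1]
    exact mul_mem (conj_mem_of_normalizer (h'.cent_norm S.hq) hdL heq) (inv_mem heq)
  have h2 : d * (e * d * e⁻¹) * g = g * (d * (e * d * e⁻¹)) :=
    mul_comm_of (S.hg y S.hy S.hy1 d hd) (S.hg _ (S.hs h) (S.hs1 h) _ (S.conj_dd h hd))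
  exact h'.mem_ii_of_move S.hq S.hq1 S.line.2 h.ln.z_ne (Ne.symm S.hqz) S.gq h1 h2

/-- `d d^e ∈ D_z` -/
theorem mem_dd {d : G} (hd : d ∈ dd V y) : d * (e * d * e⁻¹) ∈ dd V z := by
  refine ⟨?_, fun r hr hr1 b hb => ?_⟩
  · have h1 := S.mem_ii h hd z S.line.2 h.ln.z_ne
    rwa [One.ws_line S.line] at h1
  · exact mul_comm_of (hd.2 r hr hr1 b hb) ((S.conj_dd h hd).2 r hr hr1 b hb)

/-- `d ↦ d d^e` is a homomorphism -/
theorem mul_conj {d d' : G} (hd : d ∈ dd V y) (hd' : d' ∈ dd V y) :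
    (d * d') * (e * (d * d') * e⁻¹) = d * (e * d * e⁻¹) * (d' * (e * d' * e⁻¹)) := by
  have h1 := h.dd_comm (S.hs h) (S.hs1 h) hd' (S.conj_dd h hd)
  calc (d * d') * (e * (d * d') * e⁻¹) = d * (d' * (e * d * e⁻¹)) * (e * d' * e⁻¹) := by group
    _ = d * ((e * d * e⁻¹) * d') * (e * d' * e⁻¹) := by rw [h1]
    _ = d * (e * d * e⁻¹) * (d' * (e * d' * e⁻¹)) := by group

/-- (3.2) `d ↦ d d^e` is injective modulo `I` -/
theorem inj {d : G} (hd : d ∈ dd V y) (h1 : d * (e * d * e⁻¹) ∈ ii V) : d ∈ ii V := by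
  have h2 := S.conj_dd h hd
  have h3 := h.ii_le_dd (S.hs h) (S.hs1 h) h1
  have h4 : d ∈ dd V (z * y) := by
    have := mul_mem h3 (inv_mem h2)
    rwa [mul_inv_cancel_right] at this
  exact h.dd_inf S.hy S.hy1 (S.hs h) (S.hs1 h) (S.hsy h) hd h4

/-- `d ∈ I` implies `d d^e ∈ ⟨z⟩` -/
theorem ii_mem {d : G} (hd : d ∈ ii V) : d * (e * d * e⁻¹) = 1 ∨ d * (e * d * e⁻¹) = z := by
  have hdd : d * d = 1 := h.sqz d (hd z h.ln.z_mem h.ln.z_ne)
  have hzd : d * z = z * d := h.comm h.ln.z_mem h.ln.z_ne d (hd z h.ln.z_mem h.ln.z_ne) z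
    (h.V_le h.ln.z_mem h.ln.z_ne h.ln.z_mem)
  rcases h.kq_cases h.ln.z_mem (S.e_kq h) (hd z h.ln.z_mem h.ln.z_ne) with e1 | e1
  · left; rw [e1, hdd]
  · right
    rw [e1]
    calc d * (z * d) = (d * z) * d := by group
      _ = z * (d * d) := by rw [hzd]; group
      _ = z := by rw [hdd, mul_one]

/-- (3.2) `d ↦ d d^e` maps `D_y / I` onto `D_z / I` -/
theorem surj [Finite G] {c : G} (hc : c ∈ dd V z) : ∃ d ∈ dd V y, c * (d * (e * d * e⁻¹))⁻¹ ∈ ii V := by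
  classical
  have hz := h.ln.z_mem
  have hz1 := h.ln.z_ne
  -- the homomorphism
  have hIz : ii V ≤ dd V z := h.ii_le_dd hz hz1
  have hIy : ii V ≤ dd V y := h.ii_le_dd S.hy S.hy1
  have hn : ((ii V).subgroupOf (dd V z)).Normal := by
    refine ⟨fun a ha b => ?_⟩
    rw [mem_subgroupOf] at ha ⊢
    change (b : G) * a * (b : G)⁻¹ ∈ ii V
    rw [conj_eq_of_comm (h.dd_comm hz hz1 b.2 a.2)]
    exact ha
  let f : dd V y →* dd V z ⧸ (ii V).subgroupOf (dd V z) :=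
    (QuotientGroup.mk' _).comp
      { toFun := fun d => ⟨(d : G) * (e * d * e⁻¹), S.mem_dd h d.2⟩
        map_one' := Subtype.ext (by simp)
        map_mul' := fun a b => Subtype.ext (S.mul_conj h a.2 b.2) }
  have hker : f.ker = (ii V).subgroupOf (dd V y) := by
    ext d
    rw [MonoidHom.mem_ker, mem_subgroupOf]
    change (QuotientGroup.mk' _ _ = 1) ↔ _
    rw [QuotientGroup.mk'_apply, QuotientGroup.eq_one_iff, mem_subgroupOf]
    constructor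
    · intro hd
      exact S.inj h d.2 hd
    · intro hd
      change (d : G) * (e * d * e⁻¹) ∈ ii V
      rcases S.ii_mem h hd with e1 | e1
      · rw [e1]; exact one_mem _
      · rw [e1]; exact h.V_le_ii hz
  -- cardinalities
  have hcard : Nat.card (dd V y) = Nat.card (dd V z) := by
    obtain ⟨k, hk, hky⟩ := h.ln.trans y S.hy S.hy1
    have hle : ∀ {g p : G}, g ∈ normalizer (V : Set G) → cj g (dd V p) ≤ dd V (g * p * g⁻¹) := by
      intro g p hg x hx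
      have := conj_mem_dd hg (mem_cj.mp hx)
      have e1 : g * (g⁻¹ * x * g) * g⁻¹ = x := by group
      rwa [e1] at this
    have h1 : Nat.card (dd V z) ≤ Nat.card (dd V y) := by
      rw [← card_cj k (dd V z), ← hky]
      exact Nat.card_le_card_of_injective _ (inclusion_injective (hle hk))
    have h2 : Nat.card (dd V y) ≤ Nat.card (dd V z) := by
      rw [← card_cj k⁻¹ (dd V y)]
      have h3 := hle (p := y) (inv_mem hk)
      have e1 : k⁻¹ * y * k⁻¹⁻¹ = z := by rw [← hky]; group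
      rw [e1] at h3
      exact Nat.card_le_card_of_injective _ (inclusion_injective h3)
    omega
  have hrange : f.range = ⊤ := by
    have h1 : Nat.card f.range * Nat.card (ii V) = Nat.card (dd V y) := by
      have h2 : f.ker.index = Nat.card f.range := Subgroup.index_ker f
      rw [← h2, hker]
      have h3 : Nat.card ((ii V).subgroupOf (dd V y)) = Nat.card (ii V) :=
        Nat.card_congr (subgroupOfEquivOfLe hIy).toEquiv
      rw [← h3, mul_comm]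
      exact card_mul_index _
    have h4 : Nat.card (dd V z ⧸ (ii V).subgroupOf (dd V z)) * Nat.card (ii V) = Nat.card (dd V z) := by
      have h3 : Nat.card ((ii V).subgroupOf (dd V z)) = Nat.card (ii V) :=
        Nat.card_congr (subgroupOfEquivOfLe hIz).toEquiv
      rw [← h3, mul_comm]
      exact card_mul_index _
    apply Subgroup.eq_top_of_card_eq
    have hpos : 0 < Nat.card (ii V) := Nat.card_pos
    have h5 : Nat.card f.range * Nat.card (ii V) =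
        Nat.card (dd V z ⧸ (ii V).subgroupOf (dd V z)) * Nat.card (ii V) := by rw [h1, h4, hcard]
    exact Nat.eq_of_mul_eq_mul_right hpos h5
  obtain ⟨d, hd⟩ := MonoidHom.range_eq_top.mp hrange (QuotientGroup.mk' _ ⟨c, hc⟩)
  refine ⟨d, d.2, ?_⟩
  have h6 : (QuotientGroup.mk (⟨(d : G) * (e * d * e⁻¹), S.mem_dd h d.2⟩ : dd V z) :
      dd V z ⧸ (ii V).subgroupOf (dd V z)) = QuotientGroup.mk ⟨c, hc⟩ := hd
  rw [QuotientGroup.eq, mem_subgroupOf] at h6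
  have h7 : (d * (e * d * e⁻¹))⁻¹ * c ∈ ii V := h6
  have h8 : c * (d * (e * d * e⁻¹))⁻¹ = (d * (e * d * e⁻¹))⁻¹ * c :=
    h.dd_comm hz hz1 hc (inv_mem (S.mem_dd h d.2))
  rw [h8]; exact h7

/-- (3.2) `D_z = I (D_z ∩ I_L)` -/
theorem exists_mul [Finite G] {c : G} (hc : c ∈ dd V z) : ∃ i ∈ ii V, ∃ j ∈ ii L, j ∈ dd V z ∧ c = i * j := by
  obtain ⟨d, hd, h1⟩ := S.surj h hc
  exact ⟨_, h1, _, S.mem_ii h hd, S.mem_dd h hd, by group⟩

/-- `K_z ∩ C_G(V)` centralises `D_y / I` -/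
theorem triv_aux {k d : G} (hk : k ∈ kq V z) (hkV : k ∈ centralizer (V : Set G)) (hd : d ∈ dd V y) :
    k * d * k⁻¹ * d⁻¹ ∈ ii V := by
  have hz := h.ln.z_mem
  have hz1 := h.ln.z_ne
  have hkn : k ∈ normalizer (V : Set G) := centralizer_le_normalizer _ hkV
  have hky : k * y * k⁻¹ = y := conj_eq_of_comm (h.V_comm S.hy hkV).symm
  have hks : k * (z * y) * k⁻¹ = z * y := conj_eq_of_comm (h.V_comm (S.hs h) hkV).symm
  have hdk : k * d * k⁻¹ ∈ dd V y := by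
    have := conj_mem_dd hkn hd
    rwa [hky] at this
  set f := e * d * e⁻¹ with hf
  have hfs : f ∈ dd V (z * y) := S.conj_dd h hd
  have hfk : k * f * k⁻¹ ∈ dd V (z * y) := by
    have := conj_mem_dd hkn hfs
    rwa [hks] at this
  -- `c = [k, d]`, `c' = [k, f]`, `c c' ∈ ⟨z⟩`
  have hc : k * d * k⁻¹ * d⁻¹ ∈ dd V y := mul_mem hdk (inv_mem hd)
  have hc' : k * f * k⁻¹ * f⁻¹ ∈ dd V (z * y) := mul_mem hfk (inv_mem hfs)
  have hdf := h.dd_comm (S.hs h) (S.hs1 h) hd hfs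
  have h1 : k * (d * f) * k⁻¹ = d * f ∨ k * (d * f) * k⁻¹ = z * (d * f) :=
    h.kq_cases hz hk (S.mem_dd h hd).1
  have h2 : k * (d * f) * k⁻¹ * (d * f)⁻¹ = (k * d * k⁻¹ * d⁻¹) * (k * f * k⁻¹ * f⁻¹) := by
    have h3 := h.dd_comm (S.hs h) (S.hs1 h) (inv_mem hd) hfk
    calc k * (d * f) * k⁻¹ * (d * f)⁻¹ = (k * d * k⁻¹) * ((k * f * k⁻¹) * (d * f)⁻¹) := by group
      _ = (k * d * k⁻¹) * ((k * f * k⁻¹) * (f * d)⁻¹) := by rw [hdf]
      _ = (k * d * k⁻¹) * ((k * f * k⁻¹) * d⁻¹ * f⁻¹) := by rw [mul_inv_rev]; group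
      _ = (k * d * k⁻¹) * ((d⁻¹ * (k * f * k⁻¹)) * f⁻¹) := by rw [h3]
      _ = (k * d * k⁻¹ * d⁻¹) * (k * f * k⁻¹ * f⁻¹) := by group
  have h4 : (k * d * k⁻¹ * d⁻¹) * (k * f * k⁻¹ * f⁻¹) ∈ V := by
    rw [← h2]
    rcases h1 with e1 | e1
    · rw [e1, mul_inv_cancel]; exact one_mem _
    · rw [e1, mul_inv_cancel_right]; exact hz
  have h5 : k * d * k⁻¹ * d⁻¹ ∈ dd V (z * y) := by
    have := mul_mem (h.V_le_dd (S.hs h) (S.hs1 h) h4) (inv_mem hc')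
    rwa [mul_inv_cancel_right] at this
  exact h.dd_inf S.hy S.hy1 (S.hs h) (S.hs1 h) (S.hsy h) hc h5

/-- (3.2) `K_p ∩ C_G(V)` centralises `D_r / I` for all points `p`, `r` of `V` -/
theorem triv {p r k d : G} (hp : p ∈ V) (hp1 : p ≠ 1) (hr : r ∈ V) (hr1 : r ≠ 1) (hk : k ∈ kq V p)
    (hkV : k ∈ centralizer (V : Set G)) (hd : d ∈ dd V r) : k * d * k⁻¹ * d⁻¹ ∈ ii V := by
  have hz := h.ln.z_mem
  have hz1 := h.ln.z_ne
  by_cases hpr : r = p
  · subst hpr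
    rcases h.kq_cases hr hk hd.1 with e1 | e1
    · rw [e1, mul_inv_cancel]; exact one_mem _
    · rw [e1, mul_inv_cancel_right]; exact h.V_le_ii hr
  -- conjugate `(p, r)` to `(z, y)`
  obtain ⟨g, hg, hgp, hgr⟩ := h.xl_trans₂ hp hp1 hr hr1 hpr hz hz1 S.hy S.hy1 S.hyz
  have hgn := h.xl_le_normalizer hg
  have hk' := conj_mem_kq g hk
  have hd' := conj_mem_dd hgn hd
  rw [hgp] at hk'
  rw [hgr] at hd'
  have hkV' : g * k * g⁻¹ ∈ centralizer (V : Set G) :=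
    conj_mem_of_normalizer (normalizer_le_normalizer_centralizer V) hgn hkV
  have h1 := S.triv_aux h hk' hkV' hd'
  have h2 := conj_mem_of_normalizer' (normalizer_le_normalizer_ii V) hgn h1
  have e1 : g⁻¹ * (g * k * g⁻¹ * (g * d * g⁻¹) * (g * k * g⁻¹)⁻¹ * (g * d * g⁻¹)⁻¹) * g =
      k * d * k⁻¹ * d⁻¹ := by group
  rwa [e1] at h2

/-- `d d^k ∈ D_z` for every mover `k ∈ K_z` -/
theorem mul_mem_aux {k d : G} (hk : k ∈ kq V z) (hk1 : k ∉ centralizer (V : Set G)) (hd : d ∈ dd V y) :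
    d * (k * d * k⁻¹) ∈ dd V z := by
  have hz := h.ln.z_mem
  have hz1 := h.ln.z_ne
  -- `k = c e`, `c ∈ K_z ∩ C_G(V)`
  have hc1 : k * e⁻¹ ∈ centralizer (V : Set G) := h.mover_coset hz hz1 (S.e_kq h) (S.e_move h) hk hk1
  have hc2 : k * e⁻¹ ∈ kq V z := mul_mem hk (inv_mem (S.e_kq h))
  have h1 := S.triv h hz hz1 (S.hs h) (S.hs1 h) hc2 hc1 (S.conj_dd h hd)
  set f := e * d * e⁻¹ with hf
  have e1 : k * d * k⁻¹ = ((k * e⁻¹) * f * (k * e⁻¹)⁻¹ * f⁻¹) * f := by rw [hf]; group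
  rw [e1]
  have h2 := h.dd_comm S.hy S.hy1 (h.ii_le_dd hz hz1 h1) hd
  have e2 : d * (((k * e⁻¹) * f * (k * e⁻¹)⁻¹ * f⁻¹) * f) =
      ((k * e⁻¹) * f * (k * e⁻¹)⁻¹ * f⁻¹) * (d * f) := by
    rw [← mul_assoc, ← h2, mul_assoc]
  rw [e2]
  exact mul_mem (h.ii_le_dd hz hz1 h1) (S.mem_dd h hd)

/-- (3.2) `d d^k ∈ D_p` for all points `p ≠ r` of `V`, `d ∈ D_r`, movers `k ∈ K_p` -/
theorem mul_mem_dd {p r k d : G} (hp : p ∈ V) (hp1 : p ≠ 1) (hr : r ∈ V) (hr1 : r ≠ 1) (hrp : r ≠ p)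
    (hk : k ∈ kq V p) (hk1 : k ∉ centralizer (V : Set G)) (hd : d ∈ dd V r) :
    d * (k * d * k⁻¹) ∈ dd V p := by
  have hz := h.ln.z_mem
  have hz1 := h.ln.z_ne
  obtain ⟨g, hg, hgp, hgr⟩ := h.xl_trans₂ hp hp1 hr hr1 hrp hz hz1 S.hy S.hy1 S.hyz
  have hgn := h.xl_le_normalizer hg
  have hk' := conj_mem_kq g hk
  have hd' := conj_mem_dd hgn hd
  rw [hgp] at hk'
  rw [hgr] at hd'
  have hk1' : g * k * g⁻¹ ∉ centralizer (V : Set G) := fun hc => by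
    have := conj_mem_of_normalizer' (normalizer_le_normalizer_centralizer V) hgn hc
    have e1 : g⁻¹ * (g * k * g⁻¹) * g = k := by group
    rw [e1] at this
    exact hk1 this
  have h1 := S.mul_mem_aux h hk' hk1' hd'
  have h2 := conj_mem_dd (inv_mem hgn) h1
  have e1 : g⁻¹ * (g * d * g⁻¹ * (g * k * g⁻¹ * (g * d * g⁻¹) * (g * k * g⁻¹)⁻¹)) * g⁻¹⁻¹ =
      d * (k * d * k⁻¹) := by group
  have e2 : g⁻¹ * z * g⁻¹⁻¹ = p := by rw [← hgp]; group
  rwa [e1, e2] at h2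

/-- (3.2) `d d^k = d^t` modulo `I` for `d ∈ D_r`, movers `k ∈ K_p`, `t ∈ K_{pr}` -/
theorem theta {p r k t d : G} (hp : p ∈ V) (hp1 : p ≠ 1) (hr : r ∈ V) (hr1 : r ≠ 1) (hrp : r ≠ p)
    (hk : k ∈ kq V p) (hk1 : k ∉ centralizer (V : Set G)) (ht : t ∈ kq V (p * r))
    (ht1 : t ∉ centralizer (V : Set G)) (hd : d ∈ dd V r) :
    d * (k * d * k⁻¹) * (t * d * t⁻¹)⁻¹ ∈ ii V := by
  have hs : p * r ∈ V := mul_mem hp hr
  have hs1 : p * r ≠ 1 := h.mul_ne_one hr (Ne.symm hrp)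
  have hrs : r ≠ p * r := fun e' => hp1 (by simpa using e'.symm)
  have hps : p ≠ p * r := fun e' => hr1 (by simpa using e'.symm)
  have hpr := h.ln.comm hp hr
  have hpp := h.ln.sq p hp
  have hrr := h.ln.sq r hr
  have htn := h.kq_le_normalizer hs hs1 ht
  have hkn := h.kq_le_normalizer hp hp1 hk
  -- `t` swaps `p` and `r`
  have htp : t * p * t⁻¹ = r := by
    rw [h.move hs hs1 hp hp1 hps ht ht1, hpr, mul_assoc, hpp, mul_one]
  have htr : t * r * t⁻¹ = p := by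
    rw [h.move hs hs1 hr hr1 hrs ht ht1, mul_assoc, hrr, mul_one]
  have hkr : k * r * k⁻¹ = p * r := h.move hp hp1 hr hr1 hrp hk hk1
  have ha1 : t * d * t⁻¹ ∈ dd V p := by
    have := conj_mem_dd htn hd
    rwa [htr] at this
  have ha2 : k * d * k⁻¹ ∈ dd V (p * r) := by
    have := conj_mem_dd hkn hd
    rwa [hkr] at this
  set a1 := t * d * t⁻¹ with ha1'
  set a2 := k * d * k⁻¹ with ha2'
  have hC : d * a2 ∈ dd V p := S.mul_mem_dd h hp hp1 hr hr1 hrp hk hk1 hd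
  have hCt : t * (d * a2) * t⁻¹ ∈ dd V r := by
    have := conj_mem_dd htn hC
    rwa [htp] at this
  have e1 : t * (d * a2) * t⁻¹ = a1 * (t * a2 * t⁻¹) := by rw [ha1']; group
  -- `a1 a2 ∈ D_r`
  have h1 : a1 * a2 ∈ dd V r := by
    rcases h.kq_cases hs ht ha2.1 with e2 | e2
    · rw [e1, e2] at hCt; exact hCt
    · rw [e1, e2] at hCt
      have h3 : a1 * (p * r * a2) = (p * r) * (a1 * a2) := by
        have h4 : a1 * (p * r) = (p * r) * a1 :=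
          ha1.2 _ hs hs1 _ (h.V_le hs hs1 hs)
        rw [← mul_assoc, h4, mul_assoc]
      rw [h3] at hCt
      have h5 := mul_mem (h.V_le_dd hr hr1 (inv_mem hs)) hCt
      rwa [inv_mul_cancel_left] at h5
  -- `d a2 a1⁻¹ = d (a1 a2)⁻¹` : in `D_p ∩ D_r`
  have h6 : a2 * a2 = 1 := h.dd_sq hs hs1 ha2
  have h7 : a1 * a2 = a2 * a1 := h.dd_comm hs hs1 ha1 ha2
  have h8 : d * a2 * a1⁻¹ = d * (a1 * a2)⁻¹ := by
    have h9 : (a1 * a2)⁻¹ = a2 * a1⁻¹ := by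
      calc (a1 * a2)⁻¹ = a2⁻¹ * a1⁻¹ := _root_.mul_inv_rev a1 a2
        _ = a2 * a1⁻¹ := by rw [inv_eq_self h6]
    rw [h9, mul_assoc]
  refine h.dd_inf hp hp1 hr hr1 hrp (mul_mem hC (inv_mem ha1)) ?_
  rw [h8]
  exact mul_mem hd (inv_mem h1)

end Spr

namespace One

variable {T V L : Subgroup G} {z y q e : G}

/-- (3.3): if `D_y ≤ W_z D_q D_{zq}` for a line `L ∋ z, q` and some `e ∈ E_q` moves `y`, then `D_y = I`. -/
theorem dd_le_ii (h : One T V z) (hL : L ∈ lines V z) (hy : y ∈ V) (hy1 : y ≠ 1) (hyz : y ≠ z) (hq : q ∈ L)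
    (hq1 : q ≠ 1) (he : e ∈ ee L q) (ey : e * y * e⁻¹ = z * y) {d : G} (hd : d ∈ dd V y)
    (hB : ∃ w ∈ ws V z, ∃ a ∈ dd L q, ∃ b ∈ dd L (z * q), d = w * (a * b)) : d ∈ ii V := by
  have hz := h.ln.z_mem
  have hz1 := h.ln.z_ne
  obtain ⟨w, hw, a, ha, b, hb, e1⟩ := hB
  have hek : e ∈ kq V z := by
    rw [← kq_line hL]
    exact he.2 z hL.2 hz1
  have h1 : a * e = e * a := ha.2 q hq hq1 e he.1
  have h2 : b * e = e * b := hb.2 q hq hq1 e he.1
  have h3 : e * (a * b) * e⁻¹ = a * b := conj_eq_of_comm (comm_mul_of h1.symm h2.symm)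
  have hs : z * y ∈ V := mul_mem hz hy
  have hs1 : z * y ≠ 1 := h.mul_ne_one hy (Ne.symm hyz)
  have hsy : z * y ≠ y := fun e' => hz1 (by simpa using e')
  have h4 : e * d * e⁻¹ ∈ dd V (z * y) := by
    have := conj_mem_dd (h.kq_le_normalizer hz hz1 hek) hd
    rwa [ey] at this
  have h5 : e * d * e⁻¹ = d ∨ e * d * e⁻¹ = z * d := by
    have e2 : e * d * e⁻¹ = (e * w * e⁻¹) * (e * (a * b) * e⁻¹) := by rw [e1]; group
    rcases h.kq_cases hz hek hw with e3 | e3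
    · left; rw [e2, e3, h3, e1]
    · right; rw [e2, e3, h3, e1]; group
  have h6 : d ∈ dd V (z * y) := by
    rcases h5 with e3 | e3
    · rwa [e3] at h4
    · rw [e3] at h4
      have := mul_mem (h.V_le_dd hs hs1 (inv_mem hz)) h4
      rwa [inv_mul_cancel_left] at this
  exact h.dd_inf hy hy1 hs hs1 hsy hd h6

end One

end Cfsg.Agent.Omega.NO3S.TwoOne
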