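import Cfsg.Agent.Omega.NO3S.TwoOne.MixedAbs
import Cfsg.Agent.Omega.NO3S.SLTwo.Rep

/-!
# NO-3S, `q = 2`, `n = 1`: the mixed case (helper311's text #18168 (2))

`h : One T V z`, `R : MRep V cg z M H`, `A = R.img (ww V cg y)`, `v0 = R.pi y`.

* `mix` : the abstract situation `Mix v0 A`; `o2_eq_bot` : `O₂(H) = 1`;
* `all_tv` : one `1 ≠ a ∈ A` is a transvection with centre `v0` implies that all are;
* `comm_mem_V` : then `[W_p, W_q] ≤ V` for all points `p ≠ q` of `V` (the hypothesis of `TV.tvf_of_one`).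
-/

set_option autoImplicit false
set_option linter.unusedSectionVars false

namespace Cfsg.Agent.Omega.NO3S.TwoOne.Mixed

open Subgroup Cfsg Cfsg.Agent.ZN Cfsg.Agent.MinSimple.Geo Cfsg.Agent.Omega.CaseL
open Cfsg.Agent.Omega.NO3S.Fit Cfsg.Agent.Omega.NO3S.TwoOne Cfsg.Agent.Omega.NO3S.SLTwo
open Cfsg.Agent.ZN.Block (conj_mem_of_normalizer conj_mem_of_normalizer' le_normalizer_of_forall
  mem_normalizer_of)

universe u

variable {G : Type u} [Group G] {T V : Subgroup G} {z : G} {M H : Type u} [AddCommGroup M] [Group H]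
  [DistribMulAction H M]

/-- `O₂(H) = 1` -/
theorem o2_eq_bot [Finite G] (h : One T V z) (R : MRep V cg z M H) {N : Subgroup H} (hN : N.Normal)
    (h2 : IsPGroup 2 N) : N = ⊥ := by
  have hpre := R.pre_le N
  have hpow : ∀ c ∈ cg z, ∀ k : ℕ, R.phi (c ^ k) = R.phi c ^ k := by
    intro c hc k
    exact map_pow R.hom ⟨c, hc⟩ k
  have h1 : R.pre N ≤ qq V cg z := by
    refine h.fam.o2h hpre ?_ ?_
    · refine le_normalizer_of_forall fun c hc' n hn => ?_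
      rw [R.mem_pre] at hn ⊢
      refine ⟨mul_mem (mul_mem hc' hn.1) (inv_mem hc'), ?_⟩
      rw [R.phi_mul _ (mul_mem hc' hn.1) _ (inv_mem hc'), R.phi_mul _ hc' _ hn.1, R.phi_inv hc']
      exact hN.conj_mem _ hn.2 _
    · intro n hn
      rw [R.mem_pre] at hn
      obtain ⟨k, hk⟩ := h2 ⟨R.phi n, hn.2⟩
      refine ⟨k, ?_⟩
      rw [← R.phi_ker _ (pow_mem hn.1 _), hpow n hn.1]
      exact congrArg Subtype.val hk
  rw [eq_bot_iff]
  intro x hx
  obtain ⟨f, hf, rfl⟩ := R.phi_surj x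
  rw [mem_bot]
  exact (R.phi_ker f hf).mpr (h1 (R.mem_pre.mpr ⟨hf, hx⟩))

theorem finite_H [Finite G] (R : MRep V cg z M H) : Finite H :=
  Finite.of_surjective R.phi fun x => by
    obtain ⟨c, -, e⟩ := R.phi_surj x
    exact ⟨c, e⟩

theorem finite_M [Finite G] (R : MRep V cg z M H) : Finite M :=
  Finite.of_surjective R.pi fun x => by
    obtain ⟨c, -, e⟩ := R.pi_surj x
    exact ⟨c, e⟩

/-- (VI) in `M`: `v0 + u` is in the orbit for a line vector `u ≠ v0` of `ii V / z` -/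
theorem plane_pi [Finite G] (h : One T V z) (R : MRep V cg z M H) {y : G} (hy : y ∈ V) (hy1 : y ≠ 1) (hyz : y ≠ z)
    {u : G} (hu : u ∈ ii V) {k : H} (hk : R.pi u = k • R.pi y) (hkv : k • R.pi y ≠ R.pi y) :
    ∃ l : H, R.pi y + k • R.pi y = l • R.pi y := by
  have hz := h.ln.z_mem
  have hz1 := h.ln.z_ne
  have hyW : y ∈ ws V z := h.V_le hz hz1 hy
  have huW : u ∈ ws V z := ii_le hz hz1 hu
  obtain ⟨c, hc, rfl⟩ := R.phi_surj k
  have hc' : c ∈ centralizer ({z} : Set G) := hc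
  have hcy : c * y * c⁻¹ ∈ ws V z := conj_ws_z h hc' hyW
  have hne : R.phi c • R.pi y ≠ 0 := by
    intro e
    rw [smul_eq_zero_iff_eq] at e
    exact R.v0_ne h.fam hy hy1 hyz e
  have hLc : cj c V ∈ lines V z := h.ln.cj_mem_lines hc'
  have hzL : z ∈ cj c V := hLc.2
  have huL : u ∈ cj c V := by
    rw [act' h R hc' hyW, pi_eq' h R huW hcy] at hk
    rcases hk with e | e
    · rw [e]; exact conj_mem_cj hy
    · rw [e]; exact mul_mem hzL (conj_mem_cj hy)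
  have huV : u ∉ V := by
    intro hV
    rcases h.ln.four hz hy hz1 hy1 (Ne.symm hyz) hV with e | e | e | e
    · rw [e, (pi_ker' h R (one_mem _)).2 (Or.inl rfl)] at hk
      exact hne hk.symm
    · rw [e, (pi_ker' h R (h.V_le hz hz1 hz)).2 (Or.inr rfl)] at hk
      exact hne hk.symm
    · rw [e] at hk; exact hkv hk.symm
    · rw [e, pi_mul' h R (h.V_le hz hz1 hz) hyW, (pi_ker' h R (h.V_le hz hz1 hz)).2 (Or.inr rfl), zero_add] at hk
      exact hkv hk.symm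
  obtain ⟨U, hU, hVU, huU, -⟩ := h.exists_plane hu huV ⟨_, hLc, huL⟩
  have hyu : y * u ∉ V := fun e => huV (by
    have := mul_mem (inv_mem hy) e
    rwa [inv_mul_cancel_left] at this)
  obtain ⟨L, hL, hyuL⟩ := hU.line z (hVU hz) (y * u) (mul_mem (hVU hy) huU) hz1
    (fun e => hyu (by rw [e]; exact one_mem _)) (fun e => hyu (by rw [← e]; exact hz))
  obtain ⟨d, hd, rfl⟩ := h.ln.exists_of_mem_lines hL
  have hx : d⁻¹ * (y * u) * d ∈ V := mem_cj.mp hyuL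
  have hyuW : y * u ∈ ws V z := mul_mem hyW huW
  have hxW : d⁻¹ * (y * u) * d ∈ ws V z := h.V_le hz hz1 hx
  have e1 : R.pi (y * u) = R.phi d • R.pi (d⁻¹ * (y * u) * d) := by
    rw [act' h R hd hxW]
    congr 1
    group
  have e2 : R.pi (y * u) = R.pi y + R.phi c • R.pi y := by rw [pi_mul' h R hyW huW, hk]
  have hyu0 : R.pi (y * u) ≠ 0 := by
    intro e
    rcases (pi_ker' h R hyuW).1 e with e | e
    · exact hyu (by rw [e]; exact one_mem _)
    · exact hyu (by rw [e]; exact hz)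
  refine ⟨R.phi d, ?_⟩
  rw [← e2, e1]
  congr 1
  rcases h.ln.four hz hy hz1 hy1 (Ne.symm hyz) hx with e | e | e | e
  · exfalso
    apply hyu0
    rw [e1, e, (pi_ker' h R (one_mem _)).2 (Or.inl rfl), smul_zero]
  · exfalso
    apply hyu0
    rw [e1, e, (pi_ker' h R (h.V_le hz hz1 hz)).2 (Or.inr rfl), smul_zero]
  · rw [e]
  · rw [e, pi_mul' h R (h.V_le hz hz1 hz) hyW, (pi_ker' h R (h.V_le hz hz1 hz)).2 (Or.inr rfl), zero_add]

/-- the abstract situation -/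
theorem mix [Finite G] [Module (ZMod 2) M] (h : One T V z) (R : MRep V cg z M H) {y : G} (hy : y ∈ V) (hy1 : y ≠ 1)
    (hyz : y ≠ z) : Mix (R.pi y) (R.img (ww V cg y)) := by
  have hle : ww V cg y ≤ cg z := by rw [h.ww_cg hy hy1]; exact h.ws_le_cg hy hy1
  exact
    { ne := R.v0_ne h.fam hy hy1 hyz
      span := R.span h.fam hy hy1 hyz
      o2 := fun N hN h2 => o2_eq_bot h R hN h2
      nor := by
        intro x hx a ha
        obtain ⟨w, hw, rfl⟩ := (R.mem_img hle).mp ha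
        obtain ⟨w', hw', e, -⟩ := R.norm_A h.fam hy hy1 hy hy1 hyz hx hw
        rw [e]
        exact (R.mem_img hle).mpr ⟨w', hw', rfl⟩
      fix := by
        intro a ha
        obtain ⟨w, hw, rfl⟩ := (R.mem_img hle).mp ha
        exact R.A_v0 h.fam hy hy1 hy hw
      quad := by
        intro a ha b hb m
        obtain ⟨w, hw, rfl⟩ := (R.mem_img hle).mp ha
        obtain ⟨v, hv, rfl⟩ := (R.mem_img hle).mp hb
        obtain ⟨n, hn, rfl⟩ := R.pi_surj m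
        exact R.quad h.fam hy hy1 hyz hw hv hn
      plane := by
        intro a ha m k hk hkv
        obtain ⟨u, hu, e⟩ := comm_mem_jm h R hy hy1 hyz ha m
        exact plane_pi h R hy hy1 hyz hu (e.trans hk) hkv
      irr := by
        intro X hX hXt a ha m hm
        have h1 : X ≤ cc h R := (sub_cc h R hX).resolve_right hXt
        exact sub_eq_zero.mp (jm_cc h R (comm_mem_jm h R hy hy1 hyz ha m) (h1 hm)) }

/-- **the mixed case**: one `1 ≠ a ∈ A` is a transvection with centre `v0` implies that all are. -/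
theorem all_tv [Finite G] [FaithfulSMul H M] (h : One T V z) (R : MRep V cg z M H) {y : G} (hy : y ∈ V) (hy1 : y ≠ 1)
    (hyz : y ≠ z) {a0 : H} (ha0 : a0 ∈ R.img (ww V cg y)) (ha01 : a0 ≠ 1)
    (ht : ∀ m : M, a0 • m = m ∨ a0 • m = m + R.pi y) :
    ∀ a ∈ R.img (ww V cg y), ∀ m : M, a • m = m ∨ a • m = m + R.pi y := by
  have := finite_H R
  have := finite_M R
  let _ : Module (ZMod 2) M := AddCommGroup.zmodModule (n := 2) fun m => by
    rw [two_nsmul]; exact R.two h.fam m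
  exact (mix h R hy hy1 hyz).all ha0 ha01 ht

/-- then `[W_y, W_z] ≤ V` -/
theorem comm_mem_V_z [Finite G] [FaithfulSMul H M] (h : One T V z) (R : MRep V cg z M H) {y : G} (hy : y ∈ V)
    (hy1 : y ≠ 1) (hyz : y ≠ z) {a0 : H} (ha0 : a0 ∈ R.img (ww V cg y)) (ha01 : a0 ≠ 1)
    (ht : ∀ m : M, a0 • m = m ∨ a0 • m = m + R.pi y) {a b : G} (ha : a ∈ ws V y) (hb : b ∈ ws V z) :
    a * b * a⁻¹ * b⁻¹ ∈ V := by
  have hz := h.ln.z_mem
  have hz1 := h.ln.z_ne
  have hle : ww V cg y ≤ cg z := by rw [h.ww_cg hy hy1]; exact h.ws_le_cg hy hy1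
  have hac : a ∈ centralizer ({z} : Set G) := h.ws_le_cg hy hy1 ha
  have h1 := all_tv h R hy hy1 hyz ha0 ha01 ht (R.phi a)
    ((R.mem_img hle).mpr ⟨a, by rw [h.ww_cg hy hy1]; exact ha, rfl⟩) (R.pi b)
  have hyW : y ∈ ws V z := h.V_le hz hz1 hy
  have hcW : a * b * a⁻¹ * b⁻¹ ∈ ws V z := mul_mem (conj_ws_z h hac hb) (inv_mem hb)
  have h2 : R.pi (a * b * a⁻¹ * b⁻¹) = 0 ∨ R.pi (a * b * a⁻¹ * b⁻¹) = R.pi y := by
    rw [← comm_pi h R hac hb]
    rcases h1 with e | e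
    · left; rw [e, sub_self]
    · right; rw [e, add_sub_cancel_left]
  rcases h2 with e | e
  · rcases (pi_ker' h R hcW).1 e with e | e
    · rw [e]; exact one_mem _
    · rw [e]; exact hz
  · rcases (pi_eq' h R hcW hyW).1 e with e | e
    · rw [e]; exact hy
    · rw [e]; exact mul_mem hz hy

/-- **the mixed case**: if `A` contains a transvection `≠ 1` with centre `v0`, then `[W_p, W_q] ≤ V` for all points
`p ≠ q` of `V`. -/
theorem comm_mem_V [Finite G] [FaithfulSMul H M] (h : One T V z) (R : MRep V cg z M H) {y : G} (hy : y ∈ V)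
    (hy1 : y ≠ 1) (hyz : y ≠ z) {a0 : H} (ha0 : a0 ∈ R.img (ww V cg y)) (ha01 : a0 ≠ 1)
    (ht : ∀ m : M, a0 • m = m ∨ a0 • m = m + R.pi y) :
    ∀ p ∈ V, p ≠ 1 → ∀ q ∈ V, q ≠ 1 → q ≠ p → ∀ a ∈ ww V cg p, ∀ b ∈ ww V cg q, a * b * a⁻¹ * b⁻¹ ∈ V := by
  intro p hp hp1 q hq hq1 hqp a ha b hb
  have hf := h.fam
  obtain ⟨g, hg, e1, e2⟩ := hf.trans2 hp hp1 hq hq1 hqp hy hy1 h.ln.z_mem h.ln.z_ne (Ne.symm hyz)
  have h1 := hf.conj_ww hg hp hp1 ha
  have h2 := hf.conj_ww hg hq hq1 hb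
  rw [e1, h.ww_cg hy hy1] at h1
  rw [e2, h.ww_cg h.ln.z_mem h.ln.z_ne] at h2
  have h3 := comm_mem_V_z h R hy hy1 hyz ha0 ha01 ht h1 h2
  have e : g * a * g⁻¹ * (g * b * g⁻¹) * (g * a * g⁻¹)⁻¹ * (g * b * g⁻¹)⁻¹ = g * (a * b * a⁻¹ * b⁻¹) * g⁻¹ := by
    group
  rw [e] at h3
  exact (mem_normalizer_iff.mp hg _).mpr h3

/-- in the language of `W_y`: `a ∈ W_y ∖ K_z` with `[W_z, a] ≤ V` -/
theorem comm_mem_V' [Finite G] (h : One T V z) {y : G} (hy : y ∈ V) (hy1 : y ≠ 1) (hyz : y ≠ z)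
    {a0 : G} (ha0 : a0 ∈ ws V y) (ha01 : a0 ∉ kq V z) (ht : ∀ w ∈ ws V z, a0 * w * a0⁻¹ * w⁻¹ ∈ V) :
    ∀ p ∈ V, p ≠ 1 → ∀ q ∈ V, q ≠ 1 → q ≠ p → ∀ a ∈ ww V cg p, ∀ b ∈ ww V cg q, a * b * a⁻¹ * b⁻¹ ∈ V := by
  obtain ⟨M, H, i1, i2, i3, i4, i5, i6, ⟨R⟩⟩ := h.fam.exists_mrep
  have hz := h.ln.z_mem
  have hz1 := h.ln.z_ne
  have hle : ww V cg y ≤ cg z := by rw [h.ww_cg hy hy1]; exact h.ws_le_cg hy hy1
  have hac : a0 ∈ centralizer ({z} : Set G) := h.ws_le_cg hy hy1 ha0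
  have hyW : y ∈ ws V z := h.V_le hz hz1 hy
  refine comm_mem_V h R hy hy1 hyz (a0 := R.phi a0)
    ((R.mem_img hle).mpr ⟨a0, by rw [h.ww_cg hy hy1]; exact ha0, rfl⟩)
    (fun e => ha01 ((h.phi_eq_one R hac).mp e)) fun m => ?_
  obtain ⟨w, hw, rfl⟩ := pi_surj' h R m
  have h1 := comm_pi h R hac hw
  rcases h.ln.four hz hy hz1 hy1 (Ne.symm hyz) (ht w hw) with e | e | e | e
  · left
    rw [e, (pi_ker' h R (one_mem _)).2 (Or.inl rfl)] at h1
    exact sub_eq_zero.mp h1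
  · left
    rw [e, (pi_ker' h R (h.V_le hz hz1 hz)).2 (Or.inr rfl)] at h1
    exact sub_eq_zero.mp h1
  · right
    rw [e] at h1
    rw [← h1]; abel
  · right
    rw [e, pi_mul' h R (h.V_le hz hz1 hz) hyW, (pi_ker' h R (h.V_le hz hz1 hz)).2 (Or.inr rfl), zero_add] at h1
    rw [← h1]; abel

end Cfsg.Agent.Omega.NO3S.TwoOne.Mixed
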