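import Cfsg.Agent.Omega.NO3S.TwoOne.Cases
import Cfsg.Agent.Omega.NO3S.TwoOne.Mixed

/-!
# NO-3S, `q = 2`, `n = 1`: the mixed case of `CompP` is empty (helper311's text #18168 (2))

* `One.allTv_of_not_nt` : a `λ`-transvection in `A` implies that `A` consists of `λ`-transvections;
* `mixP : MixP K`.
-/

set_option autoImplicit false

namespace Cfsg.Agent.Omega.NO3S.TwoOne

open Subgroup Cfsg Cfsg.Agent.Omega.MinPar Cfsg.Agent.Omega.Frame Cfsg.Agent.Omega.FrameNOFF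
open Cfsg.Agent.ZN (zl zc o2)
open Cfsg.Agent.MinSimple.Geo (ws kq)
open Cfsg.Agent.Omega.NO3S.Fit
open scoped commutatorElement

universe u

/-- a `λ`-transvection in `A` implies that `A` consists of `λ`-transvections -/
theorem One.allTv_of_not_nt {G : Type u} [Group G] [Finite G] {T V : Subgroup G} {z : G} (h : One T V z)
    (hn : ¬ NT V) : AllTv V := by
  have hz := h.ln.z_mem
  have hz1 := h.ln.z_ne
  obtain ⟨y, hy, hy1, hyz⟩ := h.ln.exists_y
  obtain ⟨p, hp, hp1, w, hw, hwe⟩ : ∃ p ∈ V, p ≠ 1 ∧ ∃ w ∈ n0 V p, w ∉ ee V p := by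
    by_contra hc
    apply hn
    intro p hp hp1 w hw
    by_contra hwe
    exact hc ⟨p, hp, hp1, w, hw, hwe⟩
  obtain ⟨g, hg, hgp⟩ := h.xl_trans hp hp1 hy hy1
  have hgn := h.xl_le_normalizer hg
  have h1 : g * w * g⁻¹ ∈ n0 V y := by
    have := conj_mem_n0 hgn hw
    rwa [hgp] at this
  have h2 : g * w * g⁻¹ ∉ kq V z := by
    intro hk
    have h3 : g * w * g⁻¹ ∈ ee V y := h.mem_ee hy hy1 hz hz1 (Ne.symm hyz) h1.1 hk
    apply hwe
    refine ⟨hw.1, fun q hq hq1 => ?_⟩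
    have h4 := h3.2 (g * q * g⁻¹) ((mem_normalizer_iff.mp hgn q).mp hq) (conj_eq_one_iff.not.mpr hq1)
    have h5 := conj_mem_kq g⁻¹ h4
    have e1 : g⁻¹ * (g * w * g⁻¹) * g⁻¹⁻¹ = w := by group
    have e2 : g⁻¹ * (g * q * g⁻¹) * g⁻¹⁻¹ = q := by group
    rwa [e1, e2] at h5
  have h3 := Mixed.comm_mem_V' h hy hy1 hyz h1.1 h2 fun v hv => by
    have := h1.2.2 z hz hz1 v hv
    rwa [commutatorElement_def] at this
  intro p hp hp1 q hq hq1 a ha b hb
  rw [commutatorElement_def]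
  by_cases hqp : q = p
  · rw [hqp] at hb
    rw [h.comm hp hp1 a ha b hb]
    have e : b * a * a⁻¹ * b⁻¹ = 1 := by group
    rw [e]
    exact one_mem _
  · refine h3 p hp hp1 q hq hq1 hqp a ?_ b ?_
    · rw [h.ww_cg hp hp1]; exact ha
    · rw [h.ww_cg hq hq1]; exact hb

/-- **the mixed case is empty** -/
theorem mixP (K : Cls.{u}) : MixP K := by
  intro G _ _ _ S P _ z ho hc
  exact absurd (ho.allTv_of_not_nt hc.2.1) hc.2.2

end Cfsg.Agent.Omega.NO3S.TwoOne
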