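import Cfsg.Agent.Omega.NO3S.TwoOne.InstC
import Cfsg.Agent.Involutions.BaerSuzuki

/-!
# NO-3S, `q = 2`, `n = 1`: planes and odd elements, in the language of the module

`h : One T V z`, `R : MRep V cg z M H`, `hN : NT V`, `y ∈ V`, `y ≠ 1, z`, `l, m ∈ LL R y` (planes allowed):

* `One.in_sum` : `m ∈ Ī_l`, `m ≠ l` : `l + m` is a line vector;
* `One.in_tri` : `a ∈ A_l ∩ A_m`, `a ∈ A_{l+m}` if `m ∈ Ī_l`;
* `One.in_plane` : `l ≠ m`, `1 ≠ a ∈ A_l ∩ A_m` : `l + m ∈ LL R y` and `a ∈ A_{l+m}`;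
* `One.in_inj` : `A_l = A_m → l = m`;
* `One.in_o2` : `O₂(H) = 1`;
* `One.in_bs` : every `a ∈ A_l`, `a ≠ 1`, inverts some `o ≠ 1` of odd order.
-/

set_option autoImplicit false
set_option linter.unusedSectionVars false

namespace Cfsg.Agent.Omega.NO3S.TwoOne

open Subgroup Cfsg Cfsg.Agent.ZN Cfsg.Agent.MinSimple.Geo Cfsg.Agent.Omega.CaseL
open Cfsg.Agent.Omega.NO3S.Fit
open Cfsg.Agent.ZN.Block (conj_mem_of_normalizer conj_mem_of_normalizer' le_normalizer_of_forall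
  mem_normalizer_of)
open scoped commutatorElement

universe u

variable {G : Type u} [Group G]

namespace One

variable {T V : Subgroup G} {z : G} {M H : Type u} [AddCommGroup M] [Group H] [DistribMulAction H M]
  (h : One T V z) (R : MRep V cg z M H) {y : G} (hy : y ∈ V) (hy1 : y ≠ 1) (hyz : y ≠ z)
include h hy hy1 hyz

/-- in a plane: some `c ∈ C_H(A_l)` fixes `l` and maps `m` to `l + m` -/
theorem exists_kt [Finite G] {l m : M} (hl : l ∈ LL R y) (hm : m ∈ LL R y) (hml : m ∈ II R y l) (hne : m ≠ l) :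
    ∃ c : H, c • l = l ∧ c • m = l + m ∧ ∀ a ∈ AA R y l, c * a = a * c := by
  obtain ⟨c, h1, h2, h3, -⟩ := h.in_Kt R hy hy1 hyz hl hml (h.in_ne R hy hy1 hyz hm) hne
  exact ⟨c, h1, by rw [h2, add_comm], h3⟩

/-- in a plane the sum is a line vector -/
theorem in_sum [Finite G] {l m : M} (hl : l ∈ LL R y) (hm : m ∈ LL R y) (hml : m ∈ II R y l) (hne : m ≠ l) :
    l + m ∈ LL R y := by
  obtain ⟨c, -, h2, -⟩ := h.exists_kt R hy hy1 hyz hl hm hml hne
  rw [← h2]
  exact smul_mem_LL R y c hm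

/-- (N3) -/
theorem in_tri [Finite G] {l m : M} (hl : l ∈ LL R y) (hm : m ∈ LL R y) (hml : m ∈ II R y l) (hne : m ≠ l) {a : H}
    (ha : a ∈ AA R y l) (ha' : a ∈ AA R y m) : a ∈ AA R y (l + m) := by
  obtain ⟨c, -, h2, h3⟩ := h.exists_kt R hy hy1 hyz hl hm hml hne
  have h4 := h.in_A_conj R hy hy1 hyz hm (x := c) ha'
  rwa [h3 a ha, mul_inv_cancel_right, h2] at h4

/-- (0.1) of #19417 -/
theorem in_plane [Finite G] (hN : NT V) {l m : M} (hl : l ∈ LL R y) (hm : m ∈ LL R y) (hne : l ≠ m) {a : H}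
    (ha1 : a ≠ 1) (ha : a ∈ AA R y l) (ha' : a ∈ AA R y m) : l + m ∈ LL R y ∧ a ∈ AA R y (l + m) := by
  have hml : m ∈ II R y l := by
    by_contra hml
    exact ha1 (h.in_inf R hy hy1 hyz hN hl hm hml ha ha')
  exact ⟨h.in_sum R hy hy1 hyz hl hm hml (Ne.symm hne), h.in_tri R hy hy1 hyz hl hm hml (Ne.symm hne) ha ha'⟩

/-- THEOREM P: `A_l` determines `l` -/
theorem in_inj [Finite G] {l m : M} (hl : l ∈ LL R y) (hm : m ∈ LL R y) (he : AA R y l = AA R y m) : l = m := by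
  obtain ⟨x, hx⟩ := trans_LL R y hl hm
  have h1 : x • l = l := h.in_norm R hy hy1 hyz hl fun a ha => by
    have h2 := h.in_A_conj R hy hy1 hyz hl (x := x) ha
    rwa [hx, ← he] at h2
  rw [← h1, hx]

include R in
omit hy hy1 hyz in
/-- `O₂(H) = 1` -/
theorem in_o2 [Finite G] {N : Subgroup H} (hN : N.Normal) (h2 : IsPGroup 2 N) : N = ⊥ := by
  rw [eq_bot_iff]
  intro x hx
  obtain ⟨c, hc, rfl⟩ := R.phi_surj x
  have hcg : ∀ c, c ∈ cg z ↔ c ∈ centralizer ({z} : Set G) := fun c => Iff.rfl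
  let P : Subgroup G :=
    { carrier := {c | c ∈ centralizer ({z} : Set G) ∧ R.phi c ∈ N}
      mul_mem' := fun {a b} ha hb => ⟨mul_mem ha.1 hb.1, by
        rw [R.phi_mul a ha.1 b hb.1]; exact mul_mem ha.2 hb.2⟩
      one_mem' := ⟨one_mem _, by
        have := (R.phi_ker 1 (one_mem _)).mpr (one_mem _)
        rw [this]; exact one_mem N⟩
      inv_mem' := fun {a} ha => ⟨inv_mem ha.1, by
        have h1 : R.phi a⁻¹ * R.phi a = 1 := by
          rw [← R.phi_mul a⁻¹ (inv_mem ha.1) a ha.1, inv_mul_cancel]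
          exact (R.phi_ker 1 (one_mem _)).mpr (one_mem _)
        rw [eq_inv_of_mul_eq_one_left h1]
        exact inv_mem ha.2⟩ }
  have hle : P ≤ kq V z := by
    refine h.le_kq (fun c hc => hc.1) (le_normalizer_of_forall fun d hd c hc => ⟨?_, ?_⟩) fun c hc => ?_
    · exact mul_mem (mul_mem hd hc.1) (inv_mem hd)
    · have hdi : R.phi d⁻¹ = (R.phi d)⁻¹ := by
        refine eq_inv_of_mul_eq_one_left ?_
        rw [← R.phi_mul d⁻¹ (inv_mem hd) d hd, inv_mul_cancel]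
        exact (R.phi_ker 1 (one_mem _)).mpr (one_mem _)
      rw [R.phi_mul _ (mul_mem hd hc.1) _ (inv_mem hd), R.phi_mul d hd c hc.1, hdi]
      exact hN.conj_mem _ hc.2 _
    · obtain ⟨n, hn⟩ := h2 ⟨R.phi c, hc.2⟩
      refine ⟨n, ?_⟩
      have hpow : ∀ k : ℕ, R.phi (c ^ k) = R.phi c ^ k := by
        intro k
        induction k with
        | zero =>
          rw [pow_zero, pow_zero]
          exact (R.phi_ker 1 (one_mem _)).mpr (one_mem _)
        | succ k ih => rw [pow_succ, pow_succ, R.phi_mul _ (pow_mem hc.1 k) c hc.1, ih]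
      rw [← h.phi_eq_one R (pow_mem hc.1 _), hpow]
      exact congrArg Subtype.val hn
  rw [mem_bot]
  exact (h.phi_eq_one R hc).mpr (hle ⟨hc, hx⟩)

/-- Baer–Suzuki: every `a ∈ A_l#` inverts some `o ≠ 1` of odd order -/
theorem in_bs [Finite G] [Finite H] {l : M} (hl : l ∈ LL R y) {a : H} (ha : a ∈ AA R y l) (ha1 : a ≠ 1) :
    ∃ o : H, o ≠ 1 ∧ Odd (orderOf o) ∧ a * o * a⁻¹ = o⁻¹ := by
  refine Involutions.BaerSuzuki.exists_odd_inverted a (h.in_sq R hy hy1 hyz hl ha) fun h2 => ha1 ?_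
  have h3 := h.in_o2 R (N := normalClosure {a}) normalClosure_normal h2
  have h4 : a ∈ normalClosure ({a} : Set H) := subset_normalClosure (Set.mem_singleton a)
  rwa [h3, mem_bot] at h4

end One

end Cfsg.Agent.Omega.NO3S.TwoOne
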