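import Cfsg.Agent.Omega.NO3S.TwoOne.Inst

/-!
# NO-3S, `q = 2`, `n = 1`: the module seen from another line

`h : One T V z`, `R : MRep V cg z M H`.  For `l ∈ LL R y` there are a line `V'` on `z`, a point `q` of `V'`, `One T' V' z`
and `R' : MRep V' cg z M H` with the same `pi`, `phi` such that `R.pi q = l` and `LL`, `AA`, `II`, `AL` are the same:
`One.base`.  So every statement about a line vector `l` may be proved at `v₀`.
-/

set_option autoImplicit false
set_option linter.unusedSectionVars false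

namespace Cfsg.Agent.Omega.NO3S.TwoOne

open Subgroup Cfsg Cfsg.Agent.ZN Cfsg.Agent.MinSimple.Geo Cfsg.Agent.Omega.CaseL
open Cfsg.Agent.Omega.NO3S.Fit
open Cfsg.Agent.ZN.Block (conj_mem_of_normalizer conj_mem_of_normalizer' le_normalizer_of_forall
  mem_normalizer_of)
open scoped commutatorElement

universe u

variable {G : Type u} [Group G]

theorem conj_mem_xl' {V : Subgroup G} (g : G) {k : G} (hk : k ∈ xl V) : g * k * g⁻¹ ∈ xl (cj g V) := by
  have h1 : xl V ≤ cj g⁻¹ (xl (cj g V)) := by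
    refine xl_le fun p hp hp1 k hk => ?_
    rw [mem_cj, inv_inv]
    refine kq_le_xl (conj_mem_cj hp) (fun e => hp1 (conj_eq_one_iff.mp e)) ?_
    rw [kq_cj]
    exact conj_mem_kq g hk
  have := mem_cj.mp (h1 hk)
  rwa [inv_inv] at this

theorem tw_cj {V : Subgroup G} (g : G) {p a q b : G} (ht : Tw V p a q b) :
    Tw (cj g V) (g * p * g⁻¹) (g * a * g⁻¹) (g * q * g⁻¹) (g * b * g⁻¹) := by
  obtain ⟨c, hc, hcp, h2⟩ := ht
  refine ⟨g * c * g⁻¹, conj_mem_xl' g hc, ?_, ?_⟩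
  · rw [← hcp]; group
  · have h3 := conj_mem_ee' g h2
    have e : g * (c * a * c⁻¹ * b⁻¹) * g⁻¹ = g * c * g⁻¹ * (g * a * g⁻¹) * (g * c * g⁻¹)⁻¹ * (g * b * g⁻¹)⁻¹ := by
      group
    rwa [e] at h3

/-- the same module, another member of the class of `V` -/
def lineRep {V V' : Subgroup G} {z : G} {M H : Type u} [AddCommGroup M] [Group H] [DistribMulAction H M]
    (R : MRep V cg z M H) (hw : ww V' cg z = ww V cg z) (hq : qq V' cg z = qq V cg z) : MRep V' cg z M H where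
  pi := R.pi
  phi := R.phi
  pi_mul := fun a ha b hb => R.pi_mul a (hw ▸ ha) b (hw ▸ hb)
  pi_surj := fun m => by
    obtain ⟨w, hw', e⟩ := R.pi_surj m
    exact ⟨w, hw ▸ hw', e⟩
  pi_ker := fun w hw' => R.pi_ker w (hw ▸ hw')
  phi_mul := R.phi_mul
  phi_surj := R.phi_surj
  phi_ker := fun c hc => by rw [hq]; exact R.phi_ker c hc
  act := fun c hc w hw' => R.act c hc w (hw ▸ hw')

namespace One

variable {T V : Subgroup G} {z : G} {M H : Type u} [AddCommGroup M] [Group H] [DistribMulAction H M]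

/-- **the base change** -/
theorem base [Finite G] (h : One T V z) (R : MRep V cg z M H) {y : G} (hy : y ∈ V) (hy1 : y ≠ 1) (hyz : y ≠ z)
    {l : M} (hl : l ∈ LL R y) :
    ∃ (T' V' : Subgroup G) (q : G) (_ : One T' V' z) (R' : MRep V' cg z M H), V' ∈ lines V z ∧ q ∈ V' ∧ q ≠ 1 ∧
      q ≠ z ∧ R'.pi = R.pi ∧ R'.phi = R.phi ∧ R.pi q = l ∧ LL R' q = LL R y ∧
      (∀ m ∈ LL R y, AA R' q m = AA R y m) ∧ (∀ m ∈ LL R y, II R' q m = II R y m) ∧
      (∀ m ∈ LL R y, ∀ w, AL R' q m w = AL R y m w) ∧ (NT V → NT V') ∧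
      (ee V' z).relIndex (ws V' z) = (ee V z).relIndex (ws V z) ∧ ∃ f : G, f * z * f⁻¹ = z ∧ V' = cj f V := by
  have hz := h.ln.z_mem
  have hz1 := h.ln.z_ne
  obtain ⟨x, hx⟩ := hl
  obtain ⟨f, hf, rfl⟩ := R.phi_surj x
  change R.phi f • R.pi y = l at hx
  have hfz : f * z * f⁻¹ = z := conj_eq_of_comm (mem_centralizer_singleton_iff.mp hf)
  have hyW := h.V_le hz hz1 hy
  have hL : cj f V ∈ lines V z := by
    have := mem_lines_cj (g := f) (L := V) (V := V) (x := z) ⟨⟨1, (cj_one V).symm⟩, hz⟩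
    rwa [hfz] at this
  obtain ⟨-, -, T', h'⟩ := h.of_line hL hz1
  have hww : ww (cj f V) cg z = ww V cg z := by rw [h'.ww_cg hL.2 hz1, h.ww_cg hz hz1, ws_cj]
  have hqq : qq (cj f V) cg z = qq V cg z := by rw [h'.qq_cg, h.qq_cg, kq_cj]
  set q := f * y * f⁻¹ with hq
  have hqL : q ∈ cj f V := conj_mem_cj hy
  have hq1 : q ≠ 1 := fun e => hy1 (conj_eq_one_iff.mp e)
  have hqz : q ≠ z := fun e => hyz (by
    calc y = f⁻¹ * q * f := by rw [hq]; group
      _ = f⁻¹ * (f * z * f⁻¹) * f := by rw [e, hfz]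
      _ = z := by group)
  have hpq : R.phi f • R.pi y = R.pi q := h.rp_act R hf hyW
  let R' := lineRep R hww hqq
  have hpi : R'.pi = R.pi := rfl
  have hphi : R'.phi = R.phi := rfl
  set F := R.phi f with hF
  -- the data at `v₀' = F v₀`
  have hLL : LL R' q = LL R y := by
    ext m
    constructor
    · rintro ⟨x, hx'⟩
      refine ⟨x * F, ?_⟩
      change (x * F) • R.pi y = m
      rw [mul_smul, hpq]; exact hx'
    · rintro ⟨x, hx'⟩
      refine ⟨x * F⁻¹, ?_⟩
      change (x * F⁻¹) • R.pi q = m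
      rw [← hpq, smul_smul, inv_mul_cancel_right]; exact hx'
  have hxF : ∀ {x : H} {m : M}, x • R.pi y = m → (x * F⁻¹) • R'.pi q = m := by
    intro x m e
    change (x * F⁻¹) • R.pi q = m
    rw [← hpq, smul_smul, inv_mul_cancel_right]; exact e
  have hA : ∀ a : H, a ∈ a0 R' q ↔ F⁻¹ * a * F ∈ a0 R y := by
    intro a
    rw [h'.mem_a0 R' hqL hq1, h.mem_a0 R hy hy1]
    constructor
    · rintro ⟨b, hb, rfl⟩
      rw [ws_cj] at hb
      have h1 : f⁻¹ * b * f ∈ ws V y := by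
        have := conj_mem_ws f⁻¹ hb
        have e : f⁻¹ * q * f⁻¹⁻¹ = y := by rw [hq]; group
        rwa [e, inv_inv] at this
      refine ⟨_, h1, ?_⟩
      have hbc : b ∈ cg z := by
        have := h'.ws_le_cz hqL hq1 (by rw [ws_cj]; exact hb)
        exact this
      rw [R.phi_mul _ (mul_mem (inv_mem hf) hbc) f hf, R.phi_mul _ (inv_mem hf) b hbc, R.phi_inv hf]
      rfl
    · rintro ⟨b, hb, e⟩
      refine ⟨f * b * f⁻¹, by rw [ws_cj]; exact conj_mem_ws f hb, ?_⟩
      have hbc : b ∈ cg z := h.ws_le_cz hy hy1 hb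
      change R.phi _ = a
      rw [R.phi_mul _ (mul_mem hf hbc) _ (inv_mem hf), R.phi_mul f hf b hbc, R.phi_inv hf, e, ← hF]
      group
  have hI : ∀ u : M, u ∈ i0 R' ↔ F⁻¹ • u ∈ i0 R := by
    intro u
    rw [h'.mem_i0 R', h.mem_i0 R]
    constructor
    · rintro ⟨v, hv, rfl⟩
      have hvz : v ∈ ws V z := by
        have := ii_le hL.2 hz1 hv
        rwa [ws_cj] at this
      refine ⟨f⁻¹ * v * f, ?_, ?_⟩
      · intro p hp hp1
        have h1 := hv (f * p * f⁻¹) (conj_mem_cj hp) (fun e => hp1 (conj_eq_one_iff.mp e))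
        rw [ws_cj] at h1
        have h2 := conj_mem_ws f⁻¹ h1
        have e : f⁻¹ * (f * p * f⁻¹) * f⁻¹⁻¹ = p := by group
        rwa [e, inv_inv] at h2
      · have h1 := h.rp_act R (inv_mem hf) hvz
        rw [inv_inv, R.phi_inv hf] at h1
        exact h1.symm
    · rintro ⟨v, hv, e⟩
      refine ⟨f * v * f⁻¹, ?_, ?_⟩
      · intro p hp hp1
        have h1 := hv _ (mem_cj.mp hp) (conj_ne_one hp1)
        have h2 := conj_mem_ws f h1
        have e : f * (f⁻¹ * p * f) * f⁻¹ = p := by group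
        rw [ws_cj]
        rwa [e] at h2
      · change R.pi _ = u
        rw [← h.rp_act R hf (ii_le hz hz1 hv), e]
        exact smul_inv_smul F u
  have hal : ∀ m : M, al0 R' q m = F * al0 R y (F⁻¹ • m) * F⁻¹ := by
    intro m
    obtain ⟨w, hw, b, hb, e, ht, e1⟩ := h.exists_al0 R hy hy1 hyz (F⁻¹ • m)
    have hwz : f * w * f⁻¹ ∈ ws V z := by
      have := conj_mem_ws f hw
      rwa [hfz] at this
    have h1 : R'.pi (f * w * f⁻¹) = m := by
      change R.pi _ = m
      rw [← h.rp_act R hf hw, e]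
      exact smul_inv_smul F m
    have h2 : Tw (cj f V) z (f * w * f⁻¹) q (f * b * f⁻¹) := by
      have := tw_cj f ht
      rwa [hfz] at this
    have h3 := h'.al0_eq R' hqL hq1 hqz (by rw [ws_cj]; exact hwz) (by rw [ws_cj]; exact conj_mem_ws f hb) h2
    rw [h1] at h3
    rw [h3, e1]
    have hbc : b ∈ cg z := h.ws_le_cz hy hy1 hb
    change R.phi _ = _
    rw [R.phi_mul _ (mul_mem hf hbc) _ (inv_mem hf), R.phi_mul f hf b hbc, R.phi_inv hf]
  refine ⟨T', cj f V, q, h', R', hL, hqL, hq1, hqz, rfl, rfl, hpq.symm.trans hx, hLL, ?_, ?_, ?_, ?_, ?_, f, hfz, rfl⟩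
  · rintro m ⟨x, hx'⟩
    ext a
    rw [h'.mem_AA R' hqL hq1 hqz (hxF hx'), h.mem_AA R hy hy1 hyz hx', hA]
    have e : F⁻¹ * ((x * F⁻¹)⁻¹ * a * (x * F⁻¹)) * F = x⁻¹ * a * x := by group
    rw [e]
  · rintro m ⟨x, hx'⟩
    ext u
    rw [h'.mem_II R' hqL hq1 hqz (hxF hx'), h.mem_II R hy hy1 hyz hx', hI, smul_smul]
    have e : F⁻¹ * (x * F⁻¹)⁻¹ = x⁻¹ := by group
    rw [e]
  · rintro m ⟨x, hx'⟩ w
    rw [h'.AL_eq R' hqL hq1 hqz (hxF hx'), h.AL_eq R hy hy1 hyz hx', hal, smul_smul]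
    have e : F⁻¹ * (x * F⁻¹)⁻¹ = x⁻¹ := by group
    rw [e]
    group
  · intro hN; exact NT.conj hN f
  · have e1 : cj f (ee V z) = ee (cj f V) z := by
      ext w
      rw [mem_cj]
      constructor
      · intro hw
        have := conj_mem_ee' f hw
        rw [hfz] at this
        have e : f * (f⁻¹ * w * f) * f⁻¹ = w := by group
        rwa [e] at this
      · intro hw
        have := conj_mem_ee' f⁻¹ hw
        have e2 : f⁻¹ * z * f⁻¹⁻¹ = z := by
          rw [inv_inv]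
          calc f⁻¹ * z * f = f⁻¹ * (f * z * f⁻¹) * f := by rw [hfz]
            _ = z := by group
        have e3 : cj f⁻¹ (cj f V) = V := by
          ext v
          rw [mem_cj, mem_cj]
          have e : f⁻¹ * (f⁻¹⁻¹ * v * f⁻¹) * f = v := by group
          rw [e]
        rw [e2, e3] at this
        rwa [inv_inv] at this
    have e2 : cj f (ws V z) = ws (cj f V) z := by rw [cj_ws, hfz, ws_cj]
    rw [← e1, ← e2, relIndex_cj]

end One

end Cfsg.Agent.Omega.NO3S.TwoOne
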