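import Cfsg.Agent.Omega.NO3S.TwoOne.LocA

/-!
# NO-3S, `q = 2`, `n = 1`, no `λ`-transvections: all line vectors

`h : One T V z`, `R : MRep V cg z M H`, `y ∈ V`, `y ≠ 1, z`, `v₀ = R.pi y`.

* `LL R y` : the orbit of `v₀` (the line vectors);
* `AA R y l`, `II R y l`, `AL R y l` : the group `A_l`, the subspace `Ī_l`, the map `M → A_l` (kernel `Ē_l`), `l ∈ LL R y`;
  `One.mem_AA`, `One.mem_II`, `One.AL_eq` : they are the conjugates under ANY `x` with `x • v₀ = l`;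
* `One.in_*` : all facts of `LocA.lean` at every `l ∈ LL R y`, equivariance under all of `H`.
-/

set_option autoImplicit false
set_option linter.unusedSectionVars false

namespace Cfsg.Agent.Omega.NO3S.TwoOne

open Subgroup Cfsg Cfsg.Agent.ZN Cfsg.Agent.MinSimple.Geo Cfsg.Agent.Omega.CaseL
open Cfsg.Agent.Omega.NO3S.Fit
open Cfsg.Agent.ZN.Block (conj_mem_of_normalizer conj_mem_of_normalizer' le_normalizer_of_forall
  mem_normalizer_of)
open scoped commutatorElement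

universe u

variable {G : Type u} [Group G]

section defs

variable {M H : Type u} [AddCommGroup M] [Group H] [DistribMulAction H M] {V : Subgroup G} {z : G}
  (R : MRep V cg z M H) (y : G)

/-- the line vectors -/
def LL : Set M := Set.range fun x : H => x • R.pi y

open Classical in
/-- an element which maps `v₀` to `l` -/
noncomputable def rr (l : M) : H := if hl : ∃ x : H, x • R.pi y = l then hl.choose else 1

/-- `A_l` -/
noncomputable def AA (l : M) : Subgroup H := (a0 R y).map (MulAut.conj (rr R y l)).toMonoidHom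

/-- `Ī_l` -/
noncomputable def II (l : M) : AddSubgroup M := (i0 R).map (DistribSMul.toAddMonoidHom M (rr R y l))

/-- `M → A_l` -/
noncomputable def AL (l m : M) : H := rr R y l * al0 R y ((rr R y l)⁻¹ • m) * (rr R y l)⁻¹

theorem mem_LL {l : M} : l ∈ LL R y ↔ ∃ x : H, x • R.pi y = l := Iff.rfl

theorem self_mem_LL : R.pi y ∈ LL R y := ⟨1, one_smul _ _⟩

theorem smul_mem_LL (x : H) {l : M} (hl : l ∈ LL R y) : x • l ∈ LL R y := by
  obtain ⟨g, rfl⟩ := hl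
  exact ⟨x * g, mul_smul _ _ _⟩

theorem trans_LL {l m : M} (hl : l ∈ LL R y) (hm : m ∈ LL R y) : ∃ x : H, x • l = m := by
  obtain ⟨g, rfl⟩ := hl
  obtain ⟨k, rfl⟩ := hm
  refine ⟨k * g⁻¹, ?_⟩
  change (k * g⁻¹) • g • R.pi y = k • R.pi y
  rw [smul_smul, inv_mul_cancel_right]

theorem rr_smul {l : M} (hl : l ∈ LL R y) : rr R y l • R.pi y = l := by
  have hl' : ∃ x : H, x • R.pi y = l := hl
  unfold rr
  rw [dif_pos hl']
  exact hl'.choose_spec

end defs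

namespace One

variable {T V : Subgroup G} {z : G} {M H : Type u} [AddCommGroup M] [Group H] [DistribMulAction H M]
  (h : One T V z) (R : MRep V cg z M H) {y : G} (hy : y ∈ V) (hy1 : y ≠ 1) (hyz : y ≠ z)
include h hy hy1 hyz

theorem mem_AA [Finite G] {l : M} {x a : H} (hx : x • R.pi y = l) : a ∈ AA R y l ↔ x⁻¹ * a * x ∈ a0 R y := by
  have hl : l ∈ LL R y := ⟨x, hx⟩
  have hg := rr_smul R y hl
  set g := rr R y l with hgd
  have hs : (x⁻¹ * g) • R.pi y = R.pi y := by rw [mul_smul, hg, ← hx, inv_smul_smul]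
  have hs' : (g⁻¹ * x) • R.pi y = R.pi y := by rw [mul_smul, hx, ← hg, inv_smul_smul]
  have h0 : a ∈ AA R y l ↔ g⁻¹ * a * g ∈ a0 R y := by
    unfold AA
    rw [Subgroup.mem_map, ← hgd]
    constructor
    · rintro ⟨b, hb, rfl⟩
      have e : g⁻¹ * ((MulAut.conj g).toMonoidHom b) * g = b := by
        change g⁻¹ * (g * b * g⁻¹) * g = b
        group
      rw [e]; exact hb
    · intro hb
      refine ⟨_, hb, ?_⟩
      change g * (g⁻¹ * a * g) * g⁻¹ = a
      group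
  rw [h0]
  constructor
  · intro ha
    have := h.loc_A_conj R hy hy1 hyz hs ha
    have e : x⁻¹ * g * (g⁻¹ * a * g) * (x⁻¹ * g)⁻¹ = x⁻¹ * a * x := by group
    rwa [e] at this
  · intro ha
    have := h.loc_A_conj R hy hy1 hyz hs' ha
    have e : g⁻¹ * x * (x⁻¹ * a * x) * (g⁻¹ * x)⁻¹ = g⁻¹ * a * g := by group
    rwa [e] at this

theorem mem_II [Finite G] {l u : M} {x : H} (hx : x • R.pi y = l) : u ∈ II R y l ↔ x⁻¹ • u ∈ i0 R := by
  have hl : l ∈ LL R y := ⟨x, hx⟩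
  have hg := rr_smul R y hl
  set g := rr R y l with hgd
  have hs : (x⁻¹ * g) • R.pi y = R.pi y := by rw [mul_smul, hg, ← hx, inv_smul_smul]
  have hs' : (g⁻¹ * x) • R.pi y = R.pi y := by rw [mul_smul, hx, ← hg, inv_smul_smul]
  have h0 : u ∈ II R y l ↔ g⁻¹ • u ∈ i0 R := by
    unfold II
    rw [AddSubgroup.mem_map, ← hgd]
    constructor
    · rintro ⟨b, hb, rfl⟩
      change g⁻¹ • (g • b) ∈ i0 R
      rw [inv_smul_smul]; exact hb
    · intro hb
      exact ⟨_, hb, smul_inv_smul g u⟩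
  rw [h0]
  constructor
  · intro ha
    have := h.loc_I_conj R hy hy1 hyz hs ha
    rwa [smul_smul, mul_inv_cancel_right] at this
  · intro ha
    have := h.loc_I_conj R hy hy1 hyz hs' ha
    rwa [smul_smul, mul_inv_cancel_right] at this

theorem AL_eq [Finite G] {l : M} {x : H} (hx : x • R.pi y = l) (m : M) :
    AL R y l m = x * al0 R y (x⁻¹ • m) * x⁻¹ := by
  have hl : l ∈ LL R y := ⟨x, hx⟩
  have hg := rr_smul R y hl
  unfold AL
  set g := rr R y l with hgd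
  have hs : (x⁻¹ * g) • R.pi y = R.pi y := by rw [mul_smul, hg, ← hx, inv_smul_smul]
  have h1 := h.loc_al_conj R hy hy1 hyz hs (g⁻¹ • m)
  rw [smul_smul, mul_inv_cancel_right] at h1
  rw [h1]; group

/-! ### equivariance -/

theorem in_A_conj [Finite G] {l : M} (hl : l ∈ LL R y) {x a : H} (ha : a ∈ AA R y l) : x * a * x⁻¹ ∈ AA R y (x • l) := by
  obtain ⟨g, hg⟩ := hl
  have hg' : (x * g) • R.pi y = x • l := by rw [mul_smul]; exact congrArg _ hg
  rw [h.mem_AA R hy hy1 hyz hg] at ha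
  rw [h.mem_AA R hy hy1 hyz hg']
  have e : (x * g)⁻¹ * (x * a * x⁻¹) * (x * g) = g⁻¹ * a * g := by group
  rw [e]; exact ha

theorem in_I_conj [Finite G] {l : M} (hl : l ∈ LL R y) (x : H) {u : M} (hu : u ∈ II R y l) : x • u ∈ II R y (x • l) := by
  obtain ⟨g, hg⟩ := hl
  have hg' : (x * g) • R.pi y = x • l := by rw [mul_smul]; exact congrArg _ hg
  rw [h.mem_II R hy hy1 hyz hg] at hu
  rw [h.mem_II R hy hy1 hyz hg', smul_smul]
  have e : (x * g)⁻¹ * x = g⁻¹ := by group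
  rw [e]; exact hu

theorem in_al_conj [Finite G] {l : M} (hl : l ∈ LL R y) (x : H) (m : M) :
    AL R y (x • l) (x • m) = x * AL R y l m * x⁻¹ := by
  obtain ⟨g, hg⟩ := hl
  have hg' : (x * g) • R.pi y = x • l := by rw [mul_smul]; exact congrArg _ hg
  rw [h.AL_eq R hy hy1 hyz hg', h.AL_eq R hy hy1 hyz hg, smul_smul]
  have e : (x * g)⁻¹ * x = g⁻¹ := by group
  rw [e]; group

/-! ### the facts at every line vector -/

theorem in_gen [Finite G] : AddSubgroup.closure (LL R y) = ⊤ := R.span h.fam hy hy1 hyz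

theorem in_ne [Finite G] {l : M} (hl : l ∈ LL R y) : l ≠ 0 := by
  obtain ⟨g, rfl⟩ := hl
  intro e
  apply R.v0_ne h.fam hy hy1 hyz
  have := congrArg (fun m => g⁻¹ • m) e
  change g⁻¹ • g • R.pi y = g⁻¹ • (0 : M) at this
  rwa [inv_smul_smul, smul_zero] at this

theorem in_sq [Finite G] {l : M} (hl : l ∈ LL R y) {a : H} (ha : a ∈ AA R y l) : a * a = 1 := by
  obtain ⟨g, hg⟩ := hl
  rw [h.mem_AA R hy hy1 hyz hg] at ha
  have := h.loc_sq R hy hy1 hyz ha
  calc a * a = g * ((g⁻¹ * a * g) * (g⁻¹ * a * g)) * g⁻¹ := by group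
    _ = 1 := by rw [this]; group

theorem in_comm_A [Finite G] {l : M} (hl : l ∈ LL R y) {a b : H} (ha : a ∈ AA R y l) (hb : b ∈ AA R y l) :
    a * b = b * a := by
  obtain ⟨g, hg⟩ := hl
  rw [h.mem_AA R hy hy1 hyz hg] at ha hb
  have := h.loc_comm_A R hy hy1 hyz ha hb
  calc a * b = g * ((g⁻¹ * a * g) * (g⁻¹ * b * g)) * g⁻¹ := by group
    _ = g * ((g⁻¹ * b * g) * (g⁻¹ * a * g)) * g⁻¹ := by rw [this]
    _ = b * a := by group

theorem in_card [Finite G] {l : M} (_ : l ∈ LL R y) : Nat.card (AA R y l) = (ee V z).relIndex (ws V z) := by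
  rw [← h.loc_card R hy hy1 hyz]
  exact Subgroup.card_map_of_injective (MulAut.conj (rr R y l)).injective

theorem in_self [Finite G] {l : M} (hl : l ∈ LL R y) : l ∈ II R y l := by
  obtain ⟨g, hg⟩ := hl
  rw [h.mem_II R hy hy1 hyz hg, ← hg]
  change g⁻¹ • g • R.pi y ∈ i0 R
  rw [inv_smul_smul]
  exact h.loc_self R hy hy1

theorem in_comm [Finite G] {l : M} (hl : l ∈ LL R y) {a : H} (ha : a ∈ AA R y l) (m : M) : a • m + m ∈ II R y l := by
  obtain ⟨g, hg⟩ := hl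
  rw [h.mem_AA R hy hy1 hyz hg] at ha
  rw [h.mem_II R hy hy1 hyz hg]
  have := h.loc_comm R hy hy1 hyz ha (g⁻¹ • m)
  have e : (g⁻¹ * a * g) • g⁻¹ • m + g⁻¹ • m = g⁻¹ • (a • m + m) := by
    rw [smul_add, smul_smul, smul_smul]
    congr 2
    group
  rwa [e] at this

theorem in_fix [Finite G] {l : M} (hl : l ∈ LL R y) {a : H} {u : M} (ha : a ∈ AA R y l) (hu : u ∈ II R y l) :
    a • u = u := by
  obtain ⟨g, hg⟩ := hl
  rw [h.mem_AA R hy hy1 hyz hg] at ha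
  rw [h.mem_II R hy hy1 hyz hg] at hu
  have := h.loc_fix R hy hy1 hyz ha hu
  have e : (g⁻¹ * a * g) • g⁻¹ • u = g⁻¹ • (a • u) := by
    rw [smul_smul, smul_smul]
    congr 1
    group
  rw [e] at this
  exact smul_left_cancel g⁻¹ this

/-- no plane -/
theorem in_LI [Finite G] (hP : NP V z) {l m : M} (hl : l ∈ LL R y) (hm : m ∈ LL R y) (hml : m ∈ II R y l) :
    m = l := by
  obtain ⟨g, hg⟩ := hl
  obtain ⟨k, hk⟩ := hm
  rw [h.mem_II R hy hy1 hyz hg, ← hk] at hml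
  change g⁻¹ • k • R.pi y ∈ i0 R at hml
  rw [smul_smul] at hml
  have := h.loc_LI R hy hy1 hyz hP hml
  have h1 : g • ((g⁻¹ * k) • R.pi y) = g • R.pi y := by rw [this]
  rw [smul_smul, mul_inv_cancel_left] at h1
  rw [← hk, ← hg]; exact h1

theorem in_al_mem [Finite G] {l : M} (hl : l ∈ LL R y) (m : M) : AL R y l m ∈ AA R y l := by
  obtain ⟨g, hg⟩ := hl
  rw [h.mem_AA R hy hy1 hyz hg, h.AL_eq R hy hy1 hyz hg]
  have e : g⁻¹ * (g * al0 R y (g⁻¹ • m) * g⁻¹) * g = al0 R y (g⁻¹ • m) := by group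
  rw [e]
  exact h.loc_al_mem R hy hy1 hyz _

theorem in_al_add [Finite G] {l : M} (hl : l ∈ LL R y) (m m' : M) : AL R y l (m + m') = AL R y l m * AL R y l m' := by
  obtain ⟨g, hg⟩ := hl
  rw [h.AL_eq R hy hy1 hyz hg, h.AL_eq R hy hy1 hyz hg, h.AL_eq R hy hy1 hyz hg, smul_add,
    h.loc_al_add R hy hy1 hyz]
  group

theorem in_al_surj [Finite G] {l : M} (hl : l ∈ LL R y) {a : H} (ha : a ∈ AA R y l) : ∃ m, AL R y l m = a := by
  obtain ⟨g, hg⟩ := hl
  rw [h.mem_AA R hy hy1 hyz hg] at ha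
  obtain ⟨m, hm⟩ := h.loc_al_surj R hy hy1 hyz ha
  refine ⟨g • m, ?_⟩
  rw [h.AL_eq R hy hy1 hyz hg, inv_smul_smul, hm]
  group

/-- conjugation of an element of `AA` into `a0` -/
theorem exists_a0 [Finite G] {l : M} {g : H} (hg : g • R.pi y = l) {a : H} (ha : a ∈ a0 R y) :
    g * a * g⁻¹ ∈ AA R y l := by
  rw [h.mem_AA R hy hy1 hyz hg]
  have e : g⁻¹ * (g * a * g⁻¹) * g = a := by group
  rw [e]; exact ha

theorem in_al_ker [Finite G] (hN : NT V) {l : M} (hl : l ∈ LL R y) (m : M) :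
    AL R y l m = 1 ↔ ∀ a ∈ AA R y l, a • m = m ∨ a • m = m + l := by
  obtain ⟨g, hg⟩ := hl
  have e0 : AL R y l m = 1 ↔ al0 R y (g⁻¹ • m) = 1 := by
    rw [h.AL_eq R hy hy1 hyz hg]
    exact conj_eq_one_iff
  rw [e0, h.loc_al_ker R hy hy1 hyz hN]
  constructor
  · intro hc a ha
    rw [h.mem_AA R hy hy1 hyz hg] at ha
    have h1 := hc _ ha
    have e : (g⁻¹ * a * g) • g⁻¹ • m = g⁻¹ • (a • m) := by
      rw [smul_smul, smul_smul]
      congr 1
      group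
    rw [e] at h1
    rcases h1 with h1 | h1
    · left; exact smul_left_cancel g⁻¹ h1
    · right
      have h2 := congrArg (fun u => g • u) h1
      change g • g⁻¹ • (a • m) = g • (g⁻¹ • m + R.pi y) at h2
      rw [smul_inv_smul, smul_add, smul_inv_smul] at h2
      rw [h2, ← hg]
  · intro hc a ha
    have h1 := hc _ (h.exists_a0 R hy hy1 hyz hg ha)
    have e : a • g⁻¹ • m = g⁻¹ • ((g * a * g⁻¹) • m) := by
      rw [smul_smul, smul_smul]
      congr 1
      group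
    rw [e]
    rcases h1 with h1 | h1
    · left; rw [h1]
    · right
      rw [h1, smul_add, ← hg]
      change g⁻¹ • m + g⁻¹ • g • R.pi y = _
      rw [inv_smul_smul]

/-- `β` is symmetric -/
theorem in_sy [Finite G] {l : M} (hl : l ∈ LL R y) (m m' : M) :
    AL R y l m' • m + m + (AL R y l m • m' + m') = 0 ∨ AL R y l m' • m + m + (AL R y l m • m' + m') = l := by
  obtain ⟨g, hg⟩ := hl
  have h1 := h.loc_sy R hy hy1 hyz (g⁻¹ • m) (g⁻¹ • m')
  have e : ∀ m m' : M, al0 R y (g⁻¹ • m') • g⁻¹ • m = g⁻¹ • (AL R y l m' • m) := by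
    intro m m'
    rw [h.AL_eq R hy hy1 hyz hg, smul_smul, smul_smul]
    congr 1
    group
  have e1 : al0 R y (g⁻¹ • m') • g⁻¹ • m + g⁻¹ • m + (al0 R y (g⁻¹ • m) • g⁻¹ • m' + g⁻¹ • m') =
      g⁻¹ • (AL R y l m' • m + m + (AL R y l m • m' + m')) := by
    rw [e, e, smul_add, smul_add, smul_add]
  rw [e1] at h1
  rcases h1 with h1 | h1
  · left
    exact (smul_eq_zero_iff_eq g⁻¹).mp h1
  · right
    have h2 := congrArg (fun u => g • u) h1
    change g • g⁻¹ • _ = g • R.pi y at h2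
    rw [smul_inv_smul] at h2
    exact h2.trans hg

/-- `Φ^⊥ = 0` -/
theorem in_phi [Finite G] (hN : NT V) {l : M} (hl : l ∈ LL R y) {a : H} (ha : a ∈ AA R y l) (ha1 : a ≠ 1) :
    ∃ e : M, AL R y l e = 1 ∧ a • e = e + l := by
  obtain ⟨g, hg⟩ := hl
  rw [h.mem_AA R hy hy1 hyz hg] at ha
  obtain ⟨e, he, hae⟩ := h.loc_phi R hy hy1 hyz hN ha (fun e' => ha1 (by
    calc a = g * (g⁻¹ * a * g) * g⁻¹ := by group
      _ = 1 := by rw [e']; group))
  refine ⟨g • e, ?_, ?_⟩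
  · rw [h.AL_eq R hy hy1 hyz hg, inv_smul_smul, he]; group
  · have h1 := congrArg (fun u => g • u) hae
    change g • ((g⁻¹ * a * g) • e) = g • (e + R.pi y) at h1
    rw [smul_smul, smul_add] at h1
    have e2 : g * (g⁻¹ * a * g) = a * g := by group
    rw [e2, mul_smul] at h1
    rw [h1, ← hg]

/-- (FU): `K̃_l` induces all functionals of `Ī_l / l`, centralises `A_l`, `M / Ē_l` and `Ē_l / D̄_l` -/
theorem in_Kt [Finite G] {l : M} (hl : l ∈ LL R y) {u : M} (hu : u ∈ II R y l) (hu0 : u ≠ 0) (hul : u ≠ l) :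
    ∃ c : H, c • l = l ∧ c • u = u + l ∧ (∀ a ∈ AA R y l, c * a = a * c) ∧
      (∀ m, AL R y l (c • m) = AL R y l m) ∧
      ∀ e, AL R y l e = 1 → ∀ a ∈ AA R y l, a • (c • e + e) = c • e + e := by
  obtain ⟨g, hg⟩ := hl
  have hgl : g⁻¹ • l = R.pi y := by rw [← hg]; exact inv_smul_smul g _
  rw [h.mem_II R hy hy1 hyz hg] at hu
  obtain ⟨c, h1, h2, h3, h4, h5⟩ := h.loc_Kt R hy hy1 hyz hu
    (fun e => hu0 ((smul_eq_zero_iff_eq g⁻¹).mp e))
    (fun e => hul (smul_left_cancel g⁻¹ (e.trans hgl.symm)))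
  have ec : ∀ m : M, (g * c * g⁻¹) • m = g • (c • (g⁻¹ • m)) := fun m => by
    rw [smul_smul, smul_smul, mul_assoc]
  refine ⟨g * c * g⁻¹, ?_, ?_, ?_, ?_, ?_⟩
  · rw [ec, hgl, h1]; exact hg
  · rw [ec, h2, smul_add, smul_inv_smul]
    congr 1
  · intro a ha
    rw [h.mem_AA R hy hy1 hyz hg] at ha
    have h6 := h3 _ ha
    calc g * c * g⁻¹ * a = g * (c * (g⁻¹ * a * g)) * g⁻¹ := by group
      _ = g * ((g⁻¹ * a * g) * c) * g⁻¹ := by rw [h6]
      _ = a * (g * c * g⁻¹) := by group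
  · intro m
    rw [h.AL_eq R hy hy1 hyz hg, h.AL_eq R hy hy1 hyz hg, ec, inv_smul_smul, h4]
  · intro e he a ha
    rw [h.AL_eq R hy hy1 hyz hg] at he
    rw [h.mem_AA R hy hy1 hyz hg] at ha
    have h6 := h5 _ (conj_eq_one_iff.mp he) _ ha
    have e1 : c • g⁻¹ • e + g⁻¹ • e = g⁻¹ • ((g * c * g⁻¹) • e + e) := by
      rw [smul_add, ec, inv_smul_smul]
    rw [e1, smul_smul] at h6
    have e2 : g⁻¹ * a * g * g⁻¹ = g⁻¹ * a := by group
    rw [e2, mul_smul] at h6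
    exact smul_left_cancel g⁻¹ h6

/-- **(TI)** -/
theorem in_TI [Finite G] (hN : NT V) (hP : NP V z) {l m : M} (hl : l ∈ LL R y) (hm : m ∈ LL R y) {a : H}
    (ha : a ∈ AA R y l) (ham : a ∈ AA R y m) (ha1 : a ≠ 1) : l = m := by
  obtain ⟨g, hg⟩ := hl
  obtain ⟨k, hk⟩ := hm
  rw [h.mem_AA R hy hy1 hyz hg] at ha
  rw [h.mem_AA R hy hy1 hyz hk] at ham
  have h1 := h.loc_TI R hy hy1 hyz hN hP (x := g⁻¹ * k) ha (fun e' => ha1 (by
    calc a = g * (g⁻¹ * a * g) * g⁻¹ := by group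
      _ = 1 := by rw [e']; group)) (by
    have e : (g⁻¹ * k)⁻¹ * (g⁻¹ * a * g) * (g⁻¹ * k) = k⁻¹ * a * k := by group
    rw [e]; exact ham)
  have h2 : g • ((g⁻¹ * k) • R.pi y) = g • R.pi y := by rw [h1]
  rw [smul_smul, mul_inv_cancel_left] at h2
  rw [← hg, ← hk]; exact h2.symm

/-- `C_H(a) ≤ H_l` for `a ∈ A_l#` -/
theorem in_cent [Finite G] (hN : NT V) (hP : NP V z) {l : M} (hl : l ∈ LL R y) {a x : H} (ha : a ∈ AA R y l)
    (ha1 : a ≠ 1) (hxa : x * a = a * x) : x • l = l := by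
  refine (h.in_TI R hy hy1 hyz hN hP hl (smul_mem_LL R y x hl) ha ?_ ha1).symm
  have := h.in_A_conj R hy hy1 hyz hl (x := x) ha
  rwa [hxa, mul_inv_cancel_right] at this

/-- `N_H(A_l) = H_l` (planes allowed) -/
theorem in_norm [Finite G] {l : M} (hl : l ∈ LL R y) {x : H} (hx : ∀ a ∈ AA R y l, x * a * x⁻¹ ∈ AA R y l) :
    x • l = l := by
  obtain ⟨g, hg⟩ := hl
  have h1 := h.rep_norm R hy hy1 hyz (x := g⁻¹ * x * g) (by
    intro a ha
    rw [h.ww_cg hy hy1] at ha ⊢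
    have h2 := hx _ (h.exists_a0 R hy hy1 hyz hg ha)
    rw [h.mem_AA R hy hy1 hyz hg] at h2
    have e : g⁻¹ * x * g * a * (g⁻¹ * x * g)⁻¹ = g⁻¹ * (x * (g * a * g⁻¹) * x⁻¹) * g := by group
    rw [e]; exact h2)
  have h2 : g • ((g⁻¹ * x * g) • R.pi y) = g • R.pi y := by rw [h1]
  rw [smul_smul] at h2
  have e : g * (g⁻¹ * x * g) = x * g := by group
  rw [e, mul_smul] at h2
  rw [← hg]; exact h2

/-- `C_M(A_l) = D̄_l`; `D_z = I` : it is `Ī_l` -/
theorem in_D [Finite G] (hN : NT V) (hD : dd V z ≤ ii V) {l : M} (hl : l ∈ LL R y) {m : M}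
    (hm : ∀ a ∈ AA R y l, a • m = m) : m ∈ II R y l := by
  obtain ⟨g, hg⟩ := hl
  rw [h.mem_II R hy hy1 hyz hg]
  obtain ⟨w, hw, e⟩ := h.rp_surj R (g⁻¹ • m)
  rw [← e, h.mem_i0 R]
  refine ⟨w, hD ((h.loc_D R hy hy1 hyz hN hw).mp fun a ha => ?_), rfl⟩
  have h1 := hm _ (h.exists_a0 R hy hy1 hyz hg ha)
  rw [e]
  have e1 : a • g⁻¹ • m = g⁻¹ • ((g * a * g⁻¹) • m) := by
    rw [smul_smul, smul_smul]
    congr 1
    group
  rw [e1, h1]

end One

end Cfsg.Agent.Omega.NO3S.TwoOne
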