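import Mathlib

/-!
# NO-3S, `TwoOne` / `CompP`, `k ≥ 2`: THEOREM `SIGMA_k` (helper225's text #18607), pure form

`H` acts on the elementary abelian 2-group `M`; `L` = the line vectors, `A l`, `I l`, `al l` (`l ∈ L`) the data of
the line `l`; `SK` = the fields used, in particular (S1) and (S3) for symmetric pairs.

* `SK.sigma` : `a ∈ A l`, `a ≠ 1`, `o ≠ 1` of odd order, `a o a⁻¹ = o⁻¹` imply `o ^ 3 = 1`, `al l (o l) = 1`,
  `a (o l) = o l + l`, `o⁻¹ l = o l + l`.
-/

set_option autoImplicit false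

namespace Cfsg.Agent.Omega.NO3S.TwoOne

/-- the fields used for `SIGMA_k` -/
structure SK {M H : Type*} [AddCommGroup M] [Group H] [DistribMulAction H M] (L : Set M) (A : M → Subgroup H)
    (I : M → AddSubgroup M) (al : M → M → H) : Prop where
  two : ∀ m : M, m + m = 0
  ne0 : ∀ {l : M}, l ∈ L → l ≠ 0
  smul : ∀ (h : H) {l : M}, l ∈ L → h • l ∈ L
  A_conj : ∀ (h : H) {l : M} {a : H}, l ∈ L → a ∈ A l → h * a * h⁻¹ ∈ A (h • l)
  I_conj : ∀ (h : H) {l u : M}, l ∈ L → u ∈ I l → h • u ∈ I (h • l)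
  sq : ∀ {l : M} {a : H}, l ∈ L → a ∈ A l → a * a = 1
  four : ∀ {l : M}, l ∈ L → 4 ≤ Nat.card (A l)
  self : ∀ {l : M}, l ∈ L → l ∈ I l
  fix : ∀ {l : M} {a : H} {u : M}, l ∈ L → a ∈ A l → u ∈ I l → a • u = u
  al_mem : ∀ {l : M}, l ∈ L → ∀ m, al l m ∈ A l
  al_add : ∀ {l : M}, l ∈ L → ∀ m m', al l (m + m') = al l m * al l m'
  al_conj : ∀ {l : M} (h : H), l ∈ L → ∀ m, al (h • l) (h • m) = h * al l m * h⁻¹
  al_ker : ∀ {l : M}, l ∈ L → ∀ m, al l m = 1 ↔ ∀ a ∈ A l, a • m = m ∨ a • m = m + l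
  phi : ∀ {l : M} {a : H}, l ∈ L → a ∈ A l → a ≠ 1 → ∃ e, al l e = 1 ∧ a • e = e + l
  s1 : ∀ {l m e : M}, l ∈ L → m ∈ L → al l m ≠ 1 → al m l ≠ 1 → al l e = 1 → al l m • e = e →
    ∃ j ∈ I m, al l j = 1 ∧ ∀ a ∈ A l, a • j + j = a • e + e
  s3 : ∀ {l m : M} {a : H}, l ∈ L → m ∈ L → al l m ≠ 1 → al m l ≠ 1 → a ∈ A l → al m (a • m + m) ≠ 1 →
    ∃ j ∈ I m, al l j = 1 ∧ al l m • j = j + l

namespace SK

variable {M H : Type*} [AddCommGroup M] [Group H] [DistribMulAction H M] {L : Set M} {A : M → Subgroup H}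
    {I : M → AddSubgroup M} {al : M → M → H} (G : SK L A I al)
include G

theorem two_left (x y : M) : x + (x + y) = y := by
  rw [← add_assoc, G.two, zero_add]

theorem two_right (x y : M) : x + y + y = x := by
  rw [add_assoc, G.two, add_zero]

theorem inv {l : M} {a : H} (hl : l ∈ L) (ha : a ∈ A l) : a⁻¹ = a :=
  inv_eq_of_mul_eq_one_left (G.sq hl ha)

/-- an element of odd order in `A l` is trivial -/
theorem odd_one {l : M} {a : H} (hl : l ∈ L) (ha : a ∈ A l) {n : ℕ} (hn : Odd n) (h1 : a ^ n = 1) : a = 1 := by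
  obtain ⟨k, rfl⟩ := hn
  rw [pow_succ, pow_mul, pow_two, G.sq hl ha, one_pow, one_mul] at h1
  exact h1

/-- functionals are additive -/
theorem phi_add {l e e' : M} {a : H} (hl : l ∈ L) (he : al l e = 1) (he' : al l e' = 1)
    (h1 : a • e = e + l) (h2 : a • e' = e' + l) : al l (e + e') = 1 ∧ a • (e + e') = e + e' := by
  refine ⟨by rw [G.al_add hl, he, he', one_mul], ?_⟩
  rw [smul_add, h1, h2]
  calc e + l + (e' + l) = e + e' + (l + l) := by abel
    _ = e + e' := by rw [G.two, add_zero]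

/-- one element: `c ∉ {1, n}` implies that some functional vanishes on `n`, not on `c` -/
theorem sep {l : M} {n c : H} (hl : l ∈ L) (hn : n ∈ A l) (hc : c ∈ A l) (hc1 : c ≠ 1) (hcn : c ≠ n) :
    ∃ e, al l e = 1 ∧ n • e = e ∧ c • e = e + l := by
  have h0 := G.ne0 hl
  obtain ⟨e₁, he₁, hce₁⟩ := G.phi hl hc hc1
  have hnn := G.sq hl hn
  have hcn' : c * n ≠ 1 := fun e => hcn (by
    calc c = c * (n * n) := by rw [hnn, mul_one]
      _ = n := by rw [← mul_assoc, e, one_mul])
  obtain ⟨e₂, he₂, hce₂⟩ := G.phi hl (mul_mem hc hn) hcn'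
  rcases (G.al_ker hl e₁).mp he₁ n hn with h1 | h1
  · exact ⟨e₁, he₁, h1, hce₁⟩
  · rcases (G.al_ker hl e₂).mp he₂ n hn with h2 | h2
    · refine ⟨e₂, he₂, h2, ?_⟩
      rwa [mul_smul, h2] at hce₂
    · -- `n e₂ = e₂ + l`, `c n e₂ = e₂ + l`
      have hcl : c • l = l := G.fix hl hc (G.self hl)
      have h3 : c • e₂ = e₂ := by
        rw [mul_smul, h2, smul_add, hcl] at hce₂
        exact add_right_cancel hce₂
      obtain ⟨h4, h5⟩ := G.phi_add hl he₁ he₂ h1 h2
      refine ⟨e₁ + e₂, h4, h5, ?_⟩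
      rw [smul_add, hce₁, h3]
      abel

/-- two elements: `c ∉ ⟨n, a⟩` implies that some functional vanishes on `n` and `a`, not on `c` -/
theorem sep2 {l : M} {n a c : H} (hl : l ∈ L) (hn : n ∈ A l) (ha : a ∈ A l) (hc : c ∈ A l) (hc1 : c ≠ 1) (hcn : c ≠ n)
    (hca : c ≠ a) (hcna : c ≠ n * a) : ∃ e, al l e = 1 ∧ n • e = e ∧ a • e = e ∧ c • e = e + l := by
  obtain ⟨e₁, he₁, hn₁, hce₁⟩ := G.sep hl hn hc hc1 hcn
  have haa := G.sq hl ha
  have hcn' : c * a ≠ 1 := fun e => hca (by
    calc c = c * (a * a) := by rw [haa, mul_one]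
      _ = a := by rw [← mul_assoc, e, one_mul])
  have hcn'' : c * a ≠ n := fun e => hcna (by
    calc c = c * (a * a) := by rw [haa, mul_one]
      _ = n * a := by rw [← mul_assoc, e])
  obtain ⟨e₂, he₂, hn₂, hce₂⟩ := G.sep hl hn (mul_mem hc ha) hcn' hcn''
  rcases (G.al_ker hl e₁).mp he₁ a ha with h1 | h1
  · exact ⟨e₁, he₁, hn₁, h1, hce₁⟩
  · rcases (G.al_ker hl e₂).mp he₂ a ha with h2 | h2
    · refine ⟨e₂, he₂, hn₂, h2, ?_⟩
      rwa [mul_smul, h2] at hce₂
    · have hcl : c • l = l := G.fix hl hc (G.self hl)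
      have h3 : c • e₂ = e₂ := by
        rw [mul_smul, h2, smul_add, hcl] at hce₂
        exact add_right_cancel hce₂
      obtain ⟨h4, h5⟩ := G.phi_add hl he₁ he₂ h1 h2
      refine ⟨e₁ + e₂, h4, by rw [smul_add, hn₁, hn₂], h5, ?_⟩
      rw [smul_add, hce₁, h3]
      abel

/-- **THEOREM `SIGMA_k`** -/
theorem sigma {l : M} {a o : H} (hl : l ∈ L) (ha : a ∈ A l) (ha1 : a ≠ 1) {n : ℕ} (hn : Odd n) (hon : o ^ n = 1)
    (ho1 : o ≠ 1) (hao : a * o * a⁻¹ = o⁻¹) :
    o ^ 3 = 1 ∧ al l (o • l) = 1 ∧ a • o • l = o • l + l ∧ o⁻¹ • l = o • l + l := by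
  have h0 := G.ne0 hl
  have haa := G.sq hl ha
  have hai := G.inv hl ha
  have hal : a • l = l := G.fix hl ha (G.self hl)
  -- powers of `o` of odd order
  have hodd : ∀ k : ℕ, o ^ (2 * k) = 1 → o ^ k = 1 := by
    intro k hk
    obtain ⟨r, hr⟩ := hn
    have h1 : (o ^ k) ^ n = 1 := by rw [← pow_mul, mul_comm, pow_mul, hon, one_pow]
    have h2 : (o ^ k) ^ (2 * r) = 1 := by
      rw [← pow_mul, show k * (2 * r) = (2 * k) * r by ring, pow_mul, hk, one_pow]
    rwa [hr, pow_succ, h2, one_mul] at h1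
  have hgen : ∃ k : ℕ, (o * o) ^ k = o := by
    obtain ⟨r, hr⟩ := hn
    refine ⟨r + 1, ?_⟩
    rw [← pow_two, ← pow_mul]
    have : 2 * (r + 1) = n + 1 := by omega
    rw [this, pow_succ, hon, one_mul]
  have hao' : a * o = o⁻¹ * a := by rw [← hao]; group
  have hoa : o * a = a * o⁻¹ := by
    calc o * a = (a * a) * (o * a) := by rw [haa, one_mul]
      _ = a * (a * o) * a := by group
      _ = a * o⁻¹ * (a * a) := by rw [hao']; group
      _ = a * o⁻¹ := by rw [haa, mul_one]
  have hinv : a * o⁻¹ * a⁻¹ = o := by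
    calc a * o⁻¹ * a⁻¹ = (a * o * a⁻¹)⁻¹ := by group
      _ = o := by rw [hao, inv_inv]
  -- a power of `o` in the stabiliser of `l`
  have hstab : ∀ k : ℕ, o ^ k • l = l → o ^ k = 1 := by
    intro k hk
    have h1 := G.A_conj (o ^ k) hl ha
    rw [hk] at h1
    have h2 : a * (o ^ k * a * (o ^ k)⁻¹) ∈ A l := mul_mem ha h1
    have h3 : a * o ^ k * a⁻¹ = (o ^ k)⁻¹ := by
      rw [← conj_pow, hao, inv_pow]
    have h4 : a * (o ^ k * a * (o ^ k)⁻¹) = (o ^ (2 * k))⁻¹ := by
      calc a * (o ^ k * a * (o ^ k)⁻¹) = (a * o ^ k * a⁻¹) * (a * a) * (o ^ k)⁻¹ := by group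
        _ = (o ^ k)⁻¹ * (o ^ k)⁻¹ := by rw [h3, haa, mul_one]
        _ = (o ^ (2 * k))⁻¹ := by rw [two_mul, pow_add, mul_inv_rev]
    rw [h4] at h2
    have h5 : ((o ^ (2 * k))⁻¹) ^ n = 1 := by
      rw [inv_pow, ← pow_mul, mul_comm, pow_mul, hon, one_pow, inv_one]
    exact hodd k (inv_eq_one.mp (G.odd_one hl h2 hn h5))
  obtain ⟨m, hm⟩ : ∃ m, m = o • l := ⟨_, rfl⟩
  have hmL : m ∈ L := by rw [hm]; exact G.smul o hl
  have hml : m ≠ l := by
    intro e
    apply ho1
    have := hstab 1 (by rw [pow_one, ← hm, e])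
    rwa [pow_one] at this
  -- `a m = o⁻¹ l`
  have ham : a • m = o⁻¹ • l := by
    rw [hm, smul_smul, hao', mul_smul, hal]
  -- `a' = o a o⁻¹ ∈ A_m`
  obtain ⟨a', ha'⟩ : ∃ a', a' = o * a * o⁻¹ := ⟨_, rfl⟩
  have ha'A : a' ∈ A m := by rw [ha', hm]; exact G.A_conj o hl ha
  have haa' : a * a' = o⁻¹ * o⁻¹ := by
    calc a * a' = (a * o * a⁻¹) * (a * a) * o⁻¹ := by rw [ha']; group
      _ = o⁻¹ * o⁻¹ := by rw [hao, haa, mul_one]
  have ha'a : a' * a = o * o := by
    have ha'a' := G.sq hmL ha'A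
    calc a' * a = (a * a')⁻¹ := by rw [mul_inv_rev, hai, inv_eq_of_mul_eq_one_left ha'a']
      _ = o * o := by rw [haa', mul_inv_rev, inv_inv]
  -- fixed by `a` and `a'` implies fixed by `o`
  have hfo : ∀ u : M, a • u = u → a' • u = u → o • u = u := by
    intro u h1 h2
    have h3 : (o * o) • u = u := by rw [← ha'a, mul_smul, h1, h2]
    obtain ⟨k, hk⟩ := hgen
    have h4 : ∀ k : ℕ, (o * o) ^ k • u = u := by
      intro k
      induction k with
      | zero => rw [pow_zero, one_smul]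
      | succ k ih => rw [pow_succ, mul_smul, h3, ih]
    have := h4 k
    rwa [hk] at this
  have hamm : a • m ≠ m := by
    intro e
    have h1 := G.A_conj a hmL ha'A
    rw [e] at h1
    have h2 : a' * (a * a' * a⁻¹) ∈ A m := mul_mem ha'A h1
    have h3 : a' * (a * a' * a⁻¹) = o ^ 4 := by
      calc a' * (a * a' * a⁻¹) = (a' * a) * (a' * a) := by rw [hai]; group
        _ = o ^ 4 := by rw [ha'a]; simp only [pow_succ, pow_zero, one_mul, mul_assoc]
    rw [h3] at h2
    have h4 := G.odd_one hmL h2 hn (by rw [← pow_mul, mul_comm, pow_mul, hon, one_pow])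
    have h5 := hodd 1 (hodd 2 h4)
    rw [pow_one] at h5
    exact ho1 h5
  -- `τ = o a` interchanges `l` and `m`, `a` and `a'`
  have hτl : (o * a) • l = m := by rw [mul_smul, hal, hm]
  have hτm : (o * a) • m = l := by rw [mul_smul, ham, smul_inv_smul]
  have hττ : (o * a) * (o * a) = 1 := by
    calc (o * a) * (o * a) = o * (a * o) * a := by group
      _ = o * (o⁻¹ * a) * a := by rw [hao']
      _ = a * a := by group
      _ = 1 := haa
  have hτi : (o * a)⁻¹ = o * a := inv_eq_of_mul_eq_one_left hττ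
  have hτa : (o * a) * a * (o * a)⁻¹ = a' := by
    calc (o * a) * a * (o * a)⁻¹ = o * (a * a) * a⁻¹ * o⁻¹ := by group
      _ = a' := by rw [haa, ha', hai]; group
  have hsym : al m l ≠ 1 → al l m ≠ 1 := by
    intro h1 h2
    apply h1
    have h3 := G.al_conj (o * a) hl m
    rw [hτl, hτm, h2, mul_one, mul_inv_cancel] at h3
    exact h3
  have hend : al l m = 1 → o ^ 3 = 1 ∧ al l (o • l) = 1 ∧ a • o • l = o • l + l ∧ o⁻¹ • l = o • l + l := by
    intro h1
    have h2 : a • m = m + l := ((G.al_ker hl m).mp h1 a ha).resolve_left hamm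
    have h3 : o⁻¹ • l = m + l := by rw [← ham, h2]
    have h4 : o • m = m + l := by
      have h5 : o • (o⁻¹ • l) = o • (m + l) := by rw [h3]
      rw [smul_inv_smul, smul_add, ← hm] at h5
      calc o • m = o • m + m + m := (G.two_right _ _).symm
        _ = m + l := by rw [← h5, add_comm]
    have h5 : o ^ 3 • l = l := by
      calc o ^ 3 • l = o • o • o • l := by
            rw [smul_smul, smul_smul]
            congr 1
            simp only [pow_succ, pow_zero, one_mul, mul_assoc]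
        _ = o • (m + l) := by rw [← hm, h4]
        _ = (m + l) + m := by rw [smul_add, h4, ← hm]
        _ = l := by rw [add_comm (m + l) m, G.two_left]
    exact ⟨hstab 3 h5, by rw [← hm]; exact h1, by rw [← hm]; exact h2, by rw [← hm]; exact h3⟩
  by_cases hml1 : al l m = 1
  · exact hend hml1
  exfalso
  have hlm1 : al m l ≠ 1 := by
    intro h2
    apply hml1
    have h3 := G.al_conj (o * a) hmL l
    rw [hτl, hτm, h2, mul_one, mul_inv_cancel] at h3
    exact h3
  -- (*)
  have hstar : ∀ j ∈ I m, a • j = j → j ∈ I l := by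
    intro j hj haj
    have h1 := hfo j haj (G.fix hmL ha'A hj)
    have h2 := G.I_conj o⁻¹ hmL hj
    have h3 : o⁻¹ • j = j := by
      calc o⁻¹ • j = o⁻¹ • o • j := by rw [h1]
        _ = j := inv_smul_smul o j
    have h4 : o⁻¹ • m = l := by rw [hm, inv_smul_smul]
    rwa [h3, h4] at h2
  obtain ⟨ν, hν⟩ : ∃ ν, ν = al l m := ⟨_, rfl⟩
  have hνA : ν ∈ A l := by rw [hν]; exact G.al_mem hl m
  have hne : ∀ {x : M}, x ≠ x + l := fun {x} e => h0 (by
    have := congrArg (fun u => x + u) e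
    simp only [G.two, G.two_left] at this
    exact this.symm)
  -- functionals which vanish on `ν` and `a`
  have hvan : ∀ e, al l e = 1 → ν • e = e → a • e = e → ∀ c ∈ A l, c • e ≠ e + l := by
    intro e he hνe hae c hc hce
    obtain ⟨j, hj, -, hf⟩ := G.s1 hl hmL hml1 hlm1 he (by rw [← hν]; exact hνe)
    have h1 := hf a ha
    rw [hae, G.two] at h1
    have h2 : a • j = j := by
      calc a • j = a • j + j + j := (G.two_right _ _).symm
        _ = j := by rw [h1, zero_add]
    have h3 := G.fix hl hc (hstar j hj h2)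
    have h4 := hf c hc
    rw [h3, G.two, hce] at h4
    apply h0
    calc l = e + l + e := by rw [add_comm (e + l) e, G.two_left]
      _ = 0 := h4.symm
  have hA4 : ∀ c ∈ A l, c = 1 ∨ c = ν ∨ c = a ∨ c = ν * a := by
    intro c hc
    by_contra hcon
    push Not at hcon
    obtain ⟨e, h1, h2, h3, h4⟩ := G.sep2 hl hνA ha hc hcon.1 hcon.2.1 hcon.2.2.1 hcon.2.2.2
    exact hvan e h1 h2 h3 c hc h4
  have hνa : a ≠ ν := by
    intro e
    have h1 : (A l : Set H) ⊆ {1, a} := by
      intro c hc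
      rcases hA4 c hc with e1 | e1 | e1 | e1
      · left; exact e1
      · right; rw [e1, ← e]; exact rfl
      · right; exact e1
      · left; rw [e1, ← e, haa]
    have h2 : Nat.card (A l) ≤ 2 := by
      have h3 := Set.ncard_le_ncard h1 (Set.toFinite _)
      have h4 : ({1, a} : Set H).ncard ≤ 2 := (Set.ncard_insert_le _ _).trans (by rw [Set.ncard_singleton])
      have h5 : (A l : Set H).ncard = Nat.card (A l) := rfl
      omega
    have := G.four hl
    omega
  -- the S3 case is impossible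
  have hω1 : al m (a • m + m) = 1 := by
    by_contra hcon
    obtain ⟨j, hj, hj1, hνj⟩ := G.s3 hl hmL hml1 hlm1 ha hcon
    rw [← hν] at hνj
    have h1 : a • j ≠ j := by
      intro e
      have h2 := G.fix hl hνA (hstar j hj e)
      rw [h2] at hνj
      exact hne hνj
    have h2 : a • j = j + l := ((G.al_ker hl j).mp hj1 a ha).resolve_left h1
    obtain ⟨e, he, hνe, hae⟩ := G.sep hl hνA ha ha1 hνa
    obtain ⟨j', hj', hj'1, hf⟩ := G.s1 hl hmL hml1 hlm1 he (by rw [← hν]; exact hνe)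
    have h3 : a • j' = j' + l := by
      have h4 := hf a ha
      rw [hae, add_comm (e + l) e, G.two_left] at h4
      calc a • j' = a • j' + j' + j' := (G.two_right _ _).symm
        _ = j' + l := by rw [h4, add_comm]
    have h4 : ν • j' = j' := by
      have h5 := hf ν hνA
      rw [hνe, G.two] at h5
      calc ν • j' = ν • j' + j' + j' := (G.two_right _ _).symm
        _ = j' := by rw [h5, zero_add]
    have h5 := (G.phi_add hl hj1 hj'1 h2 h3).2
    have h6 := G.fix hl hνA (hstar _ (add_mem hj hj') h5)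
    rw [smul_add, hνj, h4] at h6
    have h7 : j + l + j' = (j + j') + l := by abel
    rw [h7] at h6
    exact hne h6.symm
  obtain ⟨ω, hω⟩ : ∃ ω, ω = a • m + m := ⟨_, rfl⟩
  rw [← hω] at hω1
  have hω0 : ω ≠ 0 := by
    intro e
    apply hamm
    calc a • m = a • m + m + m := (G.two_right _ _).symm
      _ = m := by rw [← hω, e, zero_add]
  have haω : a • ω = ω := by
    rw [hω, smul_add, smul_smul, haa, one_smul, add_comm]
  have ham' : a • m = m + ω := by
    rw [hω, add_comm (a • m) m, G.two_left]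
  have ha'm : a' • m = m := G.fix hmL ha'A (G.self hmL)
  rcases (G.al_ker hmL ω).mp hω1 a' ha'A with h1 | h1
  · -- `ω` is fixed by `o`
    have h2 := hfo ω haω h1
    have h3 : (o * o) • m = m + ω := by
      rw [← ha'a, mul_smul, ham', smul_add, ha'm, h1]
    have h4 : o ^ 4 • m = m := by
      calc o ^ 4 • m = (o * o) • ((o * o) • m) := by
            rw [smul_smul]
            congr 1
            simp only [pow_succ, pow_zero, one_mul, mul_assoc]
        _ = m := by
          rw [h3, smul_add, h3, mul_smul, h2, h2, G.two_right]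
    have h5 : o ^ 4 • l = l := by
      have h6 : o • (o ^ 4 • l) = o • l := by
        rw [smul_smul, ← pow_succ', pow_succ, mul_smul, ← hm, h4]
      exact smul_left_cancel o h6
    have h6 := hstab 4 h5
    have h7 := hodd 1 (hodd 2 h6)
    rw [pow_one] at h7
    exact ho1 h7
  · -- `ω' = a' l + l`
    obtain ⟨ω', hω'⟩ : ∃ ω', ω' = a' • l + l := ⟨_, rfl⟩
    have hτω : (o * a) • ω = ω' := by
      have h2 : (o * a) • a • m = a' • l := by
        calc (o * a) • a • m = ((o * a) * a * (o * a)⁻¹) • ((o * a) • m) := by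
              rw [smul_smul, smul_smul]
              congr 1
              group
          _ = a' • l := by rw [hτa, hτm]
      rw [hω, smul_add, h2, hτm, hω']
    have hτω' : (o * a) • ω' = ω := by
      rw [← hτω, smul_smul, hττ, one_smul]
    have hτa' : (o * a) * a' * (o * a)⁻¹ = a := by
      calc (o * a) * a' * (o * a)⁻¹ = (o * a) * ((o * a) * a * (o * a)⁻¹) * (o * a)⁻¹ := by rw [hτa]
        _ = ((o * a) * (o * a)) * a * ((o * a) * (o * a))⁻¹ := by group
        _ = a := by rw [hττ]; group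
    have haω' : a • ω' = ω' + l := by
      have h2 : (o * a) • a' • ω = (o * a) • (ω + m) := by rw [h1]
      rw [smul_add, hτω, hτm] at h2
      calc a • ω' = ((o * a) * a' * (o * a)⁻¹) • ((o * a) • ω) := by rw [hτa', hτω]
        _ = (o * a) • a' • ω := by
            rw [smul_smul, smul_smul]
            congr 1
            group
        _ = ω' + l := h2
    have ha'l : a' • l = l + ω' := by
      rw [hω', add_comm (a' • l) l, G.two_left]
    have ha'a' := G.sq hmL ha'A
    have ha'ω' : a' • ω' = ω' := by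
      rw [hω', smul_add, smul_smul, ha'a', one_smul, add_comm]
    -- `{0, l, ω', l + ω'}` is invariant under `o`
    have hoo : ∀ u : M, (u = 0 ∨ u = l ∨ u = ω' ∨ u = l + ω') →
        ((o * o) • u = 0 ∨ (o * o) • u = l ∨ (o * o) • u = ω' ∨ (o * o) • u = l + ω') := by
      intro u hu
      rw [← ha'a, mul_smul]
      rcases hu with e | e | e | e <;> rw [e]
      · left; rw [smul_zero, smul_zero]
      · right; right; right; rw [hal, ha'l]
      · right; left
        rw [haω', smul_add, ha'ω', ha'l, add_comm l ω', G.two_left]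
      · right; right; left
        rw [smul_add, hal, haω', add_comm ω' l, G.two_left, ha'ω']
    have hpw : ∀ k : ℕ, ((o * o) ^ k • l = 0 ∨ (o * o) ^ k • l = l ∨ (o * o) ^ k • l = ω' ∨
        (o * o) ^ k • l = l + ω') := by
      intro k
      induction k with
      | zero => right; left; rw [pow_zero, one_smul]
      | succ k ih => rw [pow_succ', mul_smul]; exact hoo _ ih
    obtain ⟨k, hk⟩ := hgen
    have h2 := hpw k
    rw [hk, ← hm] at h2
    have hm0 := G.ne0 hmL
    have h3 : m = ω' := by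
      rcases h2 with e | e | e | e
      · exact absurd e hm0
      · exact absurd e hml
      · exact e
      · exfalso
        rw [e, smul_add, ha'l, ha'ω', G.two_right] at ha'm
        have h4 : ω' = 0 := by
          have := congrArg (fun u => l + u) ha'm
          simp only [G.two, G.two_left] at this
          exact this.symm
        apply hω0
        rw [← hτω', h4, smul_zero]
    have h4 : ω = l := by rw [← hτω', ← h3, hτm]
    rw [h4] at hω1
    exact hlm1 hω1

end SK

end Cfsg.Agent.Omega.NO3S.TwoOne
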