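import Cfsg.Agent.Omega.NO3S.TwoOne.SigG
import Cfsg.Agent.Omega.NO3S.TwoOne.SigM
import Cfsg.Agent.Omega.NO3S.TwoOne.Inst

/-!
# NO-3S, `q = 2`, `n = 1`, no `λ`-transvections: (S1), (S3) on the module `M`, and `SIGMA_k` (#18607, #19417 (0.3), (0.4))

`h : One T V z`, `hN : NT V`, `R : MRep V cg z M H`, `y ∈ V`, `y ≠ 1, z`; `l, m ∈ LL R y` with `AL R y l m ≠ 1`,
`AL R y m l ≠ 1` (an S-pair).

* `One.in_s1` : `AL l e = 1`, `AL l m • e = e`: some `j ∈ II m`, `AL l j = 1`, has on `AA l` the functional of `e`;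
* `One.in_s3w`, `One.in_s3` : if `AL m (a m + m) ≠ 1` for some `a ∈ AA l` then this holds for all `e`, `AL l e = 1`;
* `One.sk` : `SK (LL R y) (AA R y) (II R y) (AL R y)` if `4 ≤ |A|`;
* `One.in_sigma` : `SIGMA_k`.
-/

set_option autoImplicit false
set_option linter.unusedSectionVars false

namespace Cfsg.Agent.Omega.NO3S.TwoOne

open Subgroup Cfsg Cfsg.Agent.ZN Cfsg.Agent.MinSimple.Geo Cfsg.Agent.Omega.CaseL
open Cfsg.Agent.Omega.NO3S.Fit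
open Cfsg.Agent.ZN.Block (conj_mem_of_normalizer conj_mem_of_normalizer' le_normalizer_of_forall
  mem_normalizer_of)
open scoped commutatorElement

universe u

variable {G : Type u} [Group G]

theorem sig_ii_cj {V : Subgroup G} {g w : G} : w ∈ ii (cj g V) ↔ g⁻¹ * w * g ∈ ii V := by
  constructor
  · intro hw p hp hp1
    have h1 := hw _ (conj_mem_cj (g := g) hp) (fun e => hp1 (conj_eq_one_iff.mp e))
    rw [ws_cj] at h1
    have h2 := conj_mem_ws g⁻¹ h1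
    have e1 : g⁻¹ * (g * p * g⁻¹) * g⁻¹⁻¹ = p := by group
    rwa [e1, inv_inv] at h2
  · intro hw p hp hp1
    have h1 := hw _ (mem_cj.mp hp) (conj_ne_one hp1)
    have h2 := conj_mem_ws g h1
    rw [ws_cj]
    have e1 : g * (g⁻¹ * w * g) * g⁻¹ = w := by group
    have e2 : g * (g⁻¹ * p * g) * g⁻¹ = p := by group
    rwa [e1, e2] at h2

theorem sig_ee_cj {V : Subgroup G} {g w p : G} : w ∈ ee (cj g V) (g * p * g⁻¹) ↔ g⁻¹ * w * g ∈ ee V p := by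
  constructor
  · intro hw
    have h1 := conj_mem_ee' g⁻¹ hw
    have e1 : cj g⁻¹ (cj g V) = V := by rw [cj_cj, inv_mul_cancel, cj_one]
    have e2 : g⁻¹ * (g * p * g⁻¹) * g⁻¹⁻¹ = p := by group
    rwa [e1, e2, inv_inv] at h1
  · intro hw
    have h1 := conj_mem_ee' g hw
    have e1 : g * (g⁻¹ * w * g) * g⁻¹ = w := by group
    rwa [e1] at h1

namespace One

/-- for `w ∈ E_z` some `e ∈ E_y` acts on `W_z` as `w` on `W_y` -/
theorem ee_swap {T V : Subgroup G} {z y w : G} (h : One T V z) (hy : y ∈ V) (hy1 : y ≠ 1) (hyz : y ≠ z)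
    (hw : w ∈ ee V z) : ∃ e ∈ ee V y, ∀ a ∈ ws V z, ∀ b ∈ ws V y, Tw V z a y b → (e * a = a * e ↔ w * b = b * w) := by
  have hz := h.ln.z_mem
  have hz1 := h.ln.z_ne
  have hs : z * y ∈ V := mul_mem hz hy
  have hs1 : z * y ≠ 1 := h.mul_ne_one hy (Ne.symm hyz)
  have hzs : z ≠ z * y := fun e => hy1 (by simpa using e.symm)
  have hys : y ≠ z * y := fun e => hz1 (by simpa using e.symm)
  obtain ⟨t, ht, htV, htz⟩ := h.exists_move hs hs1 hz hz1 hzs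
  have hzy := h.ln.comm hz hy
  have htz' : t * z * t⁻¹ = y := by rw [htz, hzy, mul_assoc, h.ln.zz, mul_one]
  have hty : t * y * t⁻¹ = z := by
    rw [h.move hs hs1 hy hy1 hys ht htV, mul_assoc, h.ln.sq y hy, mul_one]
  have htx : t ∈ xl V := kq_le_xl hs hs1 ht
  have htn := h.xl_le_normalizer htx
  have he : t * w * t⁻¹ ∈ ee V y := by
    have := conj_mem_ee htn hw
    rwa [htz'] at this
  refine ⟨_, he, fun a ha b hb htw => ?_⟩
  -- `t⁻¹ a t` is a twin of `a` in `W_y`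
  have e0 : t⁻¹ * z * t⁻¹⁻¹ = y := by rw [← hty]; group
  have h1 := h.tw_conj (inv_mem htx) z a
  rw [e0] at h1
  have hb' : t⁻¹ * a * t⁻¹⁻¹ ∈ ws V y := by
    have := conj_mem_ws t⁻¹ ha
    rwa [e0] at this
  have h2 : Tw V y b y (t⁻¹ * a * t⁻¹⁻¹) := h.tw_trans (h.tw_symm htw) h1
  have h3 := (h.tw_self hy hy1 hb).mp h2
  have h4 := h.ee_comm hz hz1 hy hy1 hw h3
  rw [inv_inv] at h3 h4
  obtain ⟨c, hc⟩ : ∃ c, c = t⁻¹ * a * t := ⟨_, rfl⟩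
  rw [← hc] at h3 h4
  have h5 : t * w * t⁻¹ * a = a * (t * w * t⁻¹) ↔ w * c = c * w := by
    rw [hc]
    constructor
    · intro e
      calc w * (t⁻¹ * a * t) = t⁻¹ * (t * w * t⁻¹ * a) * t := by group
        _ = t⁻¹ * (a * (t * w * t⁻¹)) * t := by rw [e]
        _ = t⁻¹ * a * t * w := by group
    · intro e
      calc t * w * t⁻¹ * a = t * (w * (t⁻¹ * a * t)) * t⁻¹ := by group
        _ = t * (t⁻¹ * a * t * w) * t⁻¹ := by rw [e]
        _ = a * (t * w * t⁻¹) := by group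
  rw [h5]
  constructor
  · intro e
    have e1 : b = (b * c⁻¹) * c := by group
    rw [e1]
    exact comm_mul_of h4 e
  · intro e
    have e1 : c = (b * c⁻¹)⁻¹ * b := by group
    rw [e1]
    exact comm_mul_of (comm_inv_of h4) e

variable {T V : Subgroup G} {z : G} {M H : Type u} [AddCommGroup M] [Group H] [DistribMulAction H M]
  (h : One T V z) (R : MRep V cg z M H) {y : G} (hy : y ∈ V) (hy1 : y ≠ 1) (hyz : y ≠ z)
include h hy hy1 hyz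

/-- the action of `b ∈ W_y` on `Ē` -/
theorem rp_ee [Finite G] {w b : G} (hw : w ∈ ee V z) (hb : b ∈ ws V y) :
    (w * b = b * w → R.phi b • R.pi w = R.pi w) ∧ (w * b ≠ b * w → R.phi b • R.pi w = R.pi w + R.pi y) := by
  have hz := h.ln.z_mem
  have hz1 := h.ln.z_ne
  have hyW := h.V_le hz hz1 hy
  have hbc := h.ws_le_cz hy hy1 hb
  rw [h.rp_act R hbc hw.1]
  constructor
  · intro e
    rw [conj_eq_of_comm e.symm]
  · intro e
    have h2 := h.ee_cases hy hy1 hw hb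
    have h3 : ⁅w, b⁆ = y := h2.resolve_left fun e' => e (commutatorElement_eq_one_iff_mul_comm.mp e')
    rw [← h.comm_swap hz hz1 hy hy1 hw.1 hb] at h3
    have hbw : b * w * b⁻¹ = ⁅b, w⁆ * w := by rw [commutatorElement_def]; group
    rw [hbw, h3, h.rp_mul R hyW hw.1, add_comm]

theorem rp_ee_iff [Finite G] {w b : G} (hw : w ∈ ee V z) (hb : b ∈ ws V y) :
    R.phi b • R.pi w = R.pi w ↔ w * b = b * w := by
  obtain ⟨h1, h2⟩ := h.rp_ee R hy hy1 hyz hw hb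
  refine ⟨fun e => ?_, h1⟩
  by_contra hcon
  rw [h2 hcon] at e
  exact R.v0_ne h.fam hy hy1 hyz (add_eq_left.mp e)

/-- the S-pair of lines of `v₀` and `φ(f) v₀` -/
theorem syp [Finite G] {f : G} (hf : f ∈ centralizer ({z} : Set G)) (h1 : al0 R y (R.phi f • R.pi y) ≠ 1)
    (h2 : al0 R y ((R.phi f)⁻¹ • R.pi y) ≠ 1) : SyP V (cj f V) z y (f * y * f⁻¹) := by
  have hz := h.ln.z_mem
  have hz1 := h.ln.z_ne
  have hyW := h.V_le hz hz1 hy
  have hfz : f * z * f⁻¹ = z := conj_eq_of_comm (mem_centralizer_singleton_iff.mp hf)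
  have hL : cj f V ∈ lines V z := by
    have := mem_lines_cj (g := f) (L := V) (V := V) (x := z) ⟨⟨1, (cj_one V).symm⟩, hz⟩
    rwa [hfz] at this
  have hqL : f * y * f⁻¹ ∈ cj f V := conj_mem_cj hy
  have hqW : f * y * f⁻¹ ∈ ws V z := le_ws hL hqL
  have hqz : f * y * f⁻¹ ≠ z := fun e => hyz (by
    calc y = f⁻¹ * (f * y * f⁻¹) * f := by group
      _ = f⁻¹ * (f * z * f⁻¹) * f := by rw [e, hfz]
      _ = z := by group)
  refine ⟨hL, hy, hy1, hyz, hqL, fun e => hy1 (conj_eq_one_iff.mp e), hqz, fun hE => h2 ?_, fun hE => h1 ?_⟩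
  · have h3 : y ∈ ee (cj f V) (f * z * f⁻¹) := by rw [hfz]; exact hE
    have h4 := sig_ee_cj.mp h3
    have h5 : f⁻¹ * y * f⁻¹⁻¹ ∈ ee V z := by rwa [inv_inv]
    rw [← R.phi_inv hf, h.rp_act R (inv_mem hf) hyW]
    exact (h.al0_one R hy hy1 hyz h5.1).mpr h5
  · rw [h.rp_act R hf hyW]
    exact (h.al0_one R hy hy1 hyz hqW).mpr hE

/-- (S1) at `v₀` -/
theorem loc_s1 [Finite G] (hN : NT V) {x : H} (h1 : al0 R y (x • R.pi y) ≠ 1) (h2 : al0 R y (x⁻¹ • R.pi y) ≠ 1)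
    {e : M} (he : al0 R y e = 1) (he' : al0 R y (x • R.pi y) • e = e) :
    ∃ j, x⁻¹ • j ∈ i0 R ∧ al0 R y j = 1 ∧ ∀ a ∈ a0 R y, a • j + j = a • e + e := by
  have hz := h.ln.z_mem
  have hz1 := h.ln.z_ne
  have hyW := h.V_le hz hz1 hy
  obtain ⟨f, hf, rfl⟩ := R.phi_surj x
  have S := h.syp R hy hy1 hyz hf h1 h2
  obtain ⟨w, hw, rfl⟩ := h.rp_surj R e
  have hwE := (h.al0_one R hy hy1 hyz hw).mp he
  obtain ⟨e', he'E, hee⟩ := h.ee_swap hy hy1 hyz hwE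
  have hqW : f * y * f⁻¹ ∈ ws V z := S.q_ws h
  obtain ⟨b, hb, ht⟩ := h.tw_exists hz hz1 hy hy1 hqW
  rw [h.rp_act R hf hyW, h.al0_eq R hy hy1 hyz hqW hb ht, h.rp_ee_iff R hy hy1 hyz hwE hb] at he'
  obtain ⟨j, hj, hjE, hjf⟩ := S.one h hN he'E ((hee _ hqW _ hb ht).mpr he')
  refine ⟨R.pi j, ?_, (h.al0_one R hy hy1 hyz hjE.1).mpr hjE, fun a ha => ?_⟩
  · rw [← R.phi_inv hf, h.rp_act R (inv_mem hf) hjE.1, inv_inv]
    exact (h.mem_i0 R).mpr ⟨_, sig_ii_cj.mp hj, rfl⟩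
  · obtain ⟨c, hc, rfl⟩ := (h.mem_a0 R hy hy1).mp ha
    obtain ⟨a', ha', ht'⟩ := h.tw_exists hy hy1 hz hz1 hc
    have h3 := (hjf a' ha' c hc (h.tw_symm ht')).trans (hee a' ha' c hc (h.tw_symm ht'))
    obtain ⟨h4, h5⟩ := h.rp_ee R hy hy1 hyz hjE hc
    obtain ⟨h6, h7⟩ := h.rp_ee R hy hy1 hyz hwE hc
    have h8 := h.rp_two R
    by_cases h9 : w * c = c * w
    · rw [h4 (h3.mpr h9), h6 h9, h8, h8]
    · rw [h5 (fun e => h9 (h3.mp e)), h7 h9, add_comm (R.pi j), add_comm (R.pi w), add_assoc, add_assoc, h8, h8]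

/-- (S3) at `v₀` -/
theorem loc_s3 [Finite G] (hN : NT V) {x : H} (h1 : al0 R y (x • R.pi y) ≠ 1) (h2 : al0 R y (x⁻¹ • R.pi y) ≠ 1)
    {a : H} (ha : a ∈ a0 R y) (h3 : al0 R y (x⁻¹ • (a • x • R.pi y + x • R.pi y)) ≠ 1) :
    ∃ j, x⁻¹ • j ∈ i0 R ∧ al0 R y j = 1 ∧ al0 R y (x • R.pi y) • j = j + R.pi y := by
  have hz := h.ln.z_mem
  have hz1 := h.ln.z_ne
  have hyW := h.V_le hz hz1 hy
  obtain ⟨f, hf, rfl⟩ := R.phi_surj x
  have S := h.syp R hy hy1 hyz hf h1 h2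
  have hfz : f * z * f⁻¹ = z := conj_eq_of_comm (mem_centralizer_singleton_iff.mp hf)
  have hqW : f * y * f⁻¹ ∈ ws V z := S.q_ws h
  obtain ⟨b₁, hb₁, rfl⟩ := (h.mem_a0 R hy hy1).mp ha
  have hcom : ⁅b₁, f * y * f⁻¹⁆ ∈ ws V z := ii_le hz hz1 (h.comm_ii_mem hy hy1 hz hz1 hb₁ hqW)
  have hbw : b₁ * (f * y * f⁻¹) * b₁⁻¹ ∈ ws V z :=
    conj_mem_of_normalizer (h.cent_norm hz) (h.ws_le_centralizer_V hy hy1 hb₁) hqW
  have hω : ⁅f * y * f⁻¹, b₁⁆ ∉ ee (cj f V) z := by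
    intro hE
    apply h3
    rw [h.rp_act R hf hyW, h.rp_comm R (h.ws_le_cz hy hy1 hb₁) hqW hbw, ← R.phi_inv hf]
    have e1 : b₁ * (f * y * f⁻¹) * b₁⁻¹ * (f * y * f⁻¹)⁻¹ = ⁅f * y * f⁻¹, b₁⁆ := by
      rw [← h.comm_swap hz hz1 hy hy1 hqW hb₁, commutatorElement_def]
    rw [h.comm_swap hz hz1 hy hy1 hqW hb₁] at hcom
    rw [e1, h.rp_act R (inv_mem hf) hcom, inv_inv]
    have h4 : ⁅f * y * f⁻¹, b₁⁆ ∈ ee (cj f V) (f * z * f⁻¹) := by rw [hfz]; exact hE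
    have h5 := sig_ee_cj.mp h4
    exact (h.al0_one R hy hy1 hyz h5.1).mpr h5
  obtain ⟨j, hj, hjE, hjf⟩ := S.three h hN hb₁ hω
  refine ⟨R.pi j, ?_, (h.al0_one R hy hy1 hyz hjE.1).mpr hjE, ?_⟩
  · rw [← R.phi_inv hf, h.rp_act R (inv_mem hf) hjE.1, inv_inv]
    exact (h.mem_i0 R).mpr ⟨_, sig_ii_cj.mp hj, rfl⟩
  · obtain ⟨b, hb, ht⟩ := h.tw_exists hz hz1 hy hy1 hqW
    rw [h.rp_act R hf hyW, h.al0_eq R hy hy1 hyz hqW hb ht]
    exact (h.rp_ee R hy hy1 hyz hjE hb).2 (hjf b hb ht)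

/-- an S-pair `l = g v₀`, `m = k v₀` moved to `v₀` -/
theorem pair_aux [Finite G] {l m : M} {g k : H} (hg : g • R.pi y = l) (hk : k • R.pi y = m)
    (h1 : AL R y l m ≠ 1) (h2 : AL R y m l ≠ 1) :
    al0 R y ((g⁻¹ * k) • R.pi y) ≠ 1 ∧ al0 R y ((g⁻¹ * k)⁻¹ • R.pi y) ≠ 1 := by
  constructor
  · intro e
    apply h1
    rw [h.AL_eq R hy hy1 hyz hg, ← hk, smul_smul, e, mul_one, mul_inv_cancel]
  · intro e
    apply h2
    have e1 : (g⁻¹ * k)⁻¹ = k⁻¹ * g := by group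
    rw [e1] at e
    rw [h.AL_eq R hy hy1 hyz hk, ← hg, smul_smul, e, mul_one, mul_inv_cancel]

/-- **(S1)** on `M` -/
theorem in_s1 [Finite G] (hN : NT V) {l m : M} (hl : l ∈ LL R y) (hm : m ∈ LL R y) (h1 : AL R y l m ≠ 1)
    (h2 : AL R y m l ≠ 1) {e : M} (he : AL R y l e = 1) (he' : AL R y l m • e = e) :
    ∃ j ∈ II R y m, AL R y l j = 1 ∧ ∀ a ∈ AA R y l, a • j + j = a • e + e := by
  obtain ⟨g, hg⟩ := hl
  obtain ⟨k, hk⟩ := hm
  have hg' : g • R.pi y = l := hg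
  have hk' : k • R.pi y = m := hk
  obtain ⟨h3, h4⟩ := h.pair_aux R hy hy1 hyz hg' hk' h1 h2
  have hgk : (g⁻¹ * k) • R.pi y = g⁻¹ • m := by rw [mul_smul, hk']
  have h5 : al0 R y (g⁻¹ • e) = 1 := by
    rw [h.AL_eq R hy hy1 hyz hg'] at he
    exact conj_eq_one_iff.mp he
  have h6 : al0 R y ((g⁻¹ * k) • R.pi y) • g⁻¹ • e = g⁻¹ • e := by
    rw [h.AL_eq R hy hy1 hyz hg'] at he'
    rw [hgk]
    have h7 := congrArg (fun u => g⁻¹ • u) he'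
    change g⁻¹ • ((g * al0 R y (g⁻¹ • m) * g⁻¹) • e) = g⁻¹ • e at h7
    rw [mul_smul, mul_smul, inv_smul_smul] at h7
    exact h7
  obtain ⟨j, hj, hj1, hjf⟩ := h.loc_s1 R hy hy1 hyz hN h3 h4 h5 h6
  refine ⟨g • j, ?_, ?_, fun a ha => ?_⟩
  · rw [h.mem_II R hy hy1 hyz hk', smul_smul]
    have e1 : (g⁻¹ * k)⁻¹ = k⁻¹ * g := by group
    rwa [e1] at hj
  · rw [h.AL_eq R hy hy1 hyz hg', inv_smul_smul, hj1, mul_one, mul_inv_cancel]
  · rw [h.mem_AA R hy hy1 hyz hg'] at ha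
    have h7 := congrArg (fun u => g • u) (hjf _ ha)
    change g • ((g⁻¹ * a * g) • j + j) = g • ((g⁻¹ * a * g) • g⁻¹ • e + g⁻¹ • e) at h7
    rw [smul_add, smul_add, smul_inv_smul, smul_smul, smul_smul, smul_smul] at h7
    have e1 : g * (g⁻¹ * a * g) = a * g := by group
    have e2 : a * g * g⁻¹ = a := by group
    rw [e1, e2, mul_smul] at h7
    exact h7

/-- **(S3)** on `M`, weak form -/
theorem in_s3w [Finite G] (hN : NT V) {l m : M} {a : H} (hl : l ∈ LL R y) (hm : m ∈ LL R y) (h1 : AL R y l m ≠ 1)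
    (h2 : AL R y m l ≠ 1) (ha : a ∈ AA R y l) (h3 : AL R y m (a • m + m) ≠ 1) :
    ∃ j ∈ II R y m, AL R y l j = 1 ∧ AL R y l m • j = j + l := by
  obtain ⟨g, hg⟩ := hl
  obtain ⟨k, hk⟩ := hm
  have hg' : g • R.pi y = l := hg
  have hk' : k • R.pi y = m := hk
  obtain ⟨h4, h5⟩ := h.pair_aux R hy hy1 hyz hg' hk' h1 h2
  have hgk : (g⁻¹ * k) • R.pi y = g⁻¹ • m := by rw [mul_smul, hk']
  rw [h.mem_AA R hy hy1 hyz hg'] at ha
  have h6 : al0 R y ((g⁻¹ * k)⁻¹ • ((g⁻¹ * a * g) • (g⁻¹ * k) • R.pi y + (g⁻¹ * k) • R.pi y)) ≠ 1 := by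
    intro e
    apply h3
    rw [h.AL_eq R hy hy1 hyz hk']
    have e1 : (g⁻¹ * k)⁻¹ • ((g⁻¹ * a * g) • (g⁻¹ * k) • R.pi y + (g⁻¹ * k) • R.pi y) = k⁻¹ • (a • m + m) := by
      have e2 : (g⁻¹ * k)⁻¹ • (g⁻¹ * a * g) • g⁻¹ • m = k⁻¹ • a • m := by
        rw [smul_smul, smul_smul, smul_smul]
        congr 1
        group
      have e3 : (g⁻¹ * k)⁻¹ • g⁻¹ • m = k⁻¹ • m := by
        rw [smul_smul]
        congr 1
        group
      rw [hgk, smul_add, smul_add, e2, e3]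
    rw [e1] at e
    rw [e, mul_one, mul_inv_cancel]
  obtain ⟨j, hj, hj1, hjf⟩ := h.loc_s3 R hy hy1 hyz hN h4 h5 ha h6
  refine ⟨g • j, ?_, ?_, ?_⟩
  · rw [h.mem_II R hy hy1 hyz hk', smul_smul]
    have e1 : (g⁻¹ * k)⁻¹ = k⁻¹ * g := by group
    rwa [e1] at hj
  · rw [h.AL_eq R hy hy1 hyz hg', inv_smul_smul, hj1, mul_one, mul_inv_cancel]
  · rw [hgk] at hjf
    rw [h.AL_eq R hy hy1 hyz hg', mul_smul, mul_smul, inv_smul_smul, hjf, smul_add, hg']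

/-- **(S3)** on `M` -/
theorem in_s3 [Finite G] (hN : NT V) {l m : M} (hl : l ∈ LL R y) (hm : m ∈ LL R y) (h1 : AL R y l m ≠ 1)
    (h2 : AL R y m l ≠ 1) (h3 : ∃ a ∈ AA R y l, AL R y m (a • m + m) ≠ 1) {e : M} (he : AL R y l e = 1) :
    ∃ j ∈ II R y m, AL R y l j = 1 ∧ ∀ a ∈ AA R y l, a • j + j = a • e + e := by
  by_cases h4 : AL R y l m • e = e
  · exact h.in_s1 R hy hy1 hyz hN hl hm h1 h2 he h4
  · obtain ⟨a, ha, h5⟩ := h3
    obtain ⟨j, hj, hj1, hjm⟩ := h.in_s3w R hy hy1 hyz hN hl hm h1 h2 ha h5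
    have h6 := ((h.in_al_ker R hy hy1 hyz hN hl e).mp he _ (h.in_al_mem R hy hy1 hyz hl m)).resolve_left h4
    have h7 := h.rp_two R
    obtain ⟨i, hi, hi1, hif⟩ := h.in_s1 R hy hy1 hyz hN hl hm h1 h2 (e := e + j)
      (by rw [h.in_al_add R hy hy1 hyz hl, he, hj1, one_mul]) (by
        rw [smul_add, h6, hjm]
        calc e + l + (j + l) = e + j + (l + l) := by abel
          _ = e + j := by rw [h7, add_zero])
    refine ⟨i + j, add_mem hi hj, by rw [h.in_al_add R hy hy1 hyz hl, hi1, hj1, one_mul], fun b hb => ?_⟩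
    calc b • (i + j) + (i + j) = (b • i + i) + (b • j + j) := by rw [smul_add]; abel
      _ = (b • e + e) + ((b • j + j) + (b • j + j)) := by rw [hif b hb, smul_add]; abel
      _ = b • e + e := by rw [h7, add_zero]

/-- the record for `SIGMA_k` -/
theorem sk [Finite G] (hN : NT V) (h4 : 4 ≤ (ee V z).relIndex (ws V z)) :
    SK (LL R y) (AA R y) (II R y) (AL R y) where
  two := h.rp_two R
  ne0 := fun hl => h.in_ne R hy hy1 hyz hl
  smul := fun x _ hl => smul_mem_LL R y x hl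
  A_conj := fun _ _ _ hl ha => h.in_A_conj R hy hy1 hyz hl ha
  I_conj := fun x _ _ hl hu => h.in_I_conj R hy hy1 hyz hl x hu
  sq := fun hl ha => h.in_sq R hy hy1 hyz hl ha
  four := fun hl => by rw [h.in_card R hy hy1 hyz hl]; exact h4
  self := fun hl => h.in_self R hy hy1 hyz hl
  fix := fun hl ha hu => h.in_fix R hy hy1 hyz hl ha hu
  al_mem := fun hl m => h.in_al_mem R hy hy1 hyz hl m
  al_add := fun hl m m' => h.in_al_add R hy hy1 hyz hl m m'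
  al_conj := fun x hl m => h.in_al_conj R hy hy1 hyz hl x m
  al_ker := fun hl m => h.in_al_ker R hy hy1 hyz hN hl m
  phi := fun hl ha ha1 => h.in_phi R hy hy1 hyz hN hl ha ha1
  s1 := fun hl hm h1 h2 he he' => h.in_s1 R hy hy1 hyz hN hl hm h1 h2 he he'
  s3 := fun hl hm h1 h2 ha h3 => h.in_s3w R hy hy1 hyz hN hl hm h1 h2 ha h3

/-- **`SIGMA_k`** on `M` -/
theorem in_sigma [Finite G] (hN : NT V) (h4 : 4 ≤ (ee V z).relIndex (ws V z)) {l : M} {a o : H} (hl : l ∈ LL R y)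
    (ha : a ∈ AA R y l) (ha1 : a ≠ 1) {n : ℕ} (hn : Odd n) (hon : o ^ n = 1) (ho1 : o ≠ 1) (hao : a * o * a⁻¹ = o⁻¹) :
    o ^ 3 = 1 ∧ AL R y l (o • l) = 1 ∧ a • o • l = o • l + l ∧ o⁻¹ • l = o • l + l :=
  (h.sk R hy hy1 hyz hN h4).sigma hl ha ha1 hn hon ho1 hao

end One

end Cfsg.Agent.Omega.NO3S.TwoOne
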