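import Cfsg.Agent.Omega.NO3S.TwoOne.NtBigA
import Cfsg.Agent.Omega.NO3S.TwoOne.PE.DPlug
import Cfsg.Agent.Omega.NO3S.TwoOne.PG.Five

/-!
# NO-3S, `q = 2`, `n = 1`: `k ≥ 2`, no `λ`-transvections is impossible (helper409's text, bb OMEGA #19417)

* `One.pg_dat` : `D_z = I` : the record `PG.Dat`;
* `One.dd_small` : `D_z = I` is impossible;
* `One.nt_false` : `One T V z`, `NT V`, `4 ≤ |A|` is impossible;
* **`ntBigP : NtBigP K`**.
-/

set_option autoImplicit false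
set_option linter.unusedSectionVars false

namespace Cfsg.Agent.Omega.NO3S.TwoOne

open Subgroup Cfsg Cfsg.Agent.ZN Cfsg.Agent.MinSimple.Geo Cfsg.Agent.Omega.CaseL
open Cfsg.Agent.Omega.NO3S.Fit Cfsg.Agent.Omega.MinPar Cfsg.Agent.Omega.Frame Cfsg.Agent.Omega.FrameNOFF

universe u

variable {G : Type u} [Group G]

namespace One

variable {T V : Subgroup G} {z : G} {M H : Type u} [AddCommGroup M] [Group H] [DistribMulAction H M]
  (h : One T V z) (R : MRep V cg z M H) {y : G} (hy : y ∈ V) (hy1 : y ≠ 1) (hyz : y ≠ z)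
include h hy hy1 hyz

/-- `D_z = I` : the record of section 5 -/
theorem pg_dat [Finite G] [Finite H] (hN : NT V) (hD : dd V z ≤ ii V) (h4 : 4 ≤ (ee V z).relIndex (ws V z)) :
    PG.Dat (LL R y) (AA R y) (II R y) (AL R y) where
  two := h.rp_two R
  zero := fun h0 => h.in_ne R hy hy1 hyz h0 rfl
  gen := h.in_gen R hy hy1 hyz
  smul := fun x _ hl => smul_mem_LL R y x hl
  trans := fun hl hm => trans_LL R y hl hm
  A_conj := fun _ _ _ hl ha => h.in_A_conj R hy hy1 hyz hl ha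
  I_conj := fun x _ _ hl hu => h.in_I_conj R hy hy1 hyz hl x hu
  sq := fun hl ha => h.in_sq R hy hy1 hyz hl ha
  four := fun hl => h.in_four R hy hy1 hyz h4 hl
  self := fun hl => h.in_self R hy hy1 hyz hl
  comm := fun hl ha m => h.in_comm R hy hy1 hyz hl ha m
  fix := fun hl ha hu => h.in_fix R hy hy1 hyz hl ha hu
  al_mem := fun hl m => h.in_al_mem R hy hy1 hyz hl m
  al_add := fun hl m m' => h.in_al_add R hy hy1 hyz hl m m'
  al_surj := fun hl ha => h.in_al_surj R hy hy1 hyz hl ha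
  al_conj := fun x _ hl m => h.in_al_conj R hy hy1 hyz hl x m
  al_ker := fun hl m => h.in_al_ker R hy hy1 hyz hN hl m
  sy := fun hl m m' => h.in_sy R hy hy1 hyz hl m m'
  phi := fun hl ha ha1 => h.in_phi R hy hy1 hyz hN hl ha ha1
  five := fun hl hm h1 => h.in_five R hy hy1 hyz hN hD h4 hl hm h1
  s1 := fun hl hm h1 h2 _ he he' => h.in_s1 R hy hy1 hyz hN hl hm h1 h2 he he'
  s3 := fun hl hm h1 h2 ⟨_, ha, ha'⟩ => h.in_s3w R hy hy1 hyz hN hl hm h1 h2 ha ha'
  alpha := fun hl hm h1 h2 hu hu' hu0 => h.m_alpha_pair hN R hy hy1 hyz hl hm h1 h2 hu hu' hu0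
  kappa := fun hl hm _ h2 h3 h4' hf => h.m_kappa' hN R hy hy1 hyz hl hm h2 h3 h4' hf

omit hy hy1 hyz in
/-- `|A| ≥ 4`, no `λ`-transvections, `D_z = I` is impossible (planes allowed) -/
theorem dd_small [Finite G] (hN : NT V) (h4 : 4 ≤ (ee V z).relIndex (ws V z)) (hD : dd V z ≤ ii V) : False := by
  obtain ⟨y, hy, hy1, hyz⟩ := h.ln.exists_y
  obtain ⟨M, H, iM, fM, iH, fH, iA, -, ⟨R⟩⟩ := h.fam.exists_mrep
  have G := h.pp_gen R hy hy1 hyz hN h4
  have D := h.pg_dat R hy hy1 hyz hN hD h4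
  have hl := self_mem_LL R y
  obtain ⟨m, hm, h1⟩ := G.exists_far hl
  exact G.false_of_part (fun hl hm h1 h2 => D.part (fun hl ha ha1 ho ho' hinv => (G.sgm hl ha ha1 ho ho' hinv).2.2)
    hl hm h1 h2) hl hm h1 (D.five hm hl h1)

omit hy hy1 hyz in
/-- **`|A| ≥ 4`, no `λ`-transvections is impossible.** -/
theorem nt_false [Finite G] (hN : NT V) (h4 : 4 ≤ (ee V z).relIndex (ws V z)) : False := by
  by_cases hD : dd V z ≤ ii V
  · exact h.dd_small hN h4 hD
  · exact h.dd_big hN h4 hD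

end One

/-- **`NtBigP`** -/
theorem ntBigP (K : Cls.{u}) : NtBigP K :=
  fun _ _ _ _ _ _ _ _ ho hc _ _ _ _ _ _ _ _ _ _ => (ho.nt_false hc.2 (ho.four_of_not_kOne hc.1)).elim

end Cfsg.Agent.Omega.NO3S.TwoOne
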