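import Cfsg.Agent.Omega.NO3S.TwoOne.Cases
import Cfsg.Agent.Omega.NO3S.KOne.TAlpha
import Cfsg.Agent.Omega.NO3S.KOne.FiveEnd

/-!
# NO-3S, `CompP`, `k = 1`, no `λ`-transvection: `ntOneP : NtOneP K` (helper881 #18307, helper311, helper225)

* `TSys.exists_sp` : the S-pair in the form `Sp` of section 5;
* `One.false_of_nt` : `One T V z`, `KOne V`, `NT V`, (NL), `A` centralises `F(H)` is impossible;
* `ntOneP`.
-/

set_option autoImplicit false
set_option linter.unusedSectionVars false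

namespace Cfsg.Agent.Omega.NO3S.TwoOne

open Subgroup Cfsg Cfsg.Agent.Omega.MinPar Cfsg.Agent.Omega.Frame Cfsg.Agent.Omega.FrameNOFF
open Cfsg.Agent.ZN (zl zc o2)
open Cfsg.Agent.MinSimple.Geo (ws kq)
open Cfsg.Agent.Omega.NO3S.Fit
open Cfsg.Agent.Omega.NO3S.KOne.Five (false_of_sp)
open Cfsg.Agent.MinSimple.VModule

universe u v

/-- the output of section 4 in the form used in section 5 -/
theorem TSys.exists_sp {M : Type u} {H : Type v} [AddCommGroup M] [Group H] [DistribMulAction H M] [Finite M]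
    (S : TSys M H) {l : M} (hl : l ∈ S.L) : ∃ x : H, KOne.Five.Sp l (S.a l) x := by
  obtain ⟨v, w, hp⟩ := S.exists_pair
  obtain ⟨g, hg⟩ := S.trans v hp.hv l hl
  obtain ⟨x, hx⟩ := S.trans l hl (g • w) (S.smul_mem g w hp.hw)
  have hq : S.Pair l (x • l) := by
    rw [hx, ← hg]
    exact ⟨S.smul_mem g v hp.hv, S.smul_mem g w hp.hw, fun e => hp.vw ((S.E_smul g hp.hv).mp e),
      fun e => hp.wv ((S.E_smul g hp.hw).mp e)⟩
  have ha : S.a (x • l) = x * S.a l * x⁻¹ := S.a_smul x l hl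
  -- `C_M(a) = [M, a]`
  have hfix : ∀ n : M, S.a l • n = n → ∃ k, n = S.a l • k + k := by
    intro n hn
    have h1 : n ∈ S.I l := (S.mem_I_iff hl).mpr hn
    have h2 : ((S.cHom l).range : Set M) ⊆ S.I l := by
      rintro _ ⟨m, rfl⟩
      exact S.c_mem hl m
    have h3 : ((S.cHom l).range : Set M) = S.I l := by
      refine Set.eq_of_subset_of_ncard_le h2 ?_ (Set.toFinite _)
      rw [S.range_eq hl hq.vw, S.four_card (m := S.c l (x • l)) (S.v_ne hl) (fun e => hq.vw (Or.inl e))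
        (fun e => hq.vw (Or.inr e)), ← Nat.card_coe_set_eq]
      exact le_of_eq (S.card.2 l hl)
    have h4 : n ∈ ((S.cHom l).range : Set M) := by rw [h3]; exact h1
    obtain ⟨k, hk⟩ := h4
    exact ⟨k, hk.symm⟩
  refine ⟨x, ?_⟩
  exact
    { two := S.two
      card := S.card.1
      sq := S.sq l hl
      al := S.a_v hl
      l0 := S.v_ne hl
      cen := fun h => (S.cent_iff hl h).symm
      fix := hfix
      dis := fun n h1 h2 => by
        rw [← ha] at h2
        exact S.I_inf hq ((S.mem_I_iff hl).mpr h1) ((S.mem_I_iff hq.hw).mpr h2)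
      s0 := fun e => hq.vw (Or.inl e)
      s1 := fun e => hq.vw (Or.inr e)
      s0' := fun e => hq.wv (Or.inl (by rw [ha]; exact e))
      s1' := fun e => hq.wv (Or.inr (by rw [ha]; exact e))
      q0 := fun e => S.mu_not_E hq.symm (Or.inl (by unfold TSys.c; rw [ha]; exact e))
      q1 := fun e => S.mu_not_E hq.symm (Or.inr (by unfold TSys.c; rw [ha]; exact e))
      q0' := fun e => S.mu_not_E hq (Or.inl (by unfold TSys.c; rw [ha]; exact e))
      q1' := fun e => S.mu_not_E hq (Or.inr (by unfold TSys.c; rw [ha]; exact e)) }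

namespace One

variable {G : Type u} [Group G] [Finite G] {T V : Subgroup G} {z : G}
  {M H : Type u} [AddCommGroup M] [Finite M] [Group H] [Finite H] [DistribMulAction H M] [FaithfulSMul H M]

/-- **`k = 1`, no `λ`-transvection, `A` centralises `F(H)`**: impossible. -/
theorem false_of_nt (h : One T V z)
    (nl : ∀ U : Subgroup G, IsPGroup 2 U → normalizer (V : Set G) ≤ normalizer (U : Set G) →
      centralizer ({z} : Set G) ≤ normalizer (U : Set G) → U = ⊥)
    (hk : KOne V) (hN : NT V) (R : MRep V cg z M H) (hc : CenFit R) : False := by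
  have hz := h.ln.z_mem
  have hz1 := h.ln.z_ne
  obtain ⟨y, hy, hy1, hyz⟩ := h.exists_q hz hz1
  obtain ⟨b, hb, hbE⟩ := SetLike.not_le_iff_exists.mp (h.not_ws_le_ee hy hy1)
  obtain ⟨S, hL, ha, -⟩ := h.tsys R hN (hk z hz hz1) hy hy1 hyz hb hbE
  have hl : R.pi y ∈ S.L := by rw [hL]; exact ⟨1, one_smul _ _⟩
  obtain ⟨x, hx⟩ := S.exists_sp hl
  have e : S.a (R.pi y) = R.phi b := by
    have := ha 1
    simpa using this
  rw [e] at hx
  exact false_of_sp h nl R hc hy hy1 hyz (by rw [h.ww_cg hy hy1]; exact hb) hx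

end One

/-- **`CompP`, `k = 1`, no `λ`-transvection** -/
theorem ntOneP (K : Cls.{u}) : NtOneP K := by
  intro G _ _ _ S P h z ho hcase M H _ _ _ _ _ _ R hc
  exfalso
  have hz1 := ho.ln.z_ne
  have hz : z ∈ zc (S : Subgroup G) := by
    refine mem_zc.mpr ⟨ho.ln.V_le ho.ln.z_mem, fun s hs => ?_, ?_⟩
    · exact mem_centralizer_singleton_iff.mp (ho.ln.T_le hs)
    · rw [pow_two]; exact ho.ln.sq z ho.ln.z_mem
  have hC := centralizer_singleton_eq_CZ h ho.ln.card_V hz hz1
  refine ho.false_of_nt (fun U h1 h2 h3 => ?_) hcase.1 hcase.2 R hc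
  rw [hC] at h3
  exact h.nonLoc U h1 ((le_normalizer_zl _ _).trans h2) h3

end Cfsg.Agent.Omega.NO3S.TwoOne
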