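import Cfsg.Agent.Omega.NO3S.TwoOne.LThreeA

/-!
# NO-3S, `q = 2`, `n = 1`: `|W_z| = 16` implies `|A| = 4`

`Tw2 T V z` : `One T V z`, `|W_z| = 16`, `|A| = |W_z : E_z| = 2`.  `Tw2.false` : this is impossible.

For a point `p` collinear with `z` let `F_p = ff V z p = {w ∈ W_z | [w, W_p] ≤ ⟨z⟩}`; it has index 2 in `W_z`, and an
`a ∈ W_p` acts on `W_z/⟨z⟩` as the transvection with axis `F_p` and centre `p` (`Tw2.facts`); `q ∈ F_p` iff `p ∈ F_q`
(`Tw2.symm`).  `comb`: two points `r`, `α` with `F_r = F_α` and `1 ≠ rα ∈ F_p` for all `p`, so that the product of the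
two transvections contradicts faithfulness (`One.faithful`).
-/

set_option autoImplicit false
set_option linter.unusedSectionVars false

namespace Cfsg.Agent.Omega.NO3S.TwoOne

open Subgroup Cfsg Cfsg.Agent.ZN Cfsg.Agent.MinSimple.Geo Cfsg.Agent.Omega.CaseL
open Cfsg.Agent.ZN.Block (conj_mem_of_normalizer conj_mem_of_normalizer' le_normalizer_of_forall
  mem_normalizer_of)
open scoped commutatorElement

universe u

variable {G : Type u} [Group G]

/-! ### combinatorics -/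

theorem card_zpowers_sup_le [Finite G] {W B : Subgroup G} (ab : ∀ a ∈ W, ∀ b ∈ W, a * b = b * a)
    (sq : ∀ a ∈ W, a * a = 1) {a : G} (ha : a ∈ W) (hB : B ≤ W) :
    Nat.card ↥(zpowers a ⊔ B) ≤ 2 * Nat.card B := by
  have hle : zpowers a ≤ normalizer (B : Set G) := by
    refine le_normalizer_of_forall fun g hg v hv => ?_
    rw [ab g (zpowers_le_of_mem ha hg) v (hB hv), mul_inv_cancel_right]; exact hv
  have h1 := Block.card_sup_mul_card_inf hle
  have h2 : Nat.card (zpowers a) ≤ 2 := by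
    rw [Nat.card_zpowers]
    exact Nat.le_of_dvd (by norm_num) (orderOf_dvd_of_pow_eq_one (by rw [pow_two]; exact sq a ha))
  have h3 : 0 < Nat.card ↥(zpowers a ⊓ B) := Nat.card_pos
  calc Nat.card ↥(zpowers a ⊔ B) = Nat.card ↥(zpowers a ⊔ B) * 1 := (mul_one _).symm
    _ ≤ Nat.card ↥(zpowers a ⊔ B) * Nat.card ↥(zpowers a ⊓ B) := Nat.mul_le_mul_left _ h3
    _ = Nat.card (zpowers a) * Nat.card B := h1
    _ ≤ 2 * Nat.card B := Nat.mul_le_mul_right _ h2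

/-- the elements of a group of order at most 4 -/
theorem mem_four [Finite G] {D : Subgroup G} (hD : Nat.card D ≤ 4) {p q : G} (hp : p ∈ D) (hq : q ∈ D)
    (hp1 : p ≠ 1) (hq1 : q ≠ 1) (hpq : p ≠ q) (hpq1 : p * q ≠ 1) {v : G} (hv : v ∈ D) :
    v = 1 ∨ v = p ∨ v = q ∨ v = p * q := by
  have hpqp : p * q ≠ p := fun e => hq1 (by simpa using e)
  have hpqq : p * q ≠ q := fun e => hp1 (by simpa using e)
  have h1 : ({1, p, q, p * q} : Set G) ⊆ (D : Set G) := by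
    rintro x (rfl | rfl | rfl | rfl)
    · exact D.one_mem
    · exact hp
    · exact hq
    · exact D.mul_mem hp hq
  have h2 : ({1, p, q, p * q} : Set G).ncard = 4 := by
    rw [Set.ncard_insert_of_notMem, Set.ncard_insert_of_notMem, Set.ncard_pair (Ne.symm hpqq)]
    · rintro (e | e)
      · exact hpq e
      · exact hpqp e.symm
    · rintro (e | e | e)
      · exact hp1 e.symm
      · exact hq1 e.symm
      · exact hpq1 e.symm
  have h3 : (D : Set G).ncard ≤ 4 := hD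
  have h4 : ({1, p, q, p * q} : Set G) = D := Set.eq_of_subset_of_ncard_le h1 (by rw [h2]; exact h3)
    (Set.toFinite _)
  have : v ∈ ({1, p, q, p * q} : Set G) := by rw [h4]; exact hv
  simpa using this

/-- the combinatorial part -/
theorem comb [Finite G] {W : Subgroup G} {z : G} {N : Set G} {F : G → Subgroup G}
    (hc : Nat.card W = 16) (ab : ∀ a ∈ W, ∀ b ∈ W, a * b = b * a) (sq : ∀ a ∈ W, a * a = 1) (hz : z ∈ W)
    (hz1 : z ≠ 1) (hN : ∀ p ∈ N, p ∈ W) (hN1 : ∀ p ∈ N, p ∉ zpowers z)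
    (hgen : ∀ X : Subgroup G, z ∈ X → (∀ p ∈ N, p ∈ X) → W ≤ X)
    (hFW : ∀ p ∈ N, F p ≤ W) (hFz : ∀ p ∈ N, z ∈ F p) (hFp : ∀ p ∈ N, p ∈ F p)
    (hFi : ∀ p ∈ N, ∀ a ∈ W, ∀ b ∈ W, a ∉ F p → b ∉ F p → a * b ∈ F p) (hFn : ∀ p ∈ N, ¬ W ≤ F p)
    (hzF : ∀ p ∈ N, F (z * p) = F p) (hsym : ∀ p ∈ N, ∀ q ∈ N, q ∈ F p → p ∈ F q)
    (hmul : ∀ p ∈ N, ∀ q ∈ N, q ∉ F p → p * q ∈ N ∧ F p ⊓ F q ≤ F (p * q)) (hne : N.Nonempty) :
    ∃ r ∈ N, ∃ s ∈ N, F r = F s ∧ r * s ∉ zpowers z ∧ ∀ p ∈ N, r * s ∈ F p := by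
  have hzz := sq z hz
  have zp : ∀ {x : G}, x ∈ zpowers z ↔ x = 1 ∨ x = z := mem_zpowers_iff_of_mul_self hzz
  obtain ⟨y, hy⟩ := hne
  obtain ⟨q, hq, hqy⟩ : ∃ q ∈ N, q ∉ F y := by
    by_contra hcon
    push Not at hcon
    exact hFn y hy (hgen _ (hFz y hy) hcon)
  have hyq : y ∉ F q := fun e => hqy (hsym q hq y hy e)
  obtain ⟨hyqN, hDyq⟩ := hmul y hy q hq hqy
  have hyW := hN y hy
  have hqW := hN q hq
  have hyy := sq y hyW
  have hqq := sq q hqW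
  set D := F y ⊓ F q with hD
  have hDW : D ≤ W := inf_le_left.trans (hFW y hy)
  have hzD : z ∈ D := ⟨hFz y hy, hFz q hq⟩
  -- `B = {y, q, y q}`
  have hDB : ∀ b, (b = y ∨ b = q ∨ b = y * q) → b ∈ N ∧ D ≤ F b := by
    rintro b (rfl | rfl | rfl)
    · exact ⟨hy, inf_le_left⟩
    · exact ⟨hq, inf_le_right⟩
    · exact ⟨hyqN, hDyq⟩
  -- the cosets of `D`
  have hcos : ∀ w ∈ W, w ∈ D ∨ ∃ b, (b = y ∨ b = q ∨ b = y * q) ∧ w * b ∈ D := by
    intro w hw
    by_cases h1 : w ∈ F y <;> by_cases h2 : w ∈ F q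
    · exact Or.inl ⟨h1, h2⟩
    · exact Or.inr ⟨y, Or.inl rfl, mul_mem h1 (hFp y hy), hFi q hq w hw y hyW h2 hyq⟩
    · exact Or.inr ⟨q, Or.inr (Or.inl rfl), hFi y hy w hw q hqW h1 hqy, mul_mem h2 (hFp q hq)⟩
    · refine Or.inr ⟨y * q, Or.inr (Or.inr rfl), ?_, ?_⟩
      · refine hFi y hy w hw _ (mul_mem hyW hqW) h1 fun e => hqy ?_
        exact (mul_mem_cancel_left (hFp y hy)).mp e
      · have : w * (y * q) = (w * y) * q := by group
        rw [this]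
        exact mul_mem (hFi q hq w hw y hyW h2 hyq) (hFp q hq)
  -- `|D| ≤ 4`
  have hD4 : Nat.card D ≤ 4 := by
    have hDy : D ≤ F y := inf_le_left
    have h1 := relIndex_mul_card hDy
    have h2 := relIndex_mul_card (hFW y hy)
    have h3 : D.relIndex (F y) ≠ 1 := fun e => hyq (relIndex_eq_one.mp e (hFp y hy)).2
    have h4 : D.relIndex (F y) ≠ 0 := relIndex_ne_zero' _ _
    have h5 : (F y).relIndex W ≠ 1 := fun e => hFn y hy (relIndex_eq_one.mp e)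
    have h6 : (F y).relIndex W ≠ 0 := relIndex_ne_zero' _ _
    have h7 : 2 ≤ D.relIndex (F y) := by omega
    have h8 : 2 ≤ (F y).relIndex W := by omega
    have h9 := Nat.mul_le_mul_right (Nat.card D) h7
    have h10 := Nat.mul_le_mul_right (Nat.card (F y)) h8
    omega
  -- `D = ⟨z, d⟩`
  have hDd : ∀ d ∈ D, d ∉ zpowers z → ∀ X : Subgroup G, z ∈ X → d ∈ X → D ≤ X := by
    intro d hd hdz X hzX hdX v hv
    rw [zp] at hdz
    push Not at hdz
    have hzd1 : z * d ≠ 1 := fun e => hdz.2 (by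
      rw [mul_eq_one_iff_eq_inv.mp e]
      exact (inv_eq_self (sq d (hDW hd))).symm)
    rcases mem_four hD4 hzD hd hz1 hdz.1 (Ne.symm hdz.2) hzd1 hv with e | e | e | e
    · rw [e]; exact one_mem _
    · rw [e]; exact hzX
    · rw [e]; exact hdX
    · rw [e]; exact mul_mem hzX hdX
  -- an element `r ∈ N` outside `D`
  have hrb : ∀ r ∈ N, ∀ b, (b = y ∨ b = q ∨ b = y * q) → r * b ∈ D → r * b ∈ F r ∧ r = (r * b) * b := by
    intro r hr b hb hd
    obtain ⟨hbN, hDb⟩ := hDB b hb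
    have hbb := sq b (hN b hbN)
    have e1 : r = (r * b) * b := by rw [mul_assoc, hbb, mul_one]
    have h1 : r ∈ F b := by rw [e1]; exact mul_mem (hDb hd) (hFp b hbN)
    exact ⟨mul_mem (hFp r hr) (hsym b hbN r hr h1), e1⟩
  -- Claim A
  have hA : ∀ r ∈ N, D ≤ F r := by
    intro r hr
    rcases hcos r (hN r hr) with h1 | ⟨b, hb, hd⟩
    · exact hDd r h1 (hN1 r hr) _ (hFz r hr) (hFp r hr)
    · obtain ⟨h1, e1⟩ := hrb r hr b hb hd
      obtain ⟨hbN, hDb⟩ := hDB b hb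
      by_cases hdz : r * b ∈ zpowers z
      · rcases zp.mp hdz with e | e
        · rw [e, one_mul] at e1
          rw [e1]; exact hDb
        · rw [e] at e1
          rw [e1, hzF b hbN]; exact hDb
      · exact hDd _ hd hdz _ (hFz r hr) h1
  -- `r ∈ N - ⟨z, y, q⟩`
  set Y := zpowers y ⊔ (zpowers q ⊔ zpowers z) with hY
  have hYc : Nat.card Y ≤ 8 := by
    have h0 : zpowers z ≤ W := zpowers_le_of_mem hz
    have h1 := card_zpowers_sup_le ab sq hqW h0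
    have h2 : Nat.card Y ≤ 2 * Nat.card ↥(zpowers q ⊔ zpowers z) :=
      card_zpowers_sup_le ab sq hyW (sup_le (zpowers_le_of_mem hqW) h0)
    have h3 : Nat.card (zpowers z) ≤ 2 := by
      rw [Nat.card_zpowers]
      exact Nat.le_of_dvd (by norm_num) (orderOf_dvd_of_pow_eq_one (by rw [pow_two]; exact hzz))
    omega
  have hyY : y ∈ Y := mem_sup_left (mem_zpowers y)
  have hqY : q ∈ Y := mem_sup_right (mem_sup_left (mem_zpowers q))
  have hzY : zpowers z ≤ Y := (le_sup_right : zpowers z ≤ zpowers q ⊔ zpowers z).trans le_sup_right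
  obtain ⟨r, hr, hrY⟩ : ∃ r ∈ N, r ∉ Y := by
    by_contra hcon
    push Not at hcon
    have h1 := hgen Y (hzY (mem_zpowers z)) hcon
    have h2 := Nat.le_of_dvd Nat.card_pos (card_dvd_of_le h1)
    omega
  rcases hcos r (hN r hr) with h1 | ⟨b, hb, hd⟩
  · exfalso
    apply hFn r hr
    have hyr : y ∈ F r := hsym y hy r hr h1.1
    have hqr : q ∈ F r := hsym q hq r hr h1.2
    intro w hw
    rcases hcos w hw with h2 | ⟨b, hb, hd⟩
    · exact hA r hr h2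
    · have hbr : b ∈ F r := by
        rcases hb with rfl | rfl | rfl
        · exact hyr
        · exact hqr
        · exact mul_mem hyr hqr
      exact (mul_mem_cancel_right hbr).mp (hA r hr hd)
  · obtain ⟨hbN, hDb⟩ := hDB b hb
    obtain ⟨h1, e1⟩ := hrb r hr b hb hd
    have hbY : b ∈ Y := by
      rcases hb with rfl | rfl | rfl
      · exact hyY
      · exact hqY
      · exact mul_mem hyY hqY
    refine ⟨r, hr, b, hbN, ?_, ?_, fun p hp => hA p hp hd⟩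
    · -- `F r = F b`
      have key : ∀ w ∈ W, (w ∈ F r ↔ w ∈ F b) := by
        intro w hw
        rcases hcos w hw with h2 | ⟨c, hc, hd'⟩
        · exact ⟨fun _ => hA b hbN h2, fun _ => hA r hr h2⟩
        · obtain ⟨hcN, hDc⟩ := hDB c hc
          have hcW := hN c hcN
          have e2 : w = (w * c) * c := by rw [mul_assoc, sq c hcW, mul_one]
          have h3 : c ∈ F r ↔ c ∈ F b := by
            constructor
            · intro h4
              have h5 := hsym r hr c hcN h4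
              rw [e1] at h5
              exact hsym c hcN b hbN ((mul_mem_cancel_left (hDc hd)).mp h5)
            · intro h4
              have h5 := hsym b hbN c hcN h4
              have h6 : r ∈ F c := by rw [e1]; exact mul_mem (hDc hd) h5
              exact hsym c hcN r hr h6
          rw [e2, mul_mem_cancel_left (hA r hr hd'), mul_mem_cancel_left (hA b hbN hd')]
          exact h3
      ext w
      constructor
      · exact fun hw => (key w (hFW r hr hw)).mp hw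
      · exact fun hw => (key w (hFW b hbN hw)).mpr hw
    · intro hdz
      apply hrY
      rw [e1]
      exact mul_mem (hzY hdz) hbY

/-! ### the hyperplanes `F_p` -/

/-- `F_p = {w ∈ W_z | [w, W_p] ≤ ⟨z⟩}` -/
def ff (V : Subgroup G) (z p : G) : Subgroup G where
  carrier := {w | w ∈ ws V z ∧ w ∈ centralizer ({z} : Set G) ∧ ∀ a ∈ ws V p, ⁅a, w⁆ ∈ zpowers z}
  mul_mem' := by
    rintro v w ⟨hv, hvz, hv1⟩ ⟨hw, hwz, hw1⟩
    refine ⟨mul_mem hv hw, mul_mem hvz hwz, fun a ha => ?_⟩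
    have e : ⁅a, v * w⁆ = ⁅a, v⁆ * (v * ⁅a, w⁆ * v⁻¹) := by simp only [commutatorElement_def]; group
    rw [e, conj_zpowers hvz (hw1 a ha)]
    exact mul_mem (hv1 a ha) (hw1 a ha)
  one_mem' := ⟨one_mem _, one_mem _, fun a ha => by simp⟩
  inv_mem' := by
    rintro w ⟨hw, hwz, hw1⟩
    refine ⟨inv_mem hw, inv_mem hwz, fun a ha => ?_⟩
    have e : ⁅a, w⁻¹⁆ = w⁻¹ * ⁅a, w⁆⁻¹ * w⁻¹⁻¹ := by simp only [commutatorElement_def]; group
    rw [e, conj_zpowers (inv_mem hwz) (inv_mem (hw1 a ha))]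
    exact inv_mem (hw1 a ha)

theorem ff_cj (V : Subgroup G) (g z p : G) : ff (cj g V) z p = ff V z p := by
  ext w
  change (w ∈ _ ∧ _ ∧ ∀ a ∈ ws (cj g V) p, _) ↔ _
  rw [ws_cj, ws_cj]
  rfl

theorem conj_mem_ff {V : Subgroup G} {z p g w : G} (hg : g ∈ centralizer ({z} : Set G)) (hw : w ∈ ff V z p) :
    g * w * g⁻¹ ∈ ff V z (g * p * g⁻¹) := by
  refine ⟨conj_mem_of_normalizer (centralizer_le_normalizer_ws V z) hg hw.1,
    mul_mem (mul_mem hg hw.2.1) (inv_mem hg), fun a ha => ?_⟩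
  have h1 : g⁻¹ * a * g ∈ ws V p := by
    have := conj_mem_ws g⁻¹ ha
    have e : g⁻¹ * (g * p * g⁻¹) * g⁻¹⁻¹ = p := by group
    rwa [e, inv_inv] at this
  have h2 := hw.2.2 _ h1
  have e : ⁅a, g * w * g⁻¹⁆ = g * ⁅g⁻¹ * a * g, w⁆ * g⁻¹ := by simp only [commutatorElement_def]; group
  rw [e, conj_zpowers hg h2]; exact h2

theorem ee_cj (V : Subgroup G) (g x : G) : cj g (ee V x) = ee (cj g V) (g * x * g⁻¹) := by
  ext w
  rw [mem_cj]
  constructor
  · rintro ⟨h1, h2⟩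
    refine ⟨?_, fun q hq hq1 => ?_⟩
    · rw [ws_cj]
      have := conj_mem_ws g h1
      have e : g * (g⁻¹ * w * g) * g⁻¹ = w := by group
      rwa [e] at this
    · rw [mem_cj] at hq
      have := conj_mem_kq g (h2 _ hq (conj_ne_one hq1))
      have e : g * (g⁻¹ * w * g) * g⁻¹ = w := by group
      have e' : g * (g⁻¹ * q * g) * g⁻¹ = q := by group
      rw [e, e'] at this
      rw [kq_cj]; exact this
  · rintro ⟨h1, h2⟩
    refine ⟨?_, fun q hq hq1 => ?_⟩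
    · rw [ws_cj] at h1
      have := conj_mem_ws g⁻¹ h1
      have e : g⁻¹ * (g * x * g⁻¹) * g⁻¹⁻¹ = x := by group
      rwa [e, inv_inv] at this
    · have h3 := h2 (g * q * g⁻¹) (conj_mem_cj hq) (fun e => hq1 (conj_eq_one_iff.mp e))
      rw [kq_cj] at h3
      have := conj_mem_kq g⁻¹ h3
      have e : g⁻¹ * (g * q * g⁻¹) * g⁻¹⁻¹ = q := by group
      rwa [e, inv_inv] at this

/-- `|W_z| = 16`, `|A| = 2` -/
structure Tw2 (T V : Subgroup G) (z : G) : Prop where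
  one : One T V z
  card : Nat.card (ws V z) = 16
  two : (ee V z).relIndex (ws V z) = 2

namespace Tw2

variable {T V : Subgroup G} {z p q r : G}

theorem conj (h : Tw2 T V z) (g : G) : Tw2 (cj g T) (cj g V) (g * z * g⁻¹) where
  one := h.one.conj g
  card := by rw [ws_cj, ← cj_ws, card_cj]; exact h.card
  two := by rw [← ee_cj, ws_cj, ← cj_ws, relIndex_cj]; exact h.two

theorem z_mem (h : Tw2 T V z) : z ∈ V := h.one.ln.z_mem

theorem z_ne (h : Tw2 T V z) : z ≠ 1 := h.one.ln.z_ne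

theorem zz (h : Tw2 T V z) : z * z = 1 := h.one.ln.zz

theorem zp (h : Tw2 T V z) {x : G} : x ∈ zpowers z ↔ x = 1 ∨ x = z :=
  mem_zpowers_iff_of_mul_self h.zz

theorem line (h : Tw2 T V z) {L : Subgroup G} (hL : L ∈ lines V z) : ∃ g, L = cj g V ∧ ∃ T', Tw2 T' L z := by
  obtain ⟨c, hc, rfl⟩ := h.one.ln.exists_of_mem_lines hL
  have h1 := h.conj c
  rw [conj_eq_of_comm (mem_centralizer_singleton_iff.mp hc)] at h1
  exact ⟨c, rfl, _, h1⟩

/-- the line of a point -/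
theorem line_nb (h : Tw2 T V z) (hp : p ∈ nb V z) :
    ∃ g : G, p ∈ cj g V ∧ p ≠ 1 ∧ p ≠ z ∧ cj g V ∈ lines V z ∧ ∃ T', Tw2 T' (cj g V) z := by
  obtain ⟨L, hL, hpL, hp1, hpz⟩ := hp
  obtain ⟨g, rfl, hT⟩ := h.line hL
  exact ⟨g, hpL, hp1, hpz, hL, hT⟩

/-- two elements of `V - ⟨z⟩` -/
theorem mul_mem_zp (h : Tw2 T V z) {v w : G} (hv : v ∈ V) (hw : w ∈ V)
    (hv' : v ∉ zpowers z) (hw' : w ∉ zpowers z) : v * w ∈ zpowers z := by
  rw [h.zp] at hv' hw' ⊢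
  push Not at hv' hw'
  rcases h.one.third h.z_mem h.z_ne hv hv'.1 hv'.2 hw hw'.1 with e | e | e
  · exact absurd e hw'.2
  · left; rw [e, h.one.ln.sq v hv]
  · right
    rw [e, h.one.ln.comm h.z_mem hv, ← mul_assoc, h.one.ln.sq v hv, one_mul]

/-- the action of `W_p` on `W_z`, `p ∈ V` -/
theorem facts [Finite G] (h : Tw2 T V z) (hp : p ∈ V) (hp1 : p ≠ 1) (hpz : p ≠ z) :
    (∃ w ∈ ws V z, w ∉ ff V z p) ∧ (∀ w ∈ ws V z, ∀ w' ∈ ws V z, w ∉ ff V z p → w' ∉ ff V z p →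
      w * w' ∈ ff V z p) ∧ ∃ a ∈ ws V p, ∀ w ∈ ws V z, ⁅a, w⁆ ∈ V ∧ (⁅a, w⁆ ∈ zpowers z ↔ w ∈ ff V z p) := by
  have hz := h.z_mem
  have hz1 := h.z_ne
  have hVW := h.one.V_le hz hz1
  have hcz := h.one.ws_le_cent
  have h2 : (ee V p).relIndex (ws V p) = 2 := by rw [h.one.relIndex_ee_ws hp hp1 hz hz1]; exact h.two
  obtain ⟨a, ha, haE⟩ := SetLike.not_le_iff_exists.mp (h.one.not_ws_le_ee hp hp1)
  have hpi : ((ee V p).subgroupOf (ws V p)).index = 2 := h2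
  have hcos : ∀ b ∈ ws V p, b ∈ ee V p ∨ b * a⁻¹ ∈ ee V p := by
    intro b hb
    by_cases hbE : b ∈ ee V p
    · exact Or.inl hbE
    · right
      have := Subgroup.mul_mem_iff_of_index_two hpi (a := ⟨b, hb⟩) (b := ⟨a⁻¹, inv_mem ha⟩)
      rw [mem_subgroupOf, mem_subgroupOf, mem_subgroupOf] at this
      exact this.mpr ⟨fun e => absurd e hbE, fun e => absurd (inv_mem_iff.mp e) haE⟩
  have hE : ∀ e ∈ ee V p, ∀ w ∈ ws V z, ⁅e, w⁆ ∈ zpowers z := fun e he w hw => kq_comm (he.2 z hz hz1) hw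
  have hsplit : ∀ b ∈ ws V p, ∀ w ∈ ws V z, ∃ x ∈ zpowers z, ⁅b, w⁆ = x ∨ ⁅b, w⁆ = x * ⁅a, w⁆ := by
    intro b hb w hw
    rcases hcos b hb with h3 | h3
    · exact ⟨_, hE b h3 w hw, Or.inl rfl⟩
    · refine ⟨_, hE _ h3 w hw, Or.inr ?_⟩
      rw [← h.one.comm_mul_left hp hp1 hz hz1 (ee_le_ws V p h3) ha hw, inv_mul_cancel_right]
  have hff : ∀ w ∈ ws V z, (⁅a, w⁆ ∈ zpowers z ↔ w ∈ ff V z p) := by
    intro w hw
    constructor
    · intro h3
      refine ⟨hw, hcz hw, fun b hb => ?_⟩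
      obtain ⟨x, hx, e | e⟩ := hsplit b hb w hw
      · rw [e]; exact hx
      · rw [e]; exact mul_mem hx h3
    · exact fun h3 => h3.2.2 a ha
  have hVF : V ≤ ff V z p := fun v hv => (hff v (hVW hv)).mp (by
    rw [commutatorElement_eq_one_iff_mul_comm.mpr
      (h.one.V_comm hv (h.one.ws_le_centralizer_V hp hp1 ha)).symm]
    exact one_mem _)
  -- some commutator is in `V - ⟨z⟩`
  obtain ⟨w₀, hw₀, hw₀V, hw₀z⟩ : ∃ w ∈ ws V z, ⁅a, w⁆ ∈ V ∧ ⁅a, w⁆ ∉ zpowers z := by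
    obtain ⟨w, hw, b, hb, h3, h4⟩ := h.one.exists_lambda hz hz1 hp hp1 hpz
    rw [← h.one.comm_swap hz hz1 hp hp1 hw hb] at h3 h4
    obtain ⟨x, hx, e | e⟩ := hsplit b hb w hw
    · exact absurd (by rw [e]; exact hx) h4
    · have hxV := zpowers_le_of_mem hz hx
      refine ⟨w, hw, ?_, fun h5 => h4 (by rw [e]; exact mul_mem hx h5)⟩
      rw [e] at h3
      exact (mul_mem_cancel_left hxV).mp h3
  have hw₀F : w₀ ∉ ff V z p := fun e => hw₀z ((hff w₀ hw₀).mpr e)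
  have hφ : ∀ w ∈ ws V z, ⁅a, w⁆ ∈ V := by
    intro w₁ hw₁
    by_contra hcon
    have hci := h.one.comm_ii_mem hp hp1 hz hz1 ha hw₁
    have hc1 : ⁅a, w₁⁆ ∈ ff V z p := (hff _ (ii_le hz hz1 hci)).mp (by
      rw [commutatorElement_eq_one_iff_mul_comm.mpr (h.one.comm hp hp1 a ha _ (ii_le hp hp1 hci))]
      exact one_mem _)
    have hw₁F : w₁ ∉ ff V z p := fun e => hcon (zpowers_le_of_mem hz ((hff w₁ hw₁).mpr e))
    have h3 := mul_mem_of_card_lt hVF (fun w hw => hw.1) h.one.ln.card_V h.card (fun hle => hcon (hle hc1))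
      hw₀ hw₁ hw₀F hw₁F
    have h4 := (hff _ (mul_mem hw₀ hw₁)).mpr h3
    rw [h.one.comm_mul_right hp hp1 hz hz1 ha hw₀ hw₁] at h4
    exact hcon ((mul_mem_cancel_left hw₀V).mp (zpowers_le_of_mem hz h4))
  refine ⟨⟨w₀, hw₀, hw₀F⟩, fun w hw w' hw' h3 h4 => ?_, a, ha, fun w hw => ⟨hφ w hw, hff w hw⟩⟩
  refine (hff _ (mul_mem hw hw')).mp ?_
  rw [h.one.comm_mul_right hp hp1 hz hz1 ha hw hw']
  exact h.mul_mem_zp (hφ w hw) (hφ w' hw') (fun e => h3 ((hff w hw).mp e)) (fun e => h4 ((hff w' hw').mp e))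

/-- `|W_p : W_p ∩ K_z| = 2`, `p ∈ V` -/
theorem index_two [Finite G] (h : Tw2 T V z) (hp : p ∈ V) (hp1 : p ≠ 1) (hpz : p ≠ z) {b c : G}
    (hb : b ∈ ws V p) (hc : c ∈ ws V p) (hbc : b ∈ kq V z ↔ c ∈ kq V z) : b * c⁻¹ ∈ kq V z := by
  have hz := h.z_mem
  have hz1 := h.z_ne
  have h2 : (ee V p).relIndex (ws V p) = 2 := by rw [h.one.relIndex_ee_ws hp hp1 hz hz1]; exact h.two
  have hpi : ((ee V p).subgroupOf (ws V p)).index = 2 := h2
  have hE : ∀ x ∈ ws V p, (x ∈ ee V p ↔ x ∈ kq V z) := fun x hx =>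
    ⟨fun h3 => h3.2 z hz hz1, fun h3 => h.one.mem_ee hp hp1 hz hz1 (Ne.symm hpz) hx h3⟩
  have := Subgroup.mul_mem_iff_of_index_two hpi (a := ⟨b, hb⟩) (b := ⟨c⁻¹, inv_mem hc⟩)
  rw [mem_subgroupOf, mem_subgroupOf, mem_subgroupOf] at this
  rw [← hE _ (mul_mem hb (inv_mem hc))]
  refine this.mpr ?_
  change b ∈ ee V p ↔ c⁻¹ ∈ ee V p
  rw [inv_mem_iff, hE b hb, hE c hc]
  exact hbc

theorem nb_ws {V : Subgroup G} {z p : G} (hp : p ∈ nb V z) : p ∈ ws V z := by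
  obtain ⟨L, hL, hpL, -, -⟩ := hp
  exact le_ws hL hpL

theorem nb_not (h : Tw2 T V z) (hp : p ∈ nb V z) : p ∉ zpowers z := by
  obtain ⟨L, hL, hpL, hp1, hpz⟩ := hp
  rw [h.zp]
  push Not
  exact ⟨hp1, hpz⟩

theorem zmul_nb (h : Tw2 T V z) (hp : p ∈ nb V z) : z * p ∈ nb V z := by
  obtain ⟨L, hL, hpL, hp1, hpz⟩ := hp
  refine ⟨L, hL, mul_mem hL.2 hpL, fun e => hpz ?_, fun e => hp1 (by simpa using e)⟩
  have := mul_eq_one_iff_eq_inv.mp e
  rw [inv_eq_self (h.one.sqz p (le_ws hL hpL))] at this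
  exact this.symm

/-- the facts for an arbitrary point collinear with `z` -/
theorem facts' [Finite G] (h : Tw2 T V z) (hp : p ∈ nb V z) :
    (∃ w ∈ ws V z, w ∉ ff V z p) ∧ (∀ w ∈ ws V z, ∀ w' ∈ ws V z, w ∉ ff V z p → w' ∉ ff V z p →
      w * w' ∈ ff V z p) ∧ ∃ a ∈ ws V p, a * z = z * a ∧
        (∀ w ∈ ws V z, w ∈ ff V z p → a * w * a⁻¹ * w⁻¹ ∈ zpowers z) ∧
        (∀ w ∈ ws V z, w ∉ ff V z p → a * w * a⁻¹ * w⁻¹ = p ∨ a * w * a⁻¹ * w⁻¹ = z * p) ∧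
        p ∈ ff V z p := by
  have hp' := hp
  obtain ⟨g, hpL, hp1, hpz, hL, T', h'⟩ := h.line_nb hp'
  obtain ⟨h1, h2, a, ha, h3⟩ := h'.facts hpL hp1 hpz
  rw [ff_cj, ws_cj] at h1
  rw [ff_cj, ws_cj] at h2
  rw [ws_cj] at ha
  have h3' : ∀ w ∈ ws V z, ⁅a, w⁆ ∈ cj g V ∧ (⁅a, w⁆ ∈ zpowers z ↔ w ∈ ff V z p) := by
    intro w hw
    have := h3 w (by rw [ws_cj]; exact hw)
    rwa [ff_cj] at this
  have haz : a * z = z * a := mem_centralizer_singleton_iff.mp (h.one.nb_le_cent hp' ha)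
  refine ⟨h1, h2, a, ha, haz, fun w hw hwF => ((h3' w hw).2.mpr hwF), fun w hw hwF => ?_, ?_⟩
  · obtain ⟨h4, h5⟩ := h3' w hw
    have h6 : ⁅a, w⁆ ∉ zpowers z := fun e => hwF (h5.mp e)
    rw [h.zp] at h6
    push Not at h6
    exact (h'.one.third h'.z_mem h'.z_ne hpL hp1 hpz h4 h6.1).resolve_left h6.2
  · refine ⟨le_ws hL hpL, h.one.ws_le_cent (le_ws hL hpL), fun b hb => ?_⟩
    have hb' : b ∈ ws (cj g V) p := by rw [ws_cj]; exact hb
    rw [commutatorElement_eq_one_iff_mul_comm.mpr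
      (h'.one.comm hpL hp1 b hb' p (h'.one.V_le hpL hp1 hpL))]
    exact one_mem _

/-- a mover of a line -/
theorem mover [Finite G] (h : Tw2 T V z) (hp : p ∈ nb V z) : ∃ t ∈ kq V z, t * p * t⁻¹ = z * p := by
  obtain ⟨g, hpL, hp1, hpz, hL, T', h'⟩ := h.line_nb hp
  obtain ⟨t, ht, -, ht2⟩ := h'.one.exists_move h'.z_mem h'.z_ne hpL hp1 hpz
  rw [kq_cj] at ht
  exact ⟨t, ht, ht2⟩

theorem z_ff [Finite G] (h : Tw2 T V z) (hp : p ∈ nb V z) : z ∈ ff V z p := by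
  have hzw := h.one.V_le h.z_mem h.z_ne h.z_mem
  refine ⟨hzw, h.one.ws_le_cent hzw, fun a ha => ?_⟩
  rw [commutatorElement_eq_one_iff_mul_comm.mpr (mem_centralizer_singleton_iff.mp (h.one.nb_le_cent hp ha))]
  exact one_mem _

theorem ff_zmul [Finite G] (h : Tw2 T V z) (hp : p ∈ nb V z) : ff V z (z * p) = ff V z p := by
  have hz := h.z_mem
  have key : ∀ p ∈ nb V z, ff V z p ≤ ff V z (z * p) := by
    intro p hp w hw
    obtain ⟨t, ht, ht2⟩ := h.mover hp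
    have h1 := conj_mem_ff (kq_le_centralizer V z ht) hw
    rw [ht2] at h1
    rcases h.one.kq_cases hz ht hw.1 with e | e
    · rwa [e] at h1
    · rw [e] at h1
      exact (mul_mem_cancel_left (h.z_ff (h.zmul_nb hp))).mp h1
  refine le_antisymm ?_ (key p hp)
  have := key _ (h.zmul_nb hp)
  rwa [← mul_assoc, h.zz, one_mul] at this

/-- `q ∈ F_p` implies `p ∈ F_q` -/
theorem symm [Finite G] (h : Tw2 T V z) (hp : p ∈ nb V z) (hq : q ∈ nb V z) (hqp : q ∈ ff V z p) :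
    p ∈ ff V z q := by
  obtain ⟨⟨w, hw, hwF⟩, -, a, ha, haz, h1, h2, -⟩ := h.facts' hp
  have hpW := nb_ws hp
  have hqW := nb_ws hq
  have hCn := centralizer_le_normalizer_kq V z
  have hCw := centralizer_le_normalizer_ws V z
  have haC : a ∈ centralizer ({z} : Set G) := mem_centralizer_singleton_iff.mpr haz
  refine ⟨hpW, h.one.ws_le_cent hpW, fun b hb => ?_⟩
  have hbC : b ∈ centralizer ({z} : Set G) := h.one.nb_le_cent hq hb
  have hbz : b * z = z * b := mem_centralizer_singleton_iff.mp hbC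
  -- `s ∈ K_z` with `s q s⁻¹ = a q a⁻¹`
  obtain ⟨s, hs, hsq⟩ : ∃ s ∈ kq V z, s * q * s⁻¹ = a * q * a⁻¹ := by
    rcases h.zp.mp (h1 q hqW hqp) with e | e
    · refine ⟨1, one_mem _, ?_⟩
      have : a * q * a⁻¹ = q := by
        calc a * q * a⁻¹ = (a * q * a⁻¹ * q⁻¹) * q := by group
          _ = q := by rw [e, one_mul]
      rw [this]; simp
    · obtain ⟨t, ht, ht2⟩ := h.mover hq
      refine ⟨t, ht, ?_⟩
      rw [ht2]
      calc z * q = (a * q * a⁻¹ * q⁻¹) * q := by rw [e]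
        _ = a * q * a⁻¹ := by group
  have hsC := kq_le_centralizer V z hs
  -- `κ = a b a⁻¹ b⁻¹ ∈ K_z`
  obtain ⟨g, hqL, hq1, hqz, hL, T', h'⟩ := h.line_nb hq
  have hκ : a * b * a⁻¹ * b⁻¹ ∈ kq V z := by
    set c := s⁻¹ * (a * b * a⁻¹) * s with hc
    have hcw : c ∈ ws V q := by
      have h3 := conj_mem_ws s⁻¹ (conj_mem_ws a hb)
      have e : s⁻¹ * (a * q * a⁻¹) * s⁻¹⁻¹ = q := by rw [← hsq]; group
      rwa [e, inv_inv] at h3
    have hiff : c ∈ kq V z ↔ b ∈ kq V z := by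
      constructor
      · intro h3
        have h4 := conj_mem_of_normalizer' hCn haC (conj_mem_of_normalizer hCn hsC h3)
        have e : a⁻¹ * (s * c * s⁻¹) * a = b := by rw [hc]; group
        rwa [e] at h4
      · intro h3
        exact conj_mem_of_normalizer' hCn hsC (conj_mem_of_normalizer hCn haC h3)
    have h3 : c * b⁻¹ ∈ kq V z := by
      have := h'.index_two (b := c) (c := b) hqL hq1 hqz (by rw [ws_cj]; exact hcw)
        (by rw [ws_cj]; exact hb) (by rw [kq_cj]; exact hiff)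
      rwa [kq_cj] at this
    have hcC : c ∈ centralizer ({z} : Set G) := h.one.nb_le_cent hq hcw
    have h4 := mul_mem (mul_mem hs (conj_mem_of_normalizer hCn hcC (inv_mem hs))) h3
    have e : s * (c * s⁻¹ * c⁻¹) * (c * b⁻¹) = a * b * a⁻¹ * b⁻¹ := by rw [hc]; group
    rwa [e] at h4
  set κ := a * b * a⁻¹ * b⁻¹ with hκd
  obtain ⟨gp, hpL, hp1, hpz, hpLn, -⟩ := h.line_nb hp
  -- `[a, x] ∈ L_p = {1, z, p, z p}` for `x ∈ W_z`
  have hLp : ∀ x ∈ ws V z, a * x * a⁻¹ * x⁻¹ ∈ cj gp V := by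
    intro x hx
    by_cases hxF : x ∈ ff V z p
    · exact zpowers_le_of_mem hpLn.2 (h1 x hx hxF)
    · rcases h2 x hx hxF with e | e
      · rw [e]; exact hpL
      · rw [e]; exact mul_mem hpLn.2 hpL
  have hw' : b * w * b⁻¹ ∈ ws V z := conj_mem_of_normalizer hCw hbC hw
  -- `b [a, w] b⁻¹ ∈ L_p`
  have h5 : b * (a * w * a⁻¹ * w⁻¹) * b⁻¹ ∈ cj gp V := by
    set w' := b * w * b⁻¹ with hw'd
    have h6 := hLp w' hw'
    set y := a * w' * a⁻¹ with hyd
    have hy : y ∈ ws V z := conj_mem_of_normalizer hCw haC hw'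
    have e1 : b * (a * w * a⁻¹ * w⁻¹) * b⁻¹ = (κ⁻¹ * y * κ⁻¹⁻¹ * y⁻¹) * (y * w'⁻¹) := by
      rw [hκd, hyd, hw'd]; group
    rw [e1]
    exact mul_mem (zpowers_le_of_mem hpLn.2 (kq_comm (inv_mem hκ) hy)) h6
  have h6 : b * p * b⁻¹ ∈ cj gp V := by
    rcases h2 w hw hwF with e | e
    · rwa [e] at h5
    · rw [e] at h5
      have e1 : b * (z * p) * b⁻¹ = z * (b * p * b⁻¹) := by
        calc b * (z * p) * b⁻¹ = (b * z) * p * b⁻¹ := by group
          _ = z * (b * p * b⁻¹) := by rw [hbz]; group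
      rw [e1] at h5
      exact (mul_mem_cancel_left hpLn.2).mp h5
  obtain ⟨-, -, Tg, hg⟩ := h.line hpLn
  have h7 : b * p * b⁻¹ = p ∨ b * p * b⁻¹ = z * p := by
    rcases hg.one.ln.four hpLn.2 hpL h.z_ne hp1 (Ne.symm hpz) h6 with e | e | e | e
    · exact absurd (conj_eq_one_iff.mp e) hp1
    · exfalso
      apply hpz
      calc p = b⁻¹ * (b * p * b⁻¹) * b := by group
        _ = b⁻¹ * (z * b) := by rw [e]; group
        _ = z := by rw [← hbz]; group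
    · exact Or.inl e
    · exact Or.inr e
  rw [commutatorElement_def]
  rcases h7 with e | e
  · rw [e, mul_inv_cancel]; exact one_mem _
  · rw [e, mul_inv_cancel_right]; exact mem_zpowers z

theorem pmul [Finite G] (h : Tw2 T V z) (hp : p ∈ nb V z) (hq : q ∈ nb V z) (hqp : q ∉ ff V z p) :
    p * q ∈ nb V z ∧ ff V z p ⊓ ff V z q ≤ ff V z (p * q) := by
  obtain ⟨-, -, a, ha, haz, h1, h2, hpp⟩ := h.facts' hp
  have hqW := nb_ws hq
  have haC : a ∈ centralizer ({z} : Set G) := mem_centralizer_singleton_iff.mpr haz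
  have h3 := conj_mem_nb haC hq
  have h4 : ff V z p ⊓ ff V z q ≤ ff V z (a * q * a⁻¹) := by
    rintro d ⟨hdp, hdq⟩
    have h5 := conj_mem_ff haC hdq
    have h6 := h1 d hdp.1 hdp
    have h7 := mul_mem (inv_mem (zpowers_le_of_mem (h.z_ff h3) h6)) h5
    have e : (a * d * a⁻¹ * d⁻¹)⁻¹ * (a * d * a⁻¹) = d := by group
    rwa [e] at h7
  rcases h2 q hqW hqp with e | e
  · have e1 : a * q * a⁻¹ = p * q := by
      calc a * q * a⁻¹ = (a * q * a⁻¹ * q⁻¹) * q := by group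
        _ = p * q := by rw [e]
    rw [e1] at h3 h4
    exact ⟨h3, h4⟩
  · have e1 : a * q * a⁻¹ = z * (p * q) := by
      calc a * q * a⁻¹ = (a * q * a⁻¹ * q⁻¹) * q := by group
        _ = z * (p * q) := by rw [e, mul_assoc]
    have h5 := h.zmul_nb h3
    rw [e1, ← mul_assoc, h.zz, one_mul] at h5
    rw [e1, h.ff_zmul h5] at h4
    exact ⟨h5, h4⟩

/-- **`|W_z| = 16` implies `|A| ≠ 2`** -/
theorem false [Finite G] (h : Tw2 T V z) : False := by
  have hz := h.z_mem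
  have hz1 := h.z_ne
  have hVW := h.one.V_le hz hz1
  have ab := h.one.comm hz hz1
  have sq := h.one.sq hz hz1
  obtain ⟨y, hy, hy1, hyz⟩ := h.one.ln.exists_y
  obtain ⟨r, hr, s, hs, hrs, hd, hD⟩ := comb (W := ws V z) (z := z) (N := nb V z) (F := ff V z)
    h.card ab sq (hVW hz) hz1 (fun p hp => nb_ws hp) (fun p hp => h.nb_not hp)
    (fun X hzX hX => ws_le fun L hL x hx => by
      by_cases hxz : x ∈ zpowers z
      · exact zpowers_le_of_mem hzX hxz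
      · rw [h.zp] at hxz
        push Not at hxz
        exact hX x ⟨L, hL, hx, hxz.1, hxz.2⟩)
    (fun p _ w hw => hw.1) (fun p hp => h.z_ff hp)
    (fun p hp => (h.facts' hp).2.2.choose_spec.2.2.2.2)
    (fun p hp a ha b hb h1 h2 => (h.facts' hp).2.1 a ha b hb h1 h2)
    (fun p hp hle => by
      obtain ⟨w, hw, hwF⟩ := (h.facts' hp).1
      exact hwF (hle hw))
    (fun p hp => h.ff_zmul hp) (fun p hp q hq hqp => h.symm hp hq hqp)
    (fun p hp q hq hqp => h.pmul hp hq hqp)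
    ⟨y, h.one.mem_nb hy hy1 hyz⟩
  obtain ⟨⟨w₀, hw₀, hw₀F⟩, -, a, ha, haz, a1, a2, hrr⟩ := h.facts' hr
  obtain ⟨-, -, b, hb, hbz, b1, b2, hss⟩ := h.facts' hs
  rw [← hrs] at b1 b2 hss
  have hrW := nb_ws hr
  have hsW := nb_ws hs
  have hsr := ab s hsW r hrW
  have haC : a ∈ centralizer ({z} : Set G) := mem_centralizer_singleton_iff.mpr haz
  have hzcm : zpowers z ≤ cm V z := zpowers_le.mpr h.one.isSub_cm.z_mem
  have hdcm : r * s ∈ cm V z := ⟨mul_mem hrW hsW, h.one.ws_le_cent (mul_mem hrW hsW),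
    fun y hy a ha => (hD y hy).2.2 a ha⟩
  have hzF : zpowers z ≤ ff V z r := zpowers_le.mpr (h.z_ff hr)
  have hsplit : ∀ w, a * b * w * (a * b)⁻¹ * w⁻¹ = a * (b * w * b⁻¹ * w⁻¹) * a⁻¹ * (a * w * a⁻¹ * w⁻¹) :=
    fun w => by group
  have hin : ∀ w ∈ ws V z, w ∈ ff V z r → a * b * w * (a * b)⁻¹ * w⁻¹ ∈ zpowers z := by
    intro w hw hwF
    rw [hsplit, conj_zpowers haC (b1 w hw hwF)]
    exact mul_mem (b1 w hw hwF) (a1 w hw hwF)
  have hout : ∀ w ∈ ws V z, w ∉ ff V z r → ∃ e ∈ zpowers z, a * b * w * (a * b)⁻¹ * w⁻¹ = e * (r * s) := by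
    intro w hw hwF
    obtain ⟨e1, he1, h1⟩ : ∃ e ∈ zpowers z, a * w * a⁻¹ * w⁻¹ = e * r := by
      rcases a2 w hw hwF with e | e
      · exact ⟨1, one_mem _, by rw [e, one_mul]⟩
      · exact ⟨z, mem_zpowers z, e⟩
    obtain ⟨e2, he2, h2⟩ : ∃ e ∈ zpowers z, b * w * b⁻¹ * w⁻¹ = e * s := by
      rcases b2 w hw hwF with e | e
      · exact ⟨1, one_mem _, by rw [e, one_mul]⟩
      · exact ⟨z, mem_zpowers z, e⟩
    have hx : e2 * s ∈ ff V z r := mul_mem (hzF he2) hss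
    have h3 := a1 _ hx.1 hx
    refine ⟨(a * (e2 * s) * a⁻¹ * (e2 * s)⁻¹) * (e2 * e1), mul_mem h3 (mul_mem he2 he1), ?_⟩
    rw [hsplit, h1, h2]
    have he1W : e1 ∈ ws V z := zpowers_le_of_mem (hVW hz) he1
    calc a * (e2 * s) * a⁻¹ * (e1 * r)
        = (a * (e2 * s) * a⁻¹ * (e2 * s)⁻¹) * (e2 * (s * e1) * r) := by group
      _ = (a * (e2 * s) * a⁻¹ * (e2 * s)⁻¹) * (e2 * e1) * (s * r) := by rw [ab s hsW e1 he1W]; group
      _ = (a * (e2 * s) * a⁻¹ * (e2 * s)⁻¹) * (e2 * e1) * (r * s) := by rw [hsr]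
  have hgK : a * b ∈ kq V z := by
    refine h.one.faithful (mul_mem haC (mem_centralizer_singleton_iff.mpr hbz)) fun w hw => ?_
    by_cases hwF : w ∈ ff V z r
    · exact hzcm (hin w hw hwF)
    · obtain ⟨e, he, h1⟩ := hout w hw hwF
      rw [h1]
      exact mul_mem (hzcm he) hdcm
  obtain ⟨e, he, h1⟩ := hout w₀ hw₀ hw₀F
  have h2 := kq_comm hgK hw₀
  rw [h1] at h2
  exact hd ((mul_mem_cancel_left he).mp h2)

end Tw2

end Cfsg.Agent.Omega.NO3S.TwoOne
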