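import Cfsg.Agent.Omega.NO3S.TwoOne.LThreeC
import Cfsg.Agent.Omega.NO3S.TwoOne.LThreeD
import Cfsg.Agent.Omega.NO3S.TwoOne.Bridge

/-!
# NO-3S, `q = 2`, `n = 1`: `|W_z| = 16` (helper225's text #15275 (A)): the exit

* `One.std` : `One T V z`, `|W_z| = 16` and nonlocality give `Std T V z` (`|A| = 4`, `E_p = V`);
* `One.extra_card` : `O₂(C_G(z)) = K_z` is extraspecial of order `2^7`; `One.known_card` : `G` is known (S1762:
  `L₅(2)`, `M₂₄`, `He`);
* `known_of_card` : the same in terms of `Hyp S P`.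
-/

set_option autoImplicit false

namespace Cfsg.Agent.Omega.NO3S.TwoOne

open Subgroup Cfsg Cfsg.Agent.ZN Cfsg.Agent.MinSimple.Geo Cfsg.Agent.Omega.CaseL
open Cfsg.Agent.ZN.Block (conj_mem_of_normalizer conj_mem_of_normalizer' le_normalizer_of_forall
  mem_normalizer_of)

universe u

section

variable {G : Type u} [Group G] {T V : Subgroup G} {z : G}

/-- nonlocality for all subgroups of `C_G(z)`, in characteristic 2 type -/
theorem nonloc_of [Finite G] (hc : IsCharacteristicTwoType G) (hz : z * z = 1) (hz1 : z ≠ 1)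
    (nl : ∀ N : Subgroup G, IsPGroup 2 N → centralizer ({z} : Set G) ≤ normalizer (N : Set G) →
      normalizer (V : Set G) ≤ normalizer (N : Set G) → N = ⊥)
    {N : Subgroup G} (hN : N ≤ centralizer ({z} : Set G))
    (h1 : centralizer ({z} : Set G) ≤ normalizer (N : Set G))
    (h2 : normalizer (V : Set G) ≤ normalizer (N : Set G)) : N = ⊥ := by
  have h0 := ZN.normalizer_le_normalizer_o2 N
  have hb : o2 N = ⊥ := nl _ (Block.o2_isPGroup N) (h1.trans h0) (h2.trans h0)
  set C := centralizer ({z} : Set G) with hC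
  have hQ : N ⊓ o2 C = ⊥ := by
    rw [eq_bot_iff, ← hb]
    refine Block.le_o2 ((Block.o2_isPGroup C).to_le inf_le_right) inf_le_left ?_
    refine le_normalizer_of_forall fun n hn x hx => ⟨?_, ?_⟩
    · exact N.mul_mem (N.mul_mem hn hx.1) (N.inv_mem hn)
    · exact conj_mem_of_normalizer (Block.le_normalizer_o2 C) (hN hn) hx.2
  rw [eq_bot_iff]
  intro n hn
  have hnC := hN hn
  have hcen : n ∈ centralizer (o2 C : Set G) := by
    rw [mem_centralizer_iff]
    intro q hq
    have hqC := Block.o2_le C hq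
    have h3 : n * q * n⁻¹ * q⁻¹ ∈ N ⊓ o2 C := by
      refine ⟨?_, ?_⟩
      · have e : n * q * n⁻¹ * q⁻¹ = n * (q * n⁻¹ * q⁻¹) := by group
        rw [e]
        exact N.mul_mem hn (conj_mem_of_normalizer h1 hqC (N.inv_mem hn))
      · exact (o2 C).mul_mem (conj_mem_of_normalizer (Block.le_normalizer_o2 C) hnC hq) ((o2 C).inv_mem hq)
    rw [hQ, mem_bot] at h3
    calc q * n = (n * q * n⁻¹ * q⁻¹)⁻¹ * (n * q) := by group
      _ = n * q := by rw [h3]; group
  have h4 : n ∈ o2 C := inf_centralizer_o2_le hc (isTwoLocal_centralizer hz hz1) ⟨hnC, hcen⟩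
  rw [← hQ]
  exact ⟨hn, h4⟩

namespace One

/-- `|W_z| = 16` implies `|A| = 4` -/
theorem ee_card [Finite G] (h : One T V z) (h16 : Nat.card (ws V z) = 16) :
    (ee V z).relIndex (ws V z) = 4 := by
  have hz := h.ln.z_mem
  have hz1 := h.ln.z_ne
  have h1 := relIndex_mul_card (ee_le_ws V z)
  have h2 := relIndex_mul_card (h.V_le_ee hz hz1)
  rw [h.ln.card_V] at h2
  rw [h16] at h1
  have h3 : (ee V z).relIndex (ws V z) ≠ 1 := fun e => h.not_ws_le_ee hz hz1 (relIndex_eq_one.mp e)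
  have h4 : (ee V z).relIndex (ws V z) ≠ 2 := fun e => Tw2.false ⟨h, h16, e⟩
  have h5 : (ee V z).relIndex (ws V z) ∣ 4 := by
    refine ⟨V.relIndex (ee V z), ?_⟩
    rw [← h2] at h1
    have h6 : (ee V z).relIndex (ws V z) * V.relIndex (ee V z) * 4 = 4 * 4 := by
      rw [mul_assoc]; exact h1
    exact (Nat.eq_of_mul_eq_mul_right (by norm_num) h6).symm
  have h6 := Nat.le_of_dvd (by norm_num) h5
  interval_cases h7 : (ee V z).relIndex (ws V z) <;> omega

theorem card_ws_point (h : One T V z) {p : G} (hp : p ∈ V) (hp1 : p ≠ 1) :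
    Nat.card (ws V p) = Nat.card (ws V z) := by
  obtain ⟨g, -, hg, -⟩ := h.point hp hp1
  rw [← hg, ← cj_ws, card_cj]

theorem ee_le_V [Finite G] (h : One T V z) (h16 : Nat.card (ws V z) = 16) {p : G} (hp : p ∈ V)
    (hp1 : p ≠ 1) : ee V p ≤ V := by
  have h1 := h.ee_card h16
  rw [h.relIndex_ee_ws h.ln.z_mem h.ln.z_ne hp hp1] at h1
  have h2 := relIndex_mul_card (ee_le_ws V p)
  rw [h1, h.card_ws_point hp hp1, h16] at h2
  have h3 : Nat.card (ee V p) = 4 := by omega
  exact (eq_of_le_of_card_ge (h.V_le_ee hp hp1) (by rw [h3, h.ln.card_V])).ge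

theorem std [Finite G] (h : One T V z) (h16 : Nat.card (ws V z) = 16)
    (nl : ∀ N : Subgroup G, IsPGroup 2 N → centralizer ({z} : Set G) ≤ normalizer (N : Set G) →
      normalizer (V : Set G) ≤ normalizer (N : Set G) → N = ⊥) : Std T V z where
  one := h
  card := h16
  le := fun _ hp hp1 => h.ee_le_V h16 hp hp1
  nl := fun _ h1 h2 h3 => nonloc_of h.ln.charTwo h.ln.zz h.ln.z_ne nl h1 h2 h3

/-- **`|W_z| = 16`: `O₂(C_G(z))` is extraspecial of order `2^7`.** -/
theorem extra_card [Finite G] (h : One T V z) (h16 : Nat.card (ws V z) = 16)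
    (nl : ∀ N : Subgroup G, IsPGroup 2 N → centralizer ({z} : Set G) ≤ normalizer (N : Set G) →
      normalizer (V : Set G) ≤ normalizer (N : Set G) → N = ⊥) : Exits.Extra z 3 := (h.std h16 nl).extra

/-- **`|W_z| = 16`: the exit S1762.** -/
theorem known_card [Finite G] [IsSimpleGroup G] (h : One T V z) (h16 : Nat.card (ws V z) = 16)
    (nl : ∀ N : Subgroup G, IsPGroup 2 N → centralizer ({z} : Set G) ≤ normalizer (N : Set G) →
      normalizer (V : Set G) ≤ normalizer (N : Set G) → N = ⊥)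
    (hna : ¬ IsMulCommutative G) (h62 : Exits.St1762.{u}) : IsKnownSimple' G :=
  (h.std h16 nl).known hna h62

end One

end

open Cfsg.Agent.Omega.MinPar Cfsg.Agent.Omega.FrameNOFF

/-- **`|W_z| = 16`** in terms of `Hyp S P`. -/
theorem known_of_card {G : Type u} [Group G] [Finite G] {S : Sylow 2 G} {P : Subgroup G}
    (h : Hyp S P) (hc : Nat.card (zl (S : Subgroup G) P) = 4) {z : G}
    (h1 : One (S : Subgroup G) (zl (S : Subgroup G) P) z) (hz : z ∈ zc (S : Subgroup G))
    (h16 : Nat.card (WW (S : Subgroup G) P) = 16) (h62 : Exits.St1762.{u}) : IsKnownSimple' G := by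
  have := h.ctx.simple
  have hz1 := h1.ln.z_ne
  have hC := centralizer_singleton_eq_CZ h hc hz hz1
  refine h1.known_card (by rw [ws_four h hc hz hz1]; exact h16) (fun N h2 h3 h4 => ?_) ?_ h62
  · rw [hC] at h3
    exact h.nonLoc N h2 ((le_normalizer_zl _ _).trans h4) h3
  · exact h.ctx.nonComm

end Cfsg.Agent.Omega.NO3S.TwoOne
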