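import Cfsg.Agent.Omega.NO3S.TwoOne.TvBigB
import Cfsg.Agent.Omega.NO3S.TwoOne.LThree

/-!
# NO-3S, `CompP`: the case `k ≥ 2`, `A` consists of `λ`-transvections

* `tvBigP : St1762 → TvBigP K` : `|W_z| = 16` (`TvBig.Set1.card_ws`) and the exit S1762 (helper46, `LThree.lean`).
-/

set_option autoImplicit false

namespace Cfsg.Agent.Omega.NO3S.TwoOne

open Subgroup Cfsg Cfsg.Agent.Omega.MinPar Cfsg.Agent.Omega.Frame Cfsg.Agent.Omega.FrameNOFF
open Cfsg.Agent.ZN (zl zc o2)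
open Cfsg.Agent.MinSimple.Geo (ws kq)
open Cfsg.Agent.Omega.NO3S.Fit Cfsg.Agent.Omega.NO3S.TvBig

universe u

variable {G : Type u} [Group G] {T V : Subgroup G} {z : G}

/-- `k ≥ 2` -/
theorem One.four_le [Finite G] (h : One T V z) (hk : ¬ KOne V) {M H : Type u} [AddCommGroup M] [Group H] [Finite H]
    [DistribMulAction H M] (R : MRep V cg z M H) {y : G} (hy : y ∈ V) (hy1 : y ≠ 1) (hyz : y ≠ z) :
    4 ≤ Nat.card (a0 R y) := by
  have hz := h.ln.z_mem
  have hz1 := h.ln.z_ne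
  have hc := h.loc_card R hy hy1 hyz
  have h1 : (ee V z).relIndex (ws V z) ≠ 1 := fun e => h.not_ws_le_ee hz hz1 (relIndex_eq_one.mp e)
  have h2 : (ee V z).relIndex (ws V z) ≠ 2 := fun e => hk fun p hp hp1 => by
    rw [h.relIndex_ee_ws hp hp1 hz hz1, e]
  have : Fact (Nat.Prime 2) := ⟨Nat.prime_two⟩
  have hp : IsPGroup 2 (a0 R y) := by
    rintro ⟨a, ha⟩
    refine ⟨1, Subtype.ext ?_⟩
    change a ^ 2 ^ 1 = 1
    rw [pow_one, pow_two]
    exact h.loc_sq R hy hy1 hyz ha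
  obtain ⟨n, hn⟩ := IsPGroup.iff_card.mp hp
  rw [← hc] at h1 h2
  rw [hn] at h1 h2 ⊢
  have h3 : 2 ≤ n := by
    by_contra hcon
    interval_cases n
    · exact h1 rfl
    · exact h2 rfl
  calc 4 = 2 ^ 2 := by norm_num
    _ ≤ 2 ^ n := Nat.pow_le_pow_right (by norm_num) h3

variable (K : Cls.{u})

/-- **`k ≥ 2`, transvections** -/
theorem tvBigP (h62 : Exits.St1762.{u}) : TvBigP K := by
  intro G _ _ hK S P h z ho hC M H _ _ _ _ _ _ R hcen
  obtain ⟨y, hy, hy1, hyz⟩ := ho.ln.exists_y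
  have hz := ho.ln.z_mem
  let _ : Module (ZMod 2) M := AddCommGroup.zmodModule (fun m => by rw [two_nsmul]; exact ho.rp_two R m)
  have c := tva ho hC.2 R hcen hy hy1 hyz
  have h4 := ho.four_le hC.1 R hy hy1 hyz
  obtain ⟨B, b⟩ := exists_bk c h4
  have s : Set1 (S : Subgroup G) (zl (S : Subgroup G) P) z R y B := ⟨ho, hC.2, hy, hy1, hyz, c, b, h4⟩
  have hzc : z ∈ zc (S : Subgroup G) := by
    rw [MinSimple.VModule.mem_zc]
    exact ⟨ho.ln.V_le hz, fun t ht => mem_centralizer_singleton_iff.mp (ho.ln.T_le ht), by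
      rw [pow_two]; exact ho.ln.sq z hz⟩
  refine known_of_card h ho.ln.card_V ho hzc ?_ h62
  rw [← ws_four h ho.ln.card_V hzc ho.ln.z_ne]
  exact s.card_ws

end Cfsg.Agent.Omega.NO3S.TwoOne
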