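import Cfsg.Agent.Omega.NO3S.TwoOne.Cases
import Cfsg.Agent.Omega.NO3S.TwoOne.PlaneKF
import Cfsg.Agent.Omega.NO3S.TV.Final
import Cfsg.Agent.Omega.NO3S.TV.Dead

/-!
# NO-3S, `CompP`: the case `k = 1`, transvections (plug of THEOREM TV, helper311 #16747)

* `tvOneP : TvOneP K`.
-/

set_option autoImplicit false

namespace Cfsg.Agent.Omega.NO3S.TwoOne

open Subgroup Cfsg Cfsg.Agent.Omega.MinPar Cfsg.Agent.Omega.Frame Cfsg.Agent.Omega.FrameNOFF
open Cfsg.Agent.ZN (zl zc o2)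
open Cfsg.Agent.MinSimple.Geo (ws kq)
open Cfsg.Agent.Omega.NO3S.Fit Cfsg.Agent.Omega.NO3S.TV
open scoped commutatorElement

universe u

variable {G : Type u} [Group G] {T V : Subgroup G} {z : G}

/-- `k = 1` in the language of families -/
theorem One.one1 [Finite G] (h : One T V z) (hk : KOne V) : Fam.One1 V cg := by
  have hz := h.ln.z_mem
  have hz1 := h.ln.z_ne
  obtain ⟨y, hy, hy1, hyz⟩ := h.ln.exists_y
  refine Fam.one1_of h.fam hy hy1 hz hz1 (Ne.symm hyz) ?_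
  intro w hw w' hw' hwq hwq'
  rw [h.ww_cg hy hy1] at hw hw'
  rw [h.qq_cg] at hwq hwq' ⊢
  have hi := hk y hy hy1
  have e : ∀ x ∈ ws V y, (x ∈ kq V z ↔ x ∈ ee V y) := by
    intro x hx
    exact ⟨fun hh => h.mem_ee hy hy1 hz hz1 (Ne.symm hyz) hx hh, fun hh => ee_le_kq y hz hz1 hh⟩
  refine (e _ (mul_mem hw hw')).mpr ?_
  rw [e _ hw] at hwq
  rw [e _ hw'] at hwq'
  obtain ⟨a, ha, hx⟩ := (Subgroup.relIndex_eq_two_iff).mp hi
  have h1 : w * a ∈ ee V y := by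
    rcases hx w hw with hh | hh
    · exact hh.1
    · exact absurd hh.1 hwq
  have h2 : w'⁻¹ * a ∈ ee V y := by
    rcases hx w'⁻¹ (inv_mem hw') with hh | hh
    · exact hh.1
    · exact absurd (inv_mem hh.1) (by rwa [inv_inv])
  have h3 := mul_mem h1 (inv_mem h2)
  have e3 : w * a * (w'⁻¹ * a)⁻¹ = w * w' := by group
  rwa [e3] at h3

variable {K : Cls.{u}}

theorem tvOneP : TvOneP K := by
  intro G _ _ hK S P h z ho hC M H _ _ _ _ _ _ R hcen
  exfalso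
  obtain ⟨y, hy, hy1, hyz⟩ := ho.ln.exists_y
  have hT : Tvf (S : Subgroup G) (zl (S : Subgroup G) P) z cg := by
    refine tvf_of_one ho (ho.one1 hC.1) ?_
    intro p hp hp1 q hq hq1 hqp a ha b hb
    rw [ho.ww_cg hp hp1] at ha
    rw [ho.ww_cg hq hq1] at hb
    exact hC.2 p hp hp1 q hq hq1 a ha b hb
  obtain ⟨N, hN, hab, hne⟩ := hT.exists_abelian_full (fun p _ _ => le_rfl) R hy hy1 hyz
  obtain ⟨w, hw, hwz⟩ := hT.exists_not_qq hy hy1 hT.ln.z_mem hT.ln.z_ne (Ne.symm hyz)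
  obtain ⟨n, hn, hne⟩ := hne w hw hwz
  have hle : ww (zl (S : Subgroup G) P) cg y ≤ cg z := hT.ww_le_cf' hy hy1 hT.ln.z_mem hT.ln.z_ne
  have h1 : R.phi w ∈ R.img (ww (zl (S : Subgroup G) P) cg y) := (R.mem_img hle).mpr ⟨w, hw, rfl⟩
  exact hne (mem_centralizer_iff.mp (hcen N hN (isNilpotent_of_comm hab) y hy hy1 hyz h1) n hn).symm

end Cfsg.Agent.Omega.NO3S.TwoOne
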