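import Cfsg.Agent.Omega.NO3S.TwoOne.Cases
import Cfsg.Agent.Omega.NO3S.TwoOne.TvOne
import Cfsg.Agent.Omega.NO3S.TwoOne.NtOne
import Cfsg.Agent.Omega.NO3S.TwoOne.MixedP
import Cfsg.Agent.Omega.NO3S.TwoOne.TvBig
import Cfsg.Agent.Omega.NO3S.TwoOne.NtBig

/-!
# NO-3S, `TwoOneFin`: what is left (assembler: helper391)

Proved: `FitP` (`Fit.fitP`), `TvOneP`, `NtOneP`, `MixP`, `TvBigP`, `NtBigP`.

* `compP' : St1762 → CompP K` (the case list of `CompP` is complete);
* `twoOneFin_of_f : St1762 → FOneP K → TwoOneFin K`.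
-/

set_option autoImplicit false

namespace Cfsg.Agent.Omega.NO3S.TwoOne

open Cfsg Cfsg.Agent.Omega.MinPar Cfsg.Agent.Omega.Frame Cfsg.Agent.Omega.FrameNOFF
open Cfsg.Agent.Classification.TitsFin (FinHyp)
open Cfsg.Agent.Omega.NO3S.Fit

universe u

variable {K : Cls.{u}}

/-- **`CompP`** : the components case is complete -/
theorem compP' (h62 : Exits.St1762.{u}) : CompP K :=
  compP tvOneP (ntOneP K) (mixP K) (tvBigP K h62) (ntBigP K)

/-- **`TwoOneFin` from (F1) alone** -/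
theorem twoOneFin_of_f (h62 : Exits.St1762.{u}) (h0 : FOneP K) : TwoOneFin K :=
  twoOneFin h0 (Fit.fitP K) (compP' h62)

end Cfsg.Agent.Omega.NO3S.TwoOne
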