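import Cfsg.Agent.Omega.NO3S.TwoOne.DRel

/-!
# NO-3S, `q = 2`, `n = 1`: helper409's relation (N6) (text #18223)

`h : One T V z`, `L` another line on `z`, `q` a point of `L`; `D_x > I` : some `d ∈ D_y` (`y` a point of `V`) is not in `I`.
`S : Spr L L₂ z q₁ y₂ e₂ g₂` : the relations (3.2) of `DRel.lean` hold on the line `L`.
* `One.nsix` : `e ∈ E_y` moves `q`, `w ∈ W_q` ⟹ `e` commutes with `w y w⁻¹`;
* `One.nsix_of` : the same with `hF` instead of `S` (some `g ∈ C(D_p, p ∈ L#)`, e.g. `g ∈ F_L`, moves `y`, or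
  `[y, W_q] ≤ ⟨z⟩`);
* `One.nsix_ee` : (N6) `λ_L ∉ Ē_V ⟹ [λ_V, A_L] ≤ Ē_V`, from `hF` and (N1) in the form `hΦ` (for `a, b ∈ W_z - E_z` some
  `e ∈ E_y` moves both).
-/

set_option autoImplicit false
set_option linter.unusedSectionVars false

namespace Cfsg.Agent.Omega.NO3S.TwoOne

open Subgroup Cfsg Cfsg.Agent.ZN Cfsg.Agent.MinSimple.Geo Cfsg.Agent.Omega.CaseL
open Cfsg.Agent.ZN.Block (conj_mem_of_normalizer conj_mem_of_normalizer' le_normalizer_of_forall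
  mem_normalizer_of)

universe u

variable {G : Type u} [Group G]

namespace One

variable {T V L L₂ : Subgroup G} {z y q e w d q₁ y₂ e₂ g₂ : G}

/-- `d d^k ∈ I` for a mover `k ∈ K_z` and `d ∈ D_y` implies `d ∈ I` -/
theorem mem_ii_of_mover (h : One T V z) (hy : y ∈ V) (hy1 : y ≠ 1) (hyz : y ≠ z) {k : G} (hk : k ∈ kq V z)
    (hk1 : k ∉ centralizer (V : Set G)) (hd : d ∈ dd V y) (h1 : d * (k * d * k⁻¹) ∈ ii V) : d ∈ ii V := by
  have hz := h.ln.z_mem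
  have hz1 := h.ln.z_ne
  have hs : z * y ∈ V := mul_mem hz hy
  have hs1 : z * y ≠ 1 := h.mul_ne_one hy (Ne.symm hyz)
  have hsy : z * y ≠ y := fun e' => hz1 (by simpa using e')
  have h2 : k * d * k⁻¹ ∈ dd V (z * y) := by
    have := conj_mem_dd (h.kq_le_normalizer hz hz1 hk) hd
    rwa [h.move hz hz1 hy hy1 hyz hk hk1] at this
  have h3 := h.ii_le_dd hs hs1 h1
  have h4 : d ∈ dd V (z * y) := by
    have := mul_mem h3 (inv_mem h2)
    rwa [mul_inv_cancel_right] at this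
  exact h.dd_inf hy hy1 hs hs1 hsy hd h4

/-- an element of `D_y` centralises `W_z` -/
theorem dd_cent (h : One T V z) (hd : d ∈ dd V y) : d ∈ centralizer ((ws V z : Subgroup G) : Set G) := by
  rw [mem_centralizer_iff]
  intro b hb
  exact (hd.2 z h.ln.z_mem h.ln.z_ne b hb).symm

/-- `[D_y, W_q] ≤ D_q` for a point `q` of another line `L` on `z` -/
theorem comm_mem_dd (h : One T V z) (hL : L ∈ lines V z) (hq : q ∈ L) (hq1 : q ≠ 1) (hqz : q ≠ z)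
    (hd : d ∈ dd V y) (hw : w ∈ ws V q) : d * w * d⁻¹ * w⁻¹ ∈ dd L q := by
  have hz := h.ln.z_mem
  have hz1 := h.ln.z_ne
  obtain ⟨k, -, T', h'⟩ := h.of_line hL hz1
  have hLz : L ≤ ws V z := le_ws hL
  have hdW := h.dd_cent hd
  have hdL : d ∈ centralizer (L : Set G) := centralizer_le hLz hdW
  have hwL : w ∈ ws L q := by rw [ws_line hL]; exact hw
  have hwc : w ∈ centralizer ({z} : Set G) :=
    h'.cent_le_centralizer hL.2 (h'.ws_le_centralizer_V hq hq1 hwL)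
  have h1 : d * w * d⁻¹ * w⁻¹ ∈ ws L q :=
    mul_mem (conj_mem_of_normalizer (h'.cent_norm hq) hdL hwL) (inv_mem hwL)
  have h2 : d * w * d⁻¹ * w⁻¹ ∈ centralizer ((ws V z : Subgroup G) : Set G) := by
    have e1 : d * w * d⁻¹ * w⁻¹ = d * (w * d⁻¹ * w⁻¹) := by group
    rw [e1]
    refine mul_mem hdW (conj_mem_of_normalizer (L := centralizer ({z} : Set G)) ?_ hwc (inv_mem hdW))
    exact (centralizer_le_normalizer_ws V z).trans (normalizer_le_normalizer_centralizer _)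
  refine h'.mem_dd hq hq1 hL.2 hz1 (Ne.symm hqz) h1 fun b hb => ?_
  rw [ws_line hL] at hb
  exact (mem_centralizer_iff.mp h2 b hb).symm

/-- **(N6), one element.** -/
theorem nsix (h : One T V z) (hL : L ∈ lines V z) (hy : y ∈ V) (hy1 : y ≠ 1) (hyz : y ≠ z) (hq : q ∈ L)
    (hq1 : q ≠ 1) (hqz : q ≠ z) (S : Spr L L₂ z q₁ y₂ e₂ g₂) (hd : d ∈ dd V y)
    (hdI : d ∉ ii V) (he : e ∈ ee V y) (eq : e * q * e⁻¹ = z * q) (hw : w ∈ ws V q) :
    e * (w * y * w⁻¹) = w * y * w⁻¹ * e := by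
  have hz := h.ln.z_mem
  have hz1 := h.ln.z_ne
  obtain ⟨k, -, T', h'⟩ := h.of_line hL hz1
  have hzL : z ∈ L := hL.2
  have hLz : L ≤ ws V z := le_ws hL
  have hdW := h.dd_cent hd
  have hwL : w ∈ ws L q := by rw [ws_line hL]; exact hw
  have hwc : w ∈ centralizer ({z} : Set G) :=
    h'.cent_le_centralizer hzL (h'.ws_le_centralizer_V hq hq1 hwL)
  have hek : e ∈ kq V z := he.2 z hz hz1
  have hekL : e ∈ kq L z := by rw [kq_line hL]; exact hek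
  have heL : e ∉ centralizer (L : Set G) := fun hc => by
    have h1 : e * q * e⁻¹ = q := conj_eq_of_comm (h'.V_comm hq hc).symm
    rw [eq] at h1
    exact hz1 (by simpa using h1)
  have hde : d * e = e * d := h.comm hy hy1 d hd.1 e he.1
  -- `D' = [d, w] ∈ D_q`
  set D' := d * w * d⁻¹ * w⁻¹ with hD'
  have hDq : D' ∈ dd L q := h.comm_mem_dd hL hq hq1 hqz hd hw
  have hDD : D' * D' = 1 := h'.dd_sq hq hq1 hDq
  -- `X = [D', e] ∈ D_z^L`
  have hX0 : D' * (e * D' * e⁻¹) ∈ dd L z := S.mul_mem_dd h' hzL hz1 hq hq1 hqz hekL heL hDq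
  -- `X` is in `W_y`
  have hXy : D' * (e * D' * e⁻¹) ∈ ws V y := by
    have hDi : D'⁻¹ = D' := inv_eq_self hDD
    have hDV : D' ∈ centralizer (V : Set G) := by
      rw [mem_centralizer_iff]
      intro v hv
      have h1 := hDq.2 z hzL hz1 v (by rw [ws_line hL]; exact h.V_le hz hz1 hv)
      exact h1.symm
    have e1 : D' * (e * D' * e⁻¹) = (D' * e * D'⁻¹) * e⁻¹ := by rw [hDi]; group
    rw [e1]
    exact mul_mem (conj_mem_of_normalizer (h.cent_norm hy) hDV he.1) (inv_mem he.1)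
  have hXz : D' * (e * D' * e⁻¹) ∈ ws V z := by rw [← ws_line hL]; exact hX0.1
  have hXI : D' * (e * D' * e⁻¹) ∈ ii V := h.mem_ii hy hy1 hz hz1 (Ne.symm hyz) hXy hXz
  -- `g = w⁻¹ e w e⁻¹ ∈ K_z`, `[g, d] = X`
  set g := w⁻¹ * e * w * e⁻¹ with hg
  have hgk : g ∈ kq V z := by
    refine mul_mem ?_ (inv_mem hek)
    exact conj_mem_of_normalizer' (centralizer_le_normalizer_kq V z) hwc hek
  have hdd : d * d = 1 := h.dd_sq hy hy1 hd
  have hdi : d⁻¹ = d := inv_eq_self hdd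
  have hgd : d * (g * d * g⁻¹) = D' * (e * D' * e⁻¹) := by
    have hXw : D' * (e * D' * e⁻¹) * w = w * (D' * (e * D' * e⁻¹)) := hX0.2 q hq hq1 w hwL
    have e1 : e * D' * e⁻¹ = d * ((e * w * e⁻¹) * d⁻¹ * (e * w * e⁻¹)⁻¹) := by
      have e0 : e⁻¹ * d⁻¹ * e = d⁻¹ := by
        have h1 : d⁻¹ * e = e * d⁻¹ := inv_comm_of hde
        rw [mul_assoc, h1]; group
      calc e * D' * e⁻¹ = (e * d) * w * d⁻¹ * w⁻¹ * e⁻¹ := by rw [hD']; group
        _ = (d * e) * w * d⁻¹ * w⁻¹ * e⁻¹ := by rw [hde]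
        _ = d * (e * w * d⁻¹ * w⁻¹ * e⁻¹) := by group
        _ = d * (e * w * (e⁻¹ * d⁻¹ * e) * w⁻¹ * e⁻¹) := by rw [e0]
        _ = d * ((e * w * e⁻¹) * d⁻¹ * (e * w * e⁻¹)⁻¹) := by group
    have hDi : D' = w * d * w⁻¹ * d⁻¹ := by
      calc D' = D'⁻¹ := (inv_eq_self hDD).symm
        _ = w * d * w⁻¹ * d⁻¹ := by rw [hD']; group
    have e2 : D' * (e * D' * e⁻¹) = w * (d * (g * d⁻¹ * g⁻¹)) * w⁻¹ := by
      rw [e1]
      calc D' * (d * ((e * w * e⁻¹) * d⁻¹ * (e * w * e⁻¹)⁻¹))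
          = (w * d * w⁻¹ * d⁻¹) * (d * ((e * w * e⁻¹) * d⁻¹ * (e * w * e⁻¹)⁻¹)) := by rw [← hDi]
        _ = w * (d * (g * d⁻¹ * g⁻¹)) * w⁻¹ := by rw [hg]; group
    calc d * (g * d * g⁻¹) = d * (g * d⁻¹ * g⁻¹) := by rw [hdi]
      _ = w⁻¹ * (D' * (e * D' * e⁻¹)) * w := by rw [e2]; group
      _ = w⁻¹ * (D' * (e * D' * e⁻¹) * w) := by group
      _ = D' * (e * D' * e⁻¹) := by rw [hXw]; group
  have hgV : g ∈ centralizer (V : Set G) := by
    by_contra hc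
    exact hdI (h.mem_ii_of_mover hy hy1 hyz hgk hc hd (by rw [hgd]; exact hXI))
  have hey : e * y = y * e := h.comm hy hy1 e he.1 y (h.V_le hy hy1 hy)
  have hgy : y * g = g * y := mem_centralizer_iff.mp hgV y hy
  have hye : e⁻¹ * y = y * e⁻¹ := inv_comm_of hey
  calc e * (w * y * w⁻¹) = w * (w⁻¹ * e * w * y * e⁻¹) * e * w⁻¹ := by group
    _ = w * (w⁻¹ * e * w * (y * e⁻¹)) * e * w⁻¹ := by group
    _ = w * (w⁻¹ * e * w * (e⁻¹ * y)) * e * w⁻¹ := by rw [hye]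
    _ = w * (g * y) * e * w⁻¹ := by rw [hg]; group
    _ = w * (y * g) * e * w⁻¹ := by rw [hgy]
    _ = w * y * w⁻¹ * e := by rw [hg]; group

/-- (N6), one element; `F_L ∩ K_z` moves `y` or `[y, W_q] ≤ ⟨z⟩` -/
theorem nsix_of (h : One T V z) (hL : L ∈ lines V z) (hy : y ∈ V) (hy1 : y ≠ 1) (hyz : y ≠ z) (hq : q ∈ L)
    (hq1 : q ≠ 1) (hqz : q ≠ z)
    (hF : (∃ g, (∀ p ∈ L, p ≠ 1 → ∀ c ∈ dd L p, c * g = g * c) ∧ g * y * g⁻¹ = z * y) ∨
      ∀ w ∈ ws V q, w * y * w⁻¹ = y ∨ w * y * w⁻¹ = z * y)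
    (hd : d ∈ dd V y) (hdI : d ∉ ii V) (he : e ∈ ee V y) (eq : e * q * e⁻¹ = z * q) (hw : w ∈ ws V q) :
    e * (w * y * w⁻¹) = w * y * w⁻¹ * e := by
  have hz := h.ln.z_mem
  have hz1 := h.ln.z_ne
  have hey : e * y = y * e := h.comm hy hy1 e he.1 y (h.V_le hy hy1 hy)
  rcases hF with ⟨g, hg, gy⟩ | hF
  · obtain ⟨k, hk, -, -⟩ := h.of_line hL hz1
    have hVL : V ∈ lines L z := ⟨⟨k⁻¹, by rw [hk, cj_cj, inv_mul_cancel, cj_one]⟩, hz⟩
    have S : Spr L V z q y e g :=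
      ⟨hVL, hq, hq1, hqz, hy, hy1, hyz, he, eq, hg, gy⟩
    exact h.nsix hL hy hy1 hyz hq hq1 hqz S hd hdI he eq hw
  · rcases hF w hw with e1 | e1
    · rw [e1]; exact hey
    · rw [e1]
      have hez : e * z = z * e := h.comm hy hy1 e he.1 z (h.V_le hy hy1 hz)
      calc e * (z * y) = (e * z) * y := by group
        _ = (z * e) * y := by rw [hez]
        _ = z * (e * y) := by group
        _ = z * (y * e) := by rw [hey]
        _ = z * y * e := by group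

/-- **(N6)** `D_x > I`, `λ_L ∉ Ē_V ⟹ [λ_V, A_L] ≤ Ē_V`.  `hΦ` is (N1) : `E_y` induces all functionals of `E_z^⊥` on
`W_z`. -/
theorem nsix_ee (h : One T V z) (hL : L ∈ lines V z) (hy : y ∈ V) (hy1 : y ≠ 1) (hyz : y ≠ z) (hq : q ∈ L)
    (hq1 : q ≠ 1) (hqz : q ≠ z)
    (hΦ : ∀ a ∈ ws V z, a ∉ ee V z → ∀ b ∈ ws V z, b ∉ ee V z →
      ∃ e ∈ ee V y, e * a ≠ a * e ∧ e * b ≠ b * e)
    (hF : (∃ g, (∀ p ∈ L, p ≠ 1 → ∀ c ∈ dd L p, c * g = g * c) ∧ g * y * g⁻¹ = z * y) ∨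
      ∀ w ∈ ws V q, w * y * w⁻¹ = y ∨ w * y * w⁻¹ = z * y)
    (hd : d ∈ dd V y) (hdI : d ∉ ii V) (hqE : q ∉ ee V z) (hw : w ∈ ws V q) :
    w * y * w⁻¹ * y⁻¹ ∈ ee V z := by
  have hz := h.ln.z_mem
  have hz1 := h.ln.z_ne
  obtain ⟨k, -, T', h'⟩ := h.of_line hL hz1
  have hLz : L ≤ ws V z := le_ws hL
  have hwL : w ∈ ws L q := by rw [ws_line hL]; exact hw
  have hwc : w ∈ centralizer ({z} : Set G) :=
    h'.cent_le_centralizer hL.2 (h'.ws_le_centralizer_V hq hq1 hwL)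
  have hyW : y ∈ ws V z := h.V_le hz hz1 hy
  have hbW : w * y * w⁻¹ * y⁻¹ ∈ ws V z :=
    mul_mem (conj_mem_of_normalizer (centralizer_le_normalizer_ws V z) hwc hyW) (inv_mem hyW)
  by_contra hb
  obtain ⟨e, he, h1, h2⟩ := hΦ q (hLz hq) hqE _ hbW hb
  have eq : e * q * e⁻¹ = z * q := by
    rcases h.kq_cases hz (he.2 z hz hz1) (hLz hq) with e1 | e1
    · exact absurd (comm_of_conj_eq e1) h1
    · exact e1
  have h3 := h.nsix_of hL hy hy1 hyz hq hq1 hqz hF hd hdI he eq hw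
  have hey : e * y⁻¹ = y⁻¹ * e := comm_inv_of (h.comm hy hy1 e he.1 y (h.V_le hy hy1 hy))
  exact h2 (comm_mul_of h3 hey)

end One

end Cfsg.Agent.Omega.NO3S.TwoOne
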