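import Cfsg.Agent.Omega.NO3S.TwoOne.SymRel
import Cfsg.Agent.Omega.NO3S.TwoOne.NSix

/-!
# NO-3S, `q = 2`, `n = 1`, no `λ`-transvections, `D_x > I`: the relation `λ' ∈ Ē_λ` is symmetric
(helper507, bb #18693, (a+); from helper409's (N6) = `NSix.lean` and `SymRel.lean`; planes allowed)

* `One.nt_move_two` : two elements of `W_z - E_z` are moved by one `e ∈ E_y`;
* `One.nsix_nt` : (N6) without side conditions;
* `One.not_mem_ee_symm`, `One.ee_iff` : `D_x > I` implies `q ∈ E_z(V)` iff `y ∈ E_z(L)`.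
-/

set_option autoImplicit false
set_option linter.unusedSectionVars false

namespace Cfsg.Agent.Omega.NO3S.TwoOne

open Subgroup Cfsg Cfsg.Agent.ZN Cfsg.Agent.MinSimple.Geo Cfsg.Agent.Omega.CaseL
open Cfsg.Agent.ZN.Block (conj_mem_of_normalizer conj_mem_of_normalizer' le_normalizer_of_forall
  mem_normalizer_of)
open scoped commutatorElement

universe u

variable {G : Type u} [Group G]

namespace One

variable {T V L : Subgroup G} {z y q d w : G}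

/-- (N1): two elements of `W_z - E_z` are moved by one `e ∈ E_y` -/
theorem nt_move_two [Finite G] (h : One T V z) (hN : NT V) (hy : y ∈ V) (hy1 : y ≠ 1) (hyz : y ≠ z) {a b : G}
    (ha : a ∈ ws V z) (haE : a ∉ ee V z) (hb : b ∈ ws V z) (hbE : b ∉ ee V z) :
    ∃ e ∈ ee V y, e * a ≠ a * e ∧ e * b ≠ b * e := by
  have hz := h.ln.z_mem
  have hz1 := h.ln.z_ne
  obtain ⟨e, he, hea⟩ := h.nt_move_ee hN hy hy1 hz hz1 (Ne.symm hyz) ha haE
  obtain ⟨f, hf, hfb⟩ := h.nt_move_ee hN hy hy1 hz hz1 (Ne.symm hyz) hb hbE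
  have hne : ∀ {k c : G}, k * c * k⁻¹ = z * c → k * c ≠ c * k := fun {k c} h1 h2 => by
    rw [conj_eq_of_comm h2] at h1
    exact hz1 (by simpa using h1.symm)
  by_cases h1 : e * b = b * e
  · by_cases h2 : f * a = a * f
    · refine ⟨e * f, mul_mem he hf, hne ?_, hne ?_⟩
      · calc e * f * a * (e * f)⁻¹ = e * (f * a * f⁻¹) * e⁻¹ := by group
          _ = z * a := by rw [conj_eq_of_comm h2, hea]
      · have hez : z * e = e * z := h.V_comm hz (h.ws_le_centralizer_V hy hy1 he.1)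
        calc e * f * b * (e * f)⁻¹ = e * (f * b * f⁻¹) * e⁻¹ := by group
          _ = (e * z) * b * e⁻¹ := by rw [hfb]; group
          _ = z * (e * b * e⁻¹) := by rw [← hez]; group
          _ = z * b := by rw [conj_eq_of_comm h1]
    · exact ⟨f, hf, h2, hne hfb⟩
  · exact ⟨e, he, hne hea, h1⟩

/-- **(N6)**, no side condition: `D_x > I`, `λ_L ∉ Ē_V ⟹ [λ_V, A_L] ≤ Ē_V` -/
theorem nsix_nt [Finite G] (h : One T V z) (hN : NT V) (hL : L ∈ lines V z) (hy : y ∈ V) (hy1 : y ≠ 1)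
    (hyz : y ≠ z) (hq : q ∈ L) (hq1 : q ≠ 1) (hqz : q ≠ z) (hd : d ∈ dd V y) (hdI : d ∉ ii V)
    (hqE : q ∉ ee V z) (hw : w ∈ ws V q) : w * y * w⁻¹ * y⁻¹ ∈ ee V z := by
  have hz := h.ln.z_mem
  have hz1 := h.ln.z_ne
  obtain ⟨-, -, T', h'⟩ := h.of_line hL hz1
  have hyL : y ∈ ws L z := by rw [ws_of_lines hL]; exact h.V_le hz hz1 hy
  refine h.nsix_ee hL hy hy1 hyz hq hq1 hqz
    (fun a ha haE b hb hbE => h.nt_move_two hN hy hy1 hyz ha haE hb hbE) ?_ hd hdI hqE hw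
  by_cases hyD : y ∈ dd L z
  · exact absurd (h.dd_le_ee z ((h.dd_iff hN hL hy hy1 hyz hq hq1 hqz).mpr hyD)) hqE
  · obtain ⟨g, hg, -, hgy⟩ := h'.nt_move_dd (hN.of_lines hL) h'.ln.z_mem hz1 hyL hyD
    exact Or.inl ⟨g, fun p _ _ c hc => dd_comm_fl hc hg, hgy⟩

/-- **(a+)** `D_x > I`: `q ∉ E_z(V)` implies `y ∉ E_z(L)` -/
theorem not_mem_ee_symm [Finite G] (h : One T V z) (hN : NT V) (hL : L ∈ lines V z) (hy : y ∈ V) (hy1 : y ≠ 1)
    (hyz : y ≠ z) (hq : q ∈ L) (hq1 : q ≠ 1) (hqz : q ≠ z) (hd : d ∈ dd V y) (hdI : d ∉ ii V)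
    (hqE : q ∉ ee V z) : y ∉ ee L z := by
  intro hyE
  have hz1 := h.ln.z_ne
  obtain ⟨-, -, T', h'⟩ := h.of_line hL hz1
  apply hqE
  apply h.dd_le_ee z
  rw [h.dd_iff hN hL hy hy1 hyz hq hq1 hqz]
  refine h'.mem_dd h'.ln.z_mem hz1 hq hq1 hqz hyE.1 fun b hb => ?_
  rcases h'.kq_cases hq (hyE.2 q hq hq1) hb with e1 | e1
  · exact comm_of_conj_eq e1
  · exfalso
    apply hqE
    have hb' : b ∈ ws V q := by rwa [ws_of_lines hL] at hb
    have h1 := h.nsix_nt hN hL hy hy1 hyz hq hq1 hqz hd hdI hqE hb'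
    have hbq : q * b = b * q := h'.V_comm hq (h'.ws_le_centralizer_V hq hq1 hb)
    have e2 : y * b = q * b * y := by
      calc y * b = (y * b * y⁻¹) * y := by group
        _ = q * b * y := by rw [e1]
    have e3 : b * y * b⁻¹ * y⁻¹ = q := by
      calc b * y * b⁻¹ * y⁻¹ = (q * q) * (b * y) * b⁻¹ * y⁻¹ := by rw [h'.ln.sq q hq]; group
        _ = q * (q * b * y) * b⁻¹ * y⁻¹ := by group
        _ = q := by rw [← e2]; group
    rwa [e3] at h1

/-- `D_x > I` holds on every line -/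
theorem exists_dd_line [Finite G] (h : One T V z) (hL : L ∈ lines V z) (hd : d ∈ dd V y)
    (hy : y ∈ V) (hy1 : y ≠ 1) (hdI : d ∉ ii V) (hq : q ∈ L) (hq1 : q ≠ 1) : ∃ c ∈ dd L q, c ∉ ii L := by
  obtain ⟨g, hgL, T', h'⟩ := h.of_line hL h.ln.z_ne
  subst hgL
  have h1 : g * y * g⁻¹ ∈ cj g V := conj_mem_cj hy
  have h2 : g * y * g⁻¹ ≠ 1 := fun e => hy1 (conj_eq_one_iff.mp e)
  have hd1 : g * d * g⁻¹ ∈ dd (cj g V) (g * y * g⁻¹) := by
    refine ⟨by rw [ws_cj]; exact conj_mem_ws g hd.1, fun r hr hr1 b hb => ?_⟩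
    have h3 := conj_mem_ws g⁻¹ hb
    rw [ws_cj, inv_inv] at h3
    have h4 := hd.2 _ (mem_cj.mp hr) (conj_ne_one hr1) _ h3
    calc g * d * g⁻¹ * b = g * (d * (g⁻¹ * b * g)) * g⁻¹ := by group
      _ = g * ((g⁻¹ * b * g) * d) * g⁻¹ := by rw [h4]
      _ = b * (g * d * g⁻¹) := by group
  have hd2 : g * d * g⁻¹ ∉ ii (cj g V) := by
    intro hi
    apply hdI
    intro p hp hp1
    have h3 := hi _ (conj_mem_cj (g := g) hp) (fun e => hp1 (conj_eq_one_iff.mp e))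
    rw [ws_cj] at h3
    have h4 := conj_mem_ws g⁻¹ h3
    have e1 : g⁻¹ * (g * d * g⁻¹) * g⁻¹⁻¹ = d := by group
    have e2 : g⁻¹ * (g * p * g⁻¹) * g⁻¹⁻¹ = p := by group
    rwa [e1, e2] at h4
  obtain ⟨x, hx, hxq⟩ := h'.xl_trans h1 h2 hq hq1
  have hxn := h'.xl_le_normalizer hx
  refine ⟨x * (g * d * g⁻¹) * x⁻¹, ?_, fun hi => hd2 ?_⟩
  · have := conj_mem_dd hxn hd1
    rwa [hxq] at this
  · have := conj_mem_of_normalizer' (normalizer_le_normalizer_ii _) hxn hi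
    have e1 : x⁻¹ * (x * (g * d * g⁻¹) * x⁻¹) * x = g * d * g⁻¹ := by group
    rwa [e1] at this

/-- **(a+)** `D_x > I`: `q ∈ E_z(V)` iff `y ∈ E_z(L)`: the relation `λ' ∈ Ē_λ` is symmetric -/
theorem ee_iff [Finite G] (h : One T V z) (hN : NT V) (hL : L ∈ lines V z) (hy : y ∈ V) (hy1 : y ≠ 1)
    (hyz : y ≠ z) (hq : q ∈ L) (hq1 : q ≠ 1) (hqz : q ≠ z) (hd : d ∈ dd V y) (hdI : d ∉ ii V) :
    q ∈ ee V z ↔ y ∈ ee L z := by
  constructor
  · intro hqE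
    by_contra hyE
    obtain ⟨-, -, T', h'⟩ := h.of_line hL h.ln.z_ne
    obtain ⟨c, hc, hcI⟩ := h.exists_dd_line hL hd hy hy1 hdI hq hq1
    exact h'.not_mem_ee_symm (hN.of_lines hL) (h.mem_lines_symm hL) hq hq1 hqz hy hy1 hyz hc hcI hyE hqE
  · intro hyE
    by_contra hqE
    exact h.not_mem_ee_symm hN hL hy hy1 hyz hq hq1 hqz hd hdI hqE hyE

end One

end Cfsg.Agent.Omega.NO3S.TwoOne
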