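import Cfsg.Agent.Omega.NO3S.TwoOne.InstB
import Cfsg.Agent.Omega.NO3S.TwoOne.SymRelD

/-!
# NO-3S, `q = 2`, `n = 1`: the dictionary between line vectors and lines

`LnD R y l T' L q` : the line vector `l ∈ LL R y` is `R.pi q`, `q` a point of the line `L` on `z`, and the module data
`AA`, `II`, `AL`, `C_M(A_l)` at `l` are the images of `W_q`, `ii L`, ..., `dd L z`.  `One.exists_ln` : it exists for every `l`.

Consequences (`l, m ∈ LL R y`, planes allowed, `NT V`):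
* `One.in_I_symm` : `m ∈ Ī_l ↔ l ∈ Ī_m`; `One.in_D_symm` : `A_l` fixes `m` iff `A_m` fixes `l`;
* `One.in_inf` : `m ∉ Ī_l`: `A_l ∩ A_m = 1`; `One.in_comm_pair` : and they commute if `A_l` fixes `m`;
* `One.in_D_of_E` (SYM1): `A_l` fixes `m` implies `l ∈ Ē_m`;
* `D_z > I` : `One.in_E_symm` : `m ∈ Ē_l ↔ l ∈ Ē_m`; `One.in_nsix` (N6) : `m ∉ Ē_l` implies `[l, A_m] ≤ Ē_l`;
* `One.in_fun` : every functional of `A_l` is `a ↦ [e, a]` for some `e ∈ Ē_l`;
* `One.exists_spr`, `One.in_dd_rel` : `l ∉ Ē_m`: `D̄_l = Ī_l + (D̄_l ∩ Ī_m)`.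
-/

set_option autoImplicit false
set_option linter.unusedSectionVars false

namespace Cfsg.Agent.Omega.NO3S.TwoOne

open Subgroup Cfsg Cfsg.Agent.ZN Cfsg.Agent.MinSimple.Geo Cfsg.Agent.Omega.CaseL
open Cfsg.Agent.Omega.NO3S.Fit
open Cfsg.Agent.ZN.Block (conj_mem_of_normalizer conj_mem_of_normalizer' le_normalizer_of_forall
  mem_normalizer_of)
open scoped commutatorElement

universe u

variable {G : Type u} [Group G]

/-- the dictionary at a line vector `l` -/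
structure LnD {V : Subgroup G} {z : G} {M H : Type u} [AddCommGroup M] [Group H] [DistribMulAction H M]
    (R : MRep V cg z M H) (y : G) (l : M) (T' L : Subgroup G) (q : G) : Prop where
  one : One T' L z
  mem : L ∈ lines V z
  hq : q ∈ L
  q1 : q ≠ 1
  qz : q ≠ z
  pi : R.pi q = l
  A : ∀ a, a ∈ AA R y l ↔ ∃ b ∈ ws V q, R.phi b = a
  I : ∀ w ∈ ws V z, R.pi w ∈ II R y l ↔ w ∈ ii L
  E : ∀ w ∈ ws V z, AL R y l (R.pi w) = 1 ↔ w ∈ ee L z
  al : ∀ w ∈ ws V z, ∀ b ∈ ws V q, Tw L z w q b → AL R y l (R.pi w) = R.phi b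
  D : NT V → ∀ w ∈ ws V z, (∀ a ∈ AA R y l, a • R.pi w = R.pi w) ↔ w ∈ dd L z
  nt : NT V → NT L
  ws : ∀ x, ws L x = ws V x
  kq : ∀ x, kq L x = kq V x
  cj : ∃ f : G, f * z * f⁻¹ = z ∧ L = cj f V

/-- the lines of a member of the class are the lines of `V` -/
theorem lines_of_lines {V L : Subgroup G} {z : G} (hL : L ∈ lines V z) (x : G) : lines L x = lines V x := by
  obtain ⟨⟨g, rfl⟩, -⟩ := hL
  ext K
  constructor
  · rintro ⟨⟨k, rfl⟩, hx⟩
    exact ⟨⟨k * g, by rw [cj_cj]⟩, hx⟩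
  · rintro ⟨⟨k, rfl⟩, hx⟩
    refine ⟨⟨k * g⁻¹, ?_⟩, hx⟩
    rw [cj_cj, inv_mul_cancel_right]

namespace One

variable {T V : Subgroup G} {z : G} {M H : Type u} [AddCommGroup M] [Group H] [DistribMulAction H M]
  (h : One T V z) (R : MRep V cg z M H) {y : G} (hy : y ∈ V) (hy1 : y ≠ 1) (hyz : y ≠ z)
include h hy hy1 hyz

theorem AA_self [Finite G] : AA R y (R.pi y) = a0 R y := by
  ext a
  rw [h.mem_AA R hy hy1 hyz (one_smul H _)]
  simp

theorem II_self [Finite G] : II R y (R.pi y) = i0 R := by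
  ext a
  rw [h.mem_II R hy hy1 hyz (one_smul H _)]
  simp

theorem AL_pi_self [Finite G] (m : M) : AL R y (R.pi y) m = al0 R y m := by
  rw [h.AL_eq R hy hy1 hyz (one_smul H _)]
  simp

theorem pi_mem_i0 [Finite G] {w : G} (hw : w ∈ ws V z) : R.pi w ∈ i0 R ↔ w ∈ ii V := by
  rw [h.mem_i0 R]
  constructor
  · rintro ⟨u, hu, e⟩
    rcases (h.rp_eq R (ii_le h.ln.z_mem h.ln.z_ne hu) hw).mp e with e1 | e1
    · rw [← e1]; exact hu
    · have h3 := mul_mem (inv_mem (h.V_le_ii h.ln.z_mem)) hu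
      rwa [e1, inv_mul_cancel_left] at h3
  · intro hw'
    exact ⟨w, hw', rfl⟩

/-- **the dictionary** -/
theorem exists_ln [Finite G] {l : M} (hl : l ∈ LL R y) : ∃ (T' L : Subgroup G) (q : G), LnD R y l T' L q := by
  obtain ⟨T', V', q, h', R', hmem, hq, hq1, hqz, hpi, hphi, hql, hLL, hA, hI, hal, hnt, -, f, hfz, hf⟩ :=
    h.base R hy hy1 hyz hl
  have hws : ∀ x, ws V' x = ws V x := fun x => by rw [hf, ws_cj]
  have hkq : ∀ x, kq V' x = kq V x := fun x => by rw [hf, kq_cj]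
  have hl' : R'.pi q = l := by rw [hpi]; exact hql
  refine ⟨T', V', q, h', hmem, hq, hq1, hqz, hql, ?_, ?_, ?_, ?_, ?_, hnt, hws, hkq, f, hfz, hf⟩
  · intro a
    rw [← hA l hl, ← hl', h'.AA_self R' hq hq1 hqz, h'.mem_a0 R' hq hq1, hphi, hws]
  · intro w hw
    rw [← hI l hl, ← hl', h'.II_self R' hq hq1 hqz, ← hpi, h'.pi_mem_i0 R' hq hq1 hqz (by rw [hws]; exact hw)]
  · intro w hw
    rw [← hal l hl, ← hl', h'.AL_pi_self R' hq hq1 hqz, ← hpi, h'.al0_one R' hq hq1 hqz (by rw [hws]; exact hw)]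
  · intro w hw b hb ht
    rw [← hal l hl, ← hl', h'.AL_pi_self R' hq hq1 hqz, ← hpi,
      h'.al0_eq R' hq hq1 hqz (by rw [hws]; exact hw) (by rw [hws]; exact hb) ht, hphi]
  · intro hN w hw
    rw [← hA l hl, ← hl', h'.AA_self R' hq hq1 hqz, ← hpi]
    exact h'.loc_D R' hq hq1 hqz (hnt hN) (by rw [hws]; exact hw)

end One

/-! ### relations between two line vectors -/

namespace LnD

variable {T V : Subgroup G} {z : G} {M H : Type u} [AddCommGroup M] [Group H] [DistribMulAction H M]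
  {R : MRep V cg z M H} {y q r : G} {l m : M} {T₁ T₂ L K : Subgroup G}

theorem lines (a : LnD R y l T₁ L q) (b : LnD R y m T₂ K r) : K ∈ MinSimple.Geo.lines L z := by
  rw [lines_of_lines a.mem]; exact b.mem

theorem q_ws (_ : One T V z) (a : LnD R y l T₁ L q) : q ∈ MinSimple.Geo.ws V z := le_ws a.mem a.hq

/-- two elements of `W_z` -/
theorem cz (_ : One T V z) (a : LnD R y l T₁ L q) {b : G} (hb : b ∈ MinSimple.Geo.ws V q) :
    b ∈ centralizer ({z} : Set G) := a.one.ws_le_cz a.hq a.q1 (by rw [a.ws]; exact hb)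

end LnD

namespace One

variable {T V : Subgroup G} {z : G} {M H : Type u} [AddCommGroup M] [Group H] [DistribMulAction H M]
  (h : One T V z) (R : MRep V cg z M H) {y : G} (hy : y ∈ V) (hy1 : y ≠ 1) (hyz : y ≠ z)
include h hy hy1 hyz

/-- planes are symmetric -/
theorem in_I_symm [Finite G] {l m : M} (hl : l ∈ LL R y) (hm : m ∈ LL R y) (hml : m ∈ II R y l) :
    l ∈ II R y m := by
  obtain ⟨T₁, L, q, a⟩ := h.exists_ln R hy hy1 hyz hl
  obtain ⟨T₂, K, r, b⟩ := h.exists_ln R hy hy1 hyz hm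
  have hq := a.q_ws h
  have hr := b.q_ws h
  rw [← a.pi, b.I q hq]
  rw [← b.pi, a.I r hr] at hml
  exact a.one.ii_symm (a.lines b) a.hq a.q1 b.hq b.q1 b.qz hml

/-- `A_l` fixes `m` iff `A_m` fixes `l` -/
theorem in_D_symm [Finite G] (hN : NT V) {l m : M} (hl : l ∈ LL R y) (hm : m ∈ LL R y)
    (hml : ∀ a ∈ AA R y l, a • m = m) : ∀ a ∈ AA R y m, a • l = l := by
  obtain ⟨T₁, L, q, a⟩ := h.exists_ln R hy hy1 hyz hl
  obtain ⟨T₂, K, r, b⟩ := h.exists_ln R hy hy1 hyz hm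
  rw [← b.pi, a.D hN r (b.q_ws h)] at hml
  have h1 := (b.D hN q (a.q_ws h)).mpr
    ((a.one.dd_iff (a.nt hN) (a.lines b) a.hq a.q1 a.qz b.hq b.q1 b.qz).mp hml)
  rw [a.pi] at h1
  exact h1

/-- (SYM1) -/
theorem in_D_of_E [Finite G] (hN : NT V) {l m : M} (hl : l ∈ LL R y) (hm : m ∈ LL R y)
    (hml : ∀ a ∈ AA R y l, a • m = m) : AL R y m l = 1 := by
  obtain ⟨T₁, L, q, a⟩ := h.exists_ln R hy hy1 hyz hl
  obtain ⟨T₂, K, r, b⟩ := h.exists_ln R hy hy1 hyz hm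
  rw [← b.pi, a.D hN r (b.q_ws h)] at hml
  have h1 := a.one.ee_of_dd (a.nt hN) (a.lines b) a.hq a.q1 a.qz b.hq b.q1 b.qz hml
  rw [← a.pi, b.E q (a.q_ws h)]
  exact h1

/-- `A_l ∩ A_m = 1` if `l`, `m` are not coplanar -/
theorem in_inf [Finite G] (hN : NT V) {l m : M} (hl : l ∈ LL R y) (hm : m ∈ LL R y)
    (hml : m ∉ II R y l) {c : H} (hc : c ∈ AA R y l) (hc' : c ∈ AA R y m) : c = 1 := by
  obtain ⟨T₁, L, q, a⟩ := h.exists_ln R hy hy1 hyz hl
  obtain ⟨T₂, K, r, b⟩ := h.exists_ln R hy hy1 hyz hm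
  obtain ⟨w, hw, rfl⟩ := (a.A c).mp hc
  obtain ⟨w', hw', e⟩ := (b.A _).mp hc'
  have hwc := a.cz h hw
  have hwc' := b.cz h hw'
  by_contra hne
  apply hml
  rw [← b.pi, a.I r (b.q_ws h)]
  refine a.one.nt_ti_mem (a.nt hN) (a.lines b) a.hq a.q1 b.hq b.q1 b.qz (a := w) (a' := w') (by rw [a.ws]; exact hw)
    ?_ (by rw [a.ws]; exact hw') ?_
  · rw [a.kq]
    intro hk
    exact hne ((h.phi_eq_one R hwc).mpr hk)
  · rw [a.kq]
    exact (h.rp_phi R hwc hwc').mp e.symm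

/-- `A_l` fixes `m`, not coplanar: `A_l`, `A_m` commute -/
theorem in_comm_pair [Finite G] (hN : NT V) {l m : M} (hl : l ∈ LL R y) (hm : m ∈ LL R y)
    (hml : ∀ a ∈ AA R y l, a • m = m) (hml' : m ∉ II R y l) {c d : H} (hc : c ∈ AA R y l) (hd : d ∈ AA R y m) :
    c * d = d * c := by
  have hlm := h.in_D_symm R hy hy1 hyz hN hl hm hml
  -- `[c, d] ∈ A_l ∩ A_m`
  have h1 : c * d * c⁻¹ ∈ AA R y m := by
    have := h.in_A_conj R hy hy1 hyz hm (x := c) hd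
    rwa [hml c hc] at this
  have h2 : d * c⁻¹ * d⁻¹ ∈ AA R y l := by
    have := h.in_A_conj R hy hy1 hyz hl (x := d) (inv_mem hc)
    rwa [hlm d hd] at this
  have h3 : c * d * c⁻¹ * d⁻¹ ∈ AA R y m := mul_mem h1 (inv_mem hd)
  have h4 : c * d * c⁻¹ * d⁻¹ ∈ AA R y l := by
    have e : c * d * c⁻¹ * d⁻¹ = c * (d * c⁻¹ * d⁻¹) := by group
    rw [e]; exact mul_mem hc h2
  have h5 := h.in_inf R hy hy1 hyz hN hl hm hml' h4 h3
  calc c * d = (c * d * c⁻¹ * d⁻¹) * (d * c) := by group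
    _ = d * c := by rw [h5, one_mul]

/-- `D_z > I` at one line gives an element at every line -/
theorem exists_dd_of [Finite G] (hD : ¬ dd V z ≤ ii V) {L : Subgroup G} (hL : L ∈ lines V z) {q : G} (hq : q ∈ L)
    (hq1 : q ≠ 1) : ∃ d ∈ dd L q, d ∉ ii L := by
  obtain ⟨c, hc, hcI⟩ := SetLike.not_le_iff_exists.mp hD
  -- to the point `y`
  obtain ⟨g, hg, hgz⟩ := h.xl_trans h.ln.z_mem h.ln.z_ne hy hy1
  have hgn := h.xl_le_normalizer hg
  have h1 := conj_mem_dd hgn hc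
  rw [hgz] at h1
  have h2 : g * c * g⁻¹ ∉ ii V := fun e => hcI (by
    have := conj_mem_of_normalizer' (normalizer_le_normalizer_ii V) hgn e
    have e' : g⁻¹ * (g * c * g⁻¹) * g = c := by group
    rwa [e'] at this)
  exact h.exists_dd_line hL h1 hy hy1 h2 hq hq1

/-- `D_z > I` : `m ∈ Ē_l ↔ l ∈ Ē_m` -/
theorem in_E_symm [Finite G] (hN : NT V) (hD : ¬ dd V z ≤ ii V) {l m : M} (hl : l ∈ LL R y) (hm : m ∈ LL R y)
    (hml : AL R y l m = 1) : AL R y m l = 1 := by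
  obtain ⟨T₁, L, q, a⟩ := h.exists_ln R hy hy1 hyz hl
  obtain ⟨T₂, K, r, b⟩ := h.exists_ln R hy hy1 hyz hm
  obtain ⟨d, hd, hdI⟩ := h.exists_dd_of hy hy1 hyz hD a.mem a.hq a.q1
  rw [← b.pi, a.E r (b.q_ws h)] at hml
  rw [← a.pi, b.E q (a.q_ws h)]
  exact (a.one.ee_iff (a.nt hN) (a.lines b) a.hq a.q1 a.qz b.hq b.q1 b.qz hd hdI).mp hml

/-- **(N6)** : `D_z > I`, `m ∉ Ē_l` : `[l, A_m] ≤ Ē_l` -/
theorem in_nsix [Finite G] (hN : NT V) (hD : ¬ dd V z ≤ ii V) {l m : M} (hl : l ∈ LL R y) (hm : m ∈ LL R y)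
    (hml : AL R y l m ≠ 1) {c : H} (hc : c ∈ AA R y m) : AL R y l (c • l + l) = 1 := by
  obtain ⟨T₁, L, q, a⟩ := h.exists_ln R hy hy1 hyz hl
  obtain ⟨T₂, K, r, b⟩ := h.exists_ln R hy hy1 hyz hm
  obtain ⟨d, hd, hdI⟩ := h.exists_dd_of hy hy1 hyz hD a.mem a.hq a.q1
  obtain ⟨w, hw, rfl⟩ := (b.A c).mp hc
  rw [← b.pi, ne_eq, a.E r (b.q_ws h)] at hml
  have hq := a.q_ws h
  have hwq : w * q * w⁻¹ ∈ ws V z := by
    have := conj_mem_ws w hq
    rwa [conj_eq_of_comm (mem_centralizer_singleton_iff.mp (b.cz h hw))] at this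
  have h1 := a.one.nsix_nt (a.nt hN) (a.lines b) a.hq a.q1 a.qz b.hq b.q1 b.qz hd hdI hml (w := w)
    (by rw [a.ws]; exact hw)
  rw [← a.pi, h.rp_comm R (b.cz h hw) hq hwq, a.pi, a.E _ (mul_mem hwq (inv_mem hq))]
  exact h1

/-- every functional of `A_l` is `a ↦ [e, a]`, `e ∈ Ē_l` -/
theorem in_fun [Finite G] (hN : NT V) {l : M} (hl : l ∈ LL R y) {X : Subgroup H}
    (h2 : X.relIndex (AA R y l) = 2) : ∃ e : M, AL R y l e = 1 ∧ ∀ a ∈ AA R y l, a • e = e ↔ a ∈ X := by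
  obtain ⟨T₁, L, q, a⟩ := h.exists_ln R hy hy1 hyz hl
  have hz1 := h.ln.z_ne
  have hLz := a.one.ln.z_mem
  -- the preimage of `X` in `W_q`
  have hle : ws V q ≤ cg z := fun b hb => a.cz h hb
  let f : ws V q →* H := (R.hom).comp (Subgroup.inclusion hle)
  have hf : ∀ b : ws V q, f b = R.phi b := fun b => rfl
  let X' : Subgroup G := (X.comap f).map (ws V q).subtype
  have hX' : ∀ b, b ∈ X' ↔ b ∈ ws V q ∧ R.phi b ∈ X := by
    intro b
    constructor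
    · rintro ⟨b, hb, rfl⟩
      exact ⟨b.2, hb⟩
    · rintro ⟨hb, hb'⟩
      exact ⟨⟨b, hb⟩, hb', rfl⟩
  have hXw : X' ≤ ws V q := fun b hb => ((hX' b).mp hb).1
  have hidx : X'.relIndex (ws V q) = 2 := by
    have e1 : X'.subgroupOf (ws V q) = X.comap f := by
      ext b
      rw [mem_subgroupOf, hX', mem_comap]
      exact ⟨fun hb => hb.2, fun hb => ⟨b.2, hb⟩⟩
    have e2 : f.range = AA R y l := by
      ext x
      rw [a.A, MonoidHom.mem_range]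
      constructor
      · rintro ⟨b, rfl⟩
        exact ⟨b, b.2, rfl⟩
      · rintro ⟨b, hb, rfl⟩
        exact ⟨⟨b, hb⟩, rfl⟩
    change (X'.subgroupOf (ws V q)).index = 2
    rw [e1, index_comap, e2]; exact h2
  have hE : ee L q ≤ X' := by
    intro b hb
    have hbq : b ∈ ws V q := by rw [← a.ws]; exact hb.1
    rw [hX']
    refine ⟨hbq, ?_⟩
    have hk := hb.2 z hLz hz1
    rw [a.kq] at hk
    rw [(h.phi_eq_one R (a.cz h hbq)).mpr hk]
    exact one_mem X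
  obtain ⟨e, he, heX⟩ := a.one.nt_fun_ee (a.nt hN) hLz hz1 a.hq a.q1 a.qz hE (by rw [a.ws]; exact hXw)
    (by rw [a.ws]; exact hidx)
  have hez : e ∈ ws V z := by
    have := he.1
    rwa [a.ws] at this
  refine ⟨R.pi e, (a.E e hez).mpr he, ?_⟩
  intro c hc
  obtain ⟨b, hb, rfl⟩ := (a.A c).mp hc
  have hbL : b ∈ ws L q := by rw [a.ws]; exact hb
  have hbe : b * e * b⁻¹ ∈ ws V z := by
    have := conj_mem_ws b hez
    rwa [conj_eq_of_comm (mem_centralizer_singleton_iff.mp (a.cz h hb))] at this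
  have h3 := heX b hbL
  rw [hX'] at h3
  have h4 : R.phi b • R.pi e = R.pi e ↔ e * b = b * e := by
    rw [h.rp_act R (a.cz h hb) hez, h.rp_eq R hbe hez]
    constructor
    · rintro (e1 | e1)
      · exact (comm_of_conj_eq e1).symm
      · exfalso
        -- `[b, e] = z ∈ ⟨q⟩`
        rcases a.one.ee_cases a.hq a.q1 he hbL with e2 | e2
        · rw [commutatorElement_eq_one_iff_mul_comm] at e2
          rw [conj_eq_of_comm e2.symm] at e1
          exact hz1 (by simpa using e1.symm)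
        · have e3 : ⁅b, e⁆ = q := by
            rw [a.one.comm_swap hLz hz1 a.hq a.q1 (by rw [a.ws]; exact hez) hbL]; exact e2
          have e4 : b * e * b⁻¹ = q * e := by
            calc b * e * b⁻¹ = ⁅b, e⁆ * e := by rw [commutatorElement_def]; group
              _ = q * e := by rw [e3]
          rw [e4] at e1
          exact a.qz (mul_right_cancel e1)
    · intro e1
      left
      exact conj_eq_of_comm e1.symm
  rw [h4, h3]
  exact ⟨fun hx => hx.2, fun hx => ⟨hb, hx⟩⟩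

/-- an asymmetric pair of lines is an `Spr` -/
theorem exists_spr [Finite G] {L K : Subgroup G} {q r : G} (hK : K ∈ lines L z) (hq : q ∈ L)
    (hq1 : q ≠ 1) (hqz : q ≠ z) (hr : r ∈ K) (hr1 : r ≠ 1) (hrz : r ≠ z) {T₁ : Subgroup G} (hL : One T₁ L z)
    (hNL : NT L) (hlm : q ∉ ee K z) : ∃ e g, Spr L K z q r e g := by
  have hz := hL.ln.z_mem
  have hz1 := hL.ln.z_ne
  obtain ⟨-, -, T', h'⟩ := hL.of_line hK hz1
  have hzK := h'.ln.z_mem
  have hNK : NT K := hNL.of_lines hK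
  have hqw : q ∈ ws K z := by
    rw [One.ws_line hK]; exact hL.V_le hz hz1 hq
  obtain ⟨e, he, hey⟩ := h'.nt_move_ee hNK hr hr1 hzK hz1 (Ne.symm hrz) hqw hlm
  have hrw : r ∈ ws L z := le_ws hK hr
  have hrD : r ∉ dd L z := fun hd => hlm (hL.ee_of_dd hNL hK hq hq1 hqz hr hr1 hrz hd)
  obtain ⟨g, hg, -, hgr⟩ := hL.nt_move_dd hNL hz hz1 hrw hrD
  exact ⟨e, g, hK, hq, hq1, hqz, hr, hr1, hrz, he, hey, fun p hp hp1 c hc => dd_comm_fl hc hg, hgr⟩

/-- **(1.2)** : `l ∉ Ē_m` : `D̄_l = Ī_l + (D̄_l ∩ Ī_m)` -/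
theorem in_dd_rel [Finite G] (hN : NT V) {l m : M} (hl : l ∈ LL R y) (hm : m ∈ LL R y)
    (hlm : AL R y m l ≠ 1) {d : M} (hd : ∀ a ∈ AA R y l, a • d = d) :
    ∃ i ∈ II R y l, ∃ j ∈ II R y m, (∀ a ∈ AA R y l, a • j = j) ∧ d = i + j := by
  obtain ⟨T₁, L, q, a⟩ := h.exists_ln R hy hy1 hyz hl
  obtain ⟨T₂, K, r, b⟩ := h.exists_ln R hy hy1 hyz hm
  rw [← a.pi, ne_eq, b.E q (a.q_ws h)] at hlm
  obtain ⟨e, g, S⟩ := h.exists_spr hy hy1 hyz (a.lines b) a.hq a.q1 a.qz b.hq b.q1 b.qz a.one (a.nt hN) hlm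
  obtain ⟨w, hw, rfl⟩ := h.rp_surj R d
  obtain ⟨i, hi, j, hj, hjd, e1⟩ := S.exists_mul a.one ((a.D hN w hw).mp hd)
  have hiw : i ∈ ws V z := by
    rw [← a.ws]; exact ii_le a.one.ln.z_mem a.one.ln.z_ne hi
  have hjw : j ∈ ws V z := by
    rw [← a.ws]; exact hjd.1
  refine ⟨R.pi i, (a.I i hiw).mpr hi, R.pi j, (b.I j hjw).mpr hj, (a.D hN j hjw).mpr hjd, ?_⟩
  rw [e1, h.rp_mul R hiw hjw]

end One

end Cfsg.Agent.Omega.NO3S.TwoOne
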