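import Cfsg.Agent.Omega.NO3S.TwoOne.Four
import Cfsg.Agent.Omega.NO3S.TwoOne.Faith

/-!
# NO-3S, `q = 2`, `n = 1`: `|W_z| = 16` (helper225's text #15275 (A)), first part

`Std T V z` : `One T V z`, `|W_z| = 16`, `E_p ≤ V` (so `|A| = 4`) and nonlocality.

* `Std.left`, `Std.right`, `Std.surj` : `[·, ·] : W_z/V × W_y/V → V/z` is nondegenerate;
* `Std.mem_nb` : every `w ∈ W_z - ⟨z⟩` is a point collinear with `z`;
* `Std.exists_d` : some `d ∈ C_G(V)` is fixed-point-free on `W_z/V`, `[B_z, d] ≤ W_z`, `B_z = C_G(W_z)`;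
* `Std.bz_eq` : `B_z = W_z D_l`, `D_l = dl V`;
* `Std.bz_sq` : `B_z` is elementary abelian.
-/

set_option autoImplicit false
set_option linter.unusedSectionVars false

namespace Cfsg.Agent.Omega.NO3S.TwoOne

open Subgroup Cfsg Cfsg.Agent.ZN Cfsg.Agent.MinSimple.Geo Cfsg.Agent.Omega.CaseL
open Cfsg.Agent.ZN.Block (conj_mem_of_normalizer conj_mem_of_normalizer' le_normalizer_of_forall
  mem_normalizer_of)
open scoped commutatorElement

universe u

variable {G : Type u} [Group G]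

/-! ### general lemmas -/

/-- two elements outside a subgroup of index at most 2 -/
theorem mul_mem_of_card_lt [Finite G] {V C W : Subgroup G} (hVC : V ≤ C) (hCW : C ≤ W)
    (hV : Nat.card V = 4) (hW : Nat.card W = 16) (hne : ¬ C ≤ V) {a b : G} (ha : a ∈ W) (hb : b ∈ W)
    (ha' : a ∉ C) (hb' : b ∉ C) : a * b ∈ C := by
  have h1 : C.relIndex W * Nat.card C = 16 := by rw [relIndex_mul_card hCW, hW]
  have h2 : V.relIndex C * 4 = Nat.card C := by rw [← hV, relIndex_mul_card hVC]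
  have h3 : V.relIndex C ≠ 1 := fun e => hne (relIndex_eq_one.mp e)
  have h4 : V.relIndex C ≠ 0 := relIndex_ne_zero' _ _
  have h5 : C.relIndex W ≠ 0 := relIndex_ne_zero' _ _
  have h6 : C.relIndex W ≠ 1 := fun e => ha' (relIndex_eq_one.mp e ha)
  have h7 : 2 ≤ V.relIndex C := by omega
  have h8 : C.relIndex W = 2 := by
    rw [← h2] at h1
    have : C.relIndex W ≤ 2 := by
      by_contra hcon
      have h9 : 3 ≤ C.relIndex W := by omega
      have := Nat.mul_le_mul h9 (Nat.mul_le_mul_right 4 h7)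
      omega
    omega
  have h9 : (C.subgroupOf W).index = 2 := h8
  have h10 := Subgroup.mul_mem_iff_of_index_two h9 (a := ⟨a, ha⟩) (b := ⟨b, hb⟩)
  rw [mem_subgroupOf, mem_subgroupOf, mem_subgroupOf] at h10
  exact h10.mpr ⟨fun e => absurd e ha', fun e => absurd e hb'⟩

/-- a fixed-point-free map of an abelian section is onto -/
theorem fpf_surj [Finite G] {B D : Subgroup G} {d : G} (hBD : B ≤ normalizer (D : Set G))
    (hab : ∀ a ∈ B, ∀ b ∈ B, a * b * a⁻¹ * b⁻¹ ∈ D) (hdB : d ∈ normalizer (B : Set G))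
    (hdD : d ∈ normalizer (D : Set G)) (hf : ∀ b ∈ B, d * b * d⁻¹ * b⁻¹ ∈ D → b ∈ D) {b : G} (hb : b ∈ B) :
    ∃ b' ∈ B, (d * b' * d⁻¹ * b'⁻¹)⁻¹ * b ∈ D := by
  have hn : (D.subgroupOf B).Normal := normal_subgroupOf_of_le_normalizer hBD
  have hm : ∀ b ∈ B, d * b * d⁻¹ * b⁻¹ ∈ B := fun b hb =>
    mul_mem ((mem_normalizer_iff.mp hdB b).mp hb) (inv_mem hb)
  let φ : B →* B ⧸ D.subgroupOf B := MonoidHom.mk'
    (fun b => QuotientGroup.mk ⟨d * b * d⁻¹ * (b : G)⁻¹, hm b b.2⟩) (by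
      intro a b
      rw [← QuotientGroup.mk_mul, QuotientGroup.eq]
      rw [mem_subgroupOf]
      change (d * (a * b : G) * d⁻¹ * (a * b : G)⁻¹)⁻¹ * ((d * a * d⁻¹ * (a : G)⁻¹) * (d * b * d⁻¹ * (b : G)⁻¹)) ∈ D
      have h1 := hab a a.2 _ (inv_mem (hm b b.2))
      have e : (d * (a * b : G) * d⁻¹ * (a * b : G)⁻¹)⁻¹ *
          ((d * a * d⁻¹ * (a : G)⁻¹) * (d * b * d⁻¹ * (b : G)⁻¹)) =
          a * (d * b * d⁻¹ * (b : G)⁻¹)⁻¹ * (a : G)⁻¹ * (d * b * d⁻¹ * (b : G)⁻¹)⁻¹⁻¹ := by group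
      rw [e]; exact h1)
  have hker : φ.ker = D.subgroupOf B := by
    ext x
    rw [MonoidHom.mem_ker, mem_subgroupOf]
    change (QuotientGroup.mk ⟨d * x * d⁻¹ * (x : G)⁻¹, hm x x.2⟩ : B ⧸ D.subgroupOf B) = 1 ↔ _
    rw [QuotientGroup.eq_one_iff, mem_subgroupOf]
    constructor
    · exact hf x x.2
    · intro hx
      exact mul_mem ((mem_normalizer_iff.mp hdD x).mp hx) (inv_mem hx)
  have hr : φ.range = ⊤ := by
    apply Subgroup.eq_top_of_card_eq
    rw [← Subgroup.index_ker, hker]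
    rfl
  obtain ⟨b', hb'⟩ : (QuotientGroup.mk ⟨b, hb⟩ : B ⧸ D.subgroupOf B) ∈ φ.range := by rw [hr]; trivial
  refine ⟨b', b'.2, ?_⟩
  change (QuotientGroup.mk ⟨d * b' * d⁻¹ * (b' : G)⁻¹, hm b' b'.2⟩ : B ⧸ D.subgroupOf B) =
    QuotientGroup.mk ⟨b, hb⟩ at hb'
  rw [QuotientGroup.eq, mem_subgroupOf] at hb'
  exact hb'

/-- `W = ⟨V, n, m⟩` -/
def Gn (V W : Subgroup G) (n m : G) : Prop := ∀ X : Subgroup G, V ≤ X → n ∈ X → m ∈ X → W ≤ X

theorem Gn.swap {V W : Subgroup G} {n m : G} (h : Gn V W n m) : Gn V W m n := fun X h1 h2 h3 => h X h1 h3 h2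

/-- generators of a group of order 16 over a subgroup of order 4 -/
theorem exists_gn [Finite G] {V W : Subgroup G} (hVW : V ≤ W) (hV : Nat.card V = 4) (hW : Nat.card W = 16)
    (ab : ∀ a ∈ W, ∀ b ∈ W, a * b = b * a) (sq : ∀ a ∈ W, a * a = 1) :
    ∃ n ∈ W, ∃ m ∈ W, n ∉ V ∧ m ∉ V ∧ n * m ∉ V ∧ Gn V W n m := by
  obtain ⟨n, hn, hnV⟩ : ∃ n ∈ W, n ∉ V := by
    by_contra hcon
    push Not at hcon
    have h1 := Nat.le_of_dvd Nat.card_pos (card_dvd_of_le (show W ≤ V from hcon))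
    omega
  have hnn := sq n hn
  have hzn : zpowers n ≤ W := zpowers_le_of_mem hn
  set Y := zpowers n ⊔ V with hY
  have hYW : Y ≤ W := sup_le hzn hVW
  have hcard : Nat.card Y ≤ 8 := by
    have hle : zpowers n ≤ normalizer (V : Set G) := by
      refine le_normalizer_of_forall fun g hg v hv => ?_
      rw [ab g (hzn hg) v (hVW hv), mul_inv_cancel_right]; exact hv
    have h1 := Block.card_sup_mul_card_inf hle
    have h2 : Nat.card (zpowers n) ≤ 2 := by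
      rw [Nat.card_zpowers]
      exact Nat.le_of_dvd (by norm_num) (orderOf_dvd_of_pow_eq_one (by rw [pow_two]; exact hnn))
    rw [hV] at h1
    have h3 : 0 < Nat.card ↥(zpowers n ⊓ V) := Nat.card_pos
    have h4 : Nat.card ↥(zpowers n ⊔ V) * 1 ≤ Nat.card ↥(zpowers n ⊔ V) * Nat.card ↥(zpowers n ⊓ V) :=
      Nat.mul_le_mul_left _ h3
    have h5 : Nat.card (zpowers n) * 4 ≤ 2 * 4 := Nat.mul_le_mul_right _ h2
    rw [hY]
    omega
  obtain ⟨m, hm, hmY⟩ : ∃ m ∈ W, m ∉ Y := by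
    by_contra hcon
    push Not at hcon
    have h1 := Nat.le_of_dvd Nat.card_pos (card_dvd_of_le (show W ≤ Y from hcon))
    omega
  have hVY : V ≤ Y := le_sup_right
  have hnY : n ∈ Y := mem_sup_left (mem_zpowers n)
  refine ⟨n, hn, m, hm, hnV, fun e => hmY (hVY e), fun e => hmY ?_, ?_⟩
  · have : m = n⁻¹ * (n * m) := by group
    rw [this]; exact mul_mem (inv_mem hnY) (hVY e)
  · intro X hVX hnX hmX
    have hYX : Y ≤ X := sup_le (zpowers_le_of_mem hnX) hVX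
    -- `V < Y < X ∩ W`
    have h1 : V.relIndex Y ≠ 1 := fun e => hnV (relIndex_eq_one.mp e hnY)
    have h2 : V.relIndex Y ≠ 0 := relIndex_ne_zero' _ _
    have h3 := relIndex_mul_card hVY
    have hYX' : Y ≤ X ⊓ W := le_inf hYX hYW
    have h4 : Y.relIndex (X ⊓ W) ≠ 1 := fun e => hmY (relIndex_eq_one.mp e ⟨hmX, hm⟩)
    have h5 : Y.relIndex (X ⊓ W) ≠ 0 := relIndex_ne_zero' _ _
    have h6 := relIndex_mul_card hYX'
    have h7 := relIndex_mul_card (inf_le_right : X ⊓ W ≤ W)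
    rw [hV] at h3
    rw [hW] at h7
    have h8 : 8 ≤ Nat.card Y := by
      have : 2 ≤ V.relIndex Y := by omega
      have := Nat.mul_le_mul_right 4 this
      omega
    have h9 : 16 ≤ Nat.card ↥(X ⊓ W) := by
      have : 2 ≤ Y.relIndex (X ⊓ W) := by omega
      have := Nat.mul_le_mul this h8
      omega
    have h10 : (X ⊓ W).relIndex W = 1 := by
      have h11 : (X ⊓ W).relIndex W ≠ 0 := relIndex_ne_zero' _ _
      by_contra hcon
      have : 2 ≤ (X ⊓ W).relIndex W := by omega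
      have := Nat.mul_le_mul this h9
      omega
    exact (relIndex_eq_one.mp h10).trans inf_le_left

/-! ### the situation -/

/-- `|W_z| = 16`, `E_p ≤ V`, nonlocality -/
structure Std (T V : Subgroup G) (z : G) : Prop where
  one : One T V z
  card : Nat.card (ws V z) = 16
  le : ∀ p ∈ V, p ≠ 1 → ee V p ≤ V
  nl : ∀ N : Subgroup G, N ≤ centralizer ({z} : Set G) →
    centralizer ({z} : Set G) ≤ normalizer (N : Set G) →
    normalizer (V : Set G) ≤ normalizer (N : Set G) → N = ⊥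

/-- `B_p = C_G(W_p)` -/
abbrev bz (V : Subgroup G) (p : G) : Subgroup G := centralizer (ws V p : Set G)

/-- `D_l`, the intersection of the `B_p`, `p ∈ V#` -/
def dl (V : Subgroup G) : Subgroup G where
  carrier := {g | ∀ p ∈ V, p ≠ 1 → g ∈ bz V p}
  mul_mem' := fun ha hb p hp hp1 => mul_mem (ha p hp hp1) (hb p hp hp1)
  one_mem' := fun _ _ _ => one_mem _
  inv_mem' := fun ha p hp hp1 => inv_mem (ha p hp hp1)

theorem mem_bz {V : Subgroup G} {p g : G} : g ∈ bz V p ↔ ∀ w ∈ ws V p, g * w = w * g := by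
  rw [mem_centralizer_iff]
  exact ⟨fun h w hw => (h w hw).symm, fun h w hw => (h w hw).symm⟩

theorem conj_mem_bz {V : Subgroup G} {p b : G} (g : G) (hb : b ∈ bz V p) : g * b * g⁻¹ ∈ bz V (g * p * g⁻¹) := by
  rw [mem_bz] at hb ⊢
  intro w hw
  have h1 : g⁻¹ * w * g ∈ ws V p := by
    have := conj_mem_ws g⁻¹ hw
    have e : g⁻¹ * (g * p * g⁻¹) * g⁻¹⁻¹ = p := by group
    rwa [e, inv_inv] at this
  have h2 := hb _ h1
  calc g * b * g⁻¹ * w = g * (b * (g⁻¹ * w * g)) * g⁻¹ := by group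
    _ = g * ((g⁻¹ * w * g) * b) * g⁻¹ := by rw [h2]
    _ = w * (g * b * g⁻¹) := by group

theorem conj_mem_dl {V : Subgroup G} {g b : G} (hg : g ∈ normalizer (V : Set G)) (hb : b ∈ dl V) :
    g * b * g⁻¹ ∈ dl V := by
  intro p hp hp1
  have h1 := conj_mem_bz g (hb _ ((mem_normalizer_iff''.mp hg p).mp hp) (conj_ne_one hp1))
  have e : g * (g⁻¹ * p * g) * g⁻¹ = p := by group
  rwa [e] at h1

theorem normalizer_le_normalizer_dl (V : Subgroup G) :
    normalizer (V : Set G) ≤ normalizer ((dl V : Subgroup G) : Set G) :=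
  le_normalizer_of_forall fun _ hg _ hk => conj_mem_dl hg hk

theorem centralizer_le_normalizer_bz (V : Subgroup G) (z : G) :
    centralizer ({z} : Set G) ≤ normalizer ((bz V z : Subgroup G) : Set G) := by
  refine le_normalizer_of_forall fun c hc b hb => ?_
  have := conj_mem_bz c hb
  rwa [conj_eq_of_comm (mem_centralizer_singleton_iff.mp hc)] at this

theorem bz_cj (V : Subgroup G) (g x : G) : bz (cj g V) x = bz V x := by
  unfold bz; rw [ws_cj]

namespace Std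

variable {T V : Subgroup G} {z p q r : G}

theorem conj (h : Std T V z) (g : G) : Std (cj g T) (cj g V) (g * z * g⁻¹) where
  one := h.one.conj g
  card := by rw [ws_cj, ← cj_ws, card_cj]; exact h.card
  le := by
    intro p hp hp1 w hw
    rw [mem_cj] at hp ⊢
    refine h.le _ hp (conj_ne_one hp1) ⟨?_, fun q hq hq1 => ?_⟩
    · have h1 := hw.1
      rw [ws_cj] at h1
      have := conj_mem_ws g⁻¹ h1
      rwa [inv_inv] at this
    · have h1 := hw.2 (g * q * g⁻¹) (conj_mem_cj hq) (fun e => hq1 (conj_eq_one_iff.mp e))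
      rw [kq_cj] at h1
      have := conj_mem_kq g⁻¹ h1
      have e : g⁻¹ * (g * q * g⁻¹) * g⁻¹⁻¹ = q := by group
      rwa [e, inv_inv] at this
  nl := by
    intro N h1 h2 h3
    have h4 := h.nl (cj g⁻¹ N) ?_ ?_ ?_
    · rw [← cj_cj_inv g N, h4]; exact Subgroup.map_bot _
    · rw [cj_le_iff, inv_inv, cj_centralizer_singleton]; exact h1
    · rw [← cj_normalizer, ← cj_le_iff, cj_centralizer_singleton]; exact h2
    · rw [← cj_normalizer, ← cj_le_iff, cj_normalizer]; exact h3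

theorem z_mem (h : Std T V z) : z ∈ V := h.one.ln.z_mem

theorem z_ne (h : Std T V z) : z ≠ 1 := h.one.ln.z_ne

theorem zz (h : Std T V z) : z * z = 1 := h.one.ln.zz

theorem point (h : Std T V z) (hp : p ∈ V) (hp1 : p ≠ 1) : ∃ T', Std T' V p := by
  obtain ⟨g, hg, rfl⟩ := h.one.ln.trans p hp hp1
  have := h.conj g
  rw [cj_eq_of_mem_normalizer hg] at this
  exact ⟨_, this⟩

theorem line (h : Std T V z) {L : Subgroup G} (hL : L ∈ lines V z) : ∃ g, L = cj g V ∧ ∃ T', Std T' L z := by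
  obtain ⟨c, hc, rfl⟩ := h.one.ln.exists_of_mem_lines hL
  have h1 := h.conj c
  rw [conj_eq_of_comm (mem_centralizer_singleton_iff.mp hc)] at h1
  exact ⟨c, rfl, _, h1⟩

theorem card_ws (h : Std T V z) (hp : p ∈ V) (hp1 : p ≠ 1) : Nat.card (ws V p) = 16 := by
  obtain ⟨T', h'⟩ := h.point hp hp1
  exact h'.card

theorem ii_le (h : Std T V z) : ii V ≤ V :=
  (h.one.ii_le_ee h.z_mem h.z_ne).trans (h.le _ h.z_mem h.z_ne)

theorem comm_mem (h : Std T V z) (hp : p ∈ V) (hp1 : p ≠ 1) (hq : q ∈ V) (hq1 : q ≠ 1) {a b : G}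
    (ha : a ∈ ws V p) (hb : b ∈ ws V q) : ⁅a, b⁆ ∈ V :=
  h.ii_le (h.one.comm_ii_mem hp hp1 hq hq1 ha hb)

theorem inf_le (h : Std T V z) (hp : p ∈ V) (hp1 : p ≠ 1) (hq : q ∈ V) (hq1 : q ≠ 1) (hqp : q ≠ p) {w : G}
    (h1 : w ∈ ws V p) (h2 : w ∈ ws V q) : w ∈ V := h.ii_le (h.one.mem_ii hp hp1 hq hq1 hqp h1 h2)

/-- `⟨z⟩` in `V` -/
theorem zp (h : Std T V z) (hp : p ∈ V) {x : G} : x ∈ zpowers p ↔ x = 1 ∨ x = p :=
  mem_zpowers_iff_of_mul_self (h.one.ln.sq p hp)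

/-- two elements of `V - ⟨p⟩` -/
theorem mul_mem_zp (h : Std T V z) (hp : p ∈ V) (hp1 : p ≠ 1) {v w : G} (hv : v ∈ V) (hw : w ∈ V)
    (hv' : v ∉ zpowers p) (hw' : w ∉ zpowers p) : v * w ∈ zpowers p := by
  rw [h.zp hp] at hv' hw' ⊢
  push Not at hv' hw'
  rcases h.one.third hp hp1 hv hv'.1 hv'.2 hw hw'.1 with e | e | e
  · exact absurd e hw'.2
  · left; rw [e, h.one.ln.sq v hv]
  · right
    rw [e, h.one.ln.comm hp hv, ← mul_assoc, h.one.ln.sq v hv, one_mul]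

/-- the sign of an element of `V` -/
noncomputable def sg (p v : G) : ℤˣ := by classical exact if v ∈ zpowers p then 1 else -1

theorem sg_eq_one {p v : G} : sg p v = 1 ↔ v ∈ zpowers p := by
  classical
  unfold sg
  split_ifs with h <;> simp [h]

theorem sg_mul (h : Std T V z) (hp : p ∈ V) (hp1 : p ≠ 1) {v w : G} (hv : v ∈ V) (hw : w ∈ V) :
    sg p (v * w) = sg p v * sg p w := by
  classical
  unfold sg
  by_cases h1 : v ∈ zpowers p <;> by_cases h2 : w ∈ zpowers p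
  · simp [h1, h2, mul_mem h1 h2]
  · have : v * w ∉ zpowers p := fun e => h2 ((mul_mem_cancel_left h1).mp e)
    simp [h1, h2, this]
  · have : v * w ∉ zpowers p := fun e => h1 ((mul_mem_cancel_right h2).mp e)
    simp [h1, h2, this]
  · simp [h1, h2, h.mul_mem_zp hp hp1 hv hw h1 h2]

/-- `[a, W_z] ≤ ⟨z⟩` for `a ∈ W_y` implies `a ∈ V` -/
theorem right (h : Std T V z) (hp : p ∈ V) (hp1 : p ≠ 1) (hq : q ∈ V) (hq1 : q ≠ 1) (hqp : q ≠ p) {a : G}
    (ha : a ∈ ws V q) (hc : ∀ w ∈ ws V p, ⁅a, w⁆ ∈ zpowers p) : a ∈ V := by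
  refine h.le q hq hq1 (h.one.mem_ee hq hq1 hp hp1 (Ne.symm hqp) ha ?_)
  refine h.one.mem_kq hp (h.one.V_comm hp (h.one.ws_le_centralizer_V hq hq1 ha)).symm fun w hw => ?_
  have h1 := hc w hw
  rw [h.zp hp] at h1
  have e : a * w * a⁻¹ = ⁅a, w⁆ * w := by rw [commutatorElement_def]; group
  rcases h1 with h1 | h1
  · left; rw [e, h1, one_mul]
  · right; rw [e, h1]

/-- `[w, W_y] ≤ ⟨z⟩` for `w ∈ W_z` implies `w ∈ V` -/
theorem left [Finite G] (h : Std T V z) (hp : p ∈ V) (hp1 : p ≠ 1) (hq : q ∈ V) (hq1 : q ≠ 1) (hqp : q ≠ p)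
    {w : G} (hw : w ∈ ws V p) (hc : ∀ a ∈ ws V q, ⁅a, w⁆ ∈ zpowers p) : w ∈ V := by
  have hs := pairing_units (A := ws V p) (B := ws V q) (fun w a => sg p ⁅(a : G), (w : G)⁆)
    (fun w w' a => by
      change sg p ⁅(a : G), ((w : G) * (w' : G))⁆ = _
      rw [h.one.comm_mul_right hq hq1 hp hp1 a.2 w.2 w'.2]
      exact h.sg_mul hp hp1 (h.comm_mem hq hq1 hp hp1 a.2 w.2) (h.comm_mem hq hq1 hp hp1 a.2 w'.2))
    (fun w a a' => by
      change sg p ⁅((a : G) * (a' : G)), (w : G)⁆ = _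
      rw [h.one.comm_mul_left hq hq1 hp hp1 a.2 a'.2 w.2]
      exact h.sg_mul hp hp1 (h.comm_mem hq hq1 hp hp1 a.2 w.2) (h.comm_mem hq hq1 hp hp1 a'.2 w.2))
  rw [h.card_ws hp hp1, h.card_ws hq hq1] at hs
  -- the right kernel is `V`
  have h1 : Nat.card {b : ws V q // ∀ a : ws V p, sg p ⁅(b : G), (a : G)⁆ = 1} ≤ 4 := by
    rw [← h.one.ln.card_V]
    refine Nat.card_le_card_of_injective (fun b => ⟨(b.1 : G), ?_⟩) ?_
    · exact h.right hp hp1 hq hq1 hqp b.1.2 fun w hw => sg_eq_one.mp (b.2 ⟨w, hw⟩)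
    · intro a b hab
      have := congrArg (fun x : V => (x : G)) hab
      exact Subtype.ext (Subtype.ext this)
  -- the left kernel
  have h2 : Nat.card {a : ws V p // ∀ b : ws V q, sg p ⁅(b : G), (a : G)⁆ = 1} ≤ 4 := by omega
  by_contra hcon
  let L : Subgroup G :=
    { carrier := {w | w ∈ ws V p ∧ ∀ a ∈ ws V q, ⁅a, w⁆ ∈ zpowers p}
      mul_mem' := by
        rintro a b ⟨ha, ha1⟩ ⟨hb, hb1⟩
        refine ⟨mul_mem ha hb, fun c hc => ?_⟩
        rw [h.one.comm_mul_right hq hq1 hp hp1 hc ha hb]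
        exact mul_mem (ha1 c hc) (hb1 c hc)
      one_mem' := ⟨one_mem _, fun c _ => by simp⟩
      inv_mem' := by
        rintro a ⟨ha, ha1⟩
        rw [inv_eq_self (h.one.sq hp hp1 a ha)]
        exact ⟨ha, ha1⟩ }
  have h3 : V ≤ L := fun v hv => ⟨h.one.V_le hp hp1 hv, fun a ha => by
    rw [commutatorElement_eq_one_iff_mul_comm.mpr
      (h.one.V_comm hv (h.one.ws_le_centralizer_V hq hq1 ha)).symm]
    exact one_mem _⟩
  have h4 : Nat.card L ≤ 4 := by
    refine le_trans ?_ h2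
    refine Nat.card_le_card_of_injective (fun a : L => ⟨⟨a.1, a.2.1⟩, fun b => ?_⟩) ?_
    · exact sg_eq_one.mpr (a.2.2 b b.2)
    · intro a b hab
      have := congrArg (fun x : {a : ws V p // ∀ b : ws V q, sg p ⁅(b : G), (a : G)⁆ = 1} => (x.1 : G)) hab
      exact Subtype.ext this
  have h5 : V = L := eq_of_le_of_card_ge h3 (by rw [h.one.ln.card_V]; exact h4)
  exact hcon (by rw [h5]; exact ⟨hw, hc⟩)

/-- for `W_p = ⟨V, n, m⟩` all sign patterns occur -/
theorem surj [Finite G] (h : Std T V z) (hp : p ∈ V) (hp1 : p ≠ 1) (hq : q ∈ V) (hq1 : q ≠ 1) (hqp : q ≠ p)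
    {n m : G} (hn : n ∈ ws V p) (hm : m ∈ ws V p) (hg : Gn V (ws V p) n m) (e f : ℤˣ) :
    ∃ a ∈ ws V q, sg p ⁅a, n⁆ = e ∧ sg p ⁅a, m⁆ = f := by
  let χ : ws V q →* ℤˣ × ℤˣ := MonoidHom.mk' (fun a => (sg p ⁅(a : G), n⁆, sg p ⁅(a : G), m⁆)) (by
    intro a a'
    change (sg p ⁅((a : G) * (a' : G)), n⁆, sg p ⁅((a : G) * (a' : G)), m⁆) =
      (sg p ⁅(a : G), n⁆ * sg p ⁅(a' : G), n⁆, sg p ⁅(a : G), m⁆ * sg p ⁅(a' : G), m⁆)
    rw [h.one.comm_mul_left hq hq1 hp hp1 a.2 a'.2 hn, h.one.comm_mul_left hq hq1 hp hp1 a.2 a'.2 hm,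
      h.sg_mul hp hp1 (h.comm_mem hq hq1 hp hp1 a.2 hn) (h.comm_mem hq hq1 hp hp1 a'.2 hn),
      h.sg_mul hp hp1 (h.comm_mem hq hq1 hp hp1 a.2 hm) (h.comm_mem hq hq1 hp hp1 a'.2 hm)])
  have hker : Nat.card χ.ker ≤ 4 := by
    rw [← h.one.ln.card_V]
    refine Nat.card_le_card_of_injective (fun b => ⟨(b.1 : G), ?_⟩) ?_
    · have hb : χ b.1 = 1 := b.2
      have hb1 : sg p ⁅(b.1 : G), n⁆ = 1 := congrArg Prod.fst hb
      have hb2 : sg p ⁅(b.1 : G), m⁆ = 1 := congrArg Prod.snd hb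
      rw [sg_eq_one] at hb1 hb2
      let X : Subgroup G :=
        { carrier := {w | w ∈ ws V p ∧ ⁅(b.1 : G), w⁆ ∈ zpowers p}
          mul_mem' := by
            rintro a c ⟨ha, ha1⟩ ⟨hc, hc1⟩
            refine ⟨mul_mem ha hc, ?_⟩
            rw [h.one.comm_mul_right hq hq1 hp hp1 b.1.2 ha hc]
            exact mul_mem ha1 hc1
          one_mem' := ⟨one_mem _, by simp⟩
          inv_mem' := by
            rintro a ⟨ha, ha1⟩
            rw [inv_eq_self (h.one.sq hp hp1 a ha)]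
            exact ⟨ha, ha1⟩ }
      have hX : ws V p ≤ X := hg X (fun v hv => ⟨h.one.V_le hp hp1 hv, by
        rw [commutatorElement_eq_one_iff_mul_comm.mpr
          (h.one.V_comm hv (h.one.ws_le_centralizer_V hq hq1 b.1.2)).symm]
        exact one_mem _⟩) ⟨hn, hb1⟩ ⟨hm, hb2⟩
      exact h.right hp hp1 hq hq1 hqp b.1.2 fun w hw => (hX hw).2
    · intro a b hab
      have := congrArg (fun x : V => (x : G)) hab
      exact Subtype.ext (Subtype.ext this)
  have hr : χ.range = ⊤ := by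
    apply Subgroup.eq_top_of_le_card
    have h1 := χ.ker.card_mul_index
    rw [Subgroup.index_ker, h.card_ws hq hq1] at h1
    have h2 : Nat.card (ℤˣ × ℤˣ) = 4 := by
      rw [Nat.card_prod, Nat.card_eq_fintype_card, Fintype.card_units_int]
    rw [h2]
    by_contra hcon
    have h3 : Nat.card χ.range ≤ 3 := by omega
    have h4 := Nat.mul_le_mul hker h3
    omega
  obtain ⟨a, ha⟩ : (e, f) ∈ χ.range := by rw [hr]; trivial
  exact ⟨a, a.2, congrArg Prod.fst ha, congrArg Prod.snd ha⟩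

/-! ### points -/

/-- every element of `W_z - ⟨z⟩` is a point collinear with `z` -/
theorem mem_nb [Finite G] (h : Std T V z) {w : G} (hw : w ∈ ws V z) (hwz : w ∉ zpowers z) : w ∈ nb V z := by
  have hzz := h.zz
  have key : ∀ L ∈ lines V z, ∀ x ∈ L, x ∈ zpowers z ∨ x ∈ nb V z := by
    intro L hL x hx
    by_cases hxz : x ∈ zpowers z
    · exact Or.inl hxz
    · right
      rw [h.zp h.z_mem] at hxz
      push Not at hxz
      exact ⟨L, hL, hx, hxz.1, hxz.2⟩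
  let P : Subgroup G :=
    { carrier := {w | w ∈ ws V z ∧ (w ∈ zpowers z ∨ w ∈ nb V z)}
      mul_mem' := by
        rintro a b ⟨ha, ha1⟩ ⟨hb, hb1⟩
        refine ⟨mul_mem ha hb, ?_⟩
        rcases ha1 with ha1 | ⟨L, hL, haL, ha1, haz⟩
        · rcases hb1 with hb1 | ⟨M, hM, hbM, -, -⟩
          · exact Or.inl (mul_mem ha1 hb1)
          · exact key M hM _ (mul_mem (zpowers_le_of_mem hM.2 ha1) hbM)
        · by_cases hbL : b ∈ L
          · exact key L hL _ (mul_mem haL hbL)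
          rcases hb1 with hb1 | ⟨M, hM, hbM, hb1, hbz⟩
          · exact absurd (zpowers_le_of_mem hL.2 hb1) hbL
          obtain ⟨g, rfl, T', hL'⟩ := h.line hL
          -- some `c ∈ W_a` moves `b` to `ab`
          have hws : ∀ x, ws (cj g V) x = ws V x := ws_cj V g
          obtain ⟨c, hc, hcb⟩ : ∃ c ∈ ws V a, ⁅c, b⁆ ∉ zpowers z := by
            by_contra hcon
            push Not at hcon
            apply hbL
            refine hL'.left hL'.z_mem hL'.z_ne haL ha1 haz (by rw [hws]; exact hb) fun c hc => ?_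
            rw [hws] at hc
            exact hcon c hc
          have hcz : c ∈ centralizer ({z} : Set G) := h.one.nb_le_cent ⟨_, hL, haL, ha1, haz⟩ hc
          have hcM : cj c M ∈ lines V z := by
            have := mem_lines_cj (g := c) hM
            rwa [conj_eq_of_comm (mem_centralizer_singleton_iff.mp hcz)] at this
          have hcL : ⁅c, b⁆ ∈ cj g V := by
            refine hL'.comm_mem haL ha1 hL'.z_mem hL'.z_ne (by rw [hws]; exact hc) (by rw [hws]; exact hb)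
          have e1 : c * b * c⁻¹ = ⁅c, b⁆ * b := by rw [commutatorElement_def]; group
          have h2 : c * b * c⁻¹ ∈ cj c M := conj_mem_cj hbM
          rw [hL'.zp hL'.z_mem] at hcb
          push Not at hcb
          refine key _ hcM _ ?_
          rcases hL'.one.third hL'.z_mem hL'.z_ne haL ha1 haz hcL hcb.1 with e | e | e
          · exact absurd e hcb.2
          · rw [e1, e] at h2; exact h2
          · rw [e1, e] at h2
            have h3 := mul_mem hcM.2 h2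
            rwa [← mul_assoc, ← mul_assoc, hzz, one_mul] at h3
      one_mem' := ⟨one_mem _, Or.inl (one_mem _)⟩
      inv_mem' := by
        rintro a ⟨ha, ha1⟩
        rw [inv_eq_self (h.one.sqz a ha)]
        exact ⟨ha, ha1⟩ }
  have hP : ws V z ≤ P := ws_le fun L hL x hx => ⟨le_ws hL hx, key L hL x hx⟩
  exact (hP hw).2.resolve_left hwz

/-- the line of a point -/
theorem line_of [Finite G] (h : Std T V z) {w : G} (hw : w ∈ ws V z) (hwz : w ∉ zpowers z) :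
    ∃ g : G, w ∈ cj g V ∧ w ≠ 1 ∧ w ≠ z ∧ cj g V ∈ lines V z ∧ ∃ T', Std T' (cj g V) z := by
  obtain ⟨L, hL, hwL, hw1, hwz'⟩ := h.mem_nb hw hwz
  obtain ⟨g, rfl, hT⟩ := h.line hL
  exact ⟨g, hwL, hw1, hwz', hL, hT⟩

/-- `[B_z, W_p] ≤ V`, `p ∈ V` -/
theorem bz_comm (h : Std T V z) (hp : p ∈ V) (hp1 : p ≠ 1) (hpz : p ≠ z) {b a : G} (hb : b ∈ bz V z)
    (ha : a ∈ ws V p) : a * b * a⁻¹ * b⁻¹ ∈ V := by
  have hbV : b ∈ centralizer (V : Set G) := centralizer_le (h.one.V_le h.z_mem h.z_ne) hb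
  have haz : a ∈ centralizer ({z} : Set G) :=
    h.one.cent_le_centralizer h.z_mem (h.one.ws_le_centralizer_V hp hp1 ha)
  have h1 : a * b * a⁻¹ * b⁻¹ ∈ ws V p := by
    have e : a * b * a⁻¹ * b⁻¹ = a * (b * a⁻¹ * b⁻¹) := by group
    rw [e]
    exact mul_mem ha (conj_mem_of_normalizer (h.one.cent_norm hp) hbV (inv_mem ha))
  have h2 : a * b * a⁻¹ * b⁻¹ ∈ bz V z :=
    mul_mem (conj_mem_of_normalizer (centralizer_le_normalizer_bz V z) haz hb) (inv_mem hb)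
  exact h.le p hp hp1 (h.one.dd_le_ee p (h.one.mem_dd hp hp1 h.z_mem h.z_ne (Ne.symm hpz) h1
    (mem_bz.mp h2)))

/-- `[B_z, W_w] ≤ W_z` for `w ∈ W_z - ⟨z⟩` -/
theorem bz_move [Finite G] (h : Std T V z) {w : G} (hw : w ∈ ws V z) (hwz : w ∉ zpowers z) {a b : G}
    (ha : a ∈ ws V w) (hb : b ∈ bz V z) : a * b * a⁻¹ * b⁻¹ ∈ ws V z := by
  obtain ⟨g, hwL, hw1, hwz', hL, T', h'⟩ := h.line_of hw hwz
  exact le_ws hL (h'.bz_comm hwL hw1 hwz' (by rw [bz_cj]; exact hb) (by rw [ws_cj]; exact ha))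

/-- an element of `W_n` which moves `m` and fixes `y` -/
theorem exists_mv [Finite G] (h : Std T V z) {y n m : G} (hy : y ∈ V) (hy1 : y ≠ 1) (hyz : y ≠ z)
    (hn : n ∈ ws V z) (hm : m ∈ ws V z) (hnV : n ∉ V) (hg : Gn V (ws V z) n m) :
    ∃ a ∈ ws V n, a ∈ centralizer ({z} : Set G) ∧ a * n * a⁻¹ = n ∧ a * y * a⁻¹ * y⁻¹ ∈ V ∧
      a ∈ normalizer (V : Set G) ∧ a * m * a⁻¹ * (n * m)⁻¹ ∈ V := by
  have hnz : n ∉ zpowers z := fun e => hnV (zpowers_le_of_mem h.z_mem e)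
  obtain ⟨g, hnL, hn1, hnz', hL, T', h'⟩ := h.line_of hn hnz
  have hws : ∀ x, ws (cj g V) x = ws V x := ws_cj V g
  have hgn : Gn (cj g V) (ws (cj g V) z) y m := by
    intro X h1 h2 h3
    rw [hws]
    refine hg X (fun v hv => ?_) (h1 hnL) h3
    rcases h.one.ln.four h.z_mem hy h.z_ne hy1 (Ne.symm hyz) hv with e | e | e | e
    · rw [e]; exact one_mem _
    · rw [e]; exact h1 h'.z_mem
    · rw [e]; exact h2
    · rw [e]; exact mul_mem (h1 h'.z_mem) h2
  have hyw : y ∈ ws (cj g V) z := by rw [hws]; exact h.one.V_le h.z_mem h.z_ne hy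
  obtain ⟨a, ha, h1, h2⟩ := h'.surj h'.z_mem h'.z_ne hnL hn1 hnz' hyw (by rw [hws]; exact hm) hgn 1 (-1)
  have ha' : a ∈ ws V n := by rw [← hws]; exact ha
  have haz : a ∈ centralizer ({z} : Set G) := h.one.nb_le_cent ⟨_, hL, hnL, hn1, hnz'⟩ ha'
  have hy' : a * y * a⁻¹ * y⁻¹ ∈ zpowers z := sg_eq_one.mp h1
  have hm' : ⁅a, m⁆ ∉ zpowers z := fun e => by
    rw [sg_eq_one.mpr e] at h2
    exact absurd h2 (by decide)
  have hmL : ⁅a, m⁆ ∈ cj g V := h'.comm_mem hnL hn1 h'.z_mem h'.z_ne ha (by rw [hws]; exact hm)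
  have hy2 := zpowers_le_of_mem h.z_mem hy'
  have hayV : a * y * a⁻¹ ∈ V := by
    have := mul_mem hy2 hy
    rwa [inv_mul_cancel_right] at this
  have hazz : a * z * a⁻¹ = z := conj_eq_of_comm (mem_centralizer_singleton_iff.mp haz)
  have haN : a ∈ normalizer (V : Set G) := by
    rw [mem_normalizer_iff_cj]
    refine eq_of_le_of_card_ge ?_ (card_cj a V).ge
    intro v hv
    rw [mem_cj] at hv
    have e0 : v = a * (a⁻¹ * v * a) * a⁻¹ := by group
    rw [e0]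
    rcases h.one.ln.four h.z_mem hy h.z_ne hy1 (Ne.symm hyz) hv with e | e | e | e
    · rw [e]; simp
    · rw [e, hazz]; exact h.z_mem
    · rw [e]; exact hayV
    · rw [e]
      have : a * (z * y) * a⁻¹ = (a * z * a⁻¹) * (a * y * a⁻¹) := by group
      rw [this, hazz]; exact mul_mem h.z_mem hayV
  refine ⟨a, ha', haz, ?_, hy2, haN, ?_⟩
  · exact conj_eq_of_comm (h'.one.comm hnL hn1 a ha n (h'.one.V_le hnL hn1 hnL))
  · have e1 : a * m * a⁻¹ * (n * m)⁻¹ = ⁅a, m⁆ * n⁻¹ := by rw [commutatorElement_def]; group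
    rw [e1]
    rw [h'.zp h'.z_mem] at hm'
    push Not at hm'
    rcases h'.one.third h'.z_mem h'.z_ne hnL hn1 hnz' hmL hm'.1 with e | e | e
    · exact absurd e hm'.2
    · rw [e, mul_inv_cancel]; exact one_mem _
    · rw [e, mul_inv_cancel_right]; exact h.z_mem

/-- some `d ∈ C_G(V)` is fixed-point-free on `W_z/V` and trivial on `B_z/W_z` -/
theorem exists_d [Finite G] (h : Std T V z) : ∃ d ∈ centralizer (V : Set G),
    (∀ w ∈ ws V z, d * w * d⁻¹ * w⁻¹ ∈ V → w ∈ V) ∧ ∀ b ∈ bz V z, d * b * d⁻¹ * b⁻¹ ∈ ws V z := by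
  have hVW := h.one.V_le h.z_mem h.z_ne
  have ab := h.one.comm h.z_mem h.z_ne
  have sq := h.one.sq h.z_mem h.z_ne
  obtain ⟨y, hy, hy1, hyz⟩ := h.one.ln.exists_y
  obtain ⟨n, hn, m, hm, hnV, hmV, hnmV, hg⟩ := exists_gn hVW h.one.ln.card_V h.card ab sq
  obtain ⟨a, ha, haz, han, hay, haN, ham⟩ := h.exists_mv hy hy1 hyz hn hm hnV hg
  obtain ⟨b, hb, hbz, hbm, hby, hbN, hbn⟩ := h.exists_mv hy hy1 hyz hm hn hmV hg.swap
  have hnz : n ∉ zpowers z := fun e => hnV (zpowers_le_of_mem h.z_mem e)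
  have hmz : m ∉ zpowers z := fun e => hmV (zpowers_le_of_mem h.z_mem e)
  have hzc : centralizer ({z} : Set G) ≤ normalizer ((ws V z : Subgroup G) : Set G) :=
    centralizer_le_normalizer_ws V z
  -- congruence modulo `V`
  have hconj : ∀ g ∈ normalizer (V : Set G), ∀ u v, u * v⁻¹ ∈ V → g * u * g⁻¹ * (g * v * g⁻¹)⁻¹ ∈ V := by
    intro g hg u v huv
    have := (mem_normalizer_iff.mp hg _).mp huv
    have e : g * (u * v⁻¹) * g⁻¹ = g * u * g⁻¹ * (g * v * g⁻¹)⁻¹ := by group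
    rwa [e] at this
  have htrans : ∀ u v w, u * v⁻¹ ∈ V → v * w⁻¹ ∈ V → u * w⁻¹ ∈ V := by
    intro u v w h1 h2
    have := mul_mem h1 h2
    have e : u * v⁻¹ * (v * w⁻¹) = u * w⁻¹ := by group
    rwa [e] at this
  set c := a * b with hc
  have hcN : c ∈ normalizer (V : Set G) := mul_mem haN hbN
  have hcC : c ∈ centralizer ({z} : Set G) := mul_mem haz hbz
  have hnm := ab n hn m hm
  have hnn := sq n hn
  have hmm := sq m hm
  -- `c : n → m → n m → n`
  have hcn : c * n * c⁻¹ * m⁻¹ ∈ V := by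
    have h1 := hconj a haN _ _ hbn
    have e1 : a * (b * n * b⁻¹) * a⁻¹ = c * n * c⁻¹ := by rw [hc]; group
    rw [e1] at h1
    refine htrans _ _ _ h1 ?_
    have e2 : a * (m * n) * a⁻¹ * m⁻¹ = (a * m * a⁻¹) * (a * n * a⁻¹) * m⁻¹ := by group
    rw [e2, han]
    have e3 : a * m * a⁻¹ * n * m⁻¹ = a * m * a⁻¹ * (n * m)⁻¹ := by
      rw [mul_inv_rev, inv_eq_self hnn, inv_eq_self hmm, mul_assoc, hnm]
    rw [e3]; exact ham
  have hcm : c * m * c⁻¹ * (n * m)⁻¹ ∈ V := by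
    have e1 : c * m * c⁻¹ = a * (b * m * b⁻¹) * a⁻¹ := by rw [hc]; group
    rw [e1, hbm]; exact ham
  have hcV : ∀ v ∈ V, c * v * c⁻¹ ∈ V := fun v hv => (mem_normalizer_iff.mp hcN v).mp hv
  have hcW : ∀ v ∈ ws V z, c * v * c⁻¹ ∈ ws V z := fun v hv => (mem_normalizer_iff.mp (hzc hcC) v).mp hv
  have hnmW : n * m ∈ ws V z := mul_mem hn hm
  have hmul : ∀ u ∈ ws V z, ∀ u' ∈ ws V z, ∀ v ∈ ws V z, ∀ v' ∈ ws V z, u * v⁻¹ ∈ V → u' * v'⁻¹ ∈ V →
      u * u' * (v * v')⁻¹ ∈ V := by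
    intro u hu u' hu' v hv v' hv' h1 h2
    have e : u * u' * (v * v')⁻¹ = (u * v⁻¹) * (u' * v'⁻¹) := by
      have h3 := ab _ (mul_mem hu' (inv_mem hv')) _ (inv_mem hv)
      calc u * u' * (v * v')⁻¹ = u * ((u' * v'⁻¹) * v⁻¹) := by group
        _ = u * (v⁻¹ * (u' * v'⁻¹)) := by rw [h3]
        _ = (u * v⁻¹) * (u' * v'⁻¹) := by group
    rw [e]; exact mul_mem h1 h2
  have hcnm : c * (n * m) * c⁻¹ * n⁻¹ ∈ V := by
    have h1 := hmul _ (hcW n hn) _ (hcW m hm) _ hm _ hnmW hcn hcm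
    have e1 : c * n * c⁻¹ * (c * m * c⁻¹) = c * (n * m) * c⁻¹ := by group
    have e2 : m * (n * m) = n := by
      calc m * (n * m) = m * (m * n) := by rw [hnm]
        _ = (m * m) * n := by group
        _ = n := by rw [hmm, one_mul]
    rwa [e1, e2] at h1
  have hdd : ∀ u, c * c * u * (c * c)⁻¹ = c * (c * u * c⁻¹) * c⁻¹ := fun u => by group
  have hdn : c * c * n * (c * c)⁻¹ * (n * m)⁻¹ ∈ V := by
    rw [hdd]
    exact htrans _ _ _ (hconj c hcN _ _ hcn) hcm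
  have hdm : c * c * m * (c * c)⁻¹ * n⁻¹ ∈ V := by
    rw [hdd]
    exact htrans _ _ _ (hconj c hcN _ _ hcm) hcnm
  have hdnm : c * c * (n * m) * (c * c)⁻¹ * m⁻¹ ∈ V := by
    rw [hdd]
    exact htrans _ _ _ (hconj c hcN _ _ hcnm) hcn
  have hdC : c * c ∈ centralizer ({z} : Set G) := mul_mem hcC hcC
  have hdW : ∀ v ∈ ws V z, c * c * v * (c * c)⁻¹ ∈ ws V z := fun v hv =>
    (mem_normalizer_iff.mp (hzc hdC) v).mp hv
  -- `c²` centralises `V`
  have hcz : c * z = z * c := mem_centralizer_singleton_iff.mp hcC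
  have hdV : c * c ∈ centralizer (V : Set G) := by
    refine h.one.mem_centralizer_of h.z_mem h.z_ne hy hy1 hyz (mul_comm_of hcz hcz) ?_
    refine comm_of_conj_eq ?_
    have hczz : c * z * c⁻¹ = z := conj_eq_of_comm hcz
    rw [hdd]
    rcases h.one.ln.conj_cases h.z_mem hy h.z_ne hcz hcN with e | e
    · rw [e, e]
    · rw [e]
      have e1 : c * (z * y) * c⁻¹ = (c * z * c⁻¹) * (c * y * c⁻¹) := by group
      rw [e1, hczz, e, ← mul_assoc, h.zz, one_mul]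
  refine ⟨c * c, hdV, ?_, ?_⟩
  · -- fixed-point-free
    let X : Subgroup G :=
      { carrier := {w | w ∈ ws V z ∧ c * c * w * (c * c)⁻¹ * w⁻¹ ∈ V}
        mul_mem' := by
          rintro u v ⟨hu, hu1⟩ ⟨hv, hv1⟩
          refine ⟨mul_mem hu hv, ?_⟩
          have h1 := hmul _ (hdW u hu) _ (hdW v hv) _ hu _ hv hu1 hv1
          have e1 : c * c * u * (c * c)⁻¹ * (c * c * v * (c * c)⁻¹) = c * c * (u * v) * (c * c)⁻¹ := by group
          rwa [e1] at h1
        one_mem' := ⟨one_mem _, by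
          have e : c * c * 1 * (c * c)⁻¹ * 1⁻¹ = 1 := by group
          rw [e]; exact one_mem _⟩
        inv_mem' := by
          rintro a ⟨ha, ha1⟩
          rw [inv_eq_self (sq a ha)]
          exact ⟨ha, ha1⟩ }
    have hXW : X ≤ ws V z := fun w hw => hw.1
    have hVX : V ≤ X := fun v hv => ⟨hVW hv, by
      rw [conj_eq_of_comm (h.one.V_comm hv hdV).symm, mul_inv_cancel]; exact one_mem _⟩
    intro w hw hw1
    by_contra hcon
    have hne : ¬ X ≤ V := fun hle => hcon (hle ⟨hw, hw1⟩)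
    have hnX : n ∉ X := fun hx => by
      have h1 := mul_mem (inv_mem hdn) hx.2
      have e : (c * c * n * (c * c)⁻¹ * (n * m)⁻¹)⁻¹ * (c * c * n * (c * c)⁻¹ * n⁻¹) = n * m * n⁻¹ := by
        group
      rw [e, hnm, mul_inv_cancel_right] at h1
      exact hmV h1
    have hmX : m ∉ X := fun hx => by
      have h1 := mul_mem (inv_mem hdm) hx.2
      have e : (c * c * m * (c * c)⁻¹ * n⁻¹)⁻¹ * (c * c * m * (c * c)⁻¹ * m⁻¹) = n * m⁻¹ := by
        group
      rw [e, inv_eq_self hmm] at h1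
      exact hnmV h1
    have h1 := mul_mem_of_card_lt hVX hXW h.one.ln.card_V h.card hne hn hm hnX hmX
    have h2 := mul_mem (inv_mem hdnm) h1.2
    have e : (c * c * (n * m) * (c * c)⁻¹ * m⁻¹)⁻¹ * (c * c * (n * m) * (c * c)⁻¹ * (n * m)⁻¹) =
        m * (n * m)⁻¹ := by group
    rw [e, mul_inv_rev, inv_eq_self hmm, inv_eq_self hnn, ← mul_assoc, hmm, one_mul] at h2
    exact hnV h2
  · have key : ∀ g g', g ∈ centralizer ({z} : Set G) → (∀ b ∈ bz V z, g * b * g⁻¹ * b⁻¹ ∈ ws V z) →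
        (∀ b ∈ bz V z, g' * b * g'⁻¹ * b⁻¹ ∈ ws V z) → ∀ b ∈ bz V z, g * g' * b * (g * g')⁻¹ * b⁻¹ ∈ ws V z := by
      intro g g' hg h1 h2 b hb
      have e : g * g' * b * (g * g')⁻¹ * b⁻¹ = g * (g' * b * g'⁻¹ * b⁻¹) * g⁻¹ * (g * b * g⁻¹ * b⁻¹) := by group
      rw [e]
      exact mul_mem ((mem_normalizer_iff.mp (hzc hg) _).mp (h2 b hb)) (h1 b hb)
    have hcb := key a b haz (fun x hx => h.bz_move hn hnz ha hx) (fun x hx => h.bz_move hm hmz hb hx)
    exact key c c hcC hcb hcb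

end Std

end Cfsg.Agent.Omega.NO3S.TwoOne
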