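import Cfsg.Agent.Omega.NO3S.TwoOne.LThreeA

/-!
# NO-3S, `q = 2`, `n = 1`: `|W_z| = 16` (helper225's text #15275 (A)), second part

* `Std.bz_eq` : `B_z = W_z D_l`; `Std.bz_sq` : `B_z` is elementary abelian;
* `Std.kq_rep` : `K_z ∩ C_G(V) = B_z {g_a | a ∈ W_y}`, `g_a = a t a⁻¹ t⁻¹`, `t` a mover of `K_z`;
* `Std.bz_kq` : `[B_z, K_z] ≤ ⟨z⟩`; `Std.uz_le` : `C_{B_z}(K_z) ≤ D_l`;
* `Std.dl_eq`, `Std.bz_eq_ws` : `D_l = V`, `B_z = W_z`; `Std.card_kq` : `|K_z| = 2^7`;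
* `Std.large` : `K_z` is extraspecial with centre `⟨z⟩`.
-/

set_option autoImplicit false
set_option linter.unusedSectionVars false

namespace Cfsg.Agent.Omega.NO3S.TwoOne

open Subgroup Cfsg Cfsg.Agent.ZN Cfsg.Agent.MinSimple.Geo Cfsg.Agent.Omega.CaseL
open Cfsg.Agent.ZN.Block (conj_mem_of_normalizer conj_mem_of_normalizer' le_normalizer_of_forall
  mem_normalizer_of)
open scoped commutatorElement

universe u

variable {G : Type u} [Group G]

namespace Std

variable {T V : Subgroup G} {z p q r : G}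

theorem dl_le_bz (h : Std T V z) : dl V ≤ bz V z := fun _ hg => hg z h.z_mem h.z_ne

theorem V_le_dl (h : Std T V z) : V ≤ dl V := fun _ hv _ hp hp1 =>
  mem_bz.mpr fun _ hw => h.one.V_comm hv (h.one.ws_le_centralizer_V hp hp1 hw)

theorem ws_le_bz (h : Std T V z) : ws V z ≤ bz V z := fun w hw =>
  mem_bz.mpr fun _ hv => h.one.comm h.z_mem h.z_ne w hw _ hv

theorem bz_le_centralizer (h : Std T V z) : bz V z ≤ centralizer (V : Set G) :=
  centralizer_le (h.one.V_le h.z_mem h.z_ne)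

/-- `[B_z, W_p] ≤ V` -/
theorem bz_comm' (h : Std T V z) (hp : p ∈ V) (hp1 : p ≠ 1) {b a : G} (hb : b ∈ bz V z)
    (ha : a ∈ ws V p) : b * a * b⁻¹ * a⁻¹ ∈ V := by
  by_cases hpz : p = z
  · subst hpz
    rw [mem_bz.mp hb a ha, mul_inv_cancel_right, mul_inv_cancel]; exact one_mem _
  · have := inv_mem (h.bz_comm hp hp1 hpz hb ha)
    have e : (a * b * a⁻¹ * b⁻¹)⁻¹ = b * a * b⁻¹ * a⁻¹ := by group
    rwa [e] at this

/-- `B_z = W_z D_l` -/
theorem bz_eq [Finite G] (h : Std T V z) {b : G} (hb : b ∈ bz V z) :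
    ∃ w ∈ ws V z, ∃ e ∈ dl V, b = w * e := by
  obtain ⟨d, hd, hf, hdb⟩ := h.exists_d
  have hdN := centralizer_le_normalizer _ hd
  have hdz : d ∈ centralizer ({z} : Set G) := h.one.cent_le_centralizer h.z_mem hd
  have hVC := h.bz_le_centralizer
  -- `d` is fixed-point-free on all `W_p / V`
  have hf' : ∀ p ∈ V, p ≠ 1 → ∀ w ∈ ws V p, d * w * d⁻¹ * w⁻¹ ∈ V → w ∈ V := by
    intro p hp hp1 w hw hw1
    obtain ⟨g, hg, hgp⟩ := h.one.xl_trans h.z_mem h.z_ne hp hp1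
    have hgN := h.one.xl_le_normalizer hg
    have hw0 : g⁻¹ * w * g ∈ ws V z := by
      have := conj_mem_ws g⁻¹ hw
      have e : g⁻¹ * p * g⁻¹⁻¹ = z := by rw [← hgp]; group
      rwa [e, inv_inv] at this
    have h1 := h.le p hp hp1 (h.one.xl_cent h.z_mem h.z_ne hg hgp hd hw0)
    have e1 : g * (g⁻¹ * w * g) * g⁻¹ = w := by group
    rw [e1] at h1
    have h2 := mul_mem h1 hw1
    have e2 : g * (d * (g⁻¹ * w * g) * d⁻¹) * g⁻¹ * (d * w * d⁻¹)⁻¹ * (d * w * d⁻¹ * w⁻¹) =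
        g * (d * (g⁻¹ * w * g) * d⁻¹ * (g⁻¹ * w * g)⁻¹) * g⁻¹ := by group
    rw [e2] at h2
    have h3 := hf _ hw0 ((mem_normalizer_iff.mp hgN _).mpr h2)
    have h4 := (mem_normalizer_iff.mp hgN _).mp h3
    rwa [e1] at h4
  -- apply `fpf_surj`
  obtain ⟨b', hb', h1⟩ := fpf_surj (B := bz V z) (D := dl V) (d := d)
    ((hVC.trans (centralizer_le_normalizer _)).trans (normalizer_le_normalizer_dl V))
    (by
      intro a ha b hb p hp hp1
      rw [mem_bz]
      intro w hw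
      have ha1 := h.bz_comm' hp hp1 ha hw
      have hb1 := h.bz_comm' hp hp1 hb hw
      set u := a * w * a⁻¹ * w⁻¹ with hu
      set v := b * w * b⁻¹ * w⁻¹ with hv
      have ea : a * w * a⁻¹ = u * w := by rw [hu]; group
      have eb : b * w * b⁻¹ = v * w := by rw [hv]; group
      have hav := h.one.V_comm hb1 (hVC ha)
      have hbu := h.one.V_comm ha1 (hVC hb)
      have hba : b * a * w * (b * a)⁻¹ = v * u * w := by
        calc b * a * w * (b * a)⁻¹ = b * (a * w * a⁻¹) * b⁻¹ := by group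
          _ = (b * u) * b⁻¹ * (b * w * b⁻¹) := by rw [ea]; group
          _ = v * u * w := by rw [← hbu, eb, h.one.ln.comm hb1 ha1]; group
      have hab : a * b * w * (a * b)⁻¹ = v * u * w := by
        calc a * b * w * (a * b)⁻¹ = a * (b * w * b⁻¹) * a⁻¹ := by group
          _ = (a * v) * a⁻¹ * (a * w * a⁻¹) := by rw [eb]; group
          _ = v * u * w := by rw [← hav, ea]; group
      refine comm_of_conj_eq ?_
      have e1 : a * b * a⁻¹ * b⁻¹ * w * (a * b * a⁻¹ * b⁻¹)⁻¹ =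
          a * b * ((b * a)⁻¹ * w * (b * a)) * (a * b)⁻¹ := by group
      have huv : v * u ∈ centralizer (V : Set G) := h.one.V_le_centralizer (mul_mem hb1 ha1)
      have e2 : (b * a)⁻¹ * w * (b * a) = (v * u)⁻¹ * w := by
        have hvc : (b * a) * (v * u)⁻¹ = (v * u)⁻¹ * (b * a) :=
          (h.one.V_comm (inv_mem (mul_mem hb1 ha1)) (hVC (mul_mem hb ha))).symm
        calc (b * a)⁻¹ * w * (b * a) = (b * a)⁻¹ * ((v * u)⁻¹ * (v * u * w)) * (b * a) := by group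
          _ = (b * a)⁻¹ * ((v * u)⁻¹ * (b * a)) * w := by rw [← hba]; group
          _ = (b * a)⁻¹ * ((b * a) * (v * u)⁻¹) * w := by rw [hvc]
          _ = (v * u)⁻¹ * w := by group
      rw [e1, e2]
      have hvc : (a * b) * (v * u)⁻¹ = (v * u)⁻¹ * (a * b) :=
        (h.one.V_comm (inv_mem (mul_mem hb1 ha1)) (hVC (mul_mem ha hb))).symm
      calc a * b * ((v * u)⁻¹ * w) * (a * b)⁻¹ = ((a * b) * (v * u)⁻¹) * w * (a * b)⁻¹ := by group
        _ = (v * u)⁻¹ * (a * b * w * (a * b)⁻¹) := by rw [hvc]; group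
        _ = w := by rw [hab]; group)
    (centralizer_le_normalizer_bz V z hdz) (normalizer_le_normalizer_dl V hdN)
    (by
      intro b hb hb1 p hp hp1
      rw [mem_bz]
      -- `w ↦ [b, w]` is `d`-invariant on `W_p`
      have hβ : ∀ w ∈ ws V p, d * w * d⁻¹ * w⁻¹ ∈ centralizer ({b} : Set G) := by
        intro w hw
        have hw1 := h.bz_comm' hp hp1 hb hw
        set v := b * w * b⁻¹ * w⁻¹ with hv
        have ew : b * w * b⁻¹ = v * w := by rw [hv]; group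
        -- `d b d⁻¹ = e b`
        set e := d * b * d⁻¹ * b⁻¹ with he
        have edb : d * b * d⁻¹ = e * b := by rw [he]; group
        have hev : e * v = v * e := (h.one.V_comm hw1 (h.bz_le_centralizer (h.dl_le_bz hb1))).symm
        have hew : e * (d * w * d⁻¹) = d * w * d⁻¹ * e := by
          have hdp : d * p * d⁻¹ = p := conj_eq_of_comm (h.one.V_comm hp hd).symm
          have h2 := conj_mem_ws d hw
          rw [hdp] at h2
          exact mem_bz.mp (hb1 p hp hp1) _ h2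
        have hdv : d * v * d⁻¹ = v := conj_eq_of_comm (h.one.V_comm hw1 hd).symm
        -- `b (d w d⁻¹) b⁻¹ = v (d w d⁻¹)`
        have h3 : b * (d * w * d⁻¹) * b⁻¹ = v * (d * w * d⁻¹) := by
          calc b * (d * w * d⁻¹) * b⁻¹ = e⁻¹ * ((e * b) * (d * w * d⁻¹) * (e * b)⁻¹) * e := by group
            _ = e⁻¹ * (d * (b * w * b⁻¹) * d⁻¹) * e := by rw [← edb]; group
            _ = e⁻¹ * ((d * v * d⁻¹) * (d * w * d⁻¹)) * e := by rw [ew]; group
            _ = e⁻¹ * (v * (d * w * d⁻¹ * e)) := by rw [hdv]; group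
            _ = e⁻¹ * ((v * e) * (d * w * d⁻¹)) := by rw [← hew]; group
            _ = v * (d * w * d⁻¹) := by rw [← hev]; group
        rw [mem_centralizer_singleton_iff]
        symm
        refine comm_of_conj_eq ?_
        calc b * (d * w * d⁻¹ * w⁻¹) * b⁻¹ = (b * (d * w * d⁻¹) * b⁻¹) * (b * w * b⁻¹)⁻¹ := by group
          _ = v * (d * w * d⁻¹) * (v * w)⁻¹ := by rw [h3, ew]
          _ = v * (d * w * d⁻¹ * w⁻¹) * v⁻¹ := by group
          _ = d * w * d⁻¹ * w⁻¹ := by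
            refine conj_eq_of_comm (h.one.V_comm hw1 ?_)
            have hdp : d * p * d⁻¹ = p := conj_eq_of_comm (h.one.V_comm hp hd).symm
            have h2 := conj_mem_ws d hw
            rw [hdp] at h2
            exact h.one.ws_le_centralizer_V hp hp1 (mul_mem h2 (inv_mem hw))
      intro w hw
      obtain ⟨w', hw', h2⟩ := fpf_surj (B := ws V p) (D := V) (d := d)
        ((h.one.ws_le_centralizer_V hp hp1).trans (centralizer_le_normalizer _))
        (fun a ha b hb => by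
          rw [h.one.comm hp hp1 a ha b hb, mul_inv_cancel_right, mul_inv_cancel]; exact one_mem _)
        (h.one.cent_norm hp hd) hdN (hf' p hp hp1) hw
      have h3 := mul_mem (hβ w' hw') ((h.one.V_le_centralizer h2 |> fun _ =>
        (mem_centralizer_singleton_iff.mpr (h.one.V_comm h2 (hVC hb)) :
          (d * w' * d⁻¹ * w'⁻¹)⁻¹ * w ∈ centralizer ({b} : Set G))))
      have e : d * w' * d⁻¹ * w'⁻¹ * ((d * w' * d⁻¹ * w'⁻¹)⁻¹ * w) = w := by group
      rw [e, mem_centralizer_singleton_iff] at h3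
      exact h3.symm) hb
  refine ⟨d * b' * d⁻¹ * b'⁻¹, hdb b' hb', _, h1, by group⟩

/-- `B_z` is elementary abelian -/
theorem bz_sq [Finite G] (h : Std T V z) : ∀ b ∈ bz V z, b * b = 1 := by
  let N : Subgroup G := closure {x | ∃ b ∈ bz V z, x = b * b}
  have hN : N = ⊥ := by
    refine h.nl N ?_ ?_ ?_
    · refine (closure_le _).mpr ?_
      rintro _ ⟨b, hb, rfl⟩
      have := h.one.cent_le_centralizer h.z_mem (h.bz_le_centralizer hb)
      exact mul_mem this this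
    · refine le_normalizer_of_forall fun c hc x hx => ?_
      have key : N ≤ cj c⁻¹ N := by
        refine (closure_le _).mpr ?_
        rintro _ ⟨b, hb, rfl⟩
        rw [SetLike.mem_coe, mem_cj, inv_inv]
        refine subset_closure ⟨c * b * c⁻¹, conj_mem_of_normalizer (centralizer_le_normalizer_bz V z) hc hb, ?_⟩
        group
      have := key hx
      rwa [mem_cj, inv_inv] at this
    · refine le_normalizer_of_forall fun c hc x hx => ?_
      have key : N ≤ cj c⁻¹ N := by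
        refine (closure_le _).mpr ?_
        rintro _ ⟨b, hb, rfl⟩
        obtain ⟨w, hw, e, he, rfl⟩ := h.bz_eq hb
        have h1 : e * w = w * e := mem_bz.mp (h.dl_le_bz he) w hw
        have h2 : w * e * (w * e) = e * e := by
          calc w * e * (w * e) = w * (e * w) * e := by group
            _ = (w * w) * (e * e) := by rw [h1]; group
            _ = e * e := by rw [h.one.sqz w hw, one_mul]
        rw [SetLike.mem_coe, h2, mem_cj, inv_inv]
        refine subset_closure ⟨c * e * c⁻¹, h.dl_le_bz (conj_mem_dl hc he), ?_⟩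
        group
      have := key hx
      rwa [mem_cj, inv_inv] at this
  intro b hb
  have h1 : b * b ∈ N := subset_closure ⟨b, hb, rfl⟩
  rw [hN] at h1
  exact mem_bot.mp h1

theorem bz_ab [Finite G] (h : Std T V z) {a b : G} (ha : a ∈ bz V z) (hb : b ∈ bz V z) : a * b = b * a := by
  have h1 := h.bz_sq _ (mul_mem ha hb)
  calc a * b = (a * b)⁻¹ := (inv_eq_self h1).symm
    _ = b⁻¹ * a⁻¹ := by group
    _ = b * a := by rw [inv_eq_self (h.bz_sq a ha), inv_eq_self (h.bz_sq b hb)]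

theorem bz_le_kq (h : Std T V z) : bz V z ≤ kq V z := fun b hb => by
  refine h.one.mem_kq h.z_mem ?_ fun w hw => Or.inl (conj_eq_of_comm (mem_bz.mp hb w hw))
  exact mem_bz.mp hb z (h.one.V_le h.z_mem h.z_ne h.z_mem)

theorem ws_le_kq (h : Std T V z) : ws V z ≤ kq V z := h.one.ws_le_kq h.z_mem h.z_ne

/-! ### `K_z ∩ C_G(V)` -/

/-- `g_a` -/
theorem ga_mem (h : Std T V z) (hp : p ∈ V) (hp1 : p ≠ 1) {t a : G} (ht : t ∈ kq V z)
    (ha : a ∈ ws V p) : a * t * a⁻¹ * t⁻¹ ∈ kq V z ∧ a * t * a⁻¹ * t⁻¹ ∈ centralizer (V : Set G) := by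
  have haV := h.one.ws_le_centralizer_V hp hp1 ha
  have haz := h.one.cent_le_centralizer h.z_mem haV
  refine ⟨mul_mem (conj_mem_of_normalizer (centralizer_le_normalizer_kq V z) haz ht) (inv_mem ht), ?_⟩
  have h1 := conj_mem_of_normalizer (normalizer_le_normalizer_centralizer V)
    (h.one.kq_le_normalizer h.z_mem h.z_ne ht) (inv_mem haV)
  have e : a * t * a⁻¹ * t⁻¹ = a * (t * a⁻¹ * t⁻¹) := by group
  rw [e]; exact mul_mem haV h1

/-- the action of `g_a` on `W_z` -/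
theorem ga_conj (h : Std T V z) (hp : p ∈ V) (hp1 : p ≠ 1) {t a w : G} (ht : t ∈ kq V z)
    (ht1 : t ∉ centralizer (V : Set G)) (ha : a ∈ ws V p) (hw : w ∈ ws V z) :
    a * t * a⁻¹ * t⁻¹ * w * (a * t * a⁻¹ * t⁻¹)⁻¹ = if sg z ⁅a, w⁆ = 1 then w else z * w := by
  have haV := h.one.ws_le_centralizer_V hp hp1 ha
  have haa := h.one.sq hp hp1 a ha
  have hcV := h.comm_mem hp hp1 h.z_mem h.z_ne ha hw
  set c := ⁅a, w⁆ with hc
  have hcc := h.one.ln.sq c hcV
  have haw : a * w * a⁻¹ = c * w := by rw [hc, commutatorElement_def]; group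
  have hac : a * c = c * a := (h.one.V_comm hcV haV).symm
  have haw' : a⁻¹ * w * a = c * w := by rw [inv_eq_self haa] at haw ⊢; exact haw
  have hca : c * a⁻¹ = a⁻¹ * c := h.one.V_comm hcV (inv_mem haV)
  have htz := h.one.kq_p ht
  have haz : a * z = z * a := (h.one.V_comm h.z_mem haV).symm
  -- `t⁻¹ w t = u w` with `u ∈ ⟨z⟩`
  obtain ⟨u, hu, huw⟩ : ∃ u ∈ zpowers z, t * w * t⁻¹ = u * w := by
    rcases h.one.kq_cases h.z_mem ht hw with e | e
    · exact ⟨1, one_mem _, by rw [e, one_mul]⟩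
    · exact ⟨z, mem_zpowers z, e⟩
  have huV : u ∈ V := zpowers_le_of_mem h.z_mem hu
  have huu := h.one.ln.sq u huV
  have htu : t * u = u * t := by
    rcases (h.zp h.z_mem).mp hu with e | e
    · rw [e]; simp
    · rw [e]; exact htz
  have htu' : t⁻¹ * u = u * t⁻¹ := inv_comm_of htu
  have hau : a * u = u * a := (h.one.V_comm huV haV).symm
  have hau' : a⁻¹ * u = u * a⁻¹ := inv_comm_of hau
  have huw' : t⁻¹ * w * t = u * w := by
    calc t⁻¹ * w * t = t⁻¹ * (u * (u * w)) * t := by rw [← mul_assoc u u w, huu, one_mul]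
      _ = (t⁻¹ * u) * (t * w * t⁻¹) * t := by rw [← huw]; group
      _ = u * w := by rw [htu']; group
  have e1 : a * t * a⁻¹ * t⁻¹ * w * (a * t * a⁻¹ * t⁻¹)⁻¹ = (t * c * t⁻¹) * c * w := by
    calc a * t * a⁻¹ * t⁻¹ * w * (a * t * a⁻¹ * t⁻¹)⁻¹
        = a * t * (a⁻¹ * (t⁻¹ * w * t) * a) * t⁻¹ * a⁻¹ := by group
      _ = a * t * ((a⁻¹ * u) * w * a) * t⁻¹ * a⁻¹ := by rw [huw']; group
      _ = a * (t * u) * (a⁻¹ * w * a) * t⁻¹ * a⁻¹ := by rw [hau']; group
      _ = (a * u) * (t * c * t⁻¹) * (t * w * t⁻¹) * a⁻¹ := by rw [htu, haw']; group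
      _ = u * (a * (t * c * t⁻¹) * a⁻¹) * (a * (u * w) * a⁻¹) := by rw [hau, huw]; group
      _ = u * (t * c * t⁻¹) * ((a * u) * w * a⁻¹) := by
          have h1 : t * c * t⁻¹ ∈ V := (mem_normalizer_iff.mp (h.one.kq_le_normalizer h.z_mem h.z_ne ht) c).mp hcV
          rw [conj_eq_of_comm (h.one.V_comm h1 haV).symm]; group
      _ = u * (t * c * t⁻¹) * (u * (a * w * a⁻¹)) := by rw [hau]; group
      _ = (t * c * t⁻¹) * (u * u) * (c * w) := by
          have h1 : t * c * t⁻¹ ∈ V := (mem_normalizer_iff.mp (h.one.kq_le_normalizer h.z_mem h.z_ne ht) c).mp hcV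
          rw [haw, h.one.ln.comm huV h1]; group
      _ = (t * c * t⁻¹) * c * w := by rw [huu, mul_one]; group
  rw [e1]
  split_ifs with h1
  · rw [sg_eq_one, h.zp h.z_mem] at h1
    rcases h1 with e | e
    · rw [e]; simp
    · rw [e, conj_eq_of_comm htz, h.zz, one_mul]
  · rw [sg_eq_one, h.zp h.z_mem] at h1
    push Not at h1
    rw [h.one.move h.z_mem h.z_ne hcV h1.1 h1.2 ht ht1, mul_assoc z c c, hcc, mul_one]

/-- `K_z ∩ C_G(V) = B_z {g_a | a ∈ W_y}` -/
theorem kq_rep [Finite G] (h : Std T V z) (hp : p ∈ V) (hp1 : p ≠ 1) (hpz : p ≠ z) {t k : G} (ht : t ∈ kq V z)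
    (ht1 : t ∉ centralizer (V : Set G)) (hk : k ∈ kq V z) (hkV : k ∈ centralizer (V : Set G)) :
    ∃ a ∈ ws V p, ∃ b ∈ bz V z, k = b * (a * t * a⁻¹ * t⁻¹) := by
  classical
  have hVW := h.one.V_le h.z_mem h.z_ne
  have ab := h.one.comm h.z_mem h.z_ne
  have sq := h.one.sq h.z_mem h.z_ne
  obtain ⟨n, hn, m, hm, hnV, hmV, hnmV, hg⟩ := exists_gn hVW h.one.ln.card_V h.card ab sq
  obtain ⟨a, ha, han, ham⟩ := h.surj h.z_mem h.z_ne hp hp1 hpz hn hm hg
    (if k * n * k⁻¹ = n then 1 else -1) (if k * m * k⁻¹ = m then 1 else -1)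
  refine ⟨a, ha, k * (a * t * a⁻¹ * t⁻¹)⁻¹, ?_, by group⟩
  obtain ⟨hg1, hg2⟩ := h.ga_mem hp hp1 ht ha
  set g := a * t * a⁻¹ * t⁻¹ with hgdef
  have hgz := h.one.kq_p hg1
  have hkz := h.one.kq_p hk
  have key : ∀ w ∈ ws V z, sg z ⁅a, w⁆ = (if k * w * k⁻¹ = w then 1 else -1) → k * g⁻¹ * w = w * (k * g⁻¹) := by
    intro w hw hs
    have h1 := h.ga_conj hp hp1 ht ht1 ha hw
    rw [← hgdef] at h1
    refine comm_of_conj_eq ?_
    have e : k * g⁻¹ * w * (k * g⁻¹)⁻¹ = k * (g⁻¹ * w * g) * k⁻¹ := by group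
    rw [e]
    by_cases hkw : k * w * k⁻¹ = w
    · rw [if_pos hkw] at hs
      rw [if_pos hs] at h1
      have : g⁻¹ * w * g = w := by
        calc g⁻¹ * w * g = g⁻¹ * (g * w * g⁻¹) * g := by rw [h1]
          _ = w := by group
      rw [this, hkw]
    · rw [if_neg hkw] at hs
      rw [if_neg (by rw [hs]; decide)] at h1
      have h2 : g⁻¹ * w * g = z * w := by
        have h3 : g⁻¹ * z = z * g⁻¹ := inv_comm_of hgz
        calc g⁻¹ * w * g = g⁻¹ * (z * (z * w)) * g := by rw [← mul_assoc z z w, h.zz, one_mul]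
          _ = (g⁻¹ * z) * (g * w * g⁻¹) * g := by rw [h1]; group
          _ = z * w := by rw [h3]; group
      have h3 : k * w * k⁻¹ = z * w := (h.one.kq_cases h.z_mem hk hw).resolve_left hkw
      calc k * (g⁻¹ * w * g) * k⁻¹ = (k * z) * w * k⁻¹ := by rw [h2]; group
        _ = z * (k * w * k⁻¹) := by rw [hkz]; group
        _ = w := by rw [h3, ← mul_assoc, h.zz, one_mul]
  have hle : ws V z ≤ centralizer ({k * g⁻¹} : Set G) := by
    refine hg _ (fun v hv => ?_) ?_ ?_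
    · rw [mem_centralizer_singleton_iff]
      exact h.one.V_comm hv (mul_mem hkV (inv_mem hg2))
    · rw [mem_centralizer_singleton_iff]; exact (key n hn han).symm
    · rw [mem_centralizer_singleton_iff]; exact (key m hm ham).symm
  rw [mem_bz]
  intro w hw
  exact (mem_centralizer_singleton_iff.mp (hle hw)).symm

/-- `C_{W_z}(K_z) = ⟨z⟩` -/
theorem cent_ws [Finite G] (h : Std T V z) {w : G} (hw : w ∈ ws V z) (hk : ∀ k ∈ kq V z, k * w = w * k) :
    w ∈ zpowers z := by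
  by_contra hwz
  obtain ⟨g, hwL, hw1, hwz', hL, T', h'⟩ := h.line_of hw hwz
  obtain ⟨t, ht, ht1⟩ := h'.one.exists_mover h'.z_mem h'.z_ne
  rw [kq_cj] at ht
  exact ht1 (h'.one.mem_centralizer_of h'.z_mem h'.z_ne hwL hw1 hwz' (h.one.kq_p ht) (hk t ht))

/-- every `k ∈ K_z` centralises a line on `z` -/
theorem exists_line [Finite G] (h : Std T V z) {k : G} (hk : k ∈ kq V z) :
    ∃ g p : G, p ∈ cj g V ∧ p ≠ 1 ∧ p ≠ z ∧ (∃ T', Std T' (cj g V) z) ∧ k ∈ centralizer (cj g V : Set G) := by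
  have hVW := h.one.V_le h.z_mem h.z_ne
  have ab := h.one.comm h.z_mem h.z_ne
  have sq := h.one.sq h.z_mem h.z_ne
  obtain ⟨n, hn, m, hm, hnV, hmV, hnmV, hg⟩ := exists_gn hVW h.one.ln.card_V h.card ab sq
  have hkz := h.one.kq_p hk
  obtain ⟨w, hw, hwV, hkw⟩ : ∃ w ∈ ws V z, w ∉ V ∧ k * w = w * k := by
    rcases h.one.kq_cases h.z_mem hk hn with e1 | e1
    · exact ⟨n, hn, hnV, comm_of_conj_eq e1⟩
    rcases h.one.kq_cases h.z_mem hk hm with e2 | e2
    · exact ⟨m, hm, hmV, comm_of_conj_eq e2⟩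
    refine ⟨n * m, mul_mem hn hm, hnmV, comm_of_conj_eq ?_⟩
    calc k * (n * m) * k⁻¹ = (k * n * k⁻¹) * (k * m * k⁻¹) := by group
      _ = (z * n) * (z * m) := by rw [e1, e2]
      _ = z * (n * z) * m := by group
      _ = z * (z * n) * m := by rw [ab n hn z (hVW h.z_mem)]
      _ = (z * z) * (n * m) := by group
      _ = n * m := by rw [h.zz, one_mul]
  obtain ⟨g, hwL, hw1, hwz', hL, T', h'⟩ := h.line_of hw (fun e => hwV (zpowers_le_of_mem h.z_mem e))
  exact ⟨g, w, hwL, hw1, hwz', ⟨T', h'⟩,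
    h'.one.mem_centralizer_of h'.z_mem h'.z_ne hwL hw1 hwz' hkz hkw⟩

/-- `[B_z, K_z] ≤ ⟨z⟩` -/
theorem bz_kq [Finite G] (h : Std T V z) {b k : G} (hb : b ∈ bz V z) (hk : k ∈ kq V z) :
    b * k * b⁻¹ * k⁻¹ ∈ zpowers z := by
  obtain ⟨g, p, hp, hp1, hpz, ⟨T', h'⟩, hkL⟩ := h.exists_line hk
  obtain ⟨t, ht, ht1⟩ := h'.one.exists_mover h'.z_mem h'.z_ne
  have hb' : b ∈ bz (cj g V) z := by rw [bz_cj]; exact hb
  have hk' : k ∈ kq (cj g V) z := by rw [kq_cj]; exact hk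
  obtain ⟨a, ha, b', hb'', rfl⟩ := h'.kq_rep hp hp1 hpz ht ht1 hk' hkL
  obtain ⟨w, hw, e, he, rfl⟩ := h'.bz_eq hb'
  obtain ⟨hg1, hg2⟩ := h'.ga_mem hp hp1 ht ha
  set x := a * t * a⁻¹ * t⁻¹ with hx
  -- `e` commutes with `x`
  have hex : e * x = x * e := by
    have h1 : e * a = a * e := mem_bz.mp (he p hp hp1) a ha
    have htp : t * p * t⁻¹ ∈ cj g V :=
      (mem_normalizer_iff.mp (h'.one.kq_le_normalizer h'.z_mem h'.z_ne ht) p).mp hp
    have h2 : e * (t * a⁻¹ * t⁻¹) = t * a⁻¹ * t⁻¹ * e :=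
      mem_bz.mp (he _ htp (fun e => hp1 (conj_eq_one_iff.mp e))) _ (conj_mem_ws t (inv_mem ha))
    have e1 : x = a * (t * a⁻¹ * t⁻¹) := by rw [hx]; group
    rw [e1]
    exact comm_mul_of h1 h2
  have hbb : w * e * b' = b' * (w * e) := h'.bz_ab hb' hb''
  have hb'z : b' * z = z * b' := mem_bz.mp hb'' z (h'.one.V_le h'.z_mem h'.z_ne h'.z_mem)
  have e1 : w * e * (b' * x) * (w * e)⁻¹ * (b' * x)⁻¹ = b' * (w * x * w⁻¹ * x⁻¹) * b'⁻¹ := by
    calc w * e * (b' * x) * (w * e)⁻¹ * (b' * x)⁻¹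
        = (w * e * b') * x * e⁻¹ * w⁻¹ * x⁻¹ * b'⁻¹ := by group
      _ = b' * w * (e * x) * e⁻¹ * w⁻¹ * x⁻¹ * b'⁻¹ := by rw [hbb]; group
      _ = b' * (w * x * w⁻¹ * x⁻¹) * b'⁻¹ := by rw [hex]; group
  rw [e1]
  have h3 : w * x * w⁻¹ * x⁻¹ ∈ zpowers z := by
    have := inv_mem (kq_comm hg1 hw)
    have e : (x * w * x⁻¹ * w⁻¹)⁻¹ = w * x * w⁻¹ * x⁻¹ := by group
    rwa [e] at this
  rw [conj_zpowers (mem_centralizer_singleton_iff.mpr hb'z) h3]
  exact h3

/-- `C_{B_z}(K_z) ≤ D_l` -/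
theorem uz_le [Finite G] (h : Std T V z) {u : G} (hu : u ∈ bz V z) (hk : ∀ k ∈ kq V z, k * u = u * k) :
    u ∈ dl V := by
  obtain ⟨w, hw, e, he, rfl⟩ := h.bz_eq hu
  obtain ⟨y, hy, hy1, hyz⟩ := h.one.ln.exists_y
  obtain ⟨t, ht, ht1⟩ := h.one.exists_mover h.z_mem h.z_ne
  refine mul_mem (h.V_le_dl ?_) he
  refine h.left h.z_mem h.z_ne hy hy1 hyz hw fun a ha => ?_
  have haV := h.one.ws_le_centralizer_V hy hy1 ha
  have haz := h.one.cent_le_centralizer h.z_mem haV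
  have hv : ⁅w, a⁆ ∈ V := h.comm_mem h.z_mem h.z_ne hy hy1 hw ha
  rw [← h.one.comm_swap h.z_mem h.z_ne hy hy1 hw ha] at *
  set v := ⁅a, w⁆ with hvdef
  have hvV : v ∈ V := h.comm_mem hy hy1 h.z_mem h.z_ne ha hw
  have hwa : w * a * w⁻¹ = v * a := by
    rw [hvdef, h.one.comm_swap h.z_mem h.z_ne hy hy1 hw ha, commutatorElement_def]; group
  have hea : e * a = a * e := mem_bz.mp (he y hy hy1) a ha
  have hua : w * e * a * (w * e)⁻¹ = v * a := by
    calc w * e * a * (w * e)⁻¹ = w * (e * a) * e⁻¹ * w⁻¹ := by group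
      _ = w * a * w⁻¹ := by rw [hea]; group
      _ = v * a := hwa
  have ht' : a * t * a⁻¹ ∈ kq V z := conj_mem_of_normalizer (centralizer_le_normalizer_kq V z) haz ht
  have h1 := hk _ ht'
  have h2 := hk _ ht
  set u := w * e with hudef
  have h3 : u * (a * t * a⁻¹) * u⁻¹ = a * t * a⁻¹ := conj_eq_of_comm h1.symm
  have h4 : u * (a * t * a⁻¹) * u⁻¹ = v * (a * t * a⁻¹) * v⁻¹ := by
    have h5 : u * t * u⁻¹ = t := conj_eq_of_comm h2.symm
    calc u * (a * t * a⁻¹) * u⁻¹ = (u * a * u⁻¹) * (u * t * u⁻¹) * (u * a * u⁻¹)⁻¹ := by group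
      _ = v * (a * t * a⁻¹) * v⁻¹ := by rw [hua, h5]; group
  have h5 : v * (a * t * a⁻¹) = a * t * a⁻¹ * v := comm_of_conj_eq (h4.symm.trans h3)
  by_contra hvz
  rw [h.zp h.z_mem] at hvz
  push Not at hvz
  have ht1' : a * t * a⁻¹ ∉ centralizer (V : Set G) := by
    intro hc
    apply ht1
    have := mul_mem (mul_mem (inv_mem haV) hc) haV
    have e : a⁻¹ * (a * t * a⁻¹) * a = t := by group
    rwa [e] at this
  have h6 := h.one.move h.z_mem h.z_ne hvV hvz.1 hvz.2 ht' ht1'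
  rw [conj_eq_of_comm h5.symm] at h6
  exact h.z_ne (by simpa using h6.symm)

end Std

end Cfsg.Agent.Omega.NO3S.TwoOne
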