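import Cfsg.Agent.Omega.NO3S.TwoOne.LThreeB
import Cfsg.Agent.Omega.CaseL.Main

/-!
# NO-3S, `q = 2`, `n = 1`: `|W_z| = 16` (helper225's text #15275 (A)), third part

* `Std.dl_eq`, `Std.bz_eq_ws` : `D_l = V`, `B_z = W_z`; `Std.card_kq` : `|K_z| = 2^7`;
* `Std.large`, `Std.o2_eq` : `K_z = O₂(C_G(z))` is extraspecial with centre `⟨z⟩`;
* `Std.extra` : `Omega.Exits.Extra z 3`.
-/

set_option autoImplicit false
set_option linter.unusedSectionVars false

namespace Cfsg.Agent.Omega.NO3S.TwoOne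

open Subgroup Cfsg Cfsg.Agent.ZN Cfsg.Agent.MinSimple.Geo Cfsg.Agent.Omega.CaseL
open Cfsg.Agent.ZN.Block (conj_mem_of_normalizer conj_mem_of_normalizer' le_normalizer_of_forall
  mem_normalizer_of)
open scoped commutatorElement

universe u

variable {G : Type u} [Group G]

namespace Std

variable {T V : Subgroup G} {z p q r : G}

/-- `U_z = C_{B_z}(K_z)` -/
abbrev uz (V : Subgroup G) (z : G) : Subgroup G := bz V z ⊓ centralizer (kq V z : Set G)

theorem mem_ck {V : Subgroup G} {z g : G} : g ∈ centralizer (kq V z : Set G) ↔ ∀ k ∈ kq V z, k * g = g * k :=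
  mem_centralizer_iff

/-- `U_z ∩ U_y = 1` -/
theorem uz_inf [Finite G] (h : Std T V z) (hq : q ∈ V) (hq1 : q ≠ 1) (hqz : q ≠ z) : uz V z ⊓ uz V q = ⊥ := by
  rw [eq_bot_iff]
  rintro u ⟨⟨hu, huz⟩, ⟨-, huq⟩⟩
  replace huz := mem_ck.mp huz
  replace huq := mem_ck.mp huq
  let F : Subgroup G :=
    { carrier := {f | f ∈ dl V ∧ ∀ p ∈ V, p ≠ 1 → ∀ k ∈ kq V p, k * f = f * k}
      mul_mem' := by
        rintro a b ⟨ha, ha1⟩ ⟨hb, hb1⟩
        exact ⟨mul_mem ha hb, fun p hp hp1 k hk => comm_mul_of (ha1 p hp hp1 k hk) (hb1 p hp hp1 k hk)⟩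
      one_mem' := ⟨one_mem _, fun p hp hp1 k hk => by simp⟩
      inv_mem' := by
        rintro a ⟨ha, ha1⟩
        exact ⟨inv_mem ha, fun p hp hp1 k hk => comm_inv_of (ha1 p hp hp1 k hk)⟩ }
  have hDn : F ≤ normalizer (V : Set G) := fun d hd =>
    centralizer_le_normalizer _ (h.bz_le_centralizer (h.dl_le_bz hd.1))
  have hN : normalizer (V : Set G) ≤ normalizer (F : Set G) := by
    refine le_normalizer_of_forall fun g hg d hd => ?_
    refine ⟨conj_mem_dl hg hd.1, fun p hp hp1 k hk => ?_⟩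
    have hk' : g⁻¹ * k * g ∈ kq V (g⁻¹ * p * g) := by
      have := conj_mem_kq g⁻¹ hk
      rwa [inv_inv] at this
    have := hd.2 _ ((mem_normalizer_iff''.mp hg p).mp hp) (conj_ne_one hp1) _ hk'
    calc k * (g * d * g⁻¹) = g * ((g⁻¹ * k * g) * d) * g⁻¹ := by group
      _ = g * (d * (g⁻¹ * k * g)) * g⁻¹ := by rw [this]
      _ = g * d * g⁻¹ * k := by group
  have hF : F = ⊥ := by
    by_contra hne
    have hz := h.one.ln.z_mem_of_normal hDn hN hne
    obtain ⟨k, hk, hk1⟩ := h.one.exists_mover hq hq1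
    have e1 := h.one.move hq hq1 h.z_mem h.z_ne (Ne.symm hqz) hk hk1
    rw [conj_eq_of_comm (hz.2 q hq hq1 k hk)] at e1
    exact hq1 (by simpa using e1.symm)
  have : u ∈ F := by
    refine ⟨h.uz_le hu huz, fun p hp hp1 k hk => ?_⟩
    rcases h.one.third h.z_mem h.z_ne hq hq1 hqz hp hp1 with e | e | e
    · rw [e] at hk; exact huz k hk
    · rw [e] at hk; exact huq k hk
    · obtain ⟨t, ht, -, ht2⟩ := h.one.exists_move h.z_mem h.z_ne hq hq1 hqz
      have h1 : t⁻¹ * k * t ∈ kq V q := by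
        have h2 := conj_mem_kq t⁻¹ hk
        have e3 : t⁻¹ * p * t⁻¹⁻¹ = q := by rw [e, ← ht2]; group
        rwa [e3, inv_inv] at h2
      have h2 := huz t ht
      have h3 := huq _ h1
      have h4 := mul_comm_of (mul_comm_of h2 h3) (inv_comm_of h2)
      have e4 : t * (t⁻¹ * k * t) * t⁻¹ = k := by group
      rwa [e4] at h4
  rw [hF] at this
  exact this

/-- the two pairings -/
theorem card_aux [Finite G] (h : Std T V z) :
    2 * Nat.card (kq V z) = 16 * Nat.card (bz V z) ∧ Nat.card (bz V z) = 4 * Nat.card (dl V) ∧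
      Nat.card (dl V) = 2 * Nat.card (uz V z) := by
  have hVW := h.one.V_le h.z_mem h.z_ne
  have hab : ∀ a ∈ bz V z, ∀ b ∈ kq V z, a * b = b * a ∨ a * b = z * (b * a) := by
    intro a ha b hb
    rcases (h.zp h.z_mem).mp (h.bz_kq ha hb) with e | e
    · left
      calc a * b = (a * b * a⁻¹ * b⁻¹) * (b * a) := by group
        _ = b * a := by rw [e, one_mul]
    · right
      calc a * b = (a * b * a⁻¹ * b⁻¹) * (b * a) := by group
        _ = z * (b * a) := by rw [e]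
  have hzK : ∀ b ∈ kq V z, z * b = b * z := fun b hb => (h.one.kq_p hb).symm
  have hzB : ∀ b ∈ bz V z, z * b = b * z := fun b hb => hzK b (h.bz_le_kq hb)
  have h1 := MinSimple.BTwoD.pairing (A := ws V z) (B := kq V z) h.zz h.z_ne
    (fun a ha => hzB a (h.ws_le_bz ha)) hzK (fun a ha b hb => hab a (h.ws_le_bz ha) b hb)
  have h2 := MinSimple.BTwoD.pairing (A := bz V z) (B := kq V z) h.zz h.z_ne hzB hzK hab
  have e1 : ws V z ⊓ centralizer (kq V z : Set G) = zpowers z := by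
    apply le_antisymm
    · rintro w ⟨hw, hwk⟩
      exact h.cent_ws hw (mem_ck.mp hwk)
    · rw [zpowers_le]
      exact ⟨hVW h.z_mem, mem_ck.mpr fun k hk => h.one.kq_p hk⟩
  have e2 : kq V z ⊓ centralizer (ws V z : Set G) = bz V z := inf_eq_right.mpr h.bz_le_kq
  have e3 : kq V z ⊓ centralizer (bz V z : Set G) = bz V z := by
    apply le_antisymm
    · rintro k ⟨-, hk⟩
      exact centralizer_le h.ws_le_bz hk
    · intro b hb
      exact ⟨h.bz_le_kq hb, mem_centralizer_iff.mpr fun c hc => h.bz_ab hc hb⟩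
  have e4 : Nat.card (zpowers z) = 2 := by
    rw [Nat.card_zpowers]
    exact orderOf_eq_prime (by rw [pow_two]; exact h.zz) h.z_ne
  rw [e1, e2, e4, h.card] at h1
  rw [e3] at h2
  have e5 : ws V z ⊔ dl V = bz V z := by
    refine le_antisymm (sup_le h.ws_le_bz h.dl_le_bz) fun b hb => ?_
    obtain ⟨w, hw, e, he, rfl⟩ := h.bz_eq hb
    exact mul_mem (mem_sup_left hw) (mem_sup_right he)
  have e6 : ws V z ⊓ dl V = V := by
    apply le_antisymm
    · rintro w ⟨hw, hwd⟩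
      obtain ⟨y, hy, hy1, hyz⟩ := h.one.ln.exists_y
      exact h.le z h.z_mem h.z_ne (h.one.dd_le_ee z
        (h.one.mem_dd h.z_mem h.z_ne hy hy1 hyz hw (mem_bz.mp (hwd y hy hy1))))
    · exact le_inf hVW h.V_le_dl
  have h3 := Block.card_sup_mul_card_inf (H := ws V z) (N := dl V)
    (((h.one.ws_le_centralizer_V h.z_mem h.z_ne).trans (centralizer_le_normalizer _)).trans
      (normalizer_le_normalizer_dl V))
  rw [e5, e6, h.card, h.one.ln.card_V] at h3
  have hB : 0 < Nat.card (bz V z) := Nat.card_pos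
  have h4 : Nat.card (bz V z) = 4 * Nat.card (dl V) := by omega
  refine ⟨h1, h4, ?_⟩
  have h5 : Nat.card (kq V z) = 8 * Nat.card (bz V z) := by omega
  rw [h5] at h2
  have h6 : Nat.card (bz V z) * (8 * Nat.card (uz V z)) = Nat.card (bz V z) * Nat.card (bz V z) := by
    rw [← h2]; ring
  have h7 := Nat.eq_of_mul_eq_mul_left hB h6
  omega

/-- `D_l = V` -/
theorem dl_eq [Finite G] (h : Std T V z) : dl V = V := by
  obtain ⟨y, hy, hy1, hyz⟩ := h.one.ln.exists_y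
  obtain ⟨T', h'⟩ := h.point hy hy1
  obtain ⟨-, -, h1⟩ := h.card_aux
  obtain ⟨-, -, h2⟩ := h'.card_aux
  have hu : uz V z ≤ dl V := fun u hu => h.uz_le hu.1 (mem_ck.mp hu.2)
  have hu' : uz V y ≤ dl V := fun u hu => h'.uz_le hu.1 (mem_ck.mp hu.2)
  have h3 := Block.card_sup_mul_card_inf (H := uz V z) (N := uz V y) (by
    refine le_normalizer_of_forall fun g hg v hv => ?_
    have h4 : g * v = v * g := h.bz_ab hg.1 (h.dl_le_bz (hu' hv))
    rw [conj_eq_of_comm h4]; exact hv)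
  rw [h.uz_inf hy hy1 hyz, Subgroup.card_bot, mul_one] at h3
  have h4 := Nat.le_of_dvd Nat.card_pos (card_dvd_of_le (sup_le hu hu'))
  have h5 : Nat.card (uz V z) = Nat.card (uz V y) := by omega
  have h6 : 0 < Nat.card (uz V z) := Nat.card_pos
  have h7 : Nat.card (dl V) ≤ 4 := by
    rw [h3, ← h5, h1] at h4
    have h8 : Nat.card (uz V z) ≤ 2 := Nat.le_of_mul_le_mul_right h4 h6
    omega
  exact (eq_of_le_of_card_ge h.V_le_dl (by rw [h.one.ln.card_V]; exact h7)).symm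

/-- `B_z = W_z` -/
theorem bz_eq_ws [Finite G] (h : Std T V z) : bz V z = ws V z := by
  refine le_antisymm (fun b hb => ?_) h.ws_le_bz
  obtain ⟨w, hw, e, he, rfl⟩ := h.bz_eq hb
  rw [h.dl_eq] at he
  exact mul_mem hw (h.one.V_le h.z_mem h.z_ne he)

/-- `|K_z| = 2^7` -/
theorem card_kq [Finite G] (h : Std T V z) : Nat.card (kq V z) = 2 ^ 7 := by
  obtain ⟨h1, -, -⟩ := h.card_aux
  rw [h.bz_eq_ws, h.card] at h1
  omega

/-! ### `K_z / ⟨z⟩` is elementary abelian -/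

theorem zc (_ : Std T V z) {x k : G} (hx : x ∈ zpowers z) (hk : k ∈ kq V z) : k * x * k⁻¹ = x :=
  conj_zpowers (kq_le_centralizer V z hk) hx

/-- the images of `a ∈ W_y` under a mover -/
theorem ta_mem (h : Std T V z) (hp : p ∈ V) (hp1 : p ≠ 1) (hpz : p ≠ z) {t a : G} (ht : t ∈ kq V z)
    (ht1 : t ∉ centralizer (V : Set G)) (ha : a ∈ ws V p) : t * a * t⁻¹ ∈ ws V (z * p) := by
  have := conj_mem_ws t ha
  rwa [h.one.move h.z_mem h.z_ne hp hp1 hpz ht ht1] at this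

/-- the square of a mover is trivial on `W_y / V` -/
theorem tt_ta (h : Std T V z) (hp : p ∈ V) (hp1 : p ≠ 1) (hpz : p ≠ z) {t a : G} (ht : t ∈ kq V z)
    (ht1 : t ∉ centralizer (V : Set G)) (ha : a ∈ ws V p) :
    ∃ v ∈ V, t * (t * a * t⁻¹) * t⁻¹ = v * a := by
  have hmv := h.one.move h.z_mem h.z_ne hp hp1 hpz ht ht1
  have htz : t * z * t⁻¹ = z := conj_eq_of_comm (h.one.kq_p ht)
  have h1 : t * t * p * (t * t)⁻¹ = p := by
    calc t * t * p * (t * t)⁻¹ = t * (t * p * t⁻¹) * t⁻¹ := by group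
      _ = t * (z * p) * t⁻¹ := by rw [hmv]
      _ = (t * z * t⁻¹) * (t * p * t⁻¹) := by group
      _ = p := by rw [htz, hmv, ← mul_assoc, h.zz, one_mul]
  have htx := kq_le_xl h.z_mem h.z_ne ht
  have h2 := h.le p hp hp1 (h.one.xl_fix hp hp1 (mul_mem htx htx) h1 ha)
  exact ⟨_, h2, by group⟩

/-- `v ∈ V` commuting with a mover is in `⟨z⟩` -/
theorem fix_mem (h : Std T V z) {t v : G} (ht : t ∈ kq V z) (ht1 : t ∉ centralizer (V : Set G)) (hv : v ∈ V)
    (hc : t * v * t⁻¹ = v) : v ∈ zpowers z := by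
  by_contra hvz
  rw [h.zp h.z_mem] at hvz
  push Not at hvz
  rw [h.one.move h.z_mem h.z_ne hv hvz.1 hvz.2 ht ht1] at hc
  exact h.z_ne (by simpa using hc)

/-- `[tat⁻¹, b] = t [a, tbt⁻¹] t⁻¹` modulo nothing: the key identity -/
theorem ta_comm (h : Std T V z) (hp : p ∈ V) (hp1 : p ≠ 1) (hpz : p ≠ z) {t a b : G} (ht : t ∈ kq V z)
    (ht1 : t ∉ centralizer (V : Set G)) (ha : a ∈ ws V p) (hb : b ∈ ws V p) :
    t * ⁅a, t * b * t⁻¹⁆ * t⁻¹ = ⁅t * a * t⁻¹, b⁆ := by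
  obtain ⟨v, hv, e⟩ := h.tt_ta hp hp1 hpz ht ht1 hb
  have hzp : z * p ∈ V := mul_mem h.z_mem hp
  have hzp1 : z * p ≠ 1 := h.one.mul_ne_one hp (Ne.symm hpz)
  rw [conjugate_commutatorElement, e]
  have ha' := h.ta_mem hp hp1 hpz ht ht1 ha
  rw [h.one.comm_mul_right hzp hzp1 hp hp1 ha' (h.one.V_le hp hp1 hv) hb]
  have h1 : ⁅t * a * t⁻¹, v⁆ = 1 := commutatorElement_eq_one_iff_mul_comm.mpr
    (h.one.V_comm hv (h.one.ws_le_centralizer_V hzp hzp1 ha')).symm
  rw [h1, one_mul]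

theorem ga_sq (h : Std T V z) (hp : p ∈ V) (hp1 : p ≠ 1) (hpz : p ≠ z) {t a : G} (ht : t ∈ kq V z)
    (ht1 : t ∉ centralizer (V : Set G)) (ha : a ∈ ws V p) :
    a * t * a⁻¹ * t⁻¹ * (a * t * a⁻¹ * t⁻¹) ∈ zpowers z := by
  have hzp : z * p ∈ V := mul_mem h.z_mem hp
  have hzp1 : z * p ≠ 1 := h.one.mul_ne_one hp (Ne.symm hpz)
  have ha' := h.ta_mem hp hp1 hpz ht ht1 ha
  have haa := h.one.sq hp hp1 a ha
  have haa' := h.one.sq hzp hzp1 _ ha'
  have e1 : a * t * a⁻¹ * t⁻¹ * (a * t * a⁻¹ * t⁻¹) = ⁅a, t * a * t⁻¹⁆ := by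
    have e2 : a * t * a⁻¹ * t⁻¹ = a * (t * a * t⁻¹)⁻¹ := by group
    rw [e2, commutatorElement_def, inv_eq_self haa', inv_eq_self haa]
    group
  rw [e1]
  refine h.fix_mem ht ht1 (h.comm_mem hp hp1 hzp hzp1 ha ha') ?_
  rw [h.ta_comm hp hp1 hpz ht ht1 ha ha, h.one.comm_swap hp hp1 hzp hzp1 ha ha']

theorem ga_comm (h : Std T V z) (hp : p ∈ V) (hp1 : p ≠ 1) (hpz : p ≠ z) {t a b : G} (ht : t ∈ kq V z)
    (ht1 : t ∉ centralizer (V : Set G)) (ha : a ∈ ws V p) (hb : b ∈ ws V p) :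
    ⁅a * t * a⁻¹ * t⁻¹, b * t * b⁻¹ * t⁻¹⁆ ∈ zpowers z := by
  have hzp : z * p ∈ V := mul_mem h.z_mem hp
  have hzp1 : z * p ≠ 1 := h.one.mul_ne_one hp (Ne.symm hpz)
  have ha' := h.ta_mem hp hp1 hpz ht ht1 ha
  have hb' := h.ta_mem hp hp1 hpz ht ht1 hb
  have haa' := inv_eq_self (h.one.sq hzp hzp1 _ ha')
  have hbb' := inv_eq_self (h.one.sq hzp hzp1 _ hb')
  have ea : a * t * a⁻¹ * t⁻¹ = a * (t * a * t⁻¹) := by
    have : a * t * a⁻¹ * t⁻¹ = a * (t * a * t⁻¹)⁻¹ := by group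
    rw [this, haa']
  have eb : b * t * b⁻¹ * t⁻¹ = b * (t * b * t⁻¹) := by
    have : b * t * b⁻¹ * t⁻¹ = b * (t * b * t⁻¹)⁻¹ := by group
    rw [this, hbb']
  rw [ea, eb]
  have key := h.ta_comm hp hp1 hpz ht ht1 ha hb
  set a' := t * a * t⁻¹ with ha'd
  set b' := t * b * t⁻¹ with hb'd
  have hv : ⁅a, b'⁆ ∈ V := h.comm_mem hp hp1 hzp hzp1 ha hb'
  have hv' : ⁅a', b⁆ ∈ V := h.comm_mem hzp hzp1 hp hp1 ha' hb
  have hab := h.one.comm hp hp1 a ha b hb
  have hab' := h.one.comm hzp hzp1 a' ha' b' hb'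
  have haV := h.one.ws_le_centralizer_V hp hp1 ha
  have hbV := h.one.ws_le_centralizer_V hp hp1 hb
  set v := ⁅a, b'⁆ with hvd
  set v' := ⁅a', b⁆ with hvd'
  have e1 : a * b' = v * b' * a := by rw [hvd, commutatorElement_def]; group
  have e2 : a' * b = v' * b * a' := by rw [hvd', commutatorElement_def]; group
  have c1 := h.one.V_comm hv' haV
  have c2 := h.one.V_comm hv hbV
  have e3 : a * a' * (b * b') = (v' * v) * (b * b' * (a * a')) := by
    calc a * a' * (b * b') = a * (a' * b) * b' := by group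
      _ = (a * v') * b * a' * b' := by rw [e2]; group
      _ = v' * (a * b) * (a' * b') := by rw [← c1]; group
      _ = v' * b * (a * b') * a' := by rw [hab, hab']; group
      _ = v' * (b * v) * b' * a * a' := by rw [e1]; group
      _ = (v' * v) * (b * b' * (a * a')) := by rw [← c2]; group
  have e4 : ⁅a * a', b * b'⁆ = v' * v := by
    rw [commutatorElement_def, e3]; group
  rw [e4, ← key]
  by_cases hvz : v ∈ zpowers z
  · rw [zc h hvz ht]; exact mul_mem hvz hvz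
  · have hvz' := hvz
    rw [h.zp h.z_mem] at hvz'
    push Not at hvz'
    rw [h.one.move h.z_mem h.z_ne hv hvz'.1 hvz'.2 ht ht1, mul_assoc, h.one.ln.sq v hv, mul_one]
    exact mem_zpowers z

theorem comm_mul_zp (h : Std T V z) {k k' g : G} (hk : k ∈ kq V z) (h1 : ⁅k, g⁆ ∈ zpowers z)
    (h2 : ⁅k', g⁆ ∈ zpowers z) : ⁅k * k', g⁆ ∈ zpowers z := by
  have e : ⁅k * k', g⁆ = (k * ⁅k', g⁆ * k⁻¹) * ⁅k, g⁆ := by simp only [commutatorElement_def]; group
  rw [e, h.zc h2 hk]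
  exact mul_mem h2 h1

theorem comm_symm_zp {z k k' : G} (h1 : ⁅k, k'⁆ ∈ zpowers z) : ⁅k', k⁆ ∈ zpowers z := by
  rw [← commutatorElement_inv]; exact inv_mem h1

theorem ws_comm_zp (_ : Std T V z) {w k : G} (hw : w ∈ ws V z) (hk : k ∈ kq V z) : ⁅w, k⁆ ∈ zpowers z := by
  refine comm_symm_zp ?_
  exact kq_comm hk hw

/-- `k, k' ∈ K_z ∩ C_G(V)` -/
theorem kq_cV [Finite G] (h : Std T V z) {k k' : G} (hk : k ∈ kq V z) (hkV : k ∈ centralizer (V : Set G))
    (hk' : k' ∈ kq V z) (hkV' : k' ∈ centralizer (V : Set G)) :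
    ⁅k, k'⁆ ∈ zpowers z ∧ k * k ∈ zpowers z := by
  obtain ⟨y, hy, hy1, hyz⟩ := h.one.ln.exists_y
  obtain ⟨t, ht, ht1⟩ := h.one.exists_mover h.z_mem h.z_ne
  obtain ⟨a, ha, b, hb, rfl⟩ := h.kq_rep hy hy1 hyz ht ht1 hk hkV
  obtain ⟨a', ha', b', hb', rfl⟩ := h.kq_rep hy hy1 hyz ht ht1 hk' hkV'
  rw [h.bz_eq_ws] at hb hb'
  have h1 := h.ga_comm hy hy1 hyz ht ht1 ha ha'
  have h2 := h.ga_sq hy hy1 hyz ht ht1 ha
  have hg := (h.ga_mem hy hy1 ht ha).1
  have hg' := (h.ga_mem hy hy1 ht ha').1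
  set g := a * t * a⁻¹ * t⁻¹ with hgd
  set g' := a' * t * a'⁻¹ * t⁻¹ with hgd'
  refine ⟨h.comm_mul_zp (h.ws_le_kq hb) (h.ws_comm_zp hb hk') ?_, ?_⟩
  · exact comm_symm_zp (h.comm_mul_zp (h.ws_le_kq hb') (h.ws_comm_zp hb' hg) (comm_symm_zp h1))
  · have e : b * g * (b * g) = b * (g * b * g⁻¹ * b⁻¹) * b⁻¹ * (b * b) * (g * g) := by group
    rw [e, h.one.sqz b hb, mul_one, h.zc (kq_comm hg hb) (h.ws_le_kq hb)]
    exact mul_mem (kq_comm hg hb) h2

/-- `k, k' ∈ K_z` centralise a common line -/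
theorem exists_line₂ [Finite G] (h : Std T V z) {k k' : G} (hk : k ∈ kq V z) (hk' : k' ∈ kq V z) :
    ∃ g : G, (∃ T', Std T' (cj g V) z) ∧ k ∈ centralizer (cj g V : Set G) ∧
      k' ∈ centralizer (cj g V : Set G) := by
  have hVW := h.one.V_le h.z_mem h.z_ne
  have key : ∀ k ∈ kq V z, (centralizer ({k} : Set G)).relIndex (ws V z) ≤ 2 := by
    intro k hk
    refine relIndex_le_two fun a ha b hb ha' hb' => ?_
    rw [mem_centralizer_singleton_iff] at ha' hb' ⊢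
    have h1 := (h.one.kq_cases h.z_mem hk ha).resolve_left (fun e => ha' (comm_of_conj_eq e).symm)
    have h2 := (h.one.kq_cases h.z_mem hk hb).resolve_left (fun e => hb' (comm_of_conj_eq e).symm)
    symm
    refine comm_of_conj_eq ?_
    have haz := h.one.comm h.z_mem h.z_ne a ha z (hVW h.z_mem)
    calc k * (a * b) * k⁻¹ = (k * a * k⁻¹) * (k * b * k⁻¹) := by group
      _ = z * (a * z) * b := by rw [h1, h2]; group
      _ = (z * z) * (a * b) := by rw [haz]; group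
      _ = a * b := by rw [h.zz, one_mul]
  set C := centralizer ({k} : Set G) ⊓ centralizer ({k'} : Set G) with hC
  have h1 : C.relIndex (ws V z) ≤ 4 := by
    refine (relIndex_inf_le (H := centralizer ({k} : Set G)) (K := centralizer ({k'} : Set G))).trans ?_
    exact Nat.mul_le_mul (key k hk) (key k' hk')
  obtain ⟨w, hw, hwC, hwz⟩ : ∃ w ∈ ws V z, w ∈ C ∧ w ∉ zpowers z := by
    by_contra hcon
    push Not at hcon
    have h2 : C ⊓ ws V z ≤ zpowers z := fun w hw => hcon w hw.2 hw.1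
    have h3 := relIndex_mul_card (inf_le_right : C ⊓ ws V z ≤ ws V z)
    rw [inf_relIndex_right, h.card] at h3
    have h4 := Nat.le_of_dvd Nat.card_pos (card_dvd_of_le h2)
    have e4 : Nat.card (zpowers z) = 2 := by
      rw [Nat.card_zpowers]
      exact orderOf_eq_prime (by rw [pow_two]; exact h.zz) h.z_ne
    rw [e4] at h4
    have := Nat.mul_le_mul h1 h4
    omega
  obtain ⟨g, hwL, hw1, hwz', hL, T', h'⟩ := h.line_of hw hwz
  refine ⟨g, ⟨T', h'⟩, ?_, ?_⟩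
  · exact h'.one.mem_centralizer_of h'.z_mem h'.z_ne hwL hw1 hwz' (h.one.kq_p hk)
      (mem_centralizer_singleton_iff.mp hwC.1).symm
  · exact h'.one.mem_centralizer_of h'.z_mem h'.z_ne hwL hw1 hwz' (h.one.kq_p hk')
      (mem_centralizer_singleton_iff.mp hwC.2).symm

theorem kq_comm_sq [Finite G] (h : Std T V z) {k k' : G} (hk : k ∈ kq V z) (hk' : k' ∈ kq V z) :
    ⁅k, k'⁆ ∈ zpowers z ∧ k * k ∈ zpowers z := by
  obtain ⟨g, ⟨T', h'⟩, h1, h2⟩ := h.exists_line₂ hk hk'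
  exact h'.kq_cV (by rw [kq_cj]; exact hk) h1 (by rw [kq_cj]; exact hk') h2

theorem large [Finite G] (h : Std T V z) : Cfsg.Agent.Co2Type.Quad.Large (kq V z) z where
  z_mem := h.ws_le_kq (h.one.V_le h.z_mem h.z_ne h.z_mem)
  z_ne := h.z_ne
  z_sq := h.zz
  comm_z := fun _ hx => h.one.kq_p hx
  conj_mem := fun g hg x hx => conj_mem_of_normalizer (centralizer_le_normalizer_kq V z)
    (mem_centralizer_singleton_iff.mpr hg) hx
  sq := fun x hx => (h.zp h.z_mem).mp (h.kq_comm_sq hx hx).2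
  comm := by
    intro x hx y hy
    have hzz := h.one.kq_p (mul_mem hy hx)
    rcases (h.zp h.z_mem).mp (h.kq_comm_sq hx hy).1 with e | e
    · exact Or.inl (commutatorElement_eq_one_iff_mul_comm.mp e)
    · right
      calc x * y = ⁅x, y⁆ * (y * x) := by rw [commutatorElement_def]; group
        _ = y * x * z := by rw [e, hzz]
  cent := by
    intro x _ hc
    have h1 : x ∈ bz V z := mem_bz.mpr fun w hw => hc w (h.ws_le_kq hw)
    rw [h.bz_eq_ws] at h1
    exact (h.zp h.z_mem).mp (h.cent_ws h1 fun k hk => (hc k hk).symm)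
  self := by
    intro g _ hc
    have h1 : g ∈ bz V z := mem_bz.mpr fun w hw => hc w (h.ws_le_kq hw)
    exact h.bz_le_kq h1

/-- `O₂(C_G(z)) = K_z` -/
theorem o2_eq [Finite G] (h : Std T V z) : o2 (centralizer ({z} : Set G)) = kq V z := by
  have hfact : Fact (Nat.Prime 2) := ⟨Nat.prime_two⟩
  apply le_antisymm
  · refine h.one.le_kq (Block.o2_le _) (le_normalizer_o2 _) fun r hr => ?_
    obtain ⟨n, hn⟩ := Block.o2_isPGroup (centralizer ({z} : Set G)) ⟨r, hr⟩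
    refine ⟨n, ?_⟩
    have : r ^ 2 ^ n = 1 := congrArg Subtype.val hn
    rw [this]; exact one_mem _
  · have hp : IsPGroup 2 (kq V z) := IsPGroup.of_card h.card_kq
    exact Block.le_o2 hp (kq_le_centralizer V z) (centralizer_le_normalizer_kq V z)

/-- **`O₂(C_G(z))` is extraspecial of order `2^7`** -/
theorem extra [Finite G] (h : Std T V z) : Exits.Extra z 3 := by
  have L := h.large
  have hcard : Nat.card ↥(o2 (centralizer ({z} : Set G))) = 2 ^ 7 := by rw [h.o2_eq, h.card_kq]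
  rw [← h.o2_eq] at L
  have hE : IsExtraspecial 2 ↥(o2 (centralizer ({z} : Set G))) := by
    refine Cfsg.Agent.J2.ExtQuot.isExtraspecial_two (Block.o2_isPGroup _) L.card_center ?_ ?_
    · intro x
      rw [L.mem_center]
      rcases L.sq x x.2 with e | e
      · left; simpa [pow_two] using e
      · right; simpa [pow_two] using e
    · obtain ⟨y, hy, hy1, hyz⟩ := h.one.ln.exists_y
      obtain ⟨t, ht, ht1⟩ := h.one.exists_mover h.z_mem h.z_ne
      have hyK : y ∈ o2 (centralizer ({z} : Set G)) := by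
        rw [h.o2_eq]; exact h.ws_le_kq (h.one.V_le h.z_mem h.z_ne hy)
      have htK : t ∈ o2 (centralizer ({z} : Set G)) := by rw [h.o2_eq]; exact ht
      refine ⟨⟨t, htK⟩, ⟨y, hyK⟩, fun e => ?_⟩
      have e1 : t * y = y * t := congrArg Subtype.val e
      have e2 := h.one.move h.z_mem h.z_ne hy hy1 hyz ht ht1
      rw [conj_eq_of_comm e1] at e2
      exact h.z_ne (by simpa using e2.symm)
  refine ⟨orderOf_eq_prime (by rw [pow_two]; exact h.zz) h.z_ne,
    Cfsg.Agent.J2.ExtQuot.isExtraspecial_of_equiv (Pair.o2Equiv z) hE, ?_⟩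
  rw [← hcard]
  exact (Nat.card_congr (Pair.o2Equiv z).toEquiv).symm

/-- the exit -/
theorem known [Finite G] [IsSimpleGroup G] (h : Std T V z) (hna : ¬ IsMulCommutative G)
    (h62 : Exits.St1762.{u}) : IsKnownSimple' G := h.extra.known_three h.one.ln.charTwo hna h62

end Std

end Cfsg.Agent.Omega.NO3S.TwoOne
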