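import Cfsg.Agent.Omega.NO3S.TwoOne.Faith

/-!
# NO-3S, `q = 2`, `n = 1`: the stronger LEMMA I' (helper225 #14456)

* `One.lemma_i'` : every `H_λ`-submodule `X` of `M` with `λ ∉ X` has `X ∩ Ī = 0`;
* `One.fix_V` : `λ` is the only vector of `Ī` fixed by `H_λ`.
-/

set_option autoImplicit false
set_option linter.unusedSectionVars false

namespace Cfsg.Agent.Omega.NO3S.TwoOne

open Subgroup Cfsg Cfsg.Agent.ZN Cfsg.Agent.MinSimple.Geo Cfsg.Agent.Omega.CaseL
open Cfsg.Agent.ZN.Block (conj_mem_of_normalizer conj_mem_of_normalizer' le_normalizer_of_forall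
  mem_normalizer_of)

universe u

variable {G : Type u} [Group G]

namespace One

variable {T V : Subgroup G} {z : G}

/-- **LEMMA I'**: a subgroup `X ∋ z` normalised by `N_G(V) ∩ C_G(z)` with `X ∩ V = ⟨z⟩` meets `I` in `⟨z⟩`. -/
theorem lemma_i' [Finite G] (h : One T V z) {X : Subgroup G} (hzX : z ∈ X)
    (hn : normalizer (V : Set G) ⊓ centralizer ({z} : Set G) ≤ normalizer (X : Set G))
    (hV : ∀ v ∈ V, v ∈ X → v = 1 ∨ v = z) {u : G} (hu : u ∈ X) (hui : u ∈ ii V) : u = 1 ∨ u = z := by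
  by_contra hcon
  push Not at hcon
  have hz := h.ln.z_mem
  have hz1 := h.ln.z_ne
  have huV : u ∉ V := fun e => by
    rcases hV u e hu with e' | e'
    · exact hcon.1 e'
    · exact hcon.2 e'
  have huzV : z * u ∉ V := fun e => huV (by
    have := mul_mem hz e
    rwa [← mul_assoc, h.ln.zz, one_mul] at this)
  have huzi : z * u ∈ ii V := mul_mem (h.V_le_ii hz) hui
  obtain ⟨y, hy, hy1, hyz⟩ := h.ln.exists_y
  obtain ⟨g, hgn, hgu, hgz⟩ := h.ftwo hui huV hz hz1 hy hy1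
  obtain ⟨k, hkn, hku, hkz⟩ := h.ftwo huzi huzV hz hz1 hy hy1
  -- `u` and `z u` are in `X^g = X^k`
  have hgk : g⁻¹ * k ∈ normalizer (V : Set G) ⊓ centralizer ({z} : Set G) := by
    refine Subgroup.mem_inf.mpr ⟨mul_mem (inv_mem hgn) hkn, ?_⟩
    rw [mem_centralizer_singleton_iff]
    refine comm_of_conj_eq ?_
    calc g⁻¹ * k * z * (g⁻¹ * k)⁻¹ = g⁻¹ * (k * z * k⁻¹) * g := by group
      _ = g⁻¹ * (g * z * g⁻¹) * g := by rw [hkz, hgz]
      _ = z := by group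
  have h1 : g⁻¹ * u * g ∈ X := by
    have e : g⁻¹ * u * g = u := by
      calc g⁻¹ * u * g = g⁻¹ * (u * g) := by group
        _ = g⁻¹ * (g * u) := by rw [hgu]
        _ = u := by group
    rw [e]; exact hu
  have h2 : g⁻¹ * (z * u) * g ∈ X := by
    have e : g⁻¹ * (z * u) * g = (g⁻¹ * k) * (z * u) * (g⁻¹ * k)⁻¹ := by
      have : k * (z * u) * k⁻¹ = z * u := conj_eq_of_comm hku
      calc g⁻¹ * (z * u) * g = g⁻¹ * (k * (z * u) * k⁻¹) * g := by rw [this]
        _ = (g⁻¹ * k) * (z * u) * (g⁻¹ * k)⁻¹ := by group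
    rw [e]
    exact conj_mem_of_normalizer hn hgk (mul_mem hzX hu)
  have h3 : g⁻¹ * z * g ∈ X := by
    have e : g⁻¹ * z * g = g⁻¹ * (z * u) * g * (g⁻¹ * u * g)⁻¹ := by group
    rw [e]
    exact mul_mem h2 (inv_mem h1)
  have h5 : g⁻¹ * z * g ∈ V := (mem_normalizer_iff''.mp hgn z).mp hz
  rcases hV _ h5 h3 with e | e
  · apply hz1
    calc z = g * (g⁻¹ * z * g) * g⁻¹ := by group
      _ = 1 := by rw [e]; group
  · apply hyz
    rw [← hgz]
    calc g * z * g⁻¹ = g * (g⁻¹ * z * g) * g⁻¹ := by rw [e]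
      _ = z := by group

/-- `C_Ī(H_λ) = λ`: the only vectors of `I/z` fixed by `N_G(V) ∩ C_G(z)` are those of `V/z`. -/
theorem fix_V [Finite G] (h : One T V z) {u : G} (hui : u ∈ ii V)
    (hf : ∀ g ∈ normalizer (V : Set G), g ∈ centralizer ({z} : Set G) → g * u * g⁻¹ * u⁻¹ ∈ zpowers z) :
    u ∈ V := by
  by_contra huV
  have hz := h.ln.z_mem
  have hz1 := h.ln.z_ne
  obtain ⟨y, hy, hy1, hyz⟩ := h.ln.exists_y
  obtain ⟨k, hk, hkV, hku⟩ := h.fu hui huV hy hy1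
  have hkn := h.kq_le_normalizer hy hy1 hk
  have hkz : k ∈ centralizer ({z} : Set G) := h.cent_le_centralizer hz hkV
  have h1 := hf k hkn hkz
  have e : k * u * k⁻¹ * u⁻¹ = y := by rw [hku]; group
  rw [e] at h1
  rcases (mem_zpowers_iff_of_mul_self h.ln.zz).mp h1 with e | e
  · exact hy1 e
  · exact hyz e

end One

end Cfsg.Agent.Omega.NO3S.TwoOne
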