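import Cfsg.Agent.Omega.NO3S.TwoOne.TIa
import Cfsg.Agent.Omega.NO3S.TwoOne.PlaneKF

/-!
# NO-3S, `q = 2`, `n = 1`, no `λ`-transvections: the module `M = W_z / ⟨z⟩` at the line vector `v₀ = R.pi y`

`h : One T V z`, `R : MRep V cg z M H`, `y ∈ V`, `y ≠ 1, z`, `v₀ = R.pi y`.

* `a0 R V y` : the image `A` of `W_y` in `H`; `i0 R V` : the image of `ii V` in `M`;
* `al0 R V z y : M → H` : the identification `M / Ē = A` (`One.al0_eq` : `al0 (pi w) = phi b` for `Tw V z w y b`);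
* `One.loc_*` : the facts about `v₀`, `A`, `Ī`, `al0`, `Stab(v₀)`.
-/

set_option autoImplicit false
set_option linter.unusedSectionVars false

namespace Cfsg.Agent.Omega.NO3S.TwoOne

open Subgroup Cfsg Cfsg.Agent.ZN Cfsg.Agent.MinSimple.Geo Cfsg.Agent.Omega.CaseL
open Cfsg.Agent.Omega.NO3S.Fit
open Cfsg.Agent.ZN.Block (conj_mem_of_normalizer conj_mem_of_normalizer' le_normalizer_of_forall
  mem_normalizer_of)
open scoped commutatorElement

universe u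

variable {G : Type u} [Group G]

/-- the image `A` of `W_y` -/
def a0 {M H : Type u} [AddCommGroup M] [Group H] [DistribMulAction H M] {V : Subgroup G} {z : G}
    (R : MRep V cg z M H) (y : G) : Subgroup H := R.img (ws V y)

/-- the image of `ii V` -/
def i0 {M H : Type u} [AddCommGroup M] [Group H] [DistribMulAction H M] {V : Subgroup G} {z : G}
    (R : MRep V cg z M H) : AddSubgroup M := AddSubgroup.closure (R.pi '' (ii V : Set G))

open Classical in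
/-- the identification `M / Ē = A` -/
noncomputable def al0 {M H : Type u} [AddCommGroup M] [Group H] [DistribMulAction H M] {V : Subgroup G} {z : G}
    (R : MRep V cg z M H) (y : G) (m : M) : H :=
  if hm : ∃ b ∈ ws V y, ∃ w ∈ ws V z, R.pi w = m ∧ Tw V z w y b then R.phi hm.choose else 1

namespace One

variable {T V : Subgroup G} {z : G} {M H : Type u} [AddCommGroup M] [Group H] [DistribMulAction H M]
  (h : One T V z) (R : MRep V cg z M H)
include h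

theorem rp_mul [Finite G] {a b : G} (ha : a ∈ ws V z) (hb : b ∈ ws V z) : R.pi (a * b) = R.pi a + R.pi b := by
  have hw := h.ww_cg h.ln.z_mem h.ln.z_ne
  exact R.pi_mul a (by rw [hw]; exact ha) b (by rw [hw]; exact hb)

theorem rp_surj [Finite G] (m : M) : ∃ w ∈ ws V z, R.pi w = m := by
  have hw := h.ww_cg h.ln.z_mem h.ln.z_ne
  obtain ⟨w, hw', e⟩ := R.pi_surj m
  exact ⟨w, by rw [hw] at hw'; exact hw', e⟩

theorem rp_act [Finite G] {c w : G} (hc : c ∈ centralizer ({z} : Set G)) (hw : w ∈ ws V z) :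
    R.phi c • R.pi w = R.pi (c * w * c⁻¹) := by
  have hw' := h.ww_cg h.ln.z_mem h.ln.z_ne
  exact R.act c hc w (by rw [hw']; exact hw)

theorem rp_eq [Finite G] {a b : G} (ha : a ∈ ws V z) (hb : b ∈ ws V z) : R.pi a = R.pi b ↔ a = b ∨ a = z * b := by
  have hw := h.ww_cg h.ln.z_mem h.ln.z_ne
  exact R.pi_eq h.fam (by rw [hw]; exact ha) (by rw [hw]; exact hb)

theorem rp_zero [Finite G] {w : G} (hw : w ∈ ws V z) : R.pi w = 0 ↔ w = 1 ∨ w = z := by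
  have hw' := h.ww_cg h.ln.z_mem h.ln.z_ne
  exact R.pi_ker w (by rw [hw']; exact hw)

theorem rp_phi [Finite G] {c d : G} (hc : c ∈ centralizer ({z} : Set G)) (hd : d ∈ centralizer ({z} : Set G)) :
    R.phi c = R.phi d ↔ c * d⁻¹ ∈ kq V z := by
  rw [R.phi_eq hc hd, h.qq_cg]

include R in
theorem rp_two [Finite G] (m : M) : m + m = 0 := R.two h.fam m

include R in
theorem rp_neg [Finite G] (m : M) : -m = m := neg_eq_of_add_eq_zero_right (h.rp_two R m)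

theorem rp_one [Finite G] : R.pi 1 = 0 := R.pi_one h.fam

theorem rp_inv [Finite G] {w : G} (hw : w ∈ ws V z) : R.pi w⁻¹ = R.pi w := by
  rw [inv_eq_self (h.sqz w hw)]

theorem cent_le_cg (c : G) (hc : c ∈ centralizer (V : Set G)) : c ∈ centralizer ({z} : Set G) :=
  h.cent_le_centralizer h.ln.z_mem hc

/-- `[c, m] = pi [c, w]` -/
theorem rp_comm [Finite G] {c w : G} (hc : c ∈ centralizer ({z} : Set G)) (hw : w ∈ ws V z)
    (hcw : c * w * c⁻¹ ∈ ws V z) : R.phi c • R.pi w + R.pi w = R.pi (c * w * c⁻¹ * w⁻¹) := by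
  rw [h.rp_act R hc hw, h.rp_mul R hcw (inv_mem hw), h.rp_inv R hw]

variable {y : G} (hy : y ∈ V) (hy1 : y ≠ 1) (hyz : y ≠ z)
include hy hy1

theorem ws_le_cz : ws V y ≤ centralizer ({z} : Set G) :=
  (h.ws_le_centralizer_V hy hy1).trans (h.cent_le_centralizer h.ln.z_mem)

theorem mem_a0 {x : H} : x ∈ a0 R y ↔ ∃ b ∈ ws V y, R.phi b = x := R.mem_img (h.ws_le_cz hy hy1)

theorem mem_a0' {b : G} (hb : b ∈ ws V y) : R.phi b ∈ a0 R y := (h.mem_a0 R hy hy1).mpr ⟨b, hb, rfl⟩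

omit hy hy1 in
theorem mem_i0 [Finite G] {m : M} : m ∈ i0 R ↔ ∃ u ∈ ii V, R.pi u = m := by
  have hz := h.ln.z_mem
  have hz1 := h.ln.z_ne
  constructor
  · intro hm
    refine AddSubgroup.closure_induction (p := fun m _ => ∃ u ∈ ii V, R.pi u = m) ?_ ?_ ?_ ?_ hm
    · rintro m ⟨u, hu, rfl⟩
      exact ⟨u, hu, rfl⟩
    · exact ⟨1, one_mem _, h.rp_one R⟩
    · rintro a b - - ⟨u, hu, rfl⟩ ⟨v, hv, rfl⟩
      exact ⟨u * v, mul_mem hu hv, h.rp_mul R (ii_le hz hz1 hu) (ii_le hz hz1 hv)⟩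
    · rintro a - ⟨u, hu, rfl⟩
      exact ⟨u, hu, (h.rp_neg R _).symm⟩
  · rintro ⟨u, hu, rfl⟩
    exact AddSubgroup.subset_closure ⟨u, hu, rfl⟩

include hyz

/-- `al0 (pi w) = phi b` if `w` and `b` are the same element of `N` -/
theorem al0_eq [Finite G] {w b : G} (hw : w ∈ ws V z) (hb : b ∈ ws V y) (ht : Tw V z w y b) :
    al0 R y (R.pi w) = R.phi b := by
  have hz := h.ln.z_mem
  have hz1 := h.ln.z_ne
  have hm : ∃ b ∈ ws V y, ∃ w' ∈ ws V z, R.pi w' = R.pi w ∧ Tw V z w' y b := ⟨b, hb, w, hw, rfl, ht⟩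
  unfold al0
  rw [dif_pos hm]
  obtain ⟨hb', w', hw', e, ht'⟩ := hm.choose_spec
  set b' := hm.choose with hb'd
  have h1 : w * w'⁻¹ ∈ ee V z := by
    rcases (h.rp_eq R hw' hw).mp e with e1 | e1
    · rw [e1, mul_inv_cancel]; exact one_mem _
    · rw [e1, mul_inv_rev, mul_inv_cancel_left]
      exact h.V_le_ee hz hz1 (inv_mem hz)
  have h2 : Tw V z w z w' := (h.tw_self hz hz1 hw).mpr h1
  have h3 : Tw V y b y b' := h.tw_trans (h.tw_symm ht) (h.tw_trans h2 ht')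
  have h4 := (h.tw_self hy hy1 hb).mp h3
  have h5 := h4.2 z hz hz1
  exact ((h.rp_phi R (h.ws_le_cz hy hy1 hb) (h.ws_le_cz hy hy1 hb')).mpr h5).symm

theorem exists_al0 [Finite G] (m : M) : ∃ w ∈ ws V z, ∃ b ∈ ws V y, R.pi w = m ∧ Tw V z w y b ∧ al0 R y m = R.phi b := by
  obtain ⟨w, hw, rfl⟩ := h.rp_surj R m
  obtain ⟨b, hb, ht⟩ := h.tw_exists h.ln.z_mem h.ln.z_ne hy hy1 hw
  exact ⟨w, hw, b, hb, rfl, ht, h.al0_eq R hy hy1 hyz hw hb ht⟩

theorem loc_al_mem [Finite G] (m : M) : al0 R y m ∈ a0 R y := by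
  obtain ⟨w, hw, b, hb, -, -, e⟩ := h.exists_al0 R hy hy1 hyz m
  rw [e]; exact h.mem_a0' R hy hy1 hb

theorem loc_al_add [Finite G] (m m' : M) : al0 R y (m + m') = al0 R y m * al0 R y m' := by
  obtain ⟨w, hw, b, hb, rfl, ht, e⟩ := h.exists_al0 R hy hy1 hyz m
  obtain ⟨w', hw', b', hb', rfl, ht', e'⟩ := h.exists_al0 R hy hy1 hyz m'
  rw [e, e', ← h.rp_mul R hw hw', h.al0_eq R hy hy1 hyz (mul_mem hw hw') (mul_mem hb hb')
    (h.tw_mul h.ln.z_mem h.ln.z_ne hy hy1 hw hw' ht ht'),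
    R.phi_mul b (h.ws_le_cz hy hy1 hb) b' (h.ws_le_cz hy hy1 hb')]

theorem loc_al_surj [Finite G] {a : H} (ha : a ∈ a0 R y) : ∃ m, al0 R y m = a := by
  obtain ⟨b, hb, rfl⟩ := (h.mem_a0 R hy hy1).mp ha
  obtain ⟨w, hw, ht⟩ := h.tw_exists hy hy1 h.ln.z_mem h.ln.z_ne hb
  exact ⟨R.pi w, h.al0_eq R hy hy1 hyz hw hb (h.tw_symm ht)⟩

/-- `al0 (pi w) = 1` iff `w ∈ E_z` -/
theorem al0_one [Finite G] {w : G} (hw : w ∈ ws V z) : al0 R y (R.pi w) = 1 ↔ w ∈ ee V z := by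
  have hz := h.ln.z_mem
  have hz1 := h.ln.z_ne
  obtain ⟨b, hb, ht⟩ := h.tw_exists hz hz1 hy hy1 hw
  rw [h.al0_eq R hy hy1 hyz hw hb ht, h.phi_eq_one R (h.ws_le_cz hy hy1 hb)]
  constructor
  · intro hk
    have h1 : b ∈ ee V y := h.mem_ee hy hy1 hz hz1 (Ne.symm hyz) hb hk
    have h2 : Tw V y b z 1 := (h.tw_one hy hy1 hz hz1 hb).mpr h1
    have h3 := h.tw_trans ht h2
    have := (h.tw_self hz hz1 hw).mp h3
    rwa [inv_one, mul_one] at this
  · intro hE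
    have h1 : Tw V z w y 1 := (h.tw_one hz hz1 hy hy1 hw).mpr hE
    have h2 := h.tw_trans (h.tw_symm ht) h1
    have h3 := (h.tw_self hy hy1 hb).mp h2
    rw [inv_one, mul_one] at h3
    exact h3.2 z hz hz1

/-- the conjugates of elements of `A` under the stabiliser of `v₀` -/
theorem loc_A_conj [Finite G] {x a : H} (hx : x • R.pi y = R.pi y) (ha : a ∈ a0 R y) : x * a * x⁻¹ ∈ a0 R y := by
  obtain ⟨d, hd, rfl⟩ := R.stab h.fam hy hy1 hyz hx
  obtain ⟨b, hb, rfl⟩ := (h.mem_a0 R hy hy1).mp ha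
  have hdc := h.cent_le_cg d hd
  have hbc := h.ws_le_cz hy hy1 hb
  have e : R.phi d * R.phi b * (R.phi d)⁻¹ = R.phi (d * b * d⁻¹) := by
    rw [R.phi_mul _ (mul_mem hdc hbc) _ (inv_mem hdc), R.phi_mul d hdc b hbc, R.phi_inv hdc]
  rw [e]
  exact h.mem_a0' R hy hy1 (conj_mem_of_normalizer (h.cent_norm hy) hd hb)

theorem loc_I_conj [Finite G] {x : H} {u : M} (hx : x • R.pi y = R.pi y) (hu : u ∈ i0 R) : x • u ∈ i0 R := by
  obtain ⟨d, hd, rfl⟩ := R.stab h.fam hy hy1 hyz hx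
  obtain ⟨v, hv, rfl⟩ := (h.mem_i0 R).mp hu
  rw [h.rp_act R (h.cent_le_cg d hd) (ii_le h.ln.z_mem h.ln.z_ne hv)]
  exact (h.mem_i0 R).mpr ⟨_, conj_mem_of_normalizer (normalizer_le_normalizer_ii V)
    (centralizer_le_normalizer _ hd) hv, rfl⟩

theorem loc_al_conj [Finite G] {x : H} (hx : x • R.pi y = R.pi y) (m : M) :
    al0 R y (x • m) = x * al0 R y m * x⁻¹ := by
  obtain ⟨d, hd, rfl⟩ := R.stab h.fam hy hy1 hyz hx
  obtain ⟨w, hw, b, hb, rfl, ht, e⟩ := h.exists_al0 R hy hy1 hyz m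
  have hdc := h.cent_le_cg d hd
  have hbc := h.ws_le_cz hy hy1 hb
  have hdw : d * w * d⁻¹ ∈ ws V z := conj_mem_of_normalizer (h.cent_norm h.ln.z_mem) hd hw
  have hdb : d * b * d⁻¹ ∈ ws V y := conj_mem_of_normalizer (h.cent_norm hy) hd hb
  rw [e, h.rp_act R hdc hw, h.al0_eq R hy hy1 hyz hdw hdb (h.tw_cent h.ln.z_mem hy hd ht),
    R.phi_mul _ (mul_mem hdc hbc) _ (inv_mem hdc), R.phi_mul d hdc b hbc, R.phi_inv hdc]

theorem loc_sq [Finite G] {a : H} (ha : a ∈ a0 R y) : a * a = 1 := by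
  obtain ⟨b, hb, rfl⟩ := (h.mem_a0 R hy hy1).mp ha
  have hbc := h.ws_le_cz hy hy1 hb
  rw [← R.phi_mul b hbc b hbc, h.sq hy hy1 b hb, R.phi_one']

theorem loc_comm_A [Finite G] {a b : H} (ha : a ∈ a0 R y) (hb : b ∈ a0 R y) : a * b = b * a := by
  obtain ⟨c, hc, rfl⟩ := (h.mem_a0 R hy hy1).mp ha
  obtain ⟨d, hd, rfl⟩ := (h.mem_a0 R hy hy1).mp hb
  have hcc := h.ws_le_cz hy hy1 hc
  have hdc := h.ws_le_cz hy hy1 hd
  rw [← R.phi_mul c hcc d hdc, h.comm hy hy1 c hc d hd, R.phi_mul d hdc c hcc]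

/-- `|A| = |W_z : E_z|` -/
theorem loc_card [Finite G] : Nat.card (a0 R y) = (ee V z).relIndex (ws V z) := by
  have hz := h.ln.z_mem
  have hz1 := h.ln.z_ne
  rw [h.relIndex_ee_ws hz hz1 hy hy1]
  -- the map `W_y → A`
  have hle := h.ws_le_cz hy hy1
  let f : ws V y →* H := (R.hom).comp (Subgroup.inclusion hle)
  have hr : f.range = a0 R y := by
    ext x
    rw [h.mem_a0 R hy hy1, MonoidHom.mem_range]
    constructor
    · rintro ⟨b, rfl⟩
      exact ⟨b, b.2, rfl⟩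
    · rintro ⟨b, hb, rfl⟩
      exact ⟨⟨b, hb⟩, rfl⟩
  have hk : f.ker = (ee V y).subgroupOf (ws V y) := by
    ext b
    rw [MonoidHom.mem_ker, mem_subgroupOf]
    change R.phi b = 1 ↔ _
    rw [h.phi_eq_one R (hle b.2)]
    exact ⟨fun e => h.mem_ee hy hy1 hz hz1 (Ne.symm hyz) b.2 e, fun e => e.2 z hz hz1⟩
  rw [← hr, ← Subgroup.index_ker f, hk]
  rfl

omit hyz in
theorem loc_self [Finite G] : R.pi y ∈ i0 R := (h.mem_i0 R).mpr ⟨y, h.V_le_ii hy, rfl⟩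

theorem loc_comm [Finite G] {a : H} (ha : a ∈ a0 R y) (m : M) : a • m + m ∈ i0 R := by
  obtain ⟨b, hb, rfl⟩ := (h.mem_a0 R hy hy1).mp ha
  obtain ⟨w, hw, rfl⟩ := h.rp_surj R m
  have hz := h.ln.z_mem
  have hz1 := h.ln.z_ne
  have h1 := h.comm_ii_mem hy hy1 hz hz1 hb hw
  rw [commutatorElement_def] at h1
  have h2 : b * w * b⁻¹ ∈ ws V z :=
    conj_mem_of_normalizer (h.cent_norm hz) (h.ws_le_centralizer_V hy hy1 hb) hw
  rw [h.rp_comm R (h.ws_le_cz hy hy1 hb) hw h2]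
  exact (h.mem_i0 R).mpr ⟨_, h1, rfl⟩

theorem loc_fix [Finite G] {a : H} {u : M} (ha : a ∈ a0 R y) (hu : u ∈ i0 R) : a • u = u := by
  obtain ⟨b, hb, rfl⟩ := (h.mem_a0 R hy hy1).mp ha
  obtain ⟨v, hv, rfl⟩ := (h.mem_i0 R).mp hu
  rw [h.rp_act R (h.ws_le_cz hy hy1 hb) (ii_le h.ln.z_mem h.ln.z_ne hv),
    conj_eq_of_comm (h.comm hy hy1 b hb v (ii_le hy hy1 hv))]

/-- no plane: `λ` is the only line vector in `Ī` -/
theorem loc_LI [Finite G] (hP : NP V z) {x : H} (hx : x • R.pi y ∈ i0 R) : x • R.pi y = R.pi y := by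
  have hz := h.ln.z_mem
  have hz1 := h.ln.z_ne
  obtain ⟨f, hf, rfl⟩ := R.phi_surj x
  obtain ⟨u, hu, e⟩ := (h.mem_i0 R).mp hx
  have hfz : f * z * f⁻¹ = z := conj_eq_of_comm (mem_centralizer_singleton_iff.mp hf)
  have hyW := h.V_le hz hz1 hy
  have hL : cj f V ∈ lines V z := by
    have := mem_lines_cj (g := f) (L := V) (V := V) (x := z) ⟨⟨1, (cj_one V).symm⟩, hz⟩
    rwa [hfz] at this
  have hfy : f * y * f⁻¹ ∈ ws V z := by
    have := conj_mem_ws f hyW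
    rwa [hfz] at this
  have h1 : f * y * f⁻¹ ∈ ii V := by
    rw [h.rp_act R hf hyW] at e
    rcases (h.rp_eq R (ii_le hz hz1 hu) hfy).mp e with e1 | e1
    · rw [← e1]; exact hu
    · have h2 := mul_mem (inv_mem (h.V_le_ii hz)) hu
      rwa [e1, inv_mul_cancel_left] at h2
  have hfy1 : f * y * f⁻¹ ≠ 1 := fun e => hy1 (conj_eq_one_iff.mp e)
  have hfyz : f * y * f⁻¹ ≠ z := fun e => hyz (by
    calc y = f⁻¹ * (f * y * f⁻¹) * f := by group
      _ = f⁻¹ * (f * z * f⁻¹) * f := by rw [e, hfz]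
      _ = z := by group)
  have h2 := hP _ hL (h.line_le_ii hL (conj_mem_cj hy) hfy1 hfyz h1)
  rw [R.smul_v0_iff h.fam hy hy1 hyz hf, mem_normalizer_iff_cj, h2]

/-- `Ē = {m | [m, A] ≤ λ}` -/
theorem loc_al_ker [Finite G] (hN : NT V) (m : M) :
    al0 R y m = 1 ↔ ∀ a ∈ a0 R y, a • m = m ∨ a • m = m + R.pi y := by
  have hz := h.ln.z_mem
  have hz1 := h.ln.z_ne
  obtain ⟨w, hw, rfl⟩ := h.rp_surj R m
  have hyW := h.V_le hz hz1 hy
  rw [h.al0_one R hy hy1 hyz hw, h.nt_mem_ee hN hz hz1 hy hy1 hyz]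
  constructor
  · rintro ⟨-, hc⟩ a ha
    obtain ⟨b, hb, rfl⟩ := (h.mem_a0 R hy hy1).mp ha
    have h1 := hc b hb
    have h2 : ⁅b, w⁆ ∈ V := by rw [h.comm_swap hz hz1 hy hy1 hw hb]; exact h1
    have hbw : b * w * b⁻¹ = ⁅b, w⁆ * w := by rw [commutatorElement_def]; group
    rw [h.rp_act R (h.ws_le_cz hy hy1 hb) hw, hbw, h.rp_mul R (h.V_le hz hz1 h2) hw]
    by_cases h3 : ⁅b, w⁆ = 1
    · left; rw [h3, h.rp_one R, zero_add]
    · rcases h.third hz hz1 hy hy1 hyz h2 h3 with e | e | e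
      · left; rw [e, (h.rp_zero R (h.V_le hz hz1 hz)).mpr (Or.inr rfl), zero_add]
      · right; rw [e, add_comm]
      · right
        rw [e, h.rp_mul R (h.V_le hz hz1 hz) hyW, (h.rp_zero R (h.V_le hz hz1 hz)).mpr (Or.inr rfl), zero_add,
          add_comm]
  · intro hc
    refine ⟨hw, fun b hb => ?_⟩
    have h1 := hc _ (h.mem_a0' R hy hy1 hb)
    have hbw : b * w * b⁻¹ ∈ ws V z :=
      conj_mem_of_normalizer (h.cent_norm hz) (h.ws_le_centralizer_V hy hy1 hb) hw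
    rw [h.rp_act R (h.ws_le_cz hy hy1 hb) hw] at h1
    have hc' : ⁅b, w⁆ = b * w * b⁻¹ * w⁻¹ := rfl
    rw [← h.comm_swap hz hz1 hy hy1 hw hb, hc']
    rcases h1 with e | e
    · rcases (h.rp_eq R hbw hw).mp e with e1 | e1
      · rw [e1, mul_inv_cancel]; exact one_mem _
      · rw [e1, mul_inv_cancel_right]; exact hz
    · rw [← h.rp_mul R hw hyW] at e
      rcases (h.rp_eq R hbw (mul_mem hw hyW)).mp e with e1 | e1
      · rw [e1, h.ab w hw y hyW, mul_inv_cancel_right]; exact hy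
      · rw [e1, h.ab w hw y hyW]
        have e2 : z * (y * w) * w⁻¹ = z * y := by group
        rw [e2]; exact mul_mem hz hy

/-- `β` is symmetric -/
theorem loc_sy [Finite G] (m m' : M) :
    al0 R y m' • m + m + (al0 R y m • m' + m') = 0 ∨ al0 R y m' • m + m + (al0 R y m • m' + m') = R.pi y := by
  have hz := h.ln.z_mem
  have hz1 := h.ln.z_ne
  obtain ⟨w, hw, b, hb, rfl, ht, e⟩ := h.exists_al0 R hy hy1 hyz m
  obtain ⟨w', hw', b', hb', rfl, ht', e'⟩ := h.exists_al0 R hy hy1 hyz m'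
  have hyW := h.V_le hz hz1 hy
  have hn : ∀ {b w : G}, b ∈ ws V y → w ∈ ws V z → b * w * b⁻¹ ∈ ws V z := fun {b w} hb hw =>
    conj_mem_of_normalizer (h.cent_norm hz) (h.ws_le_centralizer_V hy hy1 hb) hw
  rw [e, e', h.rp_comm R (h.ws_le_cz hy hy1 hb') hw (hn hb' hw), h.rp_comm R (h.ws_le_cz hy hy1 hb) hw' (hn hb hw'),
    ← h.rp_mul R (mul_mem (hn hb' hw) (inv_mem hw)) (mul_mem (hn hb hw') (inv_mem hw'))]
  -- `β` symmetric
  have h1 := h.beta_symm hz hz1 hy hy1 hyz hw hb' hb hw' ht (h.tw_symm ht')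
  have h2 : ⁅b', w⁆ * ⁅b, w'⁆ ∈ V := by
    have e1 : ⁅b, w'⁆ = ⁅w', b⁆ := h.comm_swap hz hz1 hy hy1 hw' hb
    have e2 : ⁅b', w⁆ = ⁅w, b'⁆ := h.comm_swap hz hz1 hy hy1 hw hb'
    have e3 : ⁅w', b⁆⁻¹ = ⁅w', b⁆ := inv_eq_self (h.comm_sq hz hz1 hy hy1 hw' hb)
    rw [e3] at h1
    rw [e1, e2]; exact h1
  have e4 : b' * w * b'⁻¹ * w⁻¹ * (b * w' * b⁻¹ * w'⁻¹) = ⁅b', w⁆ * ⁅b, w'⁆ := rfl
  rw [e4]
  by_cases h3 : ⁅b', w⁆ * ⁅b, w'⁆ = 1
  · left; rw [h3, h.rp_one R]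
  · rcases h.third hz hz1 hy hy1 hyz h2 h3 with e | e | e
    · left; rw [e, (h.rp_zero R (h.V_le hz hz1 hz)).mpr (Or.inr rfl)]
    · right; rw [e]
    · right
      rw [e, h.rp_mul R (h.V_le hz hz1 hz) hyW, (h.rp_zero R (h.V_le hz hz1 hz)).mpr (Or.inr rfl), zero_add]

/-- `Φ^⊥ = 0` -/
theorem loc_phi [Finite G] (hN : NT V) {a : H} (ha : a ∈ a0 R y) (ha1 : a ≠ 1) :
    ∃ e : M, al0 R y e = 1 ∧ a • e = e + R.pi y := by
  have hz := h.ln.z_mem
  have hz1 := h.ln.z_ne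
  obtain ⟨b, hb, rfl⟩ := (h.mem_a0 R hy hy1).mp ha
  have hbE : b ∉ ee V y := fun hE => ha1 ((h.phi_eq_one R (h.ws_le_cz hy hy1 hb)).mpr (hE.2 z hz hz1))
  obtain ⟨e, he, heb⟩ := h.nt_move_ee hN hz hz1 hy hy1 hyz hb hbE
  refine ⟨R.pi e, (h.al0_one R hy hy1 hyz he.1).mpr he, ?_⟩
  -- `b e b⁻¹ = y e`
  have hyb : y * b = b * y := h.V_comm hy (h.ws_le_centralizer_V hy hy1 hb)
  have h1 : b * e * b⁻¹ = e * y := by
    have hyy := h.ln.sq y hy
    have h2 : e * b = y * b * e := by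
      calc e * b = (e * b * e⁻¹) * e := by group
        _ = y * b * e := by rw [heb]
    have h3 : b * e = y * (e * b) := by
      rw [h2, ← mul_assoc, ← mul_assoc, hyy, one_mul]
    have hye : y * e = e * y := h.V_comm hy (h.ws_le_centralizer_V hz hz1 he.1)
    calc b * e * b⁻¹ = y * (e * b) * b⁻¹ := by rw [h3]
      _ = y * e := by group
      _ = e * y := hye
  rw [h.rp_act R (h.ws_le_cz hy hy1 hb) he.1, h1, h.rp_mul R he.1 (h.V_le hz hz1 hy)]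

/-- (FU): `K̃` induces all functionals of `Ī / λ` and centralises `M / Ē` and `Ē / D̄` -/
theorem loc_Kt [Finite G] {u : M} (hu : u ∈ i0 R) (hu0 : u ≠ 0) (huy : u ≠ R.pi y) :
    ∃ c : H, c • R.pi y = R.pi y ∧ c • u = u + R.pi y ∧ (∀ a ∈ a0 R y, c * a = a * c) ∧
      (∀ m, al0 R y (c • m) = al0 R y m) ∧
      ∀ e, al0 R y e = 1 → ∀ a ∈ a0 R y, a • (c • e + e) = c • e + e := by
  have hz := h.ln.z_mem
  have hz1 := h.ln.z_ne
  have hyW := h.V_le hz hz1 hy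
  obtain ⟨v, hv, rfl⟩ := (h.mem_i0 R).mp hu
  have hvV : v ∉ V := by
    intro hvV
    have hv1 : v ≠ 1 := fun e => hu0 (by rw [e, h.rp_one R])
    rcases h.third hz hz1 hy hy1 hyz hvV hv1 with e | e | e
    · exact hu0 (by rw [e]; exact (h.rp_zero R (h.V_le hz hz1 hz)).mpr (Or.inr rfl))
    · exact huy (by rw [e])
    · exact huy (by
        rw [e, h.rp_mul R (h.V_le hz hz1 hz) hyW, (h.rp_zero R (h.V_le hz hz1 hz)).mpr (Or.inr rfl), zero_add])
  obtain ⟨k, hk, hkV, hkv⟩ := h.fu hv hvV hy hy1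
  have hkc := h.cent_le_cg k hkV
  -- `c` commutes with `A`
  have hcA : ∀ a ∈ a0 R y, R.phi k * a = a * R.phi k := by
    intro a ha
    obtain ⟨b, hb, rfl⟩ := (h.mem_a0 R hy hy1).mp ha
    have hbc := h.ws_le_cz hy hy1 hb
    rw [← R.phi_mul k hkc b hbc, ← R.phi_mul b hbc k hkc]
    rcases h.kq_cases hy hk hb with e | e
    · rw [comm_of_conj_eq e]
    · have e1 : k * b = y * (b * k) := by
        calc k * b = (k * b * k⁻¹) * k := by group
          _ = y * (b * k) := by rw [e]; group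
      have hyc : y ∈ centralizer ({z} : Set G) := h.ws_le_cz hy hy1 (h.V_le hy hy1 hy)
      rw [e1, R.phi_mul y hyc _ (mul_mem hbc hkc), (h.phi_eq_one R hyc).mpr (h.V_le_kq hz hz1 hy), one_mul]
  have hcy : R.phi k • R.pi y = R.pi y := by
    rw [h.rp_act R hkc hyW, conj_eq_of_comm (h.V_comm hy hkV).symm]
  refine ⟨R.phi k, hcy, ?_, hcA, ?_, ?_⟩
  · rw [h.rp_act R hkc (ii_le hz hz1 hv), hkv, h.rp_mul R hyW (ii_le hz hz1 hv), add_comm]
  · intro m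
    rw [h.loc_al_conj R hy hy1 hyz hcy, hcA _ (h.loc_al_mem R hy hy1 hyz m), mul_inv_cancel_right]
  · intro e he a ha
    obtain ⟨w, hw, rfl⟩ := h.rp_surj R e
    have hwE := (h.al0_one R hy hy1 hyz hw).mp he
    obtain ⟨b, hb, rfl⟩ := (h.mem_a0 R hy hy1).mp ha
    have hbc := h.ws_le_cz hy hy1 hb
    -- `a e = e` or `e + v₀`
    have h1 : R.phi b • R.pi w = R.pi w ∨ R.phi b • R.pi w = R.pi w + R.pi y := by
      have h2 := h.ee_cases hy hy1 hwE hb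
      rw [← h.comm_swap hz hz1 hy hy1 hw hb] at h2
      have hbw : b * w * b⁻¹ = ⁅b, w⁆ * w := by rw [commutatorElement_def]; group
      rw [h.rp_act R hbc hw, hbw]
      rcases h2 with e1 | e1
      · left; rw [e1, one_mul]
      · right; rw [e1, h.rp_mul R hyW hw, add_comm]
    have h3 : R.phi b • (R.phi k • R.pi w) = R.phi k • (R.phi b • R.pi w) := by
      rw [← mul_smul, ← mul_smul, hcA _ ha]
    rw [smul_add, h3]
    rcases h1 with e1 | e1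
    · rw [e1]
    · rw [e1, smul_add, hcy]
      have h4 := h.rp_two R (R.pi y)
      calc R.phi k • R.pi w + R.pi y + (R.pi w + R.pi y) = R.phi k • R.pi w + R.pi w + (R.pi y + R.pi y) := by abel
        _ = R.phi k • R.pi w + R.pi w := by rw [h4, add_zero]

/-- `C_M(A) = D̄` -/
theorem loc_D [Finite G] (hN : NT V) {w : G} (hw : w ∈ ws V z) :
    (∀ a ∈ a0 R y, a • R.pi w = R.pi w) ↔ w ∈ dd V z := by
  have hz := h.ln.z_mem
  have hz1 := h.ln.z_ne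
  rw [h.nt_mem_dd hN hz hz1 hy hy1 hyz]
  constructor
  · intro hc
    refine ⟨hw, fun b hb => ?_⟩
    have h1 := hc _ (h.mem_a0' R hy hy1 hb)
    have hbw : b * w * b⁻¹ ∈ ws V z :=
      conj_mem_of_normalizer (h.cent_norm hz) (h.ws_le_centralizer_V hy hy1 hb) hw
    rw [h.rp_act R (h.ws_le_cz hy hy1 hb) hw] at h1
    have hc' : ⁅b, w⁆ = b * w * b⁻¹ * w⁻¹ := rfl
    rw [← h.comm_swap hz hz1 hy hy1 hw hb, hc']
    rcases (h.rp_eq R hbw hw).mp h1 with e1 | e1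
    · rw [e1, mul_inv_cancel]; exact one_mem _
    · rw [e1, mul_inv_cancel_right]; exact mem_zpowers _
  · rintro ⟨-, hc⟩ a ha
    obtain ⟨b, hb, rfl⟩ := (h.mem_a0 R hy hy1).mp ha
    have h1 := hc b hb
    rw [← h.comm_swap hz hz1 hy hy1 hw hb] at h1
    have hbw : b * w * b⁻¹ = ⁅b, w⁆ * w := by rw [commutatorElement_def]; group
    rw [h.rp_act R (h.ws_le_cz hy hy1 hb) hw, hbw]
    rcases h.zpowers_le hz h1 with e1 | e1
    · rw [e1, one_mul]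
    · rw [e1, h.rp_mul R (h.V_le hz hz1 hz) hw, (h.rp_zero R (h.V_le hz hz1 hz)).mpr (Or.inr rfl), zero_add]

/-- **(TI)** at `v₀` -/
theorem loc_TI [Finite G] (hN : NT V) (hP : NP V z) {x a : H} (ha : a ∈ a0 R y) (ha1 : a ≠ 1)
    (hxa : x⁻¹ * a * x ∈ a0 R y) : x • R.pi y = R.pi y := by
  have hz := h.ln.z_mem
  have hz1 := h.ln.z_ne
  obtain ⟨f, hf, rfl⟩ := R.phi_surj x
  obtain ⟨b, hb, rfl⟩ := (h.mem_a0 R hy hy1).mp ha
  obtain ⟨b', hb', e⟩ := (h.mem_a0 R hy hy1).mp hxa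
  have hbc := h.ws_le_cz hy hy1 hb
  have hbc' := h.ws_le_cz hy hy1 hb'
  have hfz : f * z * f⁻¹ = z := conj_eq_of_comm (mem_centralizer_singleton_iff.mp hf)
  have hL : cj f V ∈ lines V z := by
    have := mem_lines_cj (g := f) (L := V) (V := V) (x := z) ⟨⟨1, (cj_one V).symm⟩, hz⟩
    rwa [hfz] at this
  have h1 : cj f V = V := by
    refine h.nt_ti hN hP hL hy hy1 (conj_mem_cj hy) (fun e => hy1 (conj_eq_one_iff.mp e)) (fun e => hyz ?_) hb ?_
      (conj_mem_ws f hb') ?_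
    · calc y = f⁻¹ * (f * y * f⁻¹) * f := by group
        _ = f⁻¹ * (f * z * f⁻¹) * f := by rw [e, hfz]
        _ = z := by group
    · intro hk
      exact ha1 ((h.phi_eq_one R hbc).mpr hk)
    · rw [← h.rp_phi R hbc (mul_mem (mul_mem hf hbc') (inv_mem hf)), R.phi_mul _ (mul_mem hf hbc') _ (inv_mem hf),
        R.phi_mul f hf b' hbc', R.phi_inv hf, e]
      group
  rw [R.smul_v0_iff h.fam hy hy1 hyz hf, mem_normalizer_iff_cj, h1]

end One

end Cfsg.Agent.Omega.NO3S.TwoOne
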