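import Cfsg.Agent.Omega.NO3S.TwoOne.MixAbs
import Cfsg.Agent.Omega.NO3S.TwoOne.LocA
import Cfsg.Agent.Omega.NO3S.TwoOne.Cases

/-!
# NO-3S, `q = 2`, `n = 1`: the mixed case is empty (helper311's text #18168 (2))

* `One.mix_hyp` : the module-level hypotheses `Mix.Hyp` for `v₀ = R.pi y`, `A = a0 R y`, `Ī = i0 R`;
* `One.allTv` : if some `W_p` contains a `λ`-transvection (`¬ NT V`) then `A` consists of `λ`-transvections (`AllTv V`);
* `mixP'` : (second proof; the first is helper312's `MixedP.lean`) the case `MixP K` of `CompP`.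
-/

set_option autoImplicit false
set_option linter.unusedSectionVars false

namespace Cfsg.Agent.Omega.NO3S.TwoOne

open Subgroup Cfsg Cfsg.Agent.ZN Cfsg.Agent.MinSimple.Geo Cfsg.Agent.Omega.CaseL
open Cfsg.Agent.Omega.NO3S.Fit
open Cfsg.Agent.ZN.Block (conj_mem_of_normalizer conj_mem_of_normalizer' le_normalizer_of_forall
  mem_normalizer_of)
open scoped commutatorElement

universe u

variable {G : Type u} [Group G]

namespace One

variable {T V : Subgroup G} {z : G} {M H : Type u} [AddCommGroup M] [Group H] [DistribMulAction H M]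
  (h : One T V z) (R : MRep V cg z M H) {y : G} (hy : y ∈ V) (hy1 : y ≠ 1) (hyz : y ≠ z)
include h

include R in
/-- `O₂(H) = 1` -/
theorem mix_o2 [Finite G] (N : Subgroup H) (hN : N.Normal) (h2 : IsPGroup 2 N) : N = ⊥ := by
  have F := h.fam
  have hle : R.pre N ≤ qq V cg z := by
    refine F.o2h (R.pre_le N) (le_normalizer_of_forall fun c hc n hn => ?_) fun n hn => ?_
    · rw [R.mem_pre] at hn ⊢
      refine ⟨mul_mem (mul_mem hc hn.1) (inv_mem hc), ?_⟩
      rw [R.phi_mul _ (mul_mem hc hn.1) _ (inv_mem hc), R.phi_mul c hc n hn.1, R.phi_inv hc]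
      exact hN.conj_mem _ hn.2 _
    · rw [R.mem_pre] at hn
      obtain ⟨k, hk⟩ := h2 ⟨_, hn.2⟩
      refine ⟨k, ?_⟩
      rw [← R.phi_ker _ (pow_mem hn.1 _)]
      have h3 : R.phi (n ^ 2 ^ k) = R.phi n ^ 2 ^ k := map_pow R.hom ⟨n, hn.1⟩ (2 ^ k)
      rw [h3]
      exact congrArg Subtype.val hk
  rw [eq_bot_iff]
  intro x hx
  obtain ⟨c, hc, rfl⟩ := R.phi_surj x
  rw [mem_bot]
  exact (R.phi_ker c hc).mpr (hle (R.mem_pre.mpr ⟨hc, hx⟩))

include hy hy1 hyz

/-- (VI): a second line vector in `Ī` -/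
theorem mix_six [Finite G] {x : H} (hx : x • R.pi y ∈ i0 R) (hne : x • R.pi y ≠ R.pi y) :
    ∃ k : H, k • R.pi y = x • R.pi y + R.pi y := by
  have hz := h.ln.z_mem
  have hz1 := h.ln.z_ne
  obtain ⟨f, hf, rfl⟩ := R.phi_surj x
  obtain ⟨u, hu, e⟩ := (h.mem_i0 R).mp hx
  have hfz : f * z * f⁻¹ = z := conj_eq_of_comm (mem_centralizer_singleton_iff.mp hf)
  have hyW := h.V_le hz hz1 hy
  have hL : cj f V ∈ lines V z := by
    have := mem_lines_cj (g := f) (L := V) (V := V) (x := z) ⟨⟨1, (cj_one V).symm⟩, hz⟩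
    rwa [hfz] at this
  have hfy : f * y * f⁻¹ ∈ ws V z := by
    have := conj_mem_ws f hyW
    rwa [hfz] at this
  have h1 : f * y * f⁻¹ ∈ ii V := by
    rw [h.rp_act R hf hyW] at e
    rcases (h.rp_eq R (ii_le hz hz1 hu) hfy).mp e with e1 | e1
    · rw [← e1]; exact hu
    · have h2 := mul_mem (inv_mem (h.V_le_ii hz)) hu
      rwa [e1, inv_mul_cancel_left] at h2
  have hV : f * y * f⁻¹ ∉ V := by
    intro hV
    apply hne
    rw [R.smul_v0_iff h.fam hy hy1 hyz hf]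
    exact MRep.mem_normalizer_of_conj h.fam hy hy1 hyz (mem_centralizer_singleton_iff.mp hf) hV
  obtain ⟨L, hL', huL⟩ := h.plane_line h1 hV ⟨_, hL, conj_mem_cj hy⟩ hz hz1 hy
  obtain ⟨c, hc, rfl⟩ := h.ln.exists_of_mem_lines hL'
  rw [mem_cj] at huL
  have hcz : c * z * c⁻¹ = z := conj_eq_of_comm (mem_centralizer_singleton_iff.mp hc)
  have hv1 : c⁻¹ * (y * (f * y * f⁻¹)) * c ≠ 1 := by
    intro e1
    have e2 : y * (f * y * f⁻¹) = 1 := by
      calc y * (f * y * f⁻¹) = c * (c⁻¹ * (y * (f * y * f⁻¹)) * c) * c⁻¹ := by group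
        _ = 1 := by rw [e1]; group
    exact hV (by rw [eq_inv_of_mul_eq_one_right e2]; exact inv_mem hy)
  have hvz : c⁻¹ * (y * (f * y * f⁻¹)) * c ≠ z := by
    intro e1
    have e2 : y * (f * y * f⁻¹) = z := by
      calc y * (f * y * f⁻¹) = c * (c⁻¹ * (y * (f * y * f⁻¹)) * c) * c⁻¹ := by group
        _ = z := by rw [e1, hcz]
    have e3 : f * y * f⁻¹ = y⁻¹ * z := by rw [← e2]; group
    exact hV (by rw [e3]; exact mul_mem (inv_mem hy) hz)
  have hact : R.phi c • R.pi (c⁻¹ * (y * (f * y * f⁻¹)) * c) = R.pi (y * (f * y * f⁻¹)) := by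
    rw [h.rp_act R hc (h.V_le hz hz1 huL)]
    congr 1
    group
  have hval : R.pi (c⁻¹ * (y * (f * y * f⁻¹)) * c) = R.pi y := by
    rcases h.third hz hz1 hy hy1 hyz huL hv1 with e1 | e1 | e1
    · exact absurd e1 hvz
    · rw [e1]
    · rw [e1, h.rp_mul R (h.V_le hz hz1 hz) hyW, (h.rp_zero R (h.V_le hz hz1 hz)).mpr (Or.inr rfl), zero_add]
  refine ⟨R.phi c, ?_⟩
  rw [← hval, hact, h.rp_mul R hyW hfy, hval, h.rp_act R hf hyW, add_comm]

theorem mix_hyp [Finite G] : Mix.Hyp (R.pi y) (a0 R y) (R.img T) (i0 R) where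
  two := h.rp_two R
  ne := R.v0_ne h.fam hy hy1 hyz
  span := R.span h.fam hy hy1 hyz
  o2 := h.mix_o2 R
  nor := fun _ hx _ ha => h.loc_A_conj R hy hy1 hyz hx ha
  sq := fun _ ha => h.loc_sq R hy hy1 hyz ha
  fix := fun _ ha => h.loc_fix R hy hy1 hyz ha (h.loc_self R hy hy1)
  comm := fun _ ha _ hb => h.loc_comm_A R hy hy1 hyz ha hb
  mem := fun _ ha m => h.loc_comm R hy hy1 hyz ha m
  cen := fun _ ha _ hm => h.loc_fix R hy hy1 hyz ha hm
  inv := fun _ hx _ hm => h.loc_I_conj R hy hy1 hyz hx hm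
  T_two := R.img_T_two h.fam
  T_fix := fun _ ht => R.img_T_fix h.fam hy hy1 hyz ht
  fixI := by
    intro m hm hT
    obtain ⟨u, hu, rfl⟩ := (h.mem_i0 R).mp hm
    have hu' : u ∈ jj V cg := fun p hp hp1 => by rw [h.ww_cg hp hp1]; exact hu p hp hp1
    exact R.fixI h.fam hy hy1 hyz hu' hT
  six := fun _ hx hne => h.mix_six R hy hy1 hyz hx hne

/-- `[b, W_z] ≤ V` in module terms -/
theorem mix_tv_iff [Finite G] {b : G} (hb : b ∈ ws V y) :
    (∀ w ∈ ws V z, ⁅b, w⁆ ∈ V) ↔ ∀ m, R.phi b • m = m ∨ R.phi b • m = m + R.pi y := by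
  have hz := h.ln.z_mem
  have hz1 := h.ln.z_ne
  have hyW := h.V_le hz hz1 hy
  constructor
  · intro hc m
    obtain ⟨w, hw, rfl⟩ := h.rp_surj R m
    have h2 := hc w hw
    have hbw : b * w * b⁻¹ = ⁅b, w⁆ * w := by rw [commutatorElement_def]; group
    rw [h.rp_act R (h.ws_le_cz hy hy1 hb) hw, hbw, h.rp_mul R (h.V_le hz hz1 h2) hw]
    by_cases h3 : ⁅b, w⁆ = 1
    · left; rw [h3, h.rp_one R, zero_add]
    · rcases h.third hz hz1 hy hy1 hyz h2 h3 with e | e | e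
      · left; rw [e, (h.rp_zero R (h.V_le hz hz1 hz)).mpr (Or.inr rfl), zero_add]
      · right; rw [e, add_comm]
      · right
        rw [e, h.rp_mul R (h.V_le hz hz1 hz) hyW, (h.rp_zero R (h.V_le hz hz1 hz)).mpr (Or.inr rfl), zero_add,
          add_comm]
  · intro hm w hw
    have hbw : b * w * b⁻¹ ∈ ws V z :=
      conj_mem_of_normalizer (h.cent_norm hz) (h.ws_le_centralizer_V hy hy1 hb) hw
    have h1 := hm (R.pi w)
    rw [h.rp_act R (h.ws_le_cz hy hy1 hb) hw] at h1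
    rw [commutatorElement_def]
    rcases h1 with h1 | h1
    · rcases (h.rp_eq R hbw hw).mp h1 with e | e
      · rw [e, mul_inv_cancel]; exact one_mem _
      · rw [e, mul_inv_cancel_right]; exact hz
    · rw [← h.rp_mul R hw hyW] at h1
      have hc := h.ab y hyW w hw
      rcases (h.rp_eq R hbw (mul_mem hw hyW)).mp h1 with e | e
      · rw [e, ← hc, mul_inv_cancel_right]; exact hy
      · rw [e, ← hc, ← mul_assoc, mul_inv_cancel_right]; exact mul_mem hz hy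

end One

/-- **The mixed case is empty**: one `λ`-transvection in `A` ⟹ all of `A` are `λ`-transvections. -/
theorem One.allTv {T V : Subgroup G} {z : G} {M H : Type u} [AddCommGroup M] [Finite M] [Group H] [Finite H]
    [DistribMulAction H M] [FaithfulSMul H M] [Finite G] (h : One T V z) (R : MRep V cg z M H) (hn : ¬ NT V) :
    AllTv V := by
  have hz := h.ln.z_mem
  have hz1 := h.ln.z_ne
  obtain ⟨y, hy, hy1, hyz⟩ := h.ln.exists_y
  unfold NT at hn
  push Not at hn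
  obtain ⟨p, hp, hp1, hle⟩ := hn
  obtain ⟨w₀, hw₀, hw₀e⟩ := SetLike.not_le_iff_exists.mp hle
  -- move `p` to `y`
  obtain ⟨g, hg, hgp⟩ := h.xl_trans hp hp1 hy hy1
  have hgn := h.xl_le_normalizer hg
  have hb := conj_mem_n0 hgn hw₀
  rw [hgp] at hb
  have hbe : g * w₀ * g⁻¹ ∉ ee V y := by
    intro he
    have := conj_mem_ee (inv_mem hgn) he
    have e1 : g⁻¹ * y * g⁻¹⁻¹ = p := by rw [← hgp]; group
    have e2 : g⁻¹ * (g * w₀ * g⁻¹) * g⁻¹⁻¹ = w₀ := by group
    rw [e1, e2] at this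
    exact hw₀e this
  set b := g * w₀ * g⁻¹ with hbd
  have K := h.mix_hyp R hy hy1 hyz
  have hb1 : R.phi b ≠ 1 := by
    rw [Ne, h.phi_eq_one R (h.ws_le_cz hy hy1 hb.1)]
    intro hk
    exact hbe (h.mem_ee hy hy1 hz hz1 (Ne.symm hyz) hb.1 hk)
  have htv := (h.mix_tv_iff R hy hy1 hyz hb.1).mp (fun w hw => hb.2.2 z hz hz1 w hw)
  -- all elements of `W_y`
  have hall : ∀ a ∈ ws V y, ∀ w ∈ ws V z, ⁅a, w⁆ ∈ V := fun a ha =>
    (h.mix_tv_iff R hy hy1 hyz ha).mpr fun m =>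
      K.tv (h.mem_a0' R hy hy1 hb.1) hb1 htv (h.mem_a0' R hy hy1 ha) m
  intro r hr hr1 q hq hq1 a ha c hc
  by_cases hqr : q = r
  · subst hqr
    rw [commutatorElement_eq_one_iff_mul_comm.mpr (h.comm hq hq1 a ha c hc)]
    exact one_mem _
  · obtain ⟨k, hk, e1, e2⟩ := h.xl_trans₂ hr hr1 hq hq1 hqr hy hy1 hz hz1 (Ne.symm hyz)
    have hkn := h.xl_le_normalizer hk
    have h1 := conj_mem_ws k ha
    have h2 := conj_mem_ws k hc
    rw [e1] at h1
    rw [e2] at h2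
    have h3 := hall _ h1 _ h2
    have e3 : ⁅a, c⁆ = k⁻¹ * ⁅k * a * k⁻¹, k * c * k⁻¹⁆ * k := by simp only [commutatorElement_def]; group
    rw [e3]
    have := (mem_normalizer_iff.mp (inv_mem hkn) _).mp h3
    rwa [inv_inv] at this

/-- **The case `MixP`.** -/
theorem mixP' (K : Cfsg.Agent.Omega.Frame.Cls.{u}) : MixP K := by
  intro G _ _ _ S P _ z h hC M H _ _ _ _ _ _ R _
  exact absurd (h.allTv R hC.2.1) hC.2.2

end Cfsg.Agent.Omega.NO3S.TwoOne
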