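import Cfsg.Agent.Omega.NO3S.TV.TwoEnd
import Cfsg.Agent.Omega.NO3S.TV.Abs
import Cfsg.Agent.Omega.NO3S.TV.Triv

/-!
# NO-3S, `q = 2`, `n = 1`: the mixed case is empty, module level (helper311's text #18168 (2))

`H` faithful on the finite elementary abelian 2-group `M`, `O₂(H) = 1`, `M` spanned by the orbit of `v0`, `A` an elementary
abelian normal subgroup of the stabiliser of `v0`, `I ≥ [M,A]` an invariant subgroup centralised by `A`, in which `v0` is
the only fixed vector of `T` (LEMMA FIX) and where `m ∈ I`, `m ≠ v0` in the orbit of `v0` gives `m + v0` in the orbit (VI).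

* `Mix.Hyp.tv` : if `A` contains one transvection with centre `v0` then all elements of `A#` are such transvections.
-/

set_option autoImplicit false
set_option linter.unusedSectionVars false

namespace Cfsg.Agent.Omega.NO3S.TwoOne.Mix

open Cfsg.Agent.Omega.NO3S.TV Cfsg.Agent.Omega.NO3S.TV.Abs

variable {H M : Type*} [Group H] [AddCommGroup M] [DistribMulAction H M]

/-- the setting -/
structure Hyp (v0 : M) (A T : Subgroup H) (I : AddSubgroup M) : Prop where
  two : ∀ m : M, m + m = 0
  ne : v0 ≠ 0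
  span : AddSubgroup.closure (Set.range fun x : H => x • v0) = ⊤
  o2 : ∀ N : Subgroup H, N.Normal → IsPGroup 2 N → N = ⊥
  nor : ∀ h : H, h • v0 = v0 → ∀ a ∈ A, h * a * h⁻¹ ∈ A
  sq : ∀ a ∈ A, a * a = 1
  fix : ∀ a ∈ A, a • v0 = v0
  comm : ∀ a ∈ A, ∀ b ∈ A, a * b = b * a
  mem : ∀ a ∈ A, ∀ m, a • m + m ∈ I
  cen : ∀ a ∈ A, ∀ m ∈ I, a • m = m
  inv : ∀ h : H, h • v0 = v0 → ∀ m ∈ I, h • m ∈ I
  T_two : IsPGroup 2 T
  T_fix : ∀ t ∈ T, t • v0 = v0
  fixI : ∀ m ∈ I, (∀ t ∈ T, t • m = m) → m = 0 ∨ m = v0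
  six : ∀ x : H, x • v0 ∈ I → x • v0 ≠ v0 → ∃ y : H, y • v0 = x • v0 + v0

namespace Hyp

variable {v0 : M} {A T : Subgroup H} {I : AddSubgroup M} (K : Hyp v0 A T I)
include K

theorem neg_eq (m : M) : -m = m := neg_eq_of_add_eq_zero_left (K.two m)

theorem add_add (m n : M) : m + n + n = m := by rw [add_assoc, K.two, add_zero]

theorem eq_of_add {m n : M} (h : m + n = 0) : m = n := by rw [← K.add_add m n, h, zero_add]

theorem inv_eq {a : H} (ha : a ∈ A) : a⁻¹ = a := inv_eq_of_mul_eq_one_right (K.sq a ha)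

/-- the transvections in `A` with centre `v0` -/
def A0 : Subgroup H where
  carrier := {a | a ∈ A ∧ ∀ m : M, a • m = m ∨ a • m = m + v0}
  mul_mem' := by
    rintro a b ⟨ha, ha'⟩ ⟨hb, hb'⟩
    refine ⟨mul_mem ha hb, fun m => ?_⟩
    rw [mul_smul]
    rcases hb' m with h1 | h1 <;> rcases ha' m with h2 | h2
    · left; rw [h1, h2]
    · right; rw [h1, h2]
    · right; rw [h1, smul_add, h2, K.fix a ha]
    · left; rw [h1, smul_add, h2, K.fix a ha, K.add_add]
  one_mem' := ⟨one_mem _, fun m => Or.inl (one_smul _ _)⟩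
  inv_mem' := by
    rintro a ⟨ha, ha'⟩
    rw [Set.mem_setOf_eq, K.inv_eq ha]
    exact ⟨ha, ha'⟩

theorem mem_A0 {a : H} : a ∈ K.A0 ↔ a ∈ A ∧ ∀ m : M, a • m = m ∨ a • m = m + v0 := Iff.rfl

theorem A0_nor (h : H) (hh : h • v0 = v0) (a : H) (ha : a ∈ K.A0) : h * a * h⁻¹ ∈ K.A0 := by
  refine ⟨K.nor h hh a ha.1, fun m => ?_⟩
  rcases ha.2 (h⁻¹ • m) with h1 | h1
  · left; rw [mul_smul, mul_smul, h1, smul_inv_smul]
  · right; rw [mul_smul, mul_smul, h1, smul_add, smul_inv_smul, hh]

/-- a property of the generators -/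
theorem of_orbit {a : H} (ha : ∀ x : H, a • x • v0 = x • v0 ∨ a • x • v0 = x • v0 + v0) (hv : a • v0 = v0) (m : M) :
    a • m = m ∨ a • m = m + v0 := by
  have hm : m ∈ AddSubgroup.closure (Set.range fun x : H => x • v0) := by rw [K.span]; trivial
  induction hm using AddSubgroup.closure_induction with
  | mem m hm => obtain ⟨x, rfl⟩ := hm; exact ha x
  | zero => left; exact smul_zero _
  | add m n _ _ hm hn =>
    rw [smul_add]
    rcases hm with h1 | h1 <;> rcases hn with h2 | h2
    · left; rw [h1, h2]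
    · right; rw [h1, h2, add_assoc]
    · right; rw [h1, h2]; abel
    · left
      rw [h1, h2]
      calc m + v0 + (n + v0) = m + n + (v0 + v0) := by abel
        _ = m + n := by rw [K.two, add_zero]
  | neg m _ hm => rwa [K.neg_eq]

section big

variable [Module (ZMod 2) M] [Finite H] [Finite M] [FaithfulSMul H M]

omit [Finite H] [Finite M] [FaithfulSMul H M] in
theorem tva : TVA v0 K.A0 where
  ne := K.ne
  span := K.span
  o2 := K.o2
  nor := K.A0_nor
  tv := fun a ha m => ha.2 m
  fix := fun a ha => K.fix a ha.1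

/-- `a ∈ A` acts on the block of `v0` as a transvection with centre `v0` -/
theorem big_one (h4 : 4 ≤ Nat.card K.tva.F0) {a : H} (ha : a ∈ A) {m : M} (hm : m ∈ K.tva.blk h4 1) :
    a • m = m ∨ a • m = m + v0 := by
  have hb : a • m ∈ K.tva.blk h4 1 := by
    have h1 := K.tva.smul_mem_blk h4 a hm
    rwa [K.tva.blk_eq_of_R h4 (h := a * 1) (k := 1) (Or.inl (by rw [mul_one, K.fix a ha, one_smul]))] at h1
  have hk : ∀ f ∈ K.tva.F 1, f (a • m + m) = 0 := by
    intro f hf
    obtain ⟨b, hb, hf'⟩ := TVA.mem_F.mp hf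
    rw [inv_one, mul_one, one_mul] at hf'
    rw [one_smul] at hf'
    have h1 : a • (b • m) = b • (a • m) := by
      rw [← mul_smul, ← mul_smul, K.comm a ha b hb.1]
    rw [hf', hf', smul_add] at h1
    have h2 : a • (f m • v0) = f m • v0 := by rw [smul_zsmul, K.fix a ha]
    rw [h2] at h1
    have h3 := add_left_cancel h1
    rw [map_add]
    rcases z2_cases (f (a • m)) with h5 | h5 <;> rcases z2_cases (f m) with h6 | h6
    · rw [h5, h6, add_zero]
    · rw [h5, h6, zero_smul, one_smul] at h3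
      exact absurd h3 K.ne
    · rw [h5, h6, zero_smul, one_smul] at h3
      exact absurd h3.symm K.ne
    · rw [h5, h6]; decide
  rcases K.tva.ker_F h4 (add_mem hb hm) hk with h1 | h1
  · left; exact K.eq_of_add h1
  · right
    rw [one_smul] at h1
    rw [← h1, add_comm m, K.add_add]

/-- `a ∈ A` is trivial on the other blocks which it normalises -/
theorem big_two (h4 : 4 ≤ Nat.card K.tva.F0) {a h : H} (ha : a ∈ A) (h1 : ¬ K.tva.R h 1) (h2 : K.tva.R h (a * h))
    {m : M} (hm : m ∈ K.tva.blk h4 h) : a • m = m := by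
  have hb : a • m ∈ K.tva.blk h4 h := by
    have h3 := K.tva.smul_mem_blk h4 a hm
    rwa [← K.tva.blk_eq_of_R h4 h2] at h3
  by_contra hne
  have hn : a • m + m ∈ K.tva.blk h4 h := add_mem hb hm
  have hn0 : a • m + m ≠ 0 := fun e => hne (K.eq_of_add e)
  rcases hn with e | ⟨k, e, hk⟩
  · exact hn0 e
  · have hI : k • v0 ∈ I := e ▸ K.mem a ha m
    have hkv : k • v0 ≠ v0 := by
      intro e1
      exact h1 (hk.trans h4 (Or.inl (by rw [e1, one_smul])))
    obtain ⟨l, hl⟩ := K.six k hI hkv
    have hv : v0 ∈ K.tva.blk h4 1 := by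
      have := K.tva.self_mem_blk h4 1
      rwa [one_smul] at this
    have hkb : k • v0 ∈ K.tva.blk h4 h := (K.tva.smul_mem_blk_iff h4).mpr hk
    by_cases h5 : K.tva.R l 1
    · have h6 : l • v0 ∈ K.tva.blk h4 1 := (K.tva.smul_mem_blk_iff h4).mpr h5.symm
      have h7 : k • v0 ∈ K.tva.blk h4 1 := by
        have := add_mem h6 hv
        rwa [hl, K.add_add] at this
      exact absurd (K.tva.disjoint_blk h4 h1 hkb h7) (fun e1 => K.ne ((smul_eq_zero_iff_eq k).mp e1))
    · by_cases h6 : K.tva.R l h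
      · have h7 : l • v0 ∈ K.tva.blk h4 h := (K.tva.smul_mem_blk_iff h4).mpr h6.symm
        have h8 : v0 ∈ K.tva.blk h4 h := by
          have := add_mem h7 hkb
          rw [hl] at this
          have e2 : k • v0 + v0 + k • v0 = v0 := by
            calc k • v0 + v0 + k • v0 = v0 + k • v0 + k • v0 := by abel
              _ = v0 := K.add_add _ _
          rwa [e2] at this
        exact K.ne (K.tva.disjoint_blk h4 h1 h8 hv)
      · have h7 : l • v0 ∈ ⨆ h : {h : H // ¬ K.tva.R l h}, K.tva.blk h4 h := by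
          rw [hl]
          exact add_mem ((le_iSup (fun h : {h : H // ¬ K.tva.R l h} => K.tva.blk h4 h) ⟨h, h6⟩) hkb)
            ((le_iSup (fun h : {h : H // ¬ K.tva.R l h} => K.tva.blk h4 h) ⟨1, h5⟩) hv)
        exact absurd (K.tva.indep h4 l (K.tva.self_mem_blk h4 l) h7)
          (fun e1 => K.ne ((smul_eq_zero_iff_eq l).mp e1))

/-- `a ∈ A` normalises the other blocks -/
theorem big_three (h4 : 4 ≤ Nat.card K.tva.F0) {a h : H} (ha : a ∈ A) (h1 : ¬ K.tva.R h 1) :
    K.tva.R h (a * h) := by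
  by_contra h2
  -- a nontrivial element of `A₀`
  obtain ⟨f, hf, hf0⟩ : ∃ f ∈ K.tva.F h, f ≠ 0 := by
    by_contra hcon
    push Not at hcon
    have h5 := K.tva.card_F h
    have h6 : K.tva.F h = ⊥ := by
      rw [eq_bot_iff]
      intro f hf
      exact hcon f hf
    rw [h6] at h5
    have h7 : Nat.card (⊥ : Submodule (ZMod 2) (Module.Dual (ZMod 2) M)) = 1 := Nat.card_unique
    omega
  obtain ⟨b, hb, hf'⟩ := TVA.mem_F.mp hf
  set α := h * b * h⁻¹ with hα
  have hαv : α • v0 = v0 := by
    have := K.tva.triv h4 h1 hb (m := v0) (by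
      have := K.tva.self_mem_blk h4 1
      rwa [one_smul] at this)
    exact this
  have hβ : α * a * α⁻¹ * a⁻¹ ∈ A := mul_mem (K.nor α hαv a ha) (inv_mem ha)
  have hact : ∀ m ∈ K.tva.blk h4 h, (α * a * α⁻¹ * a⁻¹) • m = α • m := by
    intro m hm
    have e1 : α * a * α⁻¹ * a⁻¹ = α * ((a * h) * b⁻¹ * (a * h)⁻¹) := by rw [hα]; group
    have h5 : ¬ K.tva.R (a * h) h := fun h6 => h2 h6.symm
    rw [e1, mul_smul, K.tva.triv h4 h5 (inv_mem hb) hm]
  have hfix : α • h • v0 = h • v0 := by
    rw [hα, mul_smul, mul_smul, inv_smul_smul, K.fix b hb.1]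
  have hR : K.tva.R h ((α * a * α⁻¹ * a⁻¹) * h) := by
    left
    rw [mul_smul, hact _ (K.tva.self_mem_blk h4 h), hfix]
  apply hf0
  refine K.tva.F_inj h4 hf fun m hm => ?_
  have h5 := K.big_two h4 hβ h1 hR hm
  rw [hact m hm, hf'] at h5
  rcases z2_cases (f m) with h6 | h6
  · exact h6
  · rw [h6, one_smul, add_eq_left] at h5
    exact absurd ((smul_eq_zero_iff_eq h).mp h5) K.ne

theorem big (h4 : 4 ≤ Nat.card K.A0) {a : H} (ha : a ∈ A) (m : M) : a • m = m ∨ a • m = m + v0 := by
  have h4' : 4 ≤ Nat.card K.tva.F0 := by rw [K.tva.card_F0]; exact h4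
  refine K.of_orbit (fun x => ?_) (K.fix a ha) m
  by_cases hx : K.tva.R x 1
  · exact K.big_one h4' ha ((K.tva.smul_mem_blk_iff h4').mpr hx.symm)
  · left
    exact K.big_two h4' ha hx (K.big_three h4' ha hx) (K.tva.self_mem_blk h4' x)

end big

section one

variable {a0 : H}

theorem pre [FaithfulSMul H M] (ha0 : a0 ∈ K.A0) (hne : a0 ≠ 1) (hu : ∀ b ∈ K.A0, b = 1 ∨ b = a0) : Pre v0 a0 := by
  have hne' : ∃ m : M, a0 • m ≠ m := by
    by_contra hc
    push Not at hc
    exact hne (FaithfulSMul.eq_of_smul_eq_smul (M := H) (α := M) fun m => by rw [hc, one_smul])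
  have hst : ∀ x : H, x • v0 = v0 → x * a0 = a0 * x := by
    intro x hx
    rcases hu _ (K.A0_nor x hx a0 ha0) with h1 | h1
    · exact absurd (conj_eq_one_iff.mp h1) hne
    · calc x * a0 = (x * a0 * x⁻¹) * x := by group
        _ = a0 * x := by rw [h1]
  refine ⟨K.two, hne', fun m => ha0.2 m, hst, K.span, fun x hx => ?_⟩
  -- `a0` fixes `x v0`, so it commutes with `b = x a0 x⁻¹`
  have h1 : (x * a0 * x⁻¹) * a0 = a0 * (x * a0 * x⁻¹) := by
    have h2 : (x⁻¹ * a0 * x) • v0 = v0 := by
      rw [mul_smul, mul_smul, hx, inv_smul_smul]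
    have h3 := hst _ h2
    calc (x * a0 * x⁻¹) * a0 = x * (a0 * (x⁻¹ * a0 * x)) * x⁻¹ := by group
      _ = x * ((x⁻¹ * a0 * x) * a0) * x⁻¹ := by rw [h3]
      _ = a0 * (x * a0 * x⁻¹) := by group
  -- the two cases
  have hv : ∀ m : M, (x * a0 * x⁻¹) • m = m ∨ (x * a0 * x⁻¹) • m = m + x • v0 := by
    intro m
    rcases ha0.2 (x⁻¹ • m) with h | h
    · left; rw [mul_smul, mul_smul, h, smul_inv_smul]
    · right; rw [mul_smul, mul_smul, h, smul_add, smul_inv_smul]
  rcases hv v0 with h2 | h2
  · exact h2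
  · exfalso
    obtain ⟨m, hm⟩ := hne'
    have h3 := (ha0.2 m).resolve_left hm
    have h4 : (x * a0 * x⁻¹) • a0 • m = a0 • (x * a0 * x⁻¹) • m := by
      rw [← mul_smul, ← mul_smul, h1]
    have hx0 : x • v0 ≠ 0 := fun e => K.ne ((smul_eq_zero_iff_eq x).mp e)
    rw [h3, smul_add, h2] at h4
    rcases hv m with h5 | h5
    · rw [h5, h3] at h4
      have h6 : v0 + x • v0 = v0 := add_left_cancel h4
      exact hx0 (by simpa using h6)
    · rw [h5, smul_add, h3, hx] at h4
      have h6 : m + x • v0 + (v0 + x • v0) = m + x • v0 + v0 := by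
        rw [h4]; abel
      have h7 : v0 + x • v0 = v0 := add_left_cancel h6
      exact hx0 (by simpa using h7)

/-- (1.3) -/
theorem inj [FaithfulSMul H M] {B : M → M → ZMod 2} (F : IsForm v0 a0 B) :
    Inj (Set.range fun x : H => x • v0) B := by
  have S := F.sys
  have A' := F.act
  have hrad : ∀ (x : H) (m : M), (∀ n, B m n = 0) → ∀ n, B (x • m) n = 0 := by
    intro x m hm n
    have := F.inv x m (x⁻¹ • n)
    rwa [smul_inv_smul, hm] at this
  let N : Subgroup H :=
    { carrier := {x | (∀ m n, B (x • m + m) n = 0) ∧ ∀ r, (∀ n, B r n = 0) → x • r = r}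
      mul_mem' := by
        rintro a b ⟨ha, ha'⟩ ⟨hb, hb'⟩
        refine ⟨fun m n => ?_, fun r hr => by rw [mul_smul, hb' r hr, ha' r hr]⟩
        have e : (a * b) • m + m = (a • (b • m) + b • m) + (b • m + m) := by
          rw [mul_smul]
          calc a • b • m + m = a • b • m + m + (b • m + b • m) := by rw [S.two, add_zero]
            _ = a • b • m + b • m + (b • m + m) := by abel
        rw [e, S.add_left, ha, hb, add_zero]
      one_mem' := ⟨fun m n => by rw [one_smul, S.two, S.zero_left], fun r _ => one_smul _ _⟩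
      inv_mem' := by
        rintro a ⟨ha, ha'⟩
        refine ⟨fun m n => ?_, fun r hr => ?_⟩
        · have e : a⁻¹ • m + m = a⁻¹ • (a • m + m) := by
            rw [smul_add, inv_smul_smul, add_comm]
          rw [e]
          exact hrad _ _ (ha m) n
        · rw [inv_smul_eq_iff, ha' r hr] }
  have hN : ∀ x ∈ N, x * x = 1 := by
    intro x hx
    refine FaithfulSMul.eq_of_smul_eq_smul (M := H) (α := M) fun m => ?_
    rw [one_smul, mul_smul]
    have e1 := hx.2 _ (hx.1 m)
    rw [smul_add] at e1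
    have e2 : x • x • m + (x • m + x • m) = m + (x • m + x • m) := by
      calc x • x • m + (x • m + x • m) = (x • x • m + x • m) + x • m := by abel
        _ = m + (x • m + x • m) := by rw [e1]; abel
    exact add_right_cancel e2
  have hNn : N.Normal := by
    refine ⟨fun x hx g => ?_⟩
    obtain ⟨hx, hx'⟩ := hx
    refine ⟨fun m n => ?_, fun r hr => ?_⟩
    · have e : (g * x * g⁻¹) • m + m = g • (x • (g⁻¹ • m) + g⁻¹ • m) := by
        rw [mul_smul, mul_smul, smul_add, smul_inv_smul]
      rw [e]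
      exact hrad _ _ (hx _) n
    · rw [mul_smul, mul_smul, hx' _ (hrad _ _ hr), smul_inv_smul]
  have hNb : N = ⊥ := by
    refine K.o2 N hNn ?_
    rintro ⟨x, hx⟩
    refine ⟨1, Subtype.ext ?_⟩
    change x ^ 2 ^ 1 = 1
    rw [pow_one, pow_two, hN x hx]
  intro u hu v hv huv
  obtain ⟨a, ha⟩ := A'.tv u hu
  obtain ⟨b, hb⟩ := A'.tv v hv
  have huv' : ∀ m, B m u = B m v := fun m => by rw [S.symm, huv, S.symm]
  have key : ∀ m, (B m v = 0 → (a * b) • m = m) ∧ (B m v = 1 → (a * b) • m = m + (u + v)) := by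
    intro m
    constructor
    · intro h1
      rw [mul_smul, (hb m).1 h1, (ha m).1 (by rw [huv', h1])]
    · intro h1
      rw [mul_smul, (hb m).2 h1, (ha (m + v)).2 (by rw [huv', S.add_left, h1, S.alt, add_zero])]
      abel
  have hr : ∀ n, B (u + v) n = 0 := fun n => by rw [S.add_left, huv, z2_add]
  have h1 : a * b = 1 := by
    have : a * b ∈ N := by
      refine ⟨fun m n => ?_, fun r hr' => (key r).1 (hr' v)⟩
      rcases z2 (B m v) with h1 | h1
      · rw [(key m).1 h1, S.two, S.zero_left]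
      · rw [(key m).2 h1]
        have e : m + (u + v) + m = u + v := by
          calc m + (u + v) + m = u + v + (m + m) := by abel
            _ = u + v := by rw [S.two, add_zero]
        rw [e, hr]
    rw [hNb, Subgroup.mem_bot] at this
    exact this
  obtain ⟨m, hm⟩ := S.nd v hv
  have h2 := (key m).2 (by rw [S.symm]; exact hm)
  rw [h1, one_smul] at h2
  exact S.eq_of_add (by simpa using h2.symm)

theorem one [Finite M] [FaithfulSMul H M] (ha0 : a0 ∈ K.A0) (hne : a0 ≠ 1) (hu : ∀ b ∈ K.A0, b = 1 ∨ b = a0) {a : H}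
    (ha : a ∈ A) (m : M) : a • m = m ∨ a • m = m + v0 := by
  have P := K.pre ha0 hne hu
  obtain ⟨B, F⟩ := P.exists_form
  have S := F.sys
  have J := K.inj F
  have hv0 : v0 ∈ Set.range fun x : H => x • v0 := ⟨1, one_smul _ _⟩
  have ha0i : a0⁻¹ = a0 := K.inv_eq ha0.1
  -- `v0 ∈ I`
  have hvI : v0 ∈ I := by
    obtain ⟨m, hm⟩ := P.ne
    have h1 := K.mem a0 ha0.1 m
    rw [(P.mv m).resolve_left hm] at h1
    have e : m + v0 + m = v0 := by
      calc m + v0 + m = v0 + m + m := by abel
        _ = v0 := K.add_add _ _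
    rwa [e] at h1
  -- `a` centralises `TT ∩ v0^⊥`
  have key : ∀ u ∈ Set.range (fun x : H => x • v0), B v0 u = 0 → a • u = u := by
    rintro _ ⟨x, rfl⟩ hx
    change B v0 (x • v0) = 0 at hx
    change a • x • v0 = x • v0
    by_contra hmove
    set t := x * a0 * x⁻¹ with ht
    set t' := (a * x) * a0 * (a * x)⁻¹ with ht'
    have htv : t • v0 = v0 := F.fix x v0 hx
    have hc : t * t' ∈ A := by
      have h1 := mul_mem (K.nor t htv a ha) (inv_mem ha)
      have e : t * a * t⁻¹ * a⁻¹ = t * t' := by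
        have e1 : t⁻¹ = x * a0⁻¹ * x⁻¹ := by rw [ht]; group
        rw [e1, ha0i, ht']; group
      rwa [e] at h1
    have hax : (a * x) • v0 = a • x • v0 := mul_smul _ _ _
    have hne2 : x • v0 ≠ (a * x) • v0 := by rw [hax]; exact fun e => hmove e.symm
    have h0 : B (x • v0) ((a * x) • v0) = 0 := by
      rcases z2 (B (x • v0) ((a * x) • v0)) with h1 | h1
      · exact h1
      · exfalso
        have h1' : B ((a * x) • v0) (x • v0) = 1 := by rw [S.symm]; exact h1
        have e1 : t' • (a * x) • v0 = (a * x) • v0 := F.fix _ _ (S.alt _)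
        have e2 : t • (a * x) • v0 = (a * x) • v0 + x • v0 := F.mv _ _ h1'
        have e3 : t' • x • v0 = x • v0 + (a * x) • v0 := F.mv _ _ h1
        have e4 : t • x • v0 = x • v0 := F.fix _ _ (S.alt _)
        have h2 := K.sq _ hc
        have h3 : (t * t') • (t * t') • (a * x) • v0 = (a * x) • v0 := by
          rw [← mul_smul, h2, one_smul]
        rw [mul_smul t t' ((a * x) • v0), e1, e2, mul_smul, smul_add t', e1, e3,
          add_comm (x • v0), ← add_assoc, K.two, zero_add, e4] at h3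
        exact hne2 h3
    have h0' : B ((a * x) • v0) (x • v0) = 0 := by rw [S.symm]; exact h0
    obtain ⟨n, hn⟩ : ∃ n, B (x • v0) n ≠ B ((a * x) • v0) n := by
      by_contra hcon
      push Not at hcon
      exact hne2 (J _ ⟨x, rfl⟩ _ ⟨a * x, rfl⟩ hcon)
    rcases z2 (B n (x • v0)) with h1 | h1 <;> rcases z2 (B n ((a * x) • v0)) with h2 | h2
    · exact hn (by rw [S.symm, h1, S.symm, h2])
    · -- `u' ∈ [M, c]`
      have h3 : (t * t') • n + n = (a * x) • v0 := by
        rw [mul_smul, F.mv (a * x) n h2, F.fix x _ (by rw [S.add_left, h1, h0', add_zero])]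
        calc n + (a * x) • v0 + n = (a * x) • v0 + n + n := by abel
          _ = _ := K.add_add _ _
      have h4 := K.cen a ha _ (h3 ▸ K.mem _ hc n)
      rw [hax, ← mul_smul, K.sq a ha, one_smul] at h4
      exact hmove h4.symm
    · have h3 : (t * t') • n + n = x • v0 := by
        rw [mul_smul, F.fix (a * x) n h2, F.mv x _ h1]
        calc n + x • v0 + n = x • v0 + n + n := by abel
          _ = _ := K.add_add _ _
      exact hmove (K.cen a ha _ (h3 ▸ K.mem _ hc n))
    · exact hn (by rw [S.symm, h1, S.symm, h2])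
  -- `I ∩ Rad = 0`
  have hrad : ∀ r ∈ I, (∀ n, B r n = 0) → r = 0 := by
    intro r hr hr'
    by_contra hr0
    let Q : AddSubgroup M :=
      { carrier := {r | r ∈ I ∧ ∀ n, B r n = 0}
        add_mem' := fun {a b} ha hb => ⟨add_mem ha.1 hb.1, fun n => by rw [S.add_left, ha.2, hb.2, add_zero]⟩
        zero_mem' := ⟨zero_mem _, S.zero_left⟩
        neg_mem' := fun {a} ha => by rwa [S.neg_eq] }
    obtain ⟨f, hf, hf0, hfT⟩ := exists_fixed_mod (P := T) K.T_two K.two (K := ⊥) (L := Q)
      (fun g m hm => by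
        rw [AddSubgroup.mem_bot] at hm ⊢
        rw [hm, smul_zero])
      (fun g m hm => ⟨K.inv g (K.T_fix g g.2) m hm.1, fun n => by
        have := F.inv (g : H) m ((g : H)⁻¹ • n)
        rw [smul_inv_smul, hm.2] at this
        exact this⟩) ⟨r, ⟨hr, hr'⟩, hr0⟩
    have hf1 : ∀ t ∈ T, t • f = f := by
      intro t ht
      have := hfT ⟨t, ht⟩
      rw [AddSubgroup.mem_bot] at this
      exact K.eq_of_add this
    rcases K.fixI f hf.1 hf1 with e | e
    · exact hf0 e
    · obtain ⟨n, hn⟩ := S.nd v0 hv0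
      rw [← e, hf.2] at hn
      exact zero_ne_one hn
  -- `a` centralises `v0^⊥`
  have hperp : ∀ m, B v0 m = 0 → a • m = m := by
    intro m hm
    have h1 : a • m + m = 0 := by
      refine hrad _ (K.mem a ha m) fun n => ?_
      rcases S.fun_eq hv0 (g := fun m => B (a • m + m) n) (fun b c => by
          have e : a • (b + c) + (b + c) = (a • b + b) + (a • c + c) := by rw [smul_add]; abel
          change B (a • (b + c) + (b + c)) n = _
          rw [e, S.add_left])
        (fun u hu h => by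
          change B (a • u + u) n = 0
          rw [key u hu h, S.two, S.zero_left]) with h | h
      · exact h m
      · exact (h m).trans hm
    exact K.eq_of_add h1
  rcases z2 (B v0 m) with hm | hm
  · left; exact hperp m hm
  · have hc : ∀ u ∈ Set.range (fun x : H => x • v0), B v0 u = 0 → B (a • m + m) u = 0 := by
      intro u hu' h
      have h1 := F.inv a m u
      rw [hperp u h] at h1
      rw [S.add_left, h1, z2_add]
    rcases S.fun_eq hv0 (g := B (a • m + m)) (S.add_right _) hc with h | h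
    · left; exact K.eq_of_add (hrad _ (K.mem a ha m) h)
    · right
      have h1 := hrad (a • m + m + v0) (add_mem (K.mem a ha m) hvI) (fun n => by
        rw [S.add_left, h, z2_add])
      have h2 := K.eq_of_add h1
      rw [← h2, add_comm m, K.add_add]

end one

/-- **The mixed case is empty.** -/
theorem tv [Finite H] [Finite M] [FaithfulSMul H M] {a0 : H} (ha0 : a0 ∈ A) (h1 : a0 ≠ 1)
    (ht : ∀ m : M, a0 • m = m ∨ a0 • m = m + v0) {a : H} (ha : a ∈ A) (m : M) : a • m = m ∨ a • m = m + v0 := by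
  classical
  by_cases hu : ∀ b ∈ K.A0, b = 1 ∨ b = a0
  · exact K.one ⟨ha0, ht⟩ h1 hu ha m
  · push Not at hu
    obtain ⟨b, hb, hb1, hb0⟩ := hu
    letI : Module (ZMod 2) M := AddCommGroup.zmodModule (n := 2) fun m => by rw [two_nsmul]; exact K.two m
    refine K.big ?_ ha m
    have hA : a0 ∈ K.A0 := ⟨ha0, ht⟩
    have hb00 : b * b = 1 := K.sq b hb.1
    have ha00 : a0 * a0 = 1 := K.sq a0 ha0
    have hab1 : a0 * b ≠ 1 := by
      intro e
      apply hb0
      calc b = (a0 * a0) * b := by rw [ha00, one_mul]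
        _ = a0 * (a0 * b) := by group
        _ = a0 := by rw [e, mul_one]
    have hle : ({1, a0, b, a0 * b} : Finset H).card ≤ Nat.card K.A0 := by
      have h2 : (({1, a0, b, a0 * b} : Finset H) : Set H) ⊆ (K.A0 : Set H) := by
        intro x hx
        simp only [Finset.coe_insert, Finset.coe_singleton, Set.mem_insert_iff, Set.mem_singleton_iff] at hx
        rcases hx with rfl | rfl | rfl | rfl
        · exact one_mem _
        · exact hA
        · exact hb
        · exact mul_mem hA hb
      have h3 := Set.ncard_le_ncard h2 (Set.toFinite _)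
      rwa [Set.ncard_coe_finset, ← Nat.card_coe_set_eq] at h3
    have h5 : ({1, a0, b, a0 * b} : Finset H).card = 4 := by
      rw [Finset.card_insert_of_notMem, Finset.card_insert_of_notMem, Finset.card_insert_of_notMem,
        Finset.card_singleton]
      · simp only [Finset.mem_singleton]
        intro e
        exact h1 (by simpa using e.symm)
      · simp only [Finset.mem_insert, Finset.mem_singleton, not_or]
        exact ⟨fun e => hb0 e.symm, fun e => hb1 (by simpa using e.symm)⟩
      · simp only [Finset.mem_insert, Finset.mem_singleton, not_or]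
        exact ⟨fun e => h1 e.symm, fun e => hb1 e.symm, fun e => hab1 e.symm⟩
    omega

end Hyp

end Cfsg.Agent.Omega.NO3S.TwoOne.Mix
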