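import Cfsg.Agent.Omega.NO3S.TV.TwoEnd
import Cfsg.Agent.Omega.NO3S.TV.Abs

/-!
# NO-3S, `q = 2`, `n = 1`: the mixed case (helper311's text #18168 (2)), module level

`H` faithful on the elementary abelian 2-group `M` spanned by the orbit of `v0`; `O₂(H) = 1`; `A ≤ Stab(v0)` normal in
`Stab(v0)`, quadratic; `v0 + u` is in the orbit for a commutator `u ≠ v0` in the orbit; no proper submodule meets `[M, a]`.

* `Mix.all` : if one `1 ≠ a ∈ A` is a transvection with centre `v0`, all are.
-/

set_option autoImplicit false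
set_option linter.unusedSectionVars false

namespace Cfsg.Agent.Omega.NO3S.TwoOne.Mixed

open Cfsg.Agent.Omega.NO3S.TV

variable {H M : Type*} [Group H] [AddCommGroup M] [Module (ZMod 2) M] [DistribMulAction H M]

/-- the situation -/
structure Mix (v0 : M) (A : Subgroup H) : Prop where
  ne : v0 ≠ 0
  span : AddSubgroup.closure (Set.range fun h : H => h • v0) = ⊤
  o2 : ∀ N : Subgroup H, N.Normal → IsPGroup 2 N → N = ⊥
  nor : ∀ h : H, h • v0 = v0 → ∀ a ∈ A, h * a * h⁻¹ ∈ A
  fix : ∀ a ∈ A, a • v0 = v0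
  quad : ∀ a ∈ A, ∀ b ∈ A, ∀ m : M, a • (b • m - m) = b • m - m
  plane : ∀ a ∈ A, ∀ (m : M) (k : H), a • m - m = k • v0 → k • v0 ≠ v0 → ∃ l : H, v0 + k • v0 = l • v0
  irr : ∀ X : AddSubgroup M, (∀ (h : H), ∀ x ∈ X, h • x ∈ X) → X ≠ ⊤ → ∀ a ∈ A, ∀ m : M, a • m - m ∈ X → a • m = m

theorem add_cancel2 (m n : M) : m + n + n = m := by rw [add_assoc, two_of_module, add_zero]

theorem sub_eq' (m n : M) : m - n = m + n := by
  rw [sub_eq_add_neg, neg_eq_of_add_eq_zero_left (two_of_module n)]

theorem eq_of_add' {m n : M} (h : m + n = 0) : m = n := by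
  rw [← add_cancel2 m n, h, zero_add]

namespace Mix

variable {v0 : M} {A : Subgroup H}

/-- the transvections of `A` with centre `v0` -/
def A0 (c : Mix v0 A) : Subgroup H where
  carrier := {a | a ∈ A ∧ ∀ m : M, a • m = m ∨ a • m = m + v0}
  one_mem' := ⟨one_mem _, fun m => Or.inl (one_smul _ _)⟩
  mul_mem' := by
    rintro a b ⟨ha, ha1⟩ ⟨hb, hb1⟩
    refine ⟨mul_mem ha hb, fun m => ?_⟩
    rw [mul_smul]
    rcases hb1 m with e | e
    · rw [e]; exact ha1 m
    · rw [e, smul_add, c.fix a ha]
      rcases ha1 m with e' | e'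
      · right; rw [e']
      · left; rw [e', add_cancel2]
  inv_mem' := by
    rintro a ⟨ha, ha1⟩
    refine ⟨inv_mem ha, fun m => ?_⟩
    have h1 := ha1 (a⁻¹ • m)
    rw [smul_inv_smul] at h1
    rcases h1 with e | e
    · exact Or.inl e.symm
    · right
      rw [e, add_cancel2]
      exact congrArg (fun x => a⁻¹ • x) e.symm |>.trans (by rfl)

theorem mem_A0 {c : Mix v0 A} {a : H} : a ∈ c.A0 ↔ a ∈ A ∧ ∀ m : M, a • m = m ∨ a • m = m + v0 := Iff.rfl

theorem A0_nor (c : Mix v0 A) {x : H} (hx : x • v0 = v0) {a : H} (ha : a ∈ c.A0) : x * a * x⁻¹ ∈ c.A0 := by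
  refine ⟨c.nor x hx a ha.1, fun m => ?_⟩
  rw [mul_smul, mul_smul]
  rcases ha.2 (x⁻¹ • m) with e | e
  · left; rw [e, smul_inv_smul]
  · right; rw [e, smul_add, smul_inv_smul, hx]

theorem tva (c : Mix v0 A) : TVA v0 c.A0 where
  ne := c.ne
  span := c.span
  o2 := c.o2
  nor := fun _ hx _ ha => c.A0_nor hx ha
  tv := fun _ ha => ha.2
  fix := fun a ha => c.fix a ha.1

/-- `{m | a m = m or a m = m + v0}` is a subgroup -/
def tvs (v0 : M) (a : H) : AddSubgroup M where
  carrier := {m | a • m = m ∨ a • m = m + v0}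
  zero_mem' := Or.inl (smul_zero _)
  add_mem' := by
    rintro m n (h1 | h1) (h2 | h2)
    · left; rw [smul_add, h1, h2]
    · right; rw [smul_add, h1, h2, add_assoc]
    · right; rw [smul_add, h1, h2]; abel
    · left
      rw [smul_add, h1, h2]
      have : m + v0 + (n + v0) = m + n + (v0 + v0) := by abel
      rw [this, two_of_module, add_zero]
  neg_mem' := by
    rintro m (h1 | h1)
    · left; rw [smul_neg, h1]
    · right
      have e : -m = m := neg_eq_of_add_eq_zero_left (two_of_module m)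
      rw [e]; exact h1

variable [Finite H] [Finite M] [FaithfulSMul H M]

/-- the case `|A₀| ≥ 4` -/
theorem all_four (c : Mix v0 A) (hA : 4 ≤ Nat.card c.A0) : ∀ a ∈ A, ∀ m : M, a • m = m ∨ a • m = m + v0 := by
  obtain ⟨B, b1, -, b3, b4, b5, b6, b7, b8, b9⟩ := tv2 c.tva hA
  have hne : ∀ h : H, h • v0 ≠ 0 := fun h e => c.ne ((smul_eq_zero_iff_eq h).mp e)
  -- a common nonzero vector
  have beq : ∀ h k : H, ∀ m : M, m ≠ 0 → m ∈ B h → m ∈ B k → B h = B k := by
    intro h k m hm h1 h2
    rcases b4 h k with e | e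
    · exact e
    · exact absurd (e m h1 h2) hm
  have hv1 : v0 ∈ B 1 := by
    have := b1 1
    rwa [one_smul] at this
  -- blocks which are fixed
  have step1 : ∀ a ∈ A, ∀ j : H, B j ≠ B 1 → B (a * j) = B j → ∀ b ∈ B j, a • b = b := by
    intro a ha j hj haj b hb
    by_contra hcon
    have hd0 : a • b - b ≠ 0 := sub_ne_zero.mpr hcon
    have hab : a • b ∈ B j := by
      rw [← haj]; exact b5 a j b hb
    have hd : a • b - b ∈ B j := sub_mem hab hb
    obtain ⟨k, hk, hkj⟩ := b3 j _ hd hd0
    have hkv : k • v0 ≠ v0 := by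
      intro e
      rw [e] at hk
      rw [hk] at hd
      exact hj (beq j 1 v0 c.ne hd hv1)
    obtain ⟨l, hl⟩ := c.plane a ha b k hk hkv
    have hkB : k • v0 ∈ B j := by rw [← hk]; exact hd
    have hlB := b1 l
    by_cases e1 : B l = B 1
    · have h1 : k • v0 ∈ B 1 := by
        rw [e1, ← hl] at hlB
        have := sub_mem hlB hv1
        rwa [add_sub_cancel_left] at this
      exact hj (beq j 1 _ (hne k) hkB h1)
    by_cases e2 : B l = B j
    · have h1 : v0 ∈ B j := by
        rw [e2, ← hl] at hlB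
        have := sub_mem hlB hkB
        rwa [add_sub_cancel_right] at this
      exact hj (beq j 1 _ c.ne h1 hv1)
    · have h1 : l • v0 ∈ (⨆ h : {h : H // B h ≠ B l}, B h) := by
        rw [← hl]
        refine add_mem ?_ ?_
        · exact (le_iSup (fun h : {h : H // B h ≠ B l} => B h) ⟨1, fun e => e1 e.symm⟩) hv1
        · exact (le_iSup (fun h : {h : H // B h ≠ B l} => B h) ⟨j, fun e => e2 e.symm⟩) hkB
      exact hne l (b9 l _ hlB h1)
  -- all other blocks
  have step2 : ∀ a ∈ A, ∀ j : H, B j ≠ B 1 → ∀ b ∈ B j, a • b = b := by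
    intro a ha j hj
    by_cases haj : B (a * j) = B j
    · exact step1 a ha j hj haj
    exfalso
    obtain ⟨α0, hα0, hα1⟩ : ∃ α0 ∈ c.A0, α0 ≠ 1 := by
      by_contra hcon
      push Not at hcon
      have : c.A0 = ⊥ := by
        rw [eq_bot_iff]
        intro x hx
        exact Subgroup.mem_bot.mpr (hcon x hx)
      rw [this, Subgroup.card_bot] at hA
      omega
    set α := j * α0 * j⁻¹ with hα
    have hα' : α ≠ 1 := by
      intro e
      apply hα1
      calc α0 = j⁻¹ * (j * α0 * j⁻¹) * j := by group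
        _ = 1 := by rw [← hα, e]; group
    have htr : ∀ k : H, B j ≠ B k → ∀ m ∈ B k, α • m = m := fun k hk m hm => b7 j k hk α0 hα0 m hm
    have hfix : α • v0 = v0 := htr 1 hj v0 hv1
    have hγ : α * a * α⁻¹ * a⁻¹ ∈ A := mul_mem (c.nor α hfix a ha) (inv_mem ha)
    -- on `B j`
    have hact : ∀ m ∈ B j, (α * a * α⁻¹ * a⁻¹) • m = α • m := by
      intro m hm
      have e : α * a * α⁻¹ * a⁻¹ = α * ((a * j) * α0⁻¹ * (a * j)⁻¹) := by rw [hα]; group
      rw [e, mul_smul, b7 (a * j) j haj α0⁻¹ (inv_mem hα0) m hm]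
    have hjv : α • j • v0 = j • v0 := by
      rw [hα, mul_smul, mul_smul, inv_smul_smul, c.fix α0 hα0.1]
    have hγj : B (α * a * α⁻¹ * a⁻¹ * j) = B j := by
      refine beq _ _ (j • v0) (hne j) ?_ (b1 j)
      have := b5 (α * a * α⁻¹ * a⁻¹) j _ (b1 j)
      rwa [hact _ (b1 j), hjv] at this
    have hγt := step1 _ hγ j hj hγj
    apply hα'
    refine FaithfulSMul.eq_of_smul_eq_smul (α := M) fun m => ?_
    rw [one_smul]
    have hm : m ∈ ⨆ h, B h := by rw [b8]; trivial
    let S : AddSubgroup M :=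
      { carrier := {m | α • m = m}
        zero_mem' := smul_zero _
        add_mem' := fun {a b} ha hb => by
          change α • (a + b) = a + b
          rw [smul_add, show α • a = a from ha, show α • b = b from hb]
        neg_mem' := fun {a} ha => by
          change α • (-a) = -a
          rw [smul_neg, show α • a = a from ha] }
    have hS : (⨆ h, B h) ≤ S := by
      refine iSup_le fun h n hn => ?_
      by_cases e : B j = B h
      · change α • n = n
        rw [← e] at hn
        rw [← hact n hn]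
        exact hγt n hn
      · exact htr h e n hn
    exact hS hm
  -- the first block
  intro a ha m
  have hm : m ∈ ⨆ h, B h := by rw [b8]; trivial
  have hle : (⨆ h, B h) ≤ tvs v0 a := by
    refine iSup_le fun h n hn => ?_
    by_cases e : B h = B 1
    · rw [e] at hn
      change a • n = n ∨ a • n = n + v0
      by_contra hcon
      push Not at hcon
      have haB : B (a * 1) = B 1 := by
        refine beq _ _ v0 c.ne ?_ hv1
        have := b5 a 1 v0 hv1
        rwa [c.fix a ha] at this
      have hd : a • n - n ∈ B 1 := by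
        have := b5 a 1 n hn
        rw [haB] at this
        exact sub_mem this hn
      have hd0 : a • n - n ≠ 0 := sub_ne_zero.mpr hcon.1
      have hd1 : a • n - n ≠ v0 := fun e1 => hcon.2 (by rw [← e1]; abel)
      -- a functional on `B 1`
      let D : sbm (B 1) := ⟨a • n - n, hd⟩
      let L : sbm (B 1) := ⟨v0, hv1⟩
      have hDL : D ∉ Submodule.span (ZMod 2) {L} := by
        rw [Submodule.mem_span_singleton]
        rintro ⟨r, hr⟩
        have hr' : r • v0 = a • n - n := congrArg Subtype.val hr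
        rcases z2_cases r with e2 | e2
        · rw [e2, zero_smul] at hr'; exact hd0 hr'.symm
        · rw [e2, one_smul] at hr'; exact hd1 hr'.symm
      obtain ⟨g, hgD, hgL⟩ := Submodule.exists_dual_map_eq_bot_of_notMem hDL inferInstance
      have hL : g L = 0 := by
        have h1 : g L ∈ (Submodule.span (ZMod 2) {L}).map g := ⟨L, Submodule.mem_span_singleton_self L, rfl⟩
        rw [hgL] at h1
        exact (Submodule.mem_bot _).mp h1
      have h11 : (1 : H) • v0 ∈ B 1 := b1 1
      obtain ⟨β, hβ, hβ1⟩ := b6 1 g h11 (by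
        have : (⟨(1 : H) • v0, h11⟩ : sbm (B 1)) = L := Subtype.ext (one_smul _ _)
        rw [this]; exact hL)
      have h2 := hβ1 (a • n - n) hd
      have h3 : g ⟨a • n - n, hd⟩ = 1 := (z2_cases _).resolve_left hgD
      rw [h3, one_smul, one_smul, one_mul, inv_one, mul_one, c.quad β hβ.1 a ha n, left_eq_add] at h2
      exact c.ne h2
    · exact Or.inl (step2 a ha h e n hn)
  exact hle hm

/-- the case `A₀ = {1, a0}` -/
theorem all_two (c : Mix v0 A) {a0 : H} (ha0 : a0 ∈ c.A0) (ha01 : a0 ≠ 1) (h2 : ∀ a ∈ c.A0, a = 1 ∨ a = a0) :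
    ∀ a ∈ A, ∀ m : M, a • m = m ∨ a • m = m + v0 := by
  have hcen : ∀ x : H, x • v0 = v0 → x * a0 = a0 * x := by
    intro x hx
    rcases h2 _ (c.A0_nor hx ha0) with e | e
    · exfalso
      apply ha01
      calc a0 = x⁻¹ * (x * a0 * x⁻¹) * x := by group
        _ = 1 := by rw [e]; group
    · calc x * a0 = (x * a0 * x⁻¹) * x := by group
        _ = a0 * x := by rw [e]
  obtain ⟨m1, hm1⟩ : ∃ m : M, a0 • m ≠ m := by
    by_contra hcon
    push Not at hcon
    exact ha01 (FaithfulSMul.eq_of_smul_eq_smul (α := M) fun m => by rw [one_smul]; exact hcon m)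
  have P : Abs.Pre v0 a0 :=
    { two := two_of_module
      ne := ⟨m1, hm1⟩
      mv := ha0.2
      stab := hcen
      span := c.span
      sym := by
        intro x hx
        -- `x⁻¹ a0 x` fixes `v0`
        have h3 : (x⁻¹ * a0 * x) • v0 = v0 := by
          rw [mul_smul, mul_smul, hx, inv_smul_smul]
        have h4 := hcen _ h3
        have h5 : (x * a0 * x⁻¹) * a0 = a0 * (x * a0 * x⁻¹) := by
          calc (x * a0 * x⁻¹) * a0 = x * (a0 * (x⁻¹ * a0 * x)) * x⁻¹ := by group
            _ = x * ((x⁻¹ * a0 * x) * a0) * x⁻¹ := by rw [h4]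
            _ = a0 * (x * a0 * x⁻¹) := by group
        set y := x * a0 * x⁻¹ with hy
        have h6 : a0 • m1 = m1 + v0 := (ha0.2 m1).resolve_left hm1
        have h7 : a0 • y • m1 = y • m1 + y • v0 := by
          rw [← mul_smul, ← h5, mul_smul, h6, smul_add]
        rcases ha0.2 (y • m1) with h8 | h8
        · rw [h7, add_eq_left] at h8
          exact absurd ((smul_eq_zero_iff_eq y).mp h8) c.ne
        · rw [h7] at h8
          exact add_left_cancel h8 }
  obtain ⟨B, F⟩ := P.exists_form
  have S := F.sys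
  have hv0 : v0 ∈ Set.range fun x : H => x • v0 := ⟨1, one_smul _ _⟩
  -- the radical
  let Rad : AddSubgroup M :=
    { carrier := {m | ∀ n, B m n = 0}
      zero_mem' := fun n => S.zero_left n
      add_mem' := fun {a b} ha hb n => by rw [F.add_left, ha n, hb n, add_zero]
      neg_mem' := fun {a} ha n => by rw [S.neg_eq]; exact ha n }
  have hRad : ∀ (h : H), ∀ x ∈ Rad, h • x ∈ Rad := by
    intro h x hx n
    have := F.inv h x (h⁻¹ • n)
    rw [smul_inv_smul] at this
    rw [this]; exact hx _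
  have hRadv : v0 ∉ Rad := by
    intro hv
    obtain ⟨m, hm⟩ := F.ne
    have := hv m
    rw [F.symm, hm] at this
    exact one_ne_zero this
  -- `O₂(H) = 1`
  have hrd : ∀ x : H, (∀ m : M, x • m - m ∈ Rad) → (∀ m ∈ Rad, x • m = m) → x = 1 := by
    intro x hx1 hx2
    let rd : Subgroup H :=
      { carrier := {x | (∀ m : M, x • m - m ∈ Rad) ∧ ∀ m ∈ Rad, x • m = m}
        one_mem' := ⟨fun m => by simp [zero_mem], fun m _ => one_smul _ _⟩
        mul_mem' := by
          rintro x y ⟨hx1, hx2⟩ ⟨hy1, hy2⟩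
          refine ⟨fun m => ?_, fun m hm => by rw [mul_smul, hy2 m hm, hx2 m hm]⟩
          have : (x * y) • m - m = (x • y • m - y • m) + (y • m - m) := by rw [mul_smul]; abel
          rw [this]
          exact add_mem (hx1 _) (hy1 _)
        inv_mem' := by
          rintro x ⟨hx1, hx2⟩
          refine ⟨fun m => ?_, fun m hm => by rw [inv_smul_eq_iff, hx2 m hm]⟩
          have := neg_mem (hx1 (x⁻¹ • m))
          rwa [smul_inv_smul, neg_sub] at this }
    have hb : rd = ⊥ := by
      refine c.o2 _ ⟨fun x hx g => ?_⟩ ?_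
      · obtain ⟨h1, h2⟩ := hx
        constructor
        · intro m
          have h3 := hRad g _ (h1 (g⁻¹ • m))
          rw [smul_sub, smul_inv_smul] at h3
          rwa [mul_smul, mul_smul]
        · intro m hm
          have h3 := h2 _ (hRad g⁻¹ _ hm)
          rw [mul_smul, mul_smul, h3, smul_inv_smul]
      · rw [IsPGroup]
        rintro ⟨x, h1, h2⟩
        refine ⟨1, Subtype.ext ?_⟩
        change x ^ (2 ^ 1) = 1
        rw [pow_one, pow_two]
        refine FaithfulSMul.eq_of_smul_eq_smul (α := M) fun m => ?_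
        have h3 := h2 _ (h1 m)
        rw [smul_sub, sub_eq_sub_iff_add_eq_add, two_of_module] at h3
        rw [mul_smul, one_smul]
        exact (eq_neg_of_add_eq_zero_left h3).trans (neg_eq_of_add_eq_zero_left (two_of_module m))
    have : x ∈ rd := ⟨hx1, hx2⟩
    rw [hb] at this
    exact Subgroup.mem_bot.mp this
  -- `t_x`
  have htx : ∀ (x : H) (m : M), (B m (x • v0) = 0 ∧ (x * a0 * x⁻¹) • m = m) ∨
      (B m (x • v0) = 1 ∧ (x * a0 * x⁻¹) • m = m + x • v0) := by
    intro x m
    rcases z2 (B m (x • v0)) with e | e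
    · exact Or.inl ⟨e, F.fix x m e⟩
    · exact Or.inr ⟨e, F.mv x m e⟩
  -- (1.3)
  have hinj : ∀ x y : H, (∀ m, B (x • v0) m = B (y • v0) m) → x • v0 = y • v0 := by
    intro x y hxy
    have hr : x • v0 + y • v0 ∈ Rad := fun n => by rw [F.add_left, hxy n, z2_add]
    have hyy : B (y • v0) (x • v0) = 0 := by rw [F.symm, hxy, F.self]
    have e1 : ∀ m, (x * a0 * x⁻¹ * (y * a0 * y⁻¹)) • m = m ∨
        (x * a0 * x⁻¹ * (y * a0 * y⁻¹)) • m = m + (x • v0 + y • v0) := by
      intro m
      rw [mul_smul]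
      rcases htx y m with ⟨h3, h4⟩ | ⟨h3, h4⟩
      · left
        rw [h4]
        exact F.fix x m (by rw [F.symm, hxy, F.symm, h3])
      · right
        rw [h4]
        have h5 : B (m + y • v0) (x • v0) = 1 := by
          rw [F.add_left, hyy, add_zero, F.symm, hxy, F.symm, h3]
        rw [F.mv x _ h5]
        abel
    have h1 := hrd (x * a0 * x⁻¹ * (y * a0 * y⁻¹)) (fun m => by
      rcases e1 m with e | e
      · rw [e, sub_self]; exact zero_mem _
      · rw [e, add_sub_cancel_left]; exact hr) (fun m hm => by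
      rw [mul_smul, F.fix y m (hm _), F.fix x m (hm _)])
    obtain ⟨m, hm⟩ := S.nd _ ⟨y, rfl⟩
    change B (y • v0) m = 1 at hm
    have h3 : (x * a0 * x⁻¹ * (y * a0 * y⁻¹)) • m = m + (x • v0 + y • v0) := by
      rw [mul_smul, F.mv y m (by rw [F.symm]; exact hm)]
      rw [F.mv x _ (by rw [F.add_left, hyy, add_zero, F.symm, hxy]; exact hm)]
      abel
    rw [h1, one_smul, left_eq_add] at h3
    exact eq_of_add' h3
  -- `A` centralises `TT ∩ λ^⊥`
  have hperp : ∀ a ∈ A, ∀ x : H, B v0 (x • v0) = 0 → a • x • v0 = x • v0 := by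
    intro a ha x hx
    by_contra hcon
    have hne : a • x • v0 ≠ x • v0 := hcon
    have hfix : (x * a0 * x⁻¹) • v0 = v0 := F.fix x v0 hx
    have hc : (x * a0 * x⁻¹) * a * (x * a0 * x⁻¹)⁻¹ * a⁻¹ ∈ A := mul_mem (c.nor _ hfix a ha) (inv_mem ha)
    have h00 : a0 * a0 = 1 := by
      refine FaithfulSMul.eq_of_smul_eq_smul (α := M) fun m => ?_
      rw [mul_smul, one_smul]
      rcases ha0.2 m with e | e
      · rw [e, e]
      · rw [e, smul_add, e, c.fix a0 ha0.1, add_cancel2]
    have h01 : a0⁻¹ = a0 := inv_eq_of_mul_eq_one_right h00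
    have he : (x * a0 * x⁻¹) * a * (x * a0 * x⁻¹)⁻¹ * a⁻¹ = (x * a0 * x⁻¹) * ((a * x) * a0 * (a * x)⁻¹) := by
      calc (x * a0 * x⁻¹) * a * (x * a0 * x⁻¹)⁻¹ * a⁻¹ = (x * a0 * x⁻¹) * ((a * x) * a0⁻¹ * (a * x)⁻¹) := by group
        _ = _ := by rw [h01]
    rw [he] at hc
    -- a vector
    obtain ⟨m, hm1, hm2⟩ : ∃ m, B m (a • x • v0) = 0 ∧ B m (x • v0) = 1 := by
      by_contra hno
      push Not at hno
      have hno' : ∀ m, B m (a • x • v0) = 0 → B m (x • v0) = 0 := fun m hm => z2_ne' (hno m hm)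
      obtain ⟨m2, hm2⟩ := S.nd _ ⟨x, rfl⟩
      change B (x • v0) m2 = 1 at hm2
      rw [F.symm] at hm2
      have hm3 : B m2 (a • x • v0) = 1 := by
        rcases z2 (B m2 (a • x • v0)) with e | e
        · rw [hno' m2 e] at hm2; exact absurd hm2 zero_ne_one
        · exact e
      apply hne
      have := hinj (a * x) x (fun m => by
        rw [mul_smul, F.symm _ m, F.symm _ m]
        rcases z2 (B m (a • x • v0)) with e | e
        · rw [e, hno' m e]
        · rw [e]
          have h3 := hno' (m + m2) (by rw [F.add_left, e, hm3, z2_add])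
          rw [F.add_left, hm2] at h3
          have h4 := z2_eq_of_add h3
          exact h4.symm)
      rwa [mul_smul] at this
    have h3 : ((x * a0 * x⁻¹) * ((a * x) * a0 * (a * x)⁻¹)) • m = m + x • v0 := by
      rw [mul_smul, F.fix (a * x) m (by rw [mul_smul]; exact hm1), F.mv x m hm2]
    have h4 := c.quad a ha _ hc m
    rw [h3, add_sub_cancel_left] at h4
    exact hne h4
  -- `A` centralises `λ^⊥`
  have hcl : ∀ a ∈ A, ∀ m, B v0 m = 0 → a • m = m := by
    intro a ha m hm
    by_contra hcon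
    have hd : a • m - m ≠ 0 := sub_ne_zero.mpr hcon
    have h1 : ¬ ∀ φ : Module.Dual (ZMod 2) M, φ (a • m - m) = 0 := by
      rw [Module.forall_dual_apply_eq_zero_iff (ZMod 2)]; exact hd
    push Not at h1
    obtain ⟨φ, hφ⟩ := h1
    rcases S.fun_eq hv0 (g := fun n => φ (a • n - n)) (fun p q => by
        have : a • (p + q) - (p + q) = (a • p - p) + (a • q - q) := by rw [smul_add]; abel
        rw [this, map_add]) (by
        rintro _ ⟨x, rfl⟩ hx
        change φ (a • x • v0 - x • v0) = 0
        rw [hperp a ha x hx, sub_self, map_zero]) with h3 | h3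
    · exact hφ (h3 m)
    · have := h3 m
      rw [hm] at this
      exact hφ this
  intro a ha m
  obtain ⟨m0, hm0⟩ := F.ne
  have hm0' : B v0 m0 = 1 := by rw [F.symm]; exact hm0
  have ha0m : a0 • m0 = m0 + v0 := by
    have := F.mv 1 m0 (by rw [one_smul]; exact hm0)
    rwa [one_smul, one_mul, inv_one, mul_one] at this
  -- `a m = m + (λ, m) c`
  have hform : ∀ n, B v0 n = 1 → a • n - n = a • m0 - m0 := by
    intro n hn
    have h1 := hcl a ha (n + m0) (by rw [F.add_right, hn, hm0', z2_add])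
    rw [smul_add] at h1
    have h3 : a • n - n = -(a • m0 - m0) := by
      rw [eq_neg_iff_add_eq_zero]
      calc a • n - n + (a • m0 - m0) = (a • n + a • m0) - (n + m0) := by abel
        _ = 0 := by rw [h1, sub_self]
    rw [h3, neg_eq_of_add_eq_zero_left (two_of_module _)]
  set d := a • m0 - m0 with hd
  have ham0 : a • m0 = m0 + d := by rw [hd]; abel
  have hRadne : Rad ≠ ⊤ := fun e => hRadv (by rw [e]; trivial)
  -- isometry
  have hiso : ∀ n, B d n = B m0 d * B v0 n := by
    intro n
    rcases z2 (B v0 n) with e | e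
    · rw [e, mul_zero]
      have h1 := F.inv a m0 n
      rw [ham0, hcl a ha n e, F.add_left] at h1
      have h3 : B m0 n + B d n = B m0 n + 0 := by rw [h1, add_zero]
      exact add_left_cancel h3
    · rw [e, mul_one]
      have h1 := F.inv a m0 n
      have h3 : a • n = n + d := by rw [← hform n e]; abel
      rw [ham0, h3, F.add_left, F.add_right, F.add_right, F.self, add_zero] at h1
      have h4 : B m0 n + (B m0 d + B d n) = B m0 n + 0 := by rw [← add_assoc, h1, add_zero]
      exact (z2_eq_of_add (add_left_cancel h4)).symm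
  have hdc : d = 0 ∨ d = v0 := by
    rcases z2 (B m0 d) with e | e
    · left
      have hdR : d ∈ Rad := fun n => by rw [hiso, e, zero_mul]
      have := c.irr Rad hRad hRadne a ha m0 (by rw [← hd]; exact hdR)
      rw [hd, this, sub_self]
    · right
      have hdR : d + v0 ∈ Rad := fun n => by rw [F.add_left, hiso, e, one_mul, z2_add]
      have h1 : (a * a0) • m0 - m0 = d + v0 := by
        rw [mul_smul, ha0m, smul_add, c.fix a ha, ham0]; abel
      have h3 := c.irr Rad hRad hRadne (a * a0) (mul_mem ha ha0.1) m0 (by rw [h1]; exact hdR)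
      rw [h3, sub_self] at h1
      exact eq_of_add' h1.symm
  rcases z2 (B v0 m) with e | e
  · exact Or.inl (hcl a ha m e)
  · have h1 : a • m = m + d := by rw [← hform m e]; abel
    rcases hdc with h3 | h3
    · left; rw [h1, h3, add_zero]
    · right; rw [h1, h3]

/-- **The mixed case**: if one `1 ≠ a ∈ A` is a transvection with centre `v0`, all are. -/
theorem all (c : Mix v0 A) {a0 : H} (ha0 : a0 ∈ A) (ha01 : a0 ≠ 1) (ht : ∀ m : M, a0 • m = m ∨ a0 • m = m + v0) :
    ∀ a ∈ A, ∀ m : M, a • m = m ∨ a • m = m + v0 := by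
  have h0 : a0 ∈ c.A0 := ⟨ha0, ht⟩
  by_cases h2 : ∀ a ∈ c.A0, a = 1 ∨ a = a0
  · exact c.all_two h0 ha01 h2
  · push Not at h2
    obtain ⟨a1, h1, h11, h10⟩ := h2
    refine c.all_four ?_
    have hsq : ∀ a ∈ c.A0, a * a = 1 := by
      intro a ha
      refine FaithfulSMul.eq_of_smul_eq_smul (α := M) fun m => ?_
      rw [mul_smul, one_smul]
      rcases ha.2 m with e | e
      · rw [e, e]
      · rw [e, smul_add, e, c.fix a ha.1, add_cancel2]
    have e01 : a0 * a1 ≠ 1 := by
      intro e
      apply h10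
      have := hsq a0 h0
      rw [← this] at e
      exact mul_left_cancel e
    have e02 : a0 * a1 ≠ a0 := fun e => h11 (by simpa using e)
    have e03 : a0 * a1 ≠ a1 := fun e => ha01 (by simpa using e)
    classical
    have hsub : ({⟨1, one_mem _⟩, ⟨a0, h0⟩, ⟨a1, h1⟩, ⟨a0 * a1, mul_mem h0 h1⟩} : Finset c.A0).card = 4 := by
      rw [Finset.card_insert_of_notMem, Finset.card_insert_of_notMem, Finset.card_insert_of_notMem,
        Finset.card_singleton]
      · simpa using fun e => ha01 e
      · simp only [Finset.mem_insert, Finset.mem_singleton, Subtype.mk.injEq, not_or]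
        exact ⟨Ne.symm h10, Ne.symm e02⟩
      · simp only [Finset.mem_insert, Finset.mem_singleton, Subtype.mk.injEq, not_or]
        exact ⟨Ne.symm ha01, Ne.symm h11, Ne.symm e01⟩
    have : Fintype c.A0 := Fintype.ofFinite _
    rw [Nat.card_eq_fintype_card, ← hsub]
    exact Finset.card_le_univ _

end Mix

end Cfsg.Agent.Omega.NO3S.TwoOne.Mixed
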