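import Cfsg.Agent.Omega.NO3S.TwoOne.InstD
import Cfsg.Agent.Omega.NO3S.TwoOne.Cases

/-!
# NO-3S, `q = 2`, `n = 1`, `k ≥ 2`: far pairs

* `One.four_of_not_kOne` : `¬ KOne V` : `4 ≤ |W_z : E_z|`;
* `One.in_four` : `4 ≤ |A_l|`;
* `One.exists_far` : for `l ∈ LL R y` some `m ∈ LL R y` with `AL R y l m ≠ 1`.
-/

set_option autoImplicit false
set_option linter.unusedSectionVars false

namespace Cfsg.Agent.Omega.NO3S.TwoOne

open Subgroup Cfsg Cfsg.Agent.ZN Cfsg.Agent.MinSimple.Geo Cfsg.Agent.Omega.CaseL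
open Cfsg.Agent.Omega.NO3S.Fit
open scoped commutatorElement

universe u

variable {G : Type u} [Group G]

namespace One

variable {T V : Subgroup G} {z : G}

/-- `k ≥ 2` -/
theorem four_of_not_kOne [Finite G] (h : One T V z) (hk : ¬ KOne V) :
    4 ≤ (ee V z).relIndex (ws V z) := by
  have hfact : Fact (Nat.Prime 2) := ⟨Nat.prime_two⟩
  have hz := h.ln.z_mem
  have hz1 := h.ln.z_ne
  have h1 : (ee V z).relIndex (ws V z) ≠ 2 := fun e => hk fun p hp hp1 => by
    rw [h.relIndex_ee_ws hp hp1 hz hz1, e]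
  have h2 : (ee V z).relIndex (ws V z) ≠ 1 := fun e => by
    exact h.not_ws_le_ee hz hz1 (relIndex_eq_one.mp e)
  have hP : IsPGroup 2 (ws V z) := fun x => ⟨1, by
    have := h.sq hz hz1 x x.2
    ext
    rw [pow_one, pow_two]
    exact this⟩
  obtain ⟨n, hn⟩ := IsPGroup.iff_card.mp hP
  have h3 : (ee V z).relIndex (ws V z) ∣ 2 ^ n := hn ▸ relIndex_dvd_card _ _
  obtain ⟨k, -, hk'⟩ := (Nat.dvd_prime_pow Nat.prime_two).mp h3
  rw [hk'] at h1 h2 ⊢
  have h4 : 2 ≤ k := by
    rcases k with _ | _ | k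
    · exact absurd rfl h2
    · exact absurd rfl h1
    · omega
  calc 4 = 2 ^ 2 := by norm_num
    _ ≤ 2 ^ k := Nat.pow_le_pow_right (by norm_num) h4

variable {M H : Type u} [AddCommGroup M] [Group H] [DistribMulAction H M]
  (h : One T V z) (R : MRep V cg z M H) {y : G} (hy : y ∈ V) (hy1 : y ≠ 1) (hyz : y ≠ z)
include h hy hy1 hyz

/-- `k ≥ 2` -/
theorem in_four [Finite G] (h4 : 4 ≤ (ee V z).relIndex (ws V z)) {l : M} (hl : l ∈ LL R y) :
    4 ≤ Nat.card (AA R y l) := by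
  rw [h.in_card R hy hy1 hyz hl]; exact h4

/-- there are line vectors outside of `Ē_l` -/
theorem exists_far [Finite G] (h4 : 4 ≤ (ee V z).relIndex (ws V z)) {l : M} (hl : l ∈ LL R y) :
    ∃ m ∈ LL R y, AL R y l m ≠ 1 := by
  by_contra hcon
  push Not at hcon
  have h0 : AL R y l 0 = 1 := by
    have := h.in_al_add R hy hy1 hyz hl 0 0
    rw [add_zero] at this
    simpa using this
  have h1 : ∀ m : M, AL R y l m = 1 := by
    intro m
    have hm : m ∈ AddSubgroup.closure (LL R y) := by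
      rw [h.in_gen R hy hy1 hyz]; exact AddSubgroup.mem_top m
    induction hm using AddSubgroup.closure_induction with
    | mem x hx => exact hcon x hx
    | zero => exact h0
    | add a b _ _ ha hb => rw [h.in_al_add R hy hy1 hyz hl, ha, hb, one_mul]
    | neg a _ ha =>
      rw [h.rp_neg R]; exact ha
  have h2 : AA R y l = ⊥ := by
    rw [eq_bot_iff]
    intro a ha
    obtain ⟨m, hm⟩ := h.in_al_surj R hy hy1 hyz hl ha
    rw [mem_bot, ← hm]; exact h1 m
  have h3 := h.in_four R hy hy1 hyz h4 hl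
  rw [h2] at h3
  simp at h3

end One

end Cfsg.Agent.Omega.NO3S.TwoOne
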