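import Cfsg.Agent.Omega.NO3S.TwoOne.NtBigA
import Cfsg.Agent.Omega.NO3S.TwoOne.SigI
import Cfsg.Agent.Omega.NO3S.TwoOne.SG.AlphaPair
import Cfsg.Agent.Omega.NO3S.TwoOne.PP.Base

/-!
# NO-3S, `q = 2`, `n = 1`, no `λ`-transvections, `k ≥ 2`: the instance of `PP.Gen`

* `One.in_sigma'` : SIGMA_k with `orderOf`;
* `One.pp` : `PP.Gen (LL R y) (AA R y) (II R y) (AL R y)`.
-/

set_option autoImplicit false
set_option linter.unusedSectionVars false

namespace Cfsg.Agent.Omega.NO3S.TwoOne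

open Subgroup Cfsg Cfsg.Agent.ZN Cfsg.Agent.MinSimple.Geo Cfsg.Agent.Omega.CaseL
open Cfsg.Agent.Omega.NO3S.Fit
open scoped commutatorElement

universe u

variable {G : Type u} [Group G]

namespace One

variable {T V : Subgroup G} {z : G} {M H : Type u} [AddCommGroup M] [Group H] [DistribMulAction H M]
  (h : One T V z) (R : MRep V cg z M H) {y : G} (hy : y ∈ V) (hy1 : y ≠ 1) (hyz : y ≠ z)
include h hy hy1 hyz

theorem in_sigma' [Finite G] (hN : NT V) (h4 : 4 ≤ (ee V z).relIndex (ws V z)) {l : M} {a o : H} (hl : l ∈ LL R y)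
    (ha : a ∈ AA R y l) (ha1 : a ≠ 1) (ho1 : o ≠ 1) (ho : Odd (orderOf o)) (hao : a * o * a⁻¹ = o⁻¹) :
    o * o * o = 1 ∧ a • (o • l) = o • l + l ∧ AL R y l (o • l) = 1 := by
  obtain ⟨h1, h2, h3, -⟩ := h.in_sigma R hy hy1 hyz hN h4 hl ha ha1 ho (pow_orderOf_eq_one o) ho1 hao
  refine ⟨?_, h3, h2⟩
  rwa [pow_succ, pow_two] at h1

/-- the instance -/
theorem pp [Finite G] [Finite H] (hN : NT V) (h4 : 4 ≤ (ee V z).relIndex (ws V z)) :
    PP.Gen (LL R y) (AA R y) (II R y) (AL R y) where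
  two := h.rp_two R
  zero := fun h0 => h.in_ne R hy hy1 hyz h0 rfl
  gen := h.in_gen R hy hy1 hyz
  smul := fun x _ hl => smul_mem_LL R y x hl
  trans := fun hl hm => trans_LL R y hl hm
  A_conj := fun _ _ _ hl ha => h.in_A_conj R hy hy1 hyz hl ha
  I_conj := fun x _ _ hl hu => h.in_I_conj R hy hy1 hyz hl x hu
  sq := fun hl ha => h.in_sq R hy hy1 hyz hl ha
  four := fun hl => h.in_four R hy hy1 hyz h4 hl
  self := fun hl => h.in_self R hy hy1 hyz hl
  comm := fun hl ha m => h.in_comm R hy hy1 hyz hl ha m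
  fix := fun hl ha hu => h.in_fix R hy hy1 hyz hl ha hu
  al_mem := fun hl m => h.in_al_mem R hy hy1 hyz hl m
  al_add := fun hl m m' => h.in_al_add R hy hy1 hyz hl m m'
  al_surj := fun hl ha => h.in_al_surj R hy hy1 hyz hl ha
  al_smul := fun x _ hl m => h.in_al_conj R hy hy1 hyz hl x m
  al_ker := fun hl m => h.in_al_ker R hy hy1 hyz hN hl m
  sy := fun hl m m' => h.in_sy R hy hy1 hyz hl m m'
  phi := fun hl ha ha1 => h.in_phi R hy hy1 hyz hN hl ha ha1
  Kt := fun hl hu hu0 hul => by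
    obtain ⟨c, h1, h2, h3, -⟩ := h.in_Kt R hy hy1 hyz hl hu hu0 hul
    exact ⟨c, h1, h2, h3⟩
  nrm := fun hl hx => h.in_norm R hy hy1 hyz hl hx
  s1 := fun hl hm h1 h2 _ he he' => h.in_s1 R hy hy1 hyz hN hl hm h1 h2 he he'
  s3 := fun hl hm h1 h2 h3 _ he => h.in_s3 R hy hy1 hyz hN hl hm h1 h2 h3 he
  alpha := fun hl hm h1 h2 _ hu hu' hu0 => h.m_alpha_pair hN R hy hy1 hyz hl hm h1 h2 hu hu' hu0
  kappa := fun {l m} hl hm h1 h2 x hx hx' hf => by
    obtain ⟨u, hu0, hu, hu'⟩ := h.m_kappa' hN R hy hy1 hyz hl hm h2 (v := x)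
      (fun e => hx (by
        have h5 := congrArg (· + x) e
        simp only [add_assoc, h.rp_two R, add_zero, zero_add] at h5
        exact h5))
      (fun e => hx' (by
        have h5 := congrArg (· + x) e
        simp only [add_assoc, h.rp_two R, add_zero] at h5
        rw [h5, add_comm])) hf
    exact ⟨u, hu, hu', hu0⟩
  bs := fun {l a} hl ha ha1 => by
    obtain ⟨o, h1, h2, h3⟩ := h.in_bs R hy hy1 hyz hl ha ha1
    refine ⟨o, h1, h2, ?_⟩
    have h5 : a⁻¹ = a := inv_eq_of_mul_eq_one_left (h.in_sq R hy hy1 hyz hl ha)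
    rwa [h5] at h3

end One

end Cfsg.Agent.Omega.NO3S.TwoOne
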