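import Cfsg.Agent.Omega.NO3S.TwoOne.Four

/-!
# NO-3S, `q = 2`, `n = 1`: `Φ = A^*` (helper409's text #17866, (N1))

`h : One T V z`, `p ≠ q` points of `V`.

* `One.w1_le_n0` : `C_{W_q}(E_p) ≤ {b | [b, W_p] ≤ V}` (no hypothesis on `A`): `Φ^⊥ ≤ rad β`;
* `NT V` : `One.nt_w1` : `C_{W_q}(E_p) = E_q`; `One.nt_phi_card` : `|E_p : D_p| = |W_q : E_q|`;
  `One.nt_relIndex_dd` : `|W_p : D_p| = |A| ^ 2`;
  `One.nt_fun_ee` : every functional of `A` is induced by an element of `E_p`: for `E_q ≤ X`, `|W_q : X| = 2`, some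
  `e ∈ E_p` has `C_{W_q}(e) = X`;
* `One.nt_move_ee` : `b ∈ W_z - E_z` is moved to `z b` by some `e ∈ E_y`;
* `One.mul_conj_kq` : `w w^k ∈ K_z` for `w ∈ W_y`, `k ∈ K_z`; `One.nt_move_dd` : `b ∈ W_z - D_z` is moved to `z b` by
  some `g ∈ ⟨W_p | p ∈ V#⟩ ∩ K_z`; `One.nt_fun_dd` : every functional of `W_z / D_z` is induced by such a `g`;
-/

set_option autoImplicit false
set_option linter.unusedSectionVars false

namespace Cfsg.Agent.Omega.NO3S.TwoOne

open Subgroup Cfsg Cfsg.Agent.ZN Cfsg.Agent.MinSimple.Geo Cfsg.Agent.Omega.CaseL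
open Cfsg.Agent.ZN.Block (conj_mem_of_normalizer conj_mem_of_normalizer' le_normalizer_of_forall
  mem_normalizer_of)
open scoped commutatorElement

universe u

variable {G : Type u} [Group G]

/-- `F_l = ⟨W_p | p ∈ V#⟩` -/
def fl (V : Subgroup G) : Subgroup G := closure {w | ∃ p ∈ V, p ≠ 1 ∧ w ∈ ws V p}

theorem ws_le_fl {V : Subgroup G} {p : G} (hp : p ∈ V) (hp1 : p ≠ 1) : ws V p ≤ fl V :=
  fun _ hw => subset_closure ⟨p, hp, hp1, hw⟩

theorem fl_le {V U : Subgroup G} (h : ∀ p ∈ V, p ≠ 1 → ws V p ≤ U) : fl V ≤ U := by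
  unfold fl
  rw [closure_le]
  rintro w ⟨p, hp, hp1, hw⟩
  exact h p hp hp1 hw

/-- the elements of `D_p` commute with `F_l` -/
theorem dd_comm_fl {V : Subgroup G} {p d f : G} (hd : d ∈ dd V p) (hf : f ∈ fl V) : d * f = f * d := by
  have h1 : fl V ≤ centralizer ({d} : Set G) := fl_le fun q hq hq1 w hw =>
    mem_centralizer_singleton_iff.mpr (hd.2 q hq hq1 w hw).symm
  exact (mem_centralizer_singleton_iff.mp (h1 hf)).symm

/-- all functionals: `[K, W] ≤ ⟨z⟩`, `C_W(K) ≤ X ≤ W`, `|W : X| = 2`; some `k ∈ K` has `C_W(k) = X`. -/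
theorem exists_fun [Finite G] {K W X : Subgroup G} {z : G} (hz : z * z = 1) (hz1 : z ≠ 1)
    (hzK : ∀ k ∈ K, z * k = k * z) (hzW : ∀ w ∈ W, z * w = w * z)
    (hKW : ∀ k ∈ K, ∀ w ∈ W, k * w = w * k ∨ k * w = z * (w * k)) (hX : X ≤ W) (h2 : X.relIndex W = 2)
    (hR : ∀ w ∈ W, (∀ k ∈ K, k * w = w * k) → w ∈ X) : ∃ k ∈ K, ∀ w ∈ W, k * w = w * k ↔ w ∈ X := by
  have h3 := MinSimple.BTwoD.pairing hz hz1 hzK hzW hKW
  have h4 := MinSimple.BTwoD.pairing (B := X) hz hz1 hzK (fun w hw => hzW w (hX hw))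
    (fun k hk w hw => hKW k hk w (hX hw))
  have e1 : X ⊓ centralizer (K : Set G) = W ⊓ centralizer (K : Set G) := by
    apply le_antisymm
    · exact inf_le_inf_right _ hX
    · rintro w ⟨hw, hwK⟩
      exact ⟨hR w hw fun k hk => mem_centralizer_iff.mp hwK k hk, hwK⟩
  rw [e1] at h4
  have h5 : Nat.card W = 2 * Nat.card X := by rw [← relIndex_mul_card hX, h2]
  have h6 : ¬ K ⊓ centralizer (X : Set G) ≤ centralizer (W : Set G) := by
    intro hle
    have e2 : K ⊓ centralizer (X : Set G) = K ⊓ centralizer (W : Set G) :=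
      le_antisymm (le_inf inf_le_left hle) (inf_le_inf_left _ (centralizer_le hX))
    rw [e2, ← h3, h5] at h4
    have h7 : 0 < Nat.card ↥(K ⊓ centralizer (W : Set G)) := Nat.card_pos
    have h8 : 0 < Nat.card X := Nat.card_pos
    have h9 := Nat.mul_pos h7 h8
    have h10 : Nat.card ↥(K ⊓ centralizer (W : Set G)) * (2 * Nat.card X) =
        2 * (Nat.card ↥(K ⊓ centralizer (W : Set G)) * Nat.card X) := by ring
    omega
  obtain ⟨k, hk, hkW⟩ := SetLike.not_le_iff_exists.mp h6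
  refine ⟨k, hk.1, fun w hw => ⟨fun hc => ?_, fun hwX => (mem_centralizer_iff.mp hk.2 w hwX).symm⟩⟩
  by_contra hwX
  apply hkW
  rw [mem_centralizer_iff]
  intro v hv
  by_cases hvX : v ∈ X
  · exact mem_centralizer_iff.mp hk.2 v hvX
  · have h7 : (X.subgroupOf W).index = 2 := h2
    have h8 : (⟨v, hv⟩ : W) * (⟨w, hw⟩ : W)⁻¹ ∈ X.subgroupOf W := by
      rw [Subgroup.mul_mem_iff_of_index_two h7, inv_mem_iff, mem_subgroupOf, mem_subgroupOf]
      exact ⟨fun e => absurd e hvX, fun e => absurd e hwX⟩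
    rw [mem_subgroupOf] at h8
    have h9 : (v * w⁻¹) * k = k * (v * w⁻¹) := mem_centralizer_iff.mp hk.2 _ h8
    calc v * k = (v * w⁻¹) * (w * k) := by group
      _ = (v * w⁻¹) * k * w := by rw [← hc]; group
      _ = k * v := by rw [h9]; group

namespace One

variable {T V : Subgroup G} {z p q r : G}

/-- **(N1)**, without any hypothesis: `C_{W_q}(E_p) ≤ {b | [b, W_p] ≤ V}`, i.e. `Φ^⊥ ≤ rad β` -/
theorem w1_le_n0 [Finite G] (h : One T V z) (hq : q ∈ V) (hq1 : q ≠ 1) : w1 V q ≤ n0 V q := by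
  intro b hb
  obtain ⟨p, hp, hp1, hpq⟩ := h.exists_q hq hq1
  refine h.mem_n0 hq hq1 hp hp1 hpq hb.1 fun a ha => ?_
  by_contra hcon
  obtain ⟨k, hk, hkV, hku⟩ := h.fu (h.comm_ii_mem hq hq1 hp hp1 hb.1 ha) hcon hq hq1
  have he := h.kq_ee hq hq1 hp hp1 hk hkV ha
  set e := k * a * k⁻¹ * a⁻¹ with hed
  have e1 : k * a * k⁻¹ = e * a := by rw [hed]; group
  have h1 : ⁅b, e⁆ = 1 := commutatorElement_eq_one_iff_mul_comm.mpr (hb.2 p hp hp1 e he)
  -- `k b k⁻¹ = v b` with `v ∈ V`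
  obtain ⟨v, hv, hvb⟩ : ∃ v ∈ V, k * b * k⁻¹ = v * b := by
    rcases h.kq_cases hq hk hb.1 with e2 | e2
    · exact ⟨1, one_mem _, by rw [e2, one_mul]⟩
    · exact ⟨q, hq, e2⟩
  have hvq := h.V_le hq hq1 hv
  have h2 : ⁅v, e * a⁆ = 1 := commutatorElement_eq_one_iff_mul_comm.mpr
    (h.V_comm hv (h.ws_le_centralizer_V hp hp1 (mul_mem he.1 ha)))
  rw [conjugate_commutatorElement, e1, hvb, h.comm_mul_left hq hq1 hp hp1 hvq hb.1 (mul_mem he.1 ha), h2, one_mul,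
    h.comm_mul_right hq hq1 hp hp1 hb.1 he.1 ha, h1, one_mul] at hku
  exact hq1 (by simpa using hku.symm)

/-- **(N1)**: `C_{W_q}(E_p) = E_q` -/
theorem nt_w1 [Finite G] (h : One T V z) (hN : NT V) (hq : q ∈ V) (hq1 : q ≠ 1) : w1 V q = ee V q :=
  le_antisymm ((h.w1_le_n0 hq hq1).trans (hN q hq hq1)) (h.ee_le_w1 hq hq1)

/-- **(N1)**: `|Φ| = |A|` -/
theorem nt_phi_card [Finite G] (h : One T V z) (hN : NT V) (hp : p ∈ V) (hp1 : p ≠ 1) (hq : q ∈ V)
    (hq1 : q ≠ 1) : (dd V p).relIndex (ee V p) = (ee V q).relIndex (ws V q) := by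
  rw [h.phi_card hp hp1 hq hq1, h.nt_w1 hN hq hq1]

/-- **(N1)**: `|M : C_M(A)| = |A| ^ 2` -/
theorem nt_relIndex_dd [Finite G] (h : One T V z) (hN : NT V) (hp : p ∈ V) (hp1 : p ≠ 1) :
    (dd V p).relIndex (ws V p) = (ee V p).relIndex (ws V p) ^ 2 := by
  rw [h.relIndex_dd p, h.nt_phi_card hN hp hp1 hp hp1, pow_two]

/-- `e * b = b * e ∨ e * b = q * (b * e)` for `e ∈ K_q`, `b ∈ W_q` -/
theorem kq_or (h : One T V z) (hq : q ∈ V) {k w : G} (hk : k ∈ kq V q) (hw : w ∈ ws V q) :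
    k * w = w * k ∨ k * w = q * (w * k) := by
  rcases h.kq_cases hq hk hw with e | e
  · exact Or.inl (comm_of_conj_eq e)
  · right
    calc k * w = (k * w * k⁻¹) * k := by group
      _ = q * (w * k) := by rw [e]; group

/-- **(N1)**: `Φ = A^*`: every hyperplane of `A` is `C_A(e)` for some `e ∈ E_p` -/
theorem nt_fun_ee [Finite G] (h : One T V z) (hN : NT V) (hp : p ∈ V) (hp1 : p ≠ 1) (hq : q ∈ V)
    (hq1 : q ≠ 1) (hqp : q ≠ p) {X : Subgroup G} (hE : ee V q ≤ X) (hX : X ≤ ws V q)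
    (h2 : X.relIndex (ws V q) = 2) : ∃ e ∈ ee V p, ∀ w ∈ ws V q, e * w = w * e ↔ w ∈ X := by
  refine exists_fun (h.ln.sq q hq) hq1
    (fun e he => h.V_comm hq (h.ws_le_centralizer_V hp hp1 he.1))
    (fun w hw => h.V_comm hq (h.ws_le_centralizer_V hq hq1 hw))
    (fun e he w hw => h.kq_or hq (he.2 q hq hq1) hw) hX h2 fun w hw hc => hE ?_
  rw [← h.nt_w1 hN hq hq1]
  exact h.mem_w1 hq hq1 hp hp1 (Ne.symm hqp) hw fun b hb => (hc b hb).symm

/-- **(N1)**: `b ∈ W_q - E_q` is moved by some `e ∈ E_p`: `[Ē, a] = λ` for all `a ∈ A#` -/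
theorem nt_move_ee [Finite G] (h : One T V z) (hN : NT V) (hp : p ∈ V) (hp1 : p ≠ 1) (hq : q ∈ V)
    (hq1 : q ≠ 1) (hqp : q ≠ p) {b : G} (hb : b ∈ ws V q) (hbE : b ∉ ee V q) :
    ∃ e ∈ ee V p, e * b * e⁻¹ = q * b := by
  by_contra hcon
  push Not at hcon
  apply hbE
  rw [← h.nt_w1 hN hq hq1]
  refine h.mem_w1 hq hq1 hp hp1 (Ne.symm hqp) hb fun e he => ?_
  rcases h.kq_cases hq (he.2 q hq hq1) hb with e1 | e1
  · exact (comm_of_conj_eq e1).symm
  · exact absurd e1 (hcon e he)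

/-- `w w^k ∈ K_p` for `w ∈ W_q`, `k ∈ K_p` -/
theorem mul_conj_kq (h : One T V z) (hp : p ∈ V) (hq : q ∈ V) (hq1 : q ≠ 1) {k w : G}
    (hk : k ∈ kq V p) (hw : w ∈ ws V q) : w * (k * w * k⁻¹) ∈ kq V p := by
  have hwp : w ∈ centralizer ({p} : Set G) := h.cent_le_centralizer hp (h.ws_le_centralizer_V hq hq1 hw)
  have h1 : w * k * w⁻¹ ∈ kq V p := conj_mem_of_normalizer (centralizer_le_normalizer_kq V p) hwp hk
  have hww : w⁻¹ = w := inv_eq_self (h.sq hq hq1 w hw)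
  have e1 : w * (k * w * k⁻¹) = (w * k * w⁻¹) * k⁻¹ := by rw [hww]; group
  rw [e1]
  exact mul_mem h1 (inv_mem hk)

/-- `b ∈ W_p - D_p` is moved by some `g ∈ F_l ∩ K_p` -/
theorem nt_move_dd [Finite G] (h : One T V z) (hN : NT V) (hp : p ∈ V) (hp1 : p ≠ 1) {b : G} (hb : b ∈ ws V p)
    (hbD : b ∉ dd V p) : ∃ g ∈ fl V, g ∈ kq V p ∧ g * b * g⁻¹ = p * b := by
  obtain ⟨q, hq, hq1, hqp⟩ := h.exists_q hp hp1
  by_cases hbE : b ∈ ee V p
  · -- `[b, w] = q` for some `w ∈ W_q`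
    obtain ⟨w, hw, hwb⟩ : ∃ w ∈ ws V q, ⁅b, w⁆ = q := by
      by_contra hcon
      push Not at hcon
      apply hbD
      refine h.mem_dd hp hp1 hq hq1 hqp hb fun w hw => ?_
      rcases h.ee_cases hq hq1 hbE hw with e | e
      · exact commutatorElement_eq_one_iff_mul_comm.mp e
      · exact absurd e (hcon w hw)
    obtain ⟨k, hk, -, hk2⟩ := h.exists_move hp hp1 hq hq1 hqp
    have hpq : p * q ∈ V := mul_mem hp hq
    have hpq1 : p * q ≠ 1 := h.mul_ne_one hq (Ne.symm hqp)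
    have hw' : k * w * k⁻¹ ∈ ws V (p * q) := by
      have := conj_mem_ws k hw
      rwa [hk2] at this
    have hwV := h.ws_le_centralizer_V hq hq1 hw
    have hww : w⁻¹ = w := inv_eq_self (h.sq hq hq1 w hw)
    have hqq : q⁻¹ = q := inv_eq_self (h.ln.sq q hq)
    -- `w b w⁻¹ = q b`
    have h1 : w * b * w⁻¹ = q * b := by
      have h2 : ⁅w, b⁆ = q := by rw [h.comm_swap hp hp1 hq hq1 hb hw, hwb]
      calc w * b * w⁻¹ = ⁅w, b⁆ * b := by rw [commutatorElement_def]; group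
        _ = q * b := by rw [h2]
    -- `w^k b (w^k)⁻¹ = p q b`
    have h2 : (k * w * k⁻¹) * b * (k * w * k⁻¹)⁻¹ = p * q * b := by
      have hkp := h.kq_p hk
      have hkpi := inv_comm_of hkp
      have hwp : p * w = w * p := h.V_comm hp hwV
      rcases h.kq_cases hp hk hb with e | e
      · have e' : k⁻¹ * b * k = b := by
          calc k⁻¹ * b * k = k⁻¹ * (k * b * k⁻¹) * k := by rw [e]
            _ = b := by group
        calc (k * w * k⁻¹) * b * (k * w * k⁻¹)⁻¹ = k * (w * (k⁻¹ * b * k) * w⁻¹) * k⁻¹ := by group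
          _ = k * (q * b) * k⁻¹ := by rw [e', h1]
          _ = (k * q * k⁻¹) * (k * b * k⁻¹) := by group
          _ = p * q * b := by rw [hk2, e]
      · have e' : k⁻¹ * b * k = p * b := by
          have h3 : b = p * (k * b * k⁻¹) := by rw [e, ← mul_assoc, h.ln.sq p hp, one_mul]
          calc k⁻¹ * b * k = k⁻¹ * (p * (k * b * k⁻¹)) * k := by rw [← h3]
            _ = (k⁻¹ * p) * k * b := by group
            _ = p * b := by rw [hkpi]; group
        calc (k * w * k⁻¹) * b * (k * w * k⁻¹)⁻¹ = k * (w * (k⁻¹ * b * k) * w⁻¹) * k⁻¹ := by group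
          _ = k * ((w * p) * b * w⁻¹) * k⁻¹ := by rw [e']; group
          _ = k * (p * (w * b * w⁻¹)) * k⁻¹ := by rw [← hwp]; group
          _ = (k * p) * q * b * k⁻¹ := by rw [h1]; group
          _ = p * ((k * q * k⁻¹) * (k * b * k⁻¹)) := by rw [hkp]; group
          _ = p * (p * q * (p * b)) := by rw [hk2, e]
          _ = (p * p) * (q * p) * b := by group
          _ = p * q * b := by rw [h.ln.sq p hp, h.ln.comm hq hp, one_mul]
    refine ⟨w * (k * w * k⁻¹), mul_mem (ws_le_fl hq hq1 hw) (ws_le_fl hpq hpq1 hw'),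
      h.mul_conj_kq hp hq hq1 hk hw, ?_⟩
    have hwpq : p * q * w = w * (p * q) := h.V_comm hpq hwV
    calc w * (k * w * k⁻¹) * b * (w * (k * w * k⁻¹))⁻¹
        = w * ((k * w * k⁻¹) * b * (k * w * k⁻¹)⁻¹) * w⁻¹ := by group
      _ = (w * (p * q)) * b * w⁻¹ := by rw [h2]; group
      _ = p * q * (w * b * w⁻¹) := by rw [← hwpq]; group
      _ = p * (q * q) * b := by rw [h1]; group
      _ = p * b := by rw [h.ln.sq q hq, mul_one]
  · obtain ⟨e, he, he'⟩ := h.nt_move_ee hN hq hq1 hp hp1 (Ne.symm hqp) hb hbE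
    exact ⟨e, ws_le_fl hq hq1 he.1, he.2 p hp hp1, he'⟩

/-- `F_l ∩ K_p` induces all functionals of `W_p / D_p` -/
theorem nt_fun_dd [Finite G] (h : One T V z) (hN : NT V) (hp : p ∈ V) (hp1 : p ≠ 1) {X : Subgroup G}
    (hD : dd V p ≤ X) (hX : X ≤ ws V p) (h2 : X.relIndex (ws V p) = 2) :
    ∃ g ∈ fl V, g ∈ kq V p ∧ ∀ w ∈ ws V p, g * w = w * g ↔ w ∈ X := by
  obtain ⟨g, hg, hgX⟩ := exists_fun (K := fl V ⊓ kq V p) (h.ln.sq p hp) hp1
    (fun k hk => (h.kq_p hk.2).symm)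
    (fun w hw => h.V_comm hp (h.ws_le_centralizer_V hp hp1 hw))
    (fun k hk w hw => h.kq_or hp hk.2 hw) hX h2 (fun w hw hc => hD (by
      by_contra hwD
      obtain ⟨g, hg, hgk, hgw⟩ := h.nt_move_dd hN hp hp1 hw hwD
      rw [conj_eq_of_comm (hc g ⟨hg, hgk⟩)] at hgw
      exact hp1 (by simpa using hgw.symm)))
  exact ⟨g, hg.1, hg.2, hgX⟩

end One

end Cfsg.Agent.Omega.NO3S.TwoOne
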