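import Cfsg.Agent.Omega.NO3S.TwoOne.Four
import Cfsg.Agent.Omega.NO3S.TwoOne.Plane

/-!
# NO-3S, `q = 2`, `n = 1`: planes on which all `W_q` have the same image (THEOREM P, part 1)

* `Sp p q x` : `x ∈ ⟨p, q⟩ = {1, p, q, pq}`;
* `Pa V U` : `U` is a plane, and for each `t ∈ U#` all `W_q`, `q ∈ U - ⟨t⟩`, have the same image in `C_G(t) / K_t`;
* `Ps V U` : the facts about such a plane which are used below (`Pa.ps`: they hold if `NT V`, i.e. if `A` contains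
  no `λ`-transvections).
-/

set_option autoImplicit false
set_option linter.unusedSectionVars false

namespace Cfsg.Agent.Omega.NO3S.TwoOne

open Subgroup Cfsg Cfsg.Agent.ZN Cfsg.Agent.MinSimple.Geo Cfsg.Agent.Omega.CaseL
open Cfsg.Agent.ZN.Block (conj_mem_of_normalizer conj_mem_of_normalizer' le_normalizer_of_forall
  mem_normalizer_of)
open scoped commutatorElement

universe u

variable {G : Type u} [Group G]

/-- `x ∈ {1, p, q, p q}` -/
def Sp (p q x : G) : Prop := x = 1 ∨ x = p ∨ x = q ∨ x = p * q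

theorem Sp.mul {p q x y : G} (hp : p * p = 1) (hq : q * q = 1) (hpq : p * q = q * p) (hx : Sp p q x)
    (hy : Sp p q y) : Sp p q (x * y) := by
  have h1 : p * (p * q) = q := by rw [← mul_assoc, hp, one_mul]
  have h2 : q * (p * q) = p := by rw [hpq, ← mul_assoc, hq, one_mul]
  have h3 : p * q * p = q := by rw [hpq, mul_assoc, hp, mul_one]
  have h4 : p * q * q = p := by rw [mul_assoc, hq, mul_one]
  have h5 : p * q * (p * q) = 1 := by rw [← mul_assoc, h3, hq]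
  rcases hx with hx | hx | hx | hx <;> rcases hy with hy | hy | hy | hy <;> rw [hx, hy]
  · left; exact one_mul 1
  · right; left; exact one_mul p
  · right; right; left; exact one_mul q
  · right; right; right; exact one_mul _
  · right; left; exact mul_one p
  · left; exact hp
  · right; right; right; rfl
  · right; right; left; exact h1
  · right; right; left; exact mul_one q
  · right; right; right; exact hpq.symm
  · left; exact hq
  · right; left; exact h2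
  · right; right; right; exact mul_one _
  · right; right; left; exact h3
  · right; left; exact h4
  · left; exact h5

/-- a plane on which all `W_q` have the same image -/
structure Pa (V U : Subgroup G) : Prop where
  pl : Pln V U
  pa : ∀ t ∈ U, t ≠ 1 → ∀ q ∈ U, q ≠ 1 → q ≠ t → ∀ q' ∈ U, q' ≠ 1 → q' ≠ t → ∀ a ∈ ws V q,
    ∃ b ∈ ws V q', a * b⁻¹ ∈ kq V t

theorem Pln.conj {V U : Subgroup G} (h : Pln V U) (g : G) : Pln V (cj g U) where
  card := by rw [card_cj, h.card]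
  sq := by
    intro u hu
    have := h.sq _ (mem_of_cj hu)
    calc u * u = g * (g⁻¹ * u * g * (g⁻¹ * u * g)) * g⁻¹ := by group
      _ = 1 := by rw [this]; group
  line := by
    intro p hp q hq hp1 hq1 hpq
    obtain ⟨L, hL, hqL⟩ := h.line _ (mem_of_cj hp) _ (mem_of_cj hq) (conj_ne_one hp1) (conj_ne_one hq1)
      (fun e => hpq (by
        calc p = g * (g⁻¹ * p * g) * g⁻¹ := by group
          _ = g * (g⁻¹ * q * g) * g⁻¹ := by rw [e]
          _ = q := by group))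
    refine ⟨cj g L, ?_, ?_⟩
    · have := mem_lines_cj (g := g) hL
      have e : g * (g⁻¹ * p * g) * g⁻¹ = p := by group
      rwa [e] at this
    · have := conj_mem_cj (g := g) hqL
      have e : g * (g⁻¹ * q * g) * g⁻¹ = q := by group
      rwa [e] at this

theorem Pa.conj {V U : Subgroup G} (h : Pa V U) (g : G) : Pa V (cj g U) where
  pl := h.pl.conj g
  pa := by
    intro t ht ht1 q hq hq1 hqt q' hq' hq1' hqt' a ha
    have hne : ∀ {x y : G}, x ≠ y → g⁻¹ * x * g ≠ g⁻¹ * y * g := fun {x y} hxy e => hxy (by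
      calc x = g * (g⁻¹ * x * g) * g⁻¹ := by group
        _ = g * (g⁻¹ * y * g) * g⁻¹ := by rw [e]
        _ = y := by group)
    have ha' : g⁻¹ * a * g ∈ ws V (g⁻¹ * q * g) := by
      have := conj_mem_ws g⁻¹ ha
      rwa [inv_inv] at this
    obtain ⟨b, hb, hk⟩ := h.pa _ (mem_of_cj ht) (conj_ne_one ht1) _ (mem_of_cj hq) (conj_ne_one hq1)
      (hne hqt) _ (mem_of_cj hq') (conj_ne_one hq1') (hne hqt') _ ha'
    refine ⟨g * b * g⁻¹, ?_, ?_⟩
    · have := conj_mem_ws g hb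
      have e : g * (g⁻¹ * q' * g) * g⁻¹ = q' := by group
      rwa [e] at this
    · have := conj_mem_kq g hk
      have e1 : g * (g⁻¹ * t * g) * g⁻¹ = t := by group
      have e2 : g * (g⁻¹ * a * g * b⁻¹) * g⁻¹ = a * (g * b * g⁻¹)⁻¹ := by group
      rwa [e1, e2] at this

/-- the facts used below -/
structure Ps (V U : Subgroup G) : Prop where
  card : Nat.card U = 8
  sq : ∀ u ∈ U, u * u = 1
  le : ∀ p ∈ U, p ≠ 1 → U ≤ ws V p
  ab : ∀ p ∈ U, p ≠ 1 → ∀ a ∈ ws V p, ∀ b ∈ ws V p, a * b = b * a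
  sw : ∀ p ∈ U, p ≠ 1 → ∀ a ∈ ws V p, a * a = 1
  trv : ∀ p ∈ U, p ≠ 1 → ∀ q ∈ U, q ≠ 1 → q ≠ p → ∀ r ∈ U, r ≠ 1 → r ≠ p → r ≠ q → r ≠ p * q →
    ∃ k ∈ kq V p, k * q * k⁻¹ = p * q ∧ k * r * k⁻¹ = r
  ee : ∀ p ∈ U, p ≠ 1 → ∀ q ∈ U, q ≠ 1 → q ≠ p → ∀ w ∈ ws V p, w ∈ kq V q → w ∈ kq V (p * q)
  dz : ∀ p ∈ U, p ≠ 1 → ∀ q ∈ U, q ≠ 1 → q ≠ p → ∀ w ∈ ws V p, (∀ b ∈ ws V q, ⁅w, b⁆ ∈ zpowers p) →
    ∀ b ∈ ws V q, w * b = b * w
  phi : ∀ p ∈ U, p ≠ 1 → ∀ q ∈ U, q ≠ 1 → q ≠ p → ∃ e ∈ ws V p, e ∈ kq V q ∧ ∃ b ∈ ws V q, e * b ≠ b * e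
  nt : ∀ p ∈ U, p ≠ 1 → ∀ q ∈ U, q ≠ 1 → q ≠ p → ∀ b ∈ ws V q, (∀ a ∈ ws V p, Sp p q ⁅a, b⁆) → b ∈ kq V p
  pa : ∀ t ∈ U, t ≠ 1 → ∀ q ∈ U, q ≠ 1 → q ≠ t → ∀ q' ∈ U, q' ≠ 1 → q' ≠ t → ∀ a ∈ ws V q,
    ∃ b ∈ ws V q', a * b⁻¹ ∈ kq V t

theorem exists_notMem_of_card {U : Subgroup G} (hc : Nat.card U = 8) (S : Set G) (hS : S.ncard < 8) (hf : S.Finite) :
    ∃ r ∈ U, r ∉ S := by
  by_contra hcon
  push Not at hcon
  have h1 : (U : Set G) ⊆ S := fun x hx => hcon x hx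
  have h2 := Set.ncard_le_ncard h1 hf
  have h3 : (U : Set G).ncard = 8 := by
    rw [← hc]; rfl
  omega

theorem exists_ne {U : Subgroup G} (hc : Nat.card U = 8) (p : G) : ∃ q ∈ U, q ≠ 1 ∧ q ≠ p := by
  obtain ⟨r, hr, hrS⟩ := exists_notMem_of_card hc {1, p}
    (lt_of_le_of_lt (Set.ncard_insert_le _ _) (by rw [Set.ncard_singleton]; norm_num)) (Set.toFinite _)
  simp only [Set.mem_insert_iff, Set.mem_singleton_iff, not_or] at hrS
  exact ⟨r, hr, hrS.1, hrS.2⟩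

theorem exists_ne₂ {U : Subgroup G} (hc : Nat.card U = 8) (p q : G) :
    ∃ r ∈ U, r ≠ 1 ∧ r ≠ p ∧ r ≠ q ∧ r ≠ p * q := by
  have h4 : ({1, p, q, p * q} : Set G).ncard ≤ 4 := by
    refine (Set.ncard_insert_le _ _).trans ?_
    have := Set.ncard_insert_le p ({q, p * q} : Set G)
    have := Set.ncard_insert_le q ({p * q} : Set G)
    rw [Set.ncard_singleton] at this
    omega
  obtain ⟨r, hr, hrS⟩ := exists_notMem_of_card hc {1, p, q, p * q} (by omega) (Set.toFinite _)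
  simp only [Set.mem_insert_iff, Set.mem_singleton_iff, not_or] at hrS
  exact ⟨r, hr, hrS.1, hrS.2.1, hrS.2.2.1, hrS.2.2.2⟩

theorem conj_mem_ee' {V : Subgroup G} (g : G) {w p : G} (hw : w ∈ ee V p) :
    g * w * g⁻¹ ∈ ee (cj g V) (g * p * g⁻¹) := by
  refine ⟨by rw [ws_cj]; exact conj_mem_ws g hw.1, fun q hq hq1 => ?_⟩
  rw [kq_cj]
  have h1 := conj_mem_kq g (hw.2 _ (mem_of_cj hq) (conj_ne_one hq1))
  have e : g * (g⁻¹ * q * g) * g⁻¹ = q := by group
  rwa [e] at h1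

/-- `NT` is invariant under conjugation -/
theorem NT.conj {V : Subgroup G} (h : NT V) (g : G) : NT (cj g V) := by
  intro p hp hp1 w hw
  have hw' : g⁻¹ * w * g ∈ n0 V (g⁻¹ * p * g) := by
    obtain ⟨h1, h2, h3⟩ := hw
    rw [ws_cj] at h1
    refine ⟨?_, ?_, fun q hq hq1 b hb => ?_⟩
    · have := conj_mem_ws g⁻¹ h1
      rwa [inv_inv] at this
    · rw [mem_centralizer_iff]
      intro v hv
      have := mem_centralizer_iff.mp h2 _ (conj_mem_cj (g := g) hv)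
      calc v * (g⁻¹ * w * g) = g⁻¹ * (g * v * g⁻¹ * w) * g := by group
        _ = g⁻¹ * (w * (g * v * g⁻¹)) * g := by rw [this]
        _ = g⁻¹ * w * g * v := by group
    · have h4 := h3 _ (conj_mem_cj (g := g) hq) (fun e => hq1 (conj_eq_one_iff.mp e)) (g * b * g⁻¹)
        (by rw [ws_cj]; exact conj_mem_ws g hb)
      have h5 := mem_of_cj h4
      have e : g⁻¹ * ⁅w, g * b * g⁻¹⁆ * g = ⁅g⁻¹ * w * g, b⁆ := by
        simp only [commutatorElement_def]; group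
      rwa [e] at h5
  have h1 := conj_mem_ee' g (h _ (mem_of_cj hp) (conj_ne_one hp1) hw')
  have e1 : g * (g⁻¹ * w * g) * g⁻¹ = w := by group
  have e2 : g * (g⁻¹ * p * g) * g⁻¹ = p := by group
  rwa [e1, e2] at h1

/-- the line through two points of a plane -/
theorem One.exists_one {T V U : Subgroup G} {z : G} (h : One T V z) (hU : Pln V U) {p q : G} (hp : p ∈ U)
    (hp1 : p ≠ 1) (hq : q ∈ U) (hq1 : q ≠ 1) (hqp : q ≠ p) :
    ∃ T' g, One T' (cj g V) p ∧ p ∈ cj g V ∧ q ∈ cj g V := by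
  obtain ⟨L, hL, hqL⟩ := hU.line p hp q hq hp1 hq1 (Ne.symm hqp)
  obtain ⟨g, rfl, T', h'⟩ := h.of_line hL hp1
  exact ⟨T', g, h', hL.2, hqL⟩

theorem Pa.ps [Finite G] {T V U : Subgroup G} {z : G} (h : One T V z) (hN : NT V) (hU : Pa V U) : Ps V U where
  card := hU.pl.card
  sq := hU.pl.sq
  le := by
    intro p hp hp1 x hx
    by_cases hx1 : x = 1
    · rw [hx1]; exact one_mem _
    by_cases hxp : x = p
    · obtain ⟨q, hq, hq1, hqp⟩ := exists_ne hU.pl.card p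
      obtain ⟨L, hL, -⟩ := hU.pl.line p hp q hq hp1 hq1 (Ne.symm hqp)
      rw [hxp]; exact le_ws hL hL.2
    · obtain ⟨L, hL, hxL⟩ := hU.pl.line p hp x hx hp1 hx1 (Ne.symm hxp)
      exact le_ws hL hxL
  ab := by
    intro p hp hp1
    obtain ⟨q, hq, hq1, hqp⟩ := exists_ne hU.pl.card p
    obtain ⟨T', g, h', -, -⟩ := h.exists_one hU.pl hp hp1 hq hq1 hqp
    have := h'.ab
    rwa [ws_cj] at this
  sw := by
    intro p hp hp1
    obtain ⟨q, hq, hq1, hqp⟩ := exists_ne hU.pl.card p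
    obtain ⟨T', g, h', -, -⟩ := h.exists_one hU.pl hp hp1 hq hq1 hqp
    have := h'.sqz
    rwa [ws_cj] at this
  trv := by
    intro p hp hp1 q hq hq1 hqp r hr hr1 hrp hrq hrpq
    exact h.pln_trv hU.pl hp hp1 hq hq1 hqp hr hr1 hrp hrq hrpq
  ee := by
    intro p hp hp1 q hq hq1 hqp w hw hk
    obtain ⟨T', g, h', hpL, hqL⟩ := h.exists_one hU.pl hp hp1 hq hq1 hqp
    have h1 := h'.mem_ee hpL hp1 hqL hq1 hqp (w := w) (by rwa [ws_cj]) (by rwa [kq_cj])
    have h2 := h1.2 _ (mul_mem hpL hqL) (h'.mul_ne_one hqL (Ne.symm hqp))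
    rwa [kq_cj] at h2
  dz := by
    intro p hp hp1 q hq hq1 hqp w hw hc
    obtain ⟨T', g, h', hpL, hqL⟩ := h.exists_one hU.pl hp hp1 hq hq1 hqp
    have h1 := (h'.nt_mem_dd (hN.conj g) hpL hp1 hqL hq1 hqp (w := w)).mpr (by
      rw [ws_cj, ws_cj]; exact ⟨hw, hc⟩)
    have h2 := h1.2 _ hqL hq1
    rwa [ws_cj] at h2
  phi := by
    intro p hp hp1 q hq hq1 hqp
    obtain ⟨T', g, h', hpL, hqL⟩ := h.exists_one hU.pl hp hp1 hq hq1 hqp
    obtain ⟨e, he, b, hb, hc⟩ := h'.exists_ee_comm hpL hp1 (h'.nt_phi (hN.conj g) hpL hp1) hpL hp1 hqL hq1 hqp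
    refine ⟨e, ?_, ?_, b, ?_, fun e' => ?_⟩
    · have := he.1; rwa [ws_cj] at this
    · have := he.2 q hqL hq1; rwa [kq_cj] at this
    · rwa [ws_cj] at hb
    · rw [commutatorElement_eq_one_iff_mul_comm.mpr e'] at hc
      exact hq1 hc.symm
  nt := by
    intro p hp hp1 q hq hq1 hqp b hb hc
    obtain ⟨T', g, h', hpL, hqL⟩ := h.exists_one hU.pl hp hp1 hq hq1 hqp
    have hb' : b ∈ ws (cj g V) q := by rwa [ws_cj]
    have h1 : b ∈ n0 (cj g V) q := by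
      refine h'.mem_n0 hqL hq1 hpL hp1 (Ne.symm hqp) hb' fun a ha => ?_
      rw [h'.comm_swap hpL hp1 hqL hq1 ha hb']
      rw [ws_cj] at ha
      rcases hc a ha with e | e | e | e <;> rw [e]
      · exact one_mem _
      · exact hpL
      · exact hqL
      · exact mul_mem hpL hqL
    have h2 := ((hN.conj g) q hqL hq1 h1).2 p hpL hp1
    rwa [kq_cj] at h2
  pa := hU.pa

end Cfsg.Agent.Omega.NO3S.TwoOne
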