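import Cfsg.Agent.Omega.NO3S.TwoOne.PlaneKA

/-!
# NO-3S, `q = 2`, `n = 1`: planes on which all `W_q` have the same image (THEOREM P, part 2)

`P : Ps V U`.

* `Ps.alpha` : `[W_p ∩ K_q, W_s] ≤ ⟨p, q⟩` for all points `s` of `U`;
* `Ps.two` : if `x ∉ ⟨q, r⟩` and `g ∈ W_q ∩ K_r` does not centralise `W_r`, some `ε ∈ W_x ∩ K_q` has `[ε, g] = q`;
* `Ps.jj` : `r^κ = q`, `κ ∈ K_{qr}`, `g ∈ W_r ∩ K_q` : `g g^κ` centralises `W_p` for all `p ∈ U - ⟨q, r⟩`;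
* `Ps.three` : every `t ∈ U - ⟨x⟩` is a commutator of elements of `C(W_x) ∩ ⟨W_p | p ∈ U#⟩`.
-/

set_option autoImplicit false
set_option linter.unusedSectionVars false

namespace Cfsg.Agent.Omega.NO3S.TwoOne

open Subgroup Cfsg Cfsg.Agent.ZN Cfsg.Agent.MinSimple.Geo Cfsg.Agent.Omega.CaseL
open Cfsg.Agent.ZN.Block (conj_mem_of_normalizer conj_mem_of_normalizer' le_normalizer_of_forall
  mem_normalizer_of)
open scoped commutatorElement

universe u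

variable {G : Type u} [Group G]

namespace Ps

variable {V U : Subgroup G} {p q r s x t : G}

theorem inv_eq (P : Ps V U) (hp : p ∈ U) : p⁻¹ = p := inv_eq_self (P.sq p hp)

theorem cU (P : Ps V U) (hp : p ∈ U) (hp1 : p ≠ 1) {w u : G} (hw : w ∈ ws V p) (hu : u ∈ U) :
    w * u = u * w := P.ab p hp hp1 w hw u (P.le p hp hp1 hu)

theorem uc (P : Ps V U) (hp : p ∈ U) (hq : q ∈ U) : p * q = q * p := by
  have h1 := P.sq _ (mul_mem hp hq)
  calc p * q = (p * q)⁻¹ := (inv_eq_self h1).symm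
    _ = q⁻¹ * p⁻¹ := by group
    _ = q * p := by rw [P.inv_eq hp, P.inv_eq hq]

theorem kc (P : Ps V U) (hp : p ∈ U) {k w : G} (hk : k ∈ kq V p) (hw : w ∈ ws V p) :
    k * w * k⁻¹ = w ∨ k * w * k⁻¹ = p * w := by
  rcases (mem_zpowers_iff_of_mul_self (P.sq p hp)).mp (kq_comm hk hw) with e | e
  · left
    calc k * w * k⁻¹ = (k * w * k⁻¹ * w⁻¹) * w := by group
      _ = w := by rw [e, one_mul]
  · right
    calc k * w * k⁻¹ = (k * w * k⁻¹ * w⁻¹) * w := by group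
      _ = p * w := by rw [e]

theorem kp {V : Subgroup G} {p k : G} (hk : k ∈ kq V p) : k * p = p * k :=
  mem_centralizer_singleton_iff.mp (kq_le_centralizer V p hk)

theorem wsn {V : Subgroup G} {p g w : G} (hg : g * p = p * g) (hw : w ∈ ws V p) : g * w * g⁻¹ ∈ ws V p :=
  conj_mem_of_normalizer (centralizer_le_normalizer_ws V p) (mem_centralizer_singleton_iff.mpr hg) hw

theorem kqn {V : Subgroup G} {p g k : G} (hg : g * p = p * g) (hk : k ∈ kq V p) : g * k * g⁻¹ ∈ kq V p :=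
  conj_mem_of_normalizer (centralizer_le_normalizer_kq V p) (mem_centralizer_singleton_iff.mpr hg) hk

theorem wk (P : Ps V U) (hp : p ∈ U) (hp1 : p ≠ 1) {w : G} (hw : w ∈ ws V p) : w ∈ kq V p := by
  refine ⟨mem_centralizer_singleton_iff.mpr (P.cU hp hp1 hw hp), fun v hv => ?_, fun v hv => ?_⟩
  · rw [P.ab p hp hp1 w hw v hv]
    simp
  · have := P.ab p hp hp1 v hv w hw
    have e : w⁻¹ * v * w * v⁻¹ = w⁻¹ * (v * w) * v⁻¹ := by group
    rw [e, this]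
    simp

theorem uk (P : Ps V U) (hp : p ∈ U) (hp1 : p ≠ 1) {u : G} (hu : u ∈ U) : u ∈ kq V p :=
  P.wk hp hp1 (P.le p hp hp1 hu)

/-- `[K_q ∩ C(p), W_p] ≤ W_p ∩ K_q` -/
theorem ke (P : Ps V U) (hp : p ∈ U) (hp1 : p ≠ 1) (hq : q ∈ U) {k w : G} (hk : k ∈ kq V q)
    (hkp : k * p = p * k) (hw : w ∈ ws V p) : k * w * k⁻¹ * w⁻¹ ∈ ws V p ∧ k * w * k⁻¹ * w⁻¹ ∈ kq V q := by
  refine ⟨mul_mem (wsn hkp hw) (inv_mem hw), ?_⟩
  have e : k * w * k⁻¹ * w⁻¹ = k * (w * k⁻¹ * w⁻¹) := by group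
  rw [e]
  exact mul_mem hk (kqn (P.cU hp hp1 hw hq) (inv_mem hk))

theorem kw (P : Ps V U) (hq : q ∈ U) {e w : G} (he : e ∈ kq V q) (hw : w ∈ ws V q) :
    ⁅e, w⁆ = 1 ∨ ⁅e, w⁆ = q := by
  rcases P.kc hq he hw with e1 | e1
  · left; rw [commutatorElement_def, e1, mul_inv_cancel]
  · right; rw [commutatorElement_def, e1, mul_inv_cancel_right]

/-- `[w, e] = [e, w]` if one of them is an involution of `U` -/
theorem swap (P : Ps V U) {a b : G} (h : ⁅a, b⁆ ∈ U) : ⁅b, a⁆ = ⁅a, b⁆ := by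
  rw [← commutatorElement_inv, P.inv_eq h]

/-- **(α)** `[W_p ∩ K_q, W_s] ≤ ⟨p, q⟩` -/
theorem alpha (P : Ps V U) (hp : p ∈ U) (hp1 : p ≠ 1) (hq : q ∈ U) (hq1 : q ≠ 1) (hqp : q ≠ p)
    (hs : s ∈ U) (hs1 : s ≠ 1) {e w : G} (he : e ∈ ws V p) (hk : e ∈ kq V q) (hw : w ∈ ws V s) :
    Sp p q ⁅e, w⁆ := by
  by_cases hsp : s = p
  · left
    rw [hsp] at hw
    exact commutatorElement_eq_one_iff_mul_comm.mpr (P.ab p hp hp1 e he w hw)
  · obtain ⟨v, hv, hκ⟩ := P.pa p hp hp1 s hs hs1 hsp q hq hq1 hqp w hw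
    set κ := w * v⁻¹ with hκd
    have hw' : w = κ * v := by rw [hκd]; group
    have e1 : ⁅e, w⁆ = ⁅e, κ⁆ * (κ * ⁅e, v⁆ * κ⁻¹) := by
      rw [hw']; simp only [commutatorElement_def]; group
    have hκq : κ * q * κ⁻¹ = q ∨ κ * q * κ⁻¹ = p * q := P.kc hp hκ (P.le p hp hp1 hq)
    have h1 : Sp p q ⁅e, κ⁆ := by
      have e2 : ⁅e, κ⁆ = e * (κ * e * κ⁻¹)⁻¹ := by rw [commutatorElement_def]; group
      rcases P.kc hp hκ he with e3 | e3
      · left; rw [e2, e3, mul_inv_cancel]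
      · right; left
        rw [e2, e3, mul_inv_rev, mul_inv_cancel_left, P.inv_eq hp]
    have h2 : Sp p q (κ * ⁅e, v⁆ * κ⁻¹) := by
      rcases P.kw hq hk hv with e3 | e3
      · left; rw [e3]; group
      · rw [e3]
        rcases hκq with e4 | e4
        · right; right; left; exact e4
        · right; right; right; exact e4
    rw [e1]
    exact Sp.mul (P.sq p hp) (P.sq q hq) (P.uc hp hq) h1 h2

theorem sp_mem (_ : Ps V U) (hp : p ∈ U) (hq : q ∈ U) {y : G} (h : Sp p q y) : y ∈ U := by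
  rcases h with e | e | e | e <;> rw [e]
  · exact one_mem _
  · exact hp
  · exact hq
  · exact mul_mem hp hq

/-- `p q ≠ 1` -/
theorem mne (P : Ps V U) (hq : q ∈ U) (hpq : p ≠ q) : p * q ≠ 1 := fun e =>
  hpq (by rw [mul_eq_one_iff_eq_inv.mp e, P.inv_eq hq])

/-- `W_p ∩ K_q ∩ K_{q'} ≤ C(W_q)` for independent `p, q, q'` -/
theorem two_lines (P : Ps V U) {q' : G} (hp : p ∈ U) (hp1 : p ≠ 1) (hq : q ∈ U) (hq1 : q ≠ 1) (hqp : q ≠ p)
    (hq' : q' ∈ U) (hq1' : q' ≠ 1) (hqp' : q' ≠ p) (hqq : q' ≠ q) (hpqq : q' ≠ p * q) {e : G}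
    (he : e ∈ ws V p) (hk : e ∈ kq V q) (hk' : e ∈ kq V q') : ∀ w ∈ ws V q, e * w = w * e := by
  intro w hw
  rw [← commutatorElement_eq_one_iff_mul_comm]
  rcases P.kw hq hk hw with e1 | e1
  · exact e1
  · exfalso
    have h1 := P.alpha hp hp1 hq' hq1' hqp' hq hq1 he hk' hw
    rw [e1] at h1
    rcases h1 with e2 | e2 | e2 | e2
    · exact hq1 e2
    · exact hqp e2
    · exact hqq e2.symm
    · apply hpqq
      rw [e2, ← mul_assoc, P.sq p hp, one_mul]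

/-- **(2')** -/
theorem two (P : Ps V U) (hq : q ∈ U) (hq1 : q ≠ 1) (hr : r ∈ U) (hr1 : r ≠ 1) (hrq : r ≠ q)
    (hx : x ∈ U) (hx1 : x ≠ 1) (hxq : x ≠ q) (hxr : x ≠ r) (hxqr : x ≠ q * r) {g : G}
    (hg : g ∈ ws V q) (hgr : g ∈ kq V r) (hgc : ∃ b ∈ ws V r, g * b ≠ b * g) :
    ∃ e ∈ ws V x, e ∈ kq V q ∧ ⁅e, g⁆ = q := by
  have hgx : g ∉ kq V x := by
    intro h1
    obtain ⟨b, hb, hbg⟩ := hgc
    exact hbg (P.two_lines hq hq1 hr hr1 hrq hx hx1 hxq hxr hxqr hg hgr h1 b hb)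
  obtain ⟨w, hw, hwc⟩ : ∃ w ∈ ws V x, ¬ Sp x q ⁅w, g⁆ := by
    by_contra hcon
    push Not at hcon
    exact hgx (P.nt x hx hx1 q hq hq1 (Ne.symm hxq) g hg hcon)
  have h1 := P.alpha hq hq1 hr hr1 hrq hx hx1 hg hgr hw
  have hcU := P.sp_mem hq hr h1
  have hsw := P.swap hcU
  rw [← hsw] at hcU h1
  set c := ⁅w, g⁆ with hc
  obtain ⟨h, hh, hhr, hhx⟩ := P.trv q hq hq1 r hr hr1 hrq x hx hx1 hxq hxr hxqr
  have hhq : h * q = q * h := kp hh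
  have hcr : h * c * h⁻¹ = q * c := by
    rcases h1 with e | e | e | e
    · exact absurd (Or.inl e) hwc
    · exact absurd (Or.inr (Or.inr (Or.inl e))) hwc
    · rw [e]; exact hhr
    · rw [e]
      calc h * (q * r) * h⁻¹ = (h * q) * r * h⁻¹ := by group
        _ = q * (h * r * h⁻¹) := by rw [hhq]; group
        _ = q * (q * r) := by rw [hhr]
  have hhx' : h * x = x * h := comm_of_conj_eq hhx
  obtain ⟨he, hek⟩ := P.ke hx hx1 hq hh hhx' hw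
  refine ⟨_, he, hek, ?_⟩
  -- `[w^h, g] = c^h`
  have hwq : w * q = q * w := P.cU hx hx1 hw hq
  have h2 : ⁅h * w * h⁻¹, g⁆ = h * c * h⁻¹ := by
    have e1 : ⁅h * w * h⁻¹, g⁆ = h * ⁅w, h⁻¹ * g * h⁆ * h⁻¹ := by
      simp only [commutatorElement_def]; group
    rw [e1]
    have hh' : h⁻¹ ∈ kq V q := inv_mem hh
    rcases P.kc hq hh' hg with e2 | e2
    · rw [inv_inv] at e2; rw [e2]
    · rw [inv_inv] at e2
      rw [e2]
      have e3 : ⁅w, q * g⁆ = ⁅w, g⁆ := by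
        have hcq : q * ⁅w, g⁆ = ⁅w, g⁆ * q := P.uc hq hcU
        calc ⁅w, q * g⁆ = (w * q) * g * w⁻¹ * g⁻¹ * q⁻¹ := by simp only [commutatorElement_def]; group
          _ = q * (w * g * w⁻¹ * g⁻¹) * q⁻¹ := by rw [hwq]; group
          _ = (q * ⁅w, g⁆) * q⁻¹ := by rw [commutatorElement_def]
          _ = ⁅w, g⁆ := by rw [hcq, mul_inv_cancel_right]
      rw [e3]
  have h3 : h * w * h⁻¹ ∈ ws V x := wsn hhx' hw
  have hgc' : g * c = c * g := P.cU hq hq1 hg hcU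
  -- `[a w⁻¹, g] = [a, g] [w, g]`
  have hwg : g * w⁻¹ * g⁻¹ = w⁻¹ * c := by rw [hc, commutatorElement_def]; group
  have h4 : ⁅h * w * h⁻¹ * w⁻¹, g⁆ = (h * w * h⁻¹) * (⁅w⁻¹, g⁆) * (h * w * h⁻¹)⁻¹ * ⁅h * w * h⁻¹, g⁆ := by
    simp only [commutatorElement_def]; group
  have h5 : ⁅w⁻¹, g⁆ = c := by
    have hc1 : c⁻¹ = c := P.inv_eq hcU
    have hwc' : w * c = c * w := P.cU hx hx1 hw hcU
    calc ⁅w⁻¹, g⁆ = w⁻¹ * (g * w⁻¹ * g⁻¹)⁻¹ := by rw [commutatorElement_def]; group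
      _ = w⁻¹ * (c⁻¹ * w) := by rw [hwg]; group
      _ = w⁻¹ * (w * c) := by rw [hc1, hwc']
      _ = c := by group
  have h6 : (h * w * h⁻¹) * c = c * (h * w * h⁻¹) := P.cU hx hx1 h3 hcU
  rw [h4, h5, h6, mul_inv_cancel_right, h2, hcr, ← mul_assoc, P.uc hcU hq, mul_assoc, P.sq c hcU, mul_one]

/-- `D_p` is the same for all lines of `U` on `p` -/
theorem dall (P : Ps V U) (hp : p ∈ U) (hp1 : p ≠ 1) (hq : q ∈ U) (hq1 : q ≠ 1) (hqp : q ≠ p)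
    (hr : r ∈ U) (hr1 : r ≠ 1) {w : G} (hw : w ∈ ws V p) (hc : ∀ b ∈ ws V q, w * b = b * w) :
    ∀ b ∈ ws V r, w * b = b * w := by
  by_cases hrp : r = p
  · rw [hrp]
    exact fun b hb => P.ab p hp hp1 w hw b hb
  · refine P.dz p hp hp1 r hr hr1 hrp w hw fun b hb => ?_
    obtain ⟨b', hb', hκ⟩ := P.pa p hp hp1 r hr hr1 hrp q hq hq1 hqp b hb
    set κ := b * b'⁻¹ with hκd
    have e0 : b = κ * b' := by rw [hκd]; group
    have e1 : ⁅w, b⁆ = w * (κ * w * κ⁻¹)⁻¹ := by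
      have h1 := hc b' hb'
      rw [e0]
      calc ⁅w, κ * b'⁆ = w * κ * (b' * w⁻¹) * b'⁻¹ * κ⁻¹ := by rw [commutatorElement_def]; group
        _ = w * κ * (w⁻¹ * b') * b'⁻¹ * κ⁻¹ := by rw [inv_comm_of h1]
        _ = w * (κ * w * κ⁻¹)⁻¹ := by group
    rw [e1]
    rcases P.kc hp hκ hw with e | e
    · rw [e, mul_inv_cancel]; exact one_mem _
    · rw [e, mul_inv_rev, mul_inv_cancel_left]; exact inv_mem (mem_zpowers p)

/-- the elements of `K_x` commute on `W_x` -/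
theorem kk (P : Ps V U) (hx : x ∈ U) {k e : G} (hk : k ∈ kq V x) (he : e ∈ kq V x) :
    ∀ w ∈ ws V x, ⁅e, k⁆ * w = w * ⁅e, k⁆ := by
  intro w hw
  have hke : (k * e)⁻¹ ∈ kq V x := inv_mem (mul_mem hk he)
  have h1 : (k * e)⁻¹ * w * (k * e) ∈ ws V x := by
    have := wsn (kp hke) hw
    rwa [inv_inv] at this
  set v := (k * e)⁻¹ * w * (k * e) with hv
  have hex : ∀ y, e * (x * y) * e⁻¹ = x * (e * y * e⁻¹) := fun y => by
    calc e * (x * y) * e⁻¹ = (e * x) * y * e⁻¹ := by group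
      _ = x * (e * y * e⁻¹) := by rw [kp he]; group
  have hkx : ∀ y, k * (x * y) * k⁻¹ = x * (k * y * k⁻¹) := fun y => by
    calc k * (x * y) * k⁻¹ = (k * x) * y * k⁻¹ := by group
      _ = x * (k * y * k⁻¹) := by rw [kp hk]; group
  have h2 : e * (k * v * k⁻¹) * e⁻¹ = k * (e * v * e⁻¹) * k⁻¹ := by
    rcases P.kc hx hk h1 with f1 | f1 <;> rcases P.kc hx he h1 with f2 | f2 <;>
      simp only [f1, f2, hex, hkx]
  calc ⁅e, k⁆ * w = (e * (k * v * k⁻¹) * e⁻¹) * ⁅e, k⁆ := by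
        rw [hv, commutatorElement_def]; group
    _ = (k * (e * v * e⁻¹) * k⁻¹) * ⁅e, k⁆ := by rw [h2]
    _ = w * ⁅e, k⁆ := by rw [hv, commutatorElement_def]; group

/-- if `U` centralises `w`, then `[w, u g] = [w, g]` modulo conjugation by `u` -/
theorem comm_u (P : Ps V U) {u w g : G} (hu : u ∈ U) (hwu : w * u = u * w) (hc : ⁅w, g⁆ ∈ U) :
    ⁅w, u * g⁆ = ⁅w, g⁆ := by
  calc ⁅w, u * g⁆ = (w * u) * g * w⁻¹ * g⁻¹ * u⁻¹ := by simp only [commutatorElement_def]; group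
    _ = (u * ⁅w, g⁆) * u⁻¹ := by rw [hwu, commutatorElement_def]; group
    _ = ⁅w, g⁆ := by rw [P.uc hu hc, mul_inv_cancel_right]

/-- `[g, u w] = [g, w]` if `g` centralises `u` -/
theorem comm_u' (P : Ps V U) {u w g : G} (hu : u ∈ U) (hgu : g * u = u * g) (hc : ⁅g, w⁆ ∈ U) :
    ⁅g, u * w⁆ = ⁅g, w⁆ := P.comm_u hu hgu hc

/-- Lemma J for a `κ` which fixes `p` -/
theorem jj₀ (P : Ps V U) (hq : q ∈ U) (hq1 : q ≠ 1) (hr : r ∈ U) (hr1 : r ≠ 1) (hrq : r ≠ q)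
    (hp : p ∈ U) (hp1 : p ≠ 1) (hpq : p ≠ q) (hpr : p ≠ r) (hpqr : p ≠ q * r) {g κ : G}
    (hg : g ∈ ws V r) (hgq : g ∈ kq V q) (hκ : κ ∈ kq V (q * r)) (hκr : κ * r * κ⁻¹ = q)
    (hκp : κ * p = p * κ) : ∀ w ∈ ws V p, (g * (κ * g * κ⁻¹)) * w = w * (g * (κ * g * κ⁻¹)) := by
  intro w hw
  have hs : q * r ∈ U := mul_mem hq hr
  have hs1 : q * r ≠ 1 := P.mne hr (Ne.symm hrq)
  have hrr := P.sq r hr
  have hqq := P.sq q hq
  have hκq : κ * q * κ⁻¹ = r := by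
    have e1 : κ * (q * r) * κ⁻¹ = q * r := conj_eq_of_comm (kp hκ)
    have e2 : κ * q * κ⁻¹ = (κ * (q * r) * κ⁻¹) * (κ * r * κ⁻¹)⁻¹ := by group
    rw [e2, e1, hκr, P.uc hq hr, mul_inv_cancel_right]
  have hg' : κ * g * κ⁻¹ ∈ ws V q := by
    have := conj_mem_ws κ hg
    rwa [hκr] at this
  have hg'r : κ * g * κ⁻¹ ∈ kq V r := by
    have := conj_mem_kq κ hgq
    rwa [hκq] at this
  set g' := κ * g * κ⁻¹ with hg'd
  -- `g g' ∈ K_p`
  have hsp : q * r ≠ p := Ne.symm hpqr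
  obtain ⟨v, hv, hgv⟩ := P.pa p hp hp1 r hr hr1 (Ne.symm hpr) (q * r) hs hs1 hsp g hg
  have hk1 : g' * g⁻¹ ∈ kq V p := by
    have h1 : κ * (g * v⁻¹) * κ⁻¹ ∈ kq V p := kqn hκp hgv
    have h2 : κ * v * κ⁻¹ * v⁻¹ ∈ kq V p := by
      rcases P.kc hs hκ hv with e | e
      · rw [e, mul_inv_cancel]; exact one_mem _
      · rw [e, mul_inv_cancel_right]; exact P.uk hp hp1 hs
    have h3 := mul_mem (mul_mem h1 h2) (inv_mem hgv)
    have e : κ * (g * v⁻¹) * κ⁻¹ * (κ * v * κ⁻¹ * v⁻¹) * (g * v⁻¹)⁻¹ = g' * g⁻¹ := by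
      rw [hg'd]; group
    rwa [e] at h3
  have hgp : g * p = p * g := P.cU hr hr1 hg hp
  have hk2 : g * g' ∈ kq V p := by
    have h1 : g * (g' * g⁻¹) * g⁻¹ ∈ kq V p := kqn hgp hk1
    have h2 : g⁻¹ = g := inv_eq_self (P.sw r hr hr1 g hg)
    have e : g * (g' * g⁻¹) * g⁻¹ = g * g' := by
      rw [mul_assoc, mul_assoc, ← mul_inv_rev, P.sw r hr hr1 g hg, inv_one, mul_one]
    rwa [e] at h1
  rw [← commutatorElement_eq_one_iff_mul_comm]
  rcases P.kw hp hk2 hw with e | e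
  · exact e
  · exfalso
    -- `[g, w], [g', w] ∈ ⟨q, r⟩`
    have h1 := P.alpha hr hr1 hq hq1 (Ne.symm hrq) hp hp1 hg hgq hw
    have h2 := P.alpha hq hq1 hr hr1 hrq hp hp1 hg' hg'r hw
    have h1' : Sp q r ⁅g, w⁆ := by
      rcases h1 with f | f | f | f
      · exact Or.inl f
      · exact Or.inr (Or.inr (Or.inl f))
      · exact Or.inr (Or.inl f)
      · exact Or.inr (Or.inr (Or.inr (f.trans (P.uc hr hq))))
    have h3 : ⁅g * g', w⁆ = ⁅g', w⁆ * ⁅g, w⁆ := by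
      have hc := P.cU hr hr1 hg (P.sp_mem hq hr h2)
      calc ⁅g * g', w⁆ = (g * ⁅g', w⁆) * g⁻¹ * ⁅g, w⁆ := by simp only [commutatorElement_def]; group
        _ = ⁅g', w⁆ * ⁅g, w⁆ := by rw [hc]; group
    rw [h3] at e
    have h4 := Sp.mul hqq hrr (P.uc hq hr) h2 h1'
    rw [e] at h4
    rcases h4 with f | f | f | f
    · exact hp1 f
    · exact hpq f
    · exact hpr f
    · exact hpqr f

/-- **Lemma J** -/
theorem jj (P : Ps V U) (hq : q ∈ U) (hq1 : q ≠ 1) (hr : r ∈ U) (hr1 : r ≠ 1) (hrq : r ≠ q)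
    (hp : p ∈ U) (hp1 : p ≠ 1) (hpq : p ≠ q) (hpr : p ≠ r) (hpqr : p ≠ q * r) {g κ : G}
    (hg : g ∈ ws V r) (hgq : g ∈ kq V q) (hκ : κ ∈ kq V (q * r)) (hκr : κ * r * κ⁻¹ = q) :
    ∀ w ∈ ws V p, (g * (κ * g * κ⁻¹)) * w = w * (g * (κ * g * κ⁻¹)) := by
  have hs : q * r ∈ U := mul_mem hq hr
  have hs1 : q * r ≠ 1 := P.mne hr (Ne.symm hrq)
  have hrr := P.sq r hr
  have hqq := P.sq q hq
  have hqr := P.uc hq hr
  have hrs : r ≠ q * r := fun e => hq1 (by simpa using e.symm)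
  have hqs : q ≠ q * r := fun e => hr1 (by simpa using e.symm)
  have hsr : q * r * r = q := by rw [mul_assoc, hrr, mul_one]
  have hsq : r * q = q * r := hqr.symm
  obtain ⟨κ', hκ', hκr', hκp'⟩ := P.trv (q * r) hs hs1 r hr hr1 hrs p hp hp1 hpqr hpr (by
    rw [hsr]; exact hpq)
  rw [hsr] at hκr'
  have hJ := P.jj₀ hq hq1 hr hr1 hrq hp hp1 hpq hpr hpqr hg hgq hκ' hκr' (comm_of_conj_eq hκp')
  -- `v = κ' g κ'⁻¹`
  set v := κ' * g * κ'⁻¹ with hvd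
  set c := κ * κ'⁻¹ with hcd
  have hc : c ∈ kq V (q * r) := mul_mem hκ (inv_mem hκ')
  have hcq : c * q = q * c := by
    refine comm_of_conj_eq ?_
    calc c * q * c⁻¹ = κ * (κ'⁻¹ * q * κ') * κ⁻¹ := by rw [hcd]; group
      _ = κ * r * κ⁻¹ := by rw [← hκr']; group
      _ = q := hκr
  have hgs : g ∈ kq V (q * r) := by
    have := P.ee r hr hr1 q hq hq1 (Ne.symm hrq) g hg hgq
    rwa [hsq] at this
  have hv : v ∈ ws V q := by
    have := conj_mem_ws κ' hg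
    rwa [hκr'] at this
  have hvs : v ∈ kq V (q * r) := kqn (kp hκ') hgs
  have h4 : ∀ w ∈ ws V (q * r), (c * v * c⁻¹) * w * (c * v * c⁻¹)⁻¹ = v * w * v⁻¹ := by
    intro w hw
    have hcw : ⁅c * v * c⁻¹, w⁆ = ⁅v, w⁆ := by
      have e1 : ⁅c * v * c⁻¹, w⁆ = c * ⁅v, c⁻¹ * w * c⁆ * c⁻¹ := by
        simp only [commutatorElement_def]; group
      have h1 : ⁅v, c⁻¹ * w * c⁆ = ⁅v, w⁆ := by
        rcases P.kc hs (inv_mem hc) hw with e | e
        · rw [inv_inv] at e; rw [e]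
        · rw [inv_inv] at e; rw [e]
          refine P.comm_u' hs (P.cU hq hq1 hv hs) ?_
          rcases P.kw hs hvs hw with f | f <;> rw [f]
          · exact one_mem _
          · exact hs
      rw [e1, h1]
      rcases P.kw hs hvs hw with f | f <;> rw [f]
      · group
      · exact conj_eq_of_comm (kp hc)
    have := congrArg (· * w) hcw
    simp only [commutatorElement_def, inv_mul_cancel_right] at this
    exact this
  have hcv : c * v * c⁻¹ ∈ ws V q := wsn hcq hv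
  set d := c * v * c⁻¹ * v⁻¹ with hdd
  have hd0 : d ∈ ws V q := mul_mem hcv (inv_mem hv)
  have hd : ∀ w ∈ ws V (q * r), d * w = w * d := by
    intro w hw
    have h3 : v⁻¹ * w * v ∈ ws V (q * r) := by
      have := wsn (kp (inv_mem hvs)) hw
      rwa [inv_inv] at this
    have h5 := h4 _ h3
    have h6 : v * (v⁻¹ * w * v) * v⁻¹ = w := by group
    rw [h6] at h5
    refine comm_of_conj_eq ?_
    calc d * w * d⁻¹ = (c * v * c⁻¹) * (v⁻¹ * w * v) * (c * v * c⁻¹)⁻¹ := by rw [hdd]; group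
      _ = w := h5
  intro w hw
  have hdr := P.dall hq hq1 hs hs1 (Ne.symm hqs) hr hr1 hd0 hd g hg
  have hdp := P.dall hq hq1 hs hs1 (Ne.symm hqs) hp hp1 hd0 hd w hw
  have e1 : κ * g * κ⁻¹ = d * v := by rw [hdd, hcd, hvd]; group
  have e2 : g * (κ * g * κ⁻¹) = d * (g * v) := by
    rw [e1, ← mul_assoc, ← hdr, mul_assoc]
  rw [e2]
  exact mul_comm_of hdp (hJ w hw)

/-- the group `⟨W_p | p ∈ U#⟩` -/
def _root_.Cfsg.Agent.Omega.NO3S.TwoOne.fpl (V U : Subgroup G) : Subgroup G :=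
  closure {w | ∃ p ∈ U, p ≠ 1 ∧ w ∈ ws V p}

theorem _root_.Cfsg.Agent.Omega.NO3S.TwoOne.ws_le_fpl {V U : Subgroup G} {p : G} (hp : p ∈ U) (hp1 : p ≠ 1) :
    ws V p ≤ fpl V U := fun _ hw => subset_closure ⟨p, hp, hp1, hw⟩

/-- every `t ∈ U - ⟨x⟩` is a commutator of elements of `C(W_x) ∩ ⟨W_p | p ∈ U#⟩` -/
theorem three (P : Ps V U) (hx : x ∈ U) (hx1 : x ≠ 1) (ht : t ∈ U) (ht1 : t ≠ 1) (htx : t ≠ x) :
    ∃ j ∈ fpl V U, ∃ j' ∈ fpl V U, (∀ w ∈ ws V x, j * w = w * j) ∧ (∀ w ∈ ws V x, j' * w = w * j') ∧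
      ⁅j, j'⁆ = t := by
  obtain ⟨r, hr, hr1, hrx, hrt, hrxt⟩ := exists_ne₂ P.card x t
  have hxx := P.sq x hx
  have htt := P.sq t ht
  have hxt := P.uc hx ht
  -- `e ∈ E_t^m`
  obtain ⟨e, he, hex, b, hb, heb⟩ := P.phi t ht ht1 x hx hx1 (Ne.symm htx)
  -- `g ∈ E_r^n`, `[g, e] = t`
  obtain ⟨g, hg, hgt, hge⟩ := P.two ht ht1 hx hx1 (Ne.symm htx) hr hr1 hrt hrx (by rw [← hxt]; exact hrxt)
    he hex ⟨b, hb, heb⟩
  -- `κ`
  have htr := P.uc ht hr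
  have hs : t * r ∈ U := mul_mem ht hr
  have hs1 : t * r ≠ 1 := P.mne hr (Ne.symm hrt)
  have hrs : r ≠ t * r := fun e => ht1 (by simpa using e.symm)
  have hsr : t * r * r = t := by rw [mul_assoc, P.sq r hr, mul_one]
  have hxs : x ≠ t * r := fun e => hrxt (by
    rw [e, mul_assoc, P.uc hr ht, ← mul_assoc, htt, one_mul])
  obtain ⟨κ, hκ, hκr, -⟩ := P.trv (t * r) hs hs1 r hr hr1 hrs x hx hx1 hxs (Ne.symm hrx)
    (by rw [hsr]; exact Ne.symm htx)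
  rw [hsr] at hκr
  -- `k`
  obtain ⟨k, hk, hkt, -⟩ := P.trv x hx hx1 t ht ht1 htx r hr hr1 hrx hrt hrxt
  set g' := κ * g * κ⁻¹ with hg'd
  have hg' : g' ∈ ws V t := by
    have := conj_mem_ws κ hg
    rwa [hκr] at this
  have he' : k * e * k⁻¹ ∈ ws V (x * t) := by
    have := conj_mem_ws k he
    rwa [hkt] at this
  have hxt1 : x * t ≠ 1 := P.mne ht (Ne.symm htx)
  have hxtU : x * t ∈ U := mul_mem hx ht
  have hee : e⁻¹ = e := inv_eq_self (P.sw t ht ht1 e he)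
  have hj : ⁅e, k⁆ = e * (k * e * k⁻¹) := by
    rw [commutatorElement_def]
    calc e * k * e⁻¹ * k⁻¹ = e * (k * e⁻¹ * k⁻¹) := by group
      _ = e * (k * e * k⁻¹) := by rw [hee]
  have hJ := fun p (hp : p ∈ U) (hp1 : p ≠ 1) (hpt : p ≠ t) (hpr : p ≠ r) (hptr : p ≠ t * r) =>
    P.jj ht ht1 hr hr1 hrt hp hp1 hpt hpr hptr hg hgt hκ hκr
  have hJx := hJ x hx hx1 (Ne.symm htx) (Ne.symm hrx) hxs
  have hJxt := hJ (x * t) hxtU hxt1 (fun e => hx1 (by simpa using e)) (Ne.symm hrxt)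
    (fun e => hrx (by
      have := congrArg (t * ·) e
      change t * (x * t) = t * (t * r) at this
      rw [← mul_assoc, ← mul_assoc, htt, one_mul, ← hxt, mul_assoc, htt, mul_one] at this
      exact this.symm))
  refine ⟨⁅e, k⁆, ?_, g * g', ?_, P.kk hx hk hex, hJx, ?_⟩
  · rw [hj]
    exact mul_mem (ws_le_fpl ht ht1 he) (ws_le_fpl hxtU hxt1 he')
  · exact mul_mem (ws_le_fpl hr hr1 hg) (ws_le_fpl ht ht1 hg')
  · -- `[e e^k, g g'] = [e, g g'] = [e, g] = t`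
    have h1 := hJxt _ he'
    have h2 : ⁅e * (k * e * k⁻¹), g * g'⁆ = ⁅e, g * g'⁆ := by
      calc ⁅e * (k * e * k⁻¹), g * g'⁆ =
          e * ((k * e * k⁻¹) * (g * g')) * (k * e * k⁻¹)⁻¹ * e⁻¹ * (g * g')⁻¹ := by
            rw [commutatorElement_def]; group
        _ = e * ((g * g') * (k * e * k⁻¹)) * (k * e * k⁻¹)⁻¹ * e⁻¹ * (g * g')⁻¹ := by rw [h1]
        _ = ⁅e, g * g'⁆ := by rw [commutatorElement_def]; group
    have h3 : ⁅e, g * g'⁆ = ⁅e, g⁆ := by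
      have h4 := P.ab t ht ht1 e he g' hg'
      calc ⁅e, g * g'⁆ = e * g * (g' * e⁻¹) * g'⁻¹ * g⁻¹ := by rw [commutatorElement_def]; group
        _ = e * g * (e⁻¹ * g') * g'⁻¹ * g⁻¹ := by rw [inv_comm_of h4]
        _ = ⁅e, g⁆ := by rw [commutatorElement_def]; group
    rw [hj, h2, h3, ← commutatorElement_inv, hge, P.inv_eq ht]

end Ps

end Cfsg.Agent.Omega.NO3S.TwoOne
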