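import Cfsg.Agent.Omega.NO3S.TwoOne.PlaneKB
import Cfsg.Agent.Involutions.BaerSuzuki

/-!
# NO-3S, `q = 2`, `n = 1`: THEOREM P

`h : One T V z`, `A` the image of `W_y` in `H = C_G(z) / K_z`, `λ = V / z`.

* `One.false_of_pa` : if `A` contains no `λ`-transvection there is no plane `U ∋ z` such that for each `t ∈ U#` all
  `W_q`, `q ∈ U - ⟨t⟩`, have the same image in `C_G(t) / K_t`;
* `One.norm_of_image` (**THEOREM P**) : `f ∈ C_G(z)`, `A^f ≤ A` imply `f ∈ N_G(V)`, i.e. `N_H(A) = H_λ`;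
* `One.norm_of_comm` : `C_H(A) ≤ H_λ`.
-/

set_option autoImplicit false
set_option linter.unusedSectionVars false

namespace Cfsg.Agent.Omega.NO3S.TwoOne

open Subgroup Cfsg Cfsg.Agent.ZN Cfsg.Agent.MinSimple.Geo Cfsg.Agent.Omega.CaseL
open Cfsg.Agent.ZN.Block (conj_mem_of_normalizer conj_mem_of_normalizer' le_normalizer_of_forall
  mem_normalizer_of)
open scoped commutatorElement

universe u

variable {G : Type u} [Group G]

/-- `⟨D_p | p ∈ U#⟩` -/
def dpl (V U : Subgroup G) : Subgroup G :=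
  closure {w | ∃ p ∈ U, p ≠ 1 ∧ w ∈ ws V p ∧ ∀ q ∈ U, q ≠ 1 → ∀ b ∈ ws V q, w * b = b * w}

theorem dpl_comm {V U : Subgroup G} {d f : G} (hd : d ∈ dpl V U) (hf : f ∈ fpl V U) : d * f = f * d := by
  have h1 : dpl V U ≤ centralizer (fpl V U : Set G) := by
    unfold dpl
    rw [closure_le]
    rintro w ⟨p, hp, hp1, hw, hc⟩
    change w ∈ centralizer (fpl V U : Set G)
    rw [mem_centralizer_iff]
    have h2 : fpl V U ≤ centralizer ({w} : Set G) := by
      unfold fpl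
      rw [closure_le]
      rintro v ⟨q, hq, hq1, hv⟩
      exact mem_centralizer_singleton_iff.mpr (hc q hq hq1 v hv).symm
    exact fun v hv => mem_centralizer_singleton_iff.mp (h2 hv)
  exact (mem_centralizer_iff.mp (h1 hd) f hf).symm

theorem dpl_le_fpl (V U : Subgroup G) : dpl V U ≤ fpl V U := by
  refine closure_mono ?_
  rintro w ⟨p, hp, hp1, hw, -⟩
  exact ⟨p, hp, hp1, hw⟩

theorem conj_mem_fpl {V U : Subgroup G} {f : G} (g : G) (hf : f ∈ fpl V U) : g * f * g⁻¹ ∈ fpl V (cj g U) := by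
  have h1 : fpl V U ≤ cj g⁻¹ (fpl V (cj g U)) := by
    conv_lhs => unfold fpl
    rw [closure_le]
    rintro w ⟨p, hp, hp1, hw⟩
    change w ∈ cj g⁻¹ (fpl V (cj g U))
    rw [mem_cj, inv_inv]
    exact ws_le_fpl (conj_mem_cj hp) (fun e => hp1 (conj_eq_one_iff.mp e)) (conj_mem_ws g hw)
  have := h1 hf
  rwa [mem_cj, inv_inv] at this

namespace Ps

variable {V U : Subgroup G} {p q r s x t : G}

theorem fu_comm (P : Ps V U) {f u : G} (hf : f ∈ fpl V U) (hu : u ∈ U) : f * u = u * f := by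
  have h2 : fpl V U ≤ centralizer ({u} : Set G) := by
    unfold fpl
    rw [closure_le]
    rintro v ⟨q, hq, hq1, hv⟩
    exact mem_centralizer_singleton_iff.mpr (P.cU hq hq1 hv hu)
  exact mem_centralizer_singleton_iff.mp (h2 hf)

/-- `[C(W_x), ⟨W_p⟩] ≤ ⟨D_p⟩` -/
theorem four (P : Ps V U) (hx : x ∈ U) (hx1 : x ≠ 1) {b f : G} (hb : ∀ w ∈ ws V x, b * w = w * b)
    (hf : f ∈ fpl V U) : b * f * b⁻¹ * f⁻¹ ∈ dpl V U := by
  refine closure_induction (p := fun f _ => b * f * b⁻¹ * f⁻¹ ∈ dpl V U) ?_ ?_ ?_ ?_ hf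
  · rintro w ⟨p, hp, hp1, hw⟩
    by_cases hpx : p = x
    · rw [hpx] at hw
      rw [hb w hw]
      simp
    · refine subset_closure ⟨p, hp, hp1, ?_⟩
      have hbp : b * p = p * b := hb p (P.le x hx hx1 hp)
      have h1 : b * w * b⁻¹ * w⁻¹ ∈ ws V p := mul_mem (wsn hbp hw) (inv_mem hw)
      refine ⟨h1, fun r hr hr1 => P.dall hp hp1 hx hx1 (Ne.symm hpx) hr hr1 h1 fun v hv => ?_⟩
      have h2 : w⁻¹ * v * w ∈ ws V x := by
        have := wsn (inv_comm_of (P.cU hp hp1 hw hx)) hv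
        rwa [inv_inv] at this
      have h3 := hb _ h2
      have h4 := hb _ hv
      calc b * w * b⁻¹ * w⁻¹ * v = b * w * b⁻¹ * (w⁻¹ * v * w) * w⁻¹ := by group
        _ = b * w * (b⁻¹ * (w⁻¹ * v * w)) * w⁻¹ := by group
        _ = b * w * ((w⁻¹ * v * w) * b⁻¹) * w⁻¹ := by rw [inv_comm_of h3]
        _ = (b * v) * w * b⁻¹ * w⁻¹ := by group
        _ = v * (b * w * b⁻¹ * w⁻¹) := by rw [h4]; group
  · simp
  · intro f g hf hg ihf ihg
    have h1 := dpl_comm ihg hf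
    have e : b * (f * g) * b⁻¹ * (f * g)⁻¹ = (b * f * b⁻¹ * f⁻¹) * (f * (b * g * b⁻¹ * g⁻¹)) * f⁻¹ := by
      group
    rw [e, ← h1, mul_assoc, mul_inv_cancel_right]
    exact mul_mem ihf ihg
  · intro f hf ihf
    have h1 := dpl_comm ihf (inv_mem hf)
    have e : b * f⁻¹ * b⁻¹ * f⁻¹⁻¹ = (f⁻¹ * (b * f * b⁻¹ * f⁻¹) * f)⁻¹ := by group
    rw [e, ← h1, inv_mul_cancel_right]
    exact inv_mem ihf

end Ps

theorem comm_mod {B N : Subgroup G} (hN : ∀ b ∈ B, ∀ n ∈ N, b * n * b⁻¹ ∈ N) {a j a' j' : G} (ha : a ∈ B)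
    (ha' : a' ∈ B) (hj'B : j' ∈ B) (hj : ∀ b ∈ B, b * j * b⁻¹ * j⁻¹ ∈ N)
    (hj' : ∀ b ∈ B, b * j' * b⁻¹ * j'⁻¹ ∈ N) (haa : a * a' = a' * a) : ⁅a * j, a' * j'⁆ ∈ N := by
  have h1 := hj _ (mul_mem ha' hj'B)
  have h2 := hj' _ ha
  have e : ⁅a * j, a' * j'⁆ =
      (a * (a' * j' * j * (a' * j')⁻¹ * j⁻¹)⁻¹ * a⁻¹) * ((a * a') * a⁻¹ * a'⁻¹) *
        (a' * (a * j' * a⁻¹ * j'⁻¹) * a'⁻¹) := by
    rw [commutatorElement_def]
    have : a * a' * a⁻¹ * a'⁻¹ = 1 := by rw [haa]; group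
    have h3 : (a * a')⁻¹ = (a' * a)⁻¹ := by rw [haa]
    rw [this, mul_one]
    calc a * j * (a' * j') * (a * j)⁻¹ * (a' * j')⁻¹ =
        (a * (a' * j' * j * (a' * j')⁻¹ * j⁻¹)⁻¹ * a⁻¹) * (a * a' * j' * a⁻¹ * j'⁻¹ * a'⁻¹) := by group
      _ = (a * (a' * j' * j * (a' * j')⁻¹ * j⁻¹)⁻¹ * a⁻¹) * (a' * a * j' * a⁻¹ * j'⁻¹ * a'⁻¹) := by
        rw [haa]
      _ = _ := by group
  have h3 : (a * a') * a⁻¹ * a'⁻¹ = 1 := by rw [haa]; group
  rw [e, h3, mul_one]
  exact mul_mem (hN _ ha _ (inv_mem h1)) (hN _ ha' _ h2)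

namespace One

variable {T V U : Subgroup G} {z : G}

/-- conjugates of `F_U` by elements of `F_{U^c}` centralise `U` -/
theorem five [Finite G] (h : One T V z) (hN : NT V) (P : Pa V U) (hz : z ∈ U) {c : G} (hc : c * z = z * c)
    {g : G} (hg : g ∈ fpl V (cj c U)) {u : G} (hu : u ∈ U) {f : G} (hf : f ∈ fpl V U) :
    (g * f * g⁻¹) * u = u * (g * f * g⁻¹) := by
  have hz1 := h.ln.z_ne
  have P1 := P.ps h hN
  have P2 := (P.conj c).ps h hN
  have P3 := (P.conj g).ps h hN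
  have hz2 : z ∈ cj c U := by
    rw [mem_cj]
    have : c⁻¹ * z * c = z := by
      calc c⁻¹ * z * c = c⁻¹ * (z * c) := by group
        _ = z := by rw [← hc]; group
    rwa [this]
  have hgz : g * z = z * g := P2.fu_comm hg hz2
  have hz3 : z ∈ cj g U := by
    rw [mem_cj]
    have : g⁻¹ * z * g = z := by
      calc g⁻¹ * z * g = g⁻¹ * (z * g) := by group
        _ = z := by rw [← hgz]; group
    rwa [this]
  have hfg : g * f * g⁻¹ ∈ fpl V (cj g U) := conj_mem_fpl g hf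
  by_cases hu1 : u = 1
  · rw [hu1]; simp
  by_cases huz : u = z
  · rw [huz]; exact P3.fu_comm hfg hz3
  obtain ⟨j, hj, j', hj', hjx, hjx', hjj⟩ := P1.three hz hz1 hu hu1 huz
  let B : Subgroup G := centralizer (ws V z : Set G)
  have hBm : ∀ {b : G}, b ∈ B ↔ ∀ w ∈ ws V z, b * w = w * b := by
    intro b
    rw [mem_centralizer_iff]
    exact ⟨fun h w hw => (h w hw).symm, fun h w hw => (h w hw).symm⟩
  have hws2 : ws V z ≤ fpl V (cj c U) := ws_le_fpl hz2 hz1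
  have hws3 : ws V z ≤ fpl V (cj g U) := ws_le_fpl hz3 hz1
  have key : ∀ j ∈ fpl V U, (∀ w ∈ ws V z, j * w = w * j) → ∃ a ∈ dpl V (cj c U), a ∈ B ∧
      j = a * (g * j * g⁻¹) ∧ g * j * g⁻¹ ∈ B ∧ ∀ b ∈ B, b * (g * j * g⁻¹) * b⁻¹ * (g * j * g⁻¹)⁻¹ ∈
        dpl V (cj g U) := by
    intro j hj hjx
    have h1 := P2.four hz2 hz1 hjx hg
    refine ⟨_, h1, ?_, by group, ?_, ?_⟩
    · rw [hBm]
      exact fun w hw => dpl_comm h1 (hws2 hw)
    · rw [hBm]
      intro w hw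
      have h2 : g⁻¹ * w * g ∈ ws V z := by
        have := Ps.wsn (inv_comm_of hgz) hw
        rwa [inv_inv] at this
      calc g * j * g⁻¹ * w = g * (j * (g⁻¹ * w * g)) * g⁻¹ := by group
        _ = g * ((g⁻¹ * w * g) * j) * g⁻¹ := by rw [hjx _ h2]
        _ = w * (g * j * g⁻¹) := by group
    · intro b hb
      rw [hBm] at hb
      exact P3.four hz3 hz1 hb (conj_mem_fpl g hj)
  obtain ⟨a, ha, haB, hja, hjB, hjc⟩ := key j hj hjx
  obtain ⟨a', ha', haB', hja', hjB', hjc'⟩ := key j' hj' hjx'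
  have hNB : ∀ b ∈ B, ∀ n ∈ dpl V (cj g U), b * n * b⁻¹ ∈ dpl V (cj g U) := by
    intro b hb n hn
    rw [hBm] at hb
    have h1 := P3.four hz3 hz1 hb (dpl_le_fpl _ _ hn)
    have := mul_mem h1 hn
    rwa [inv_mul_cancel_right] at this
  have haa : a * a' = a' * a := dpl_comm ha (dpl_le_fpl _ _ ha')
  have h1 := comm_mod hNB haB haB' hjB' hjc hjc' haa
  rw [← hja, ← hja', hjj] at h1
  exact (dpl_comm h1 hfg).symm

/-- **THEOREM P**, main part: there is no plane on which all `W_q` have the same image. -/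
theorem false_of_pa [Finite G] (h : One T V z) (hN : NT V) (P : Pa V U) (hz : z ∈ U) : False := by
  have hz1 := h.ln.z_ne
  have P1 := P.ps h hN
  obtain ⟨q, hq, hq1, hqz⟩ := exists_ne P1.card z
  obtain ⟨r, hr, hr1, hrz, hrq, hrzq⟩ := exists_ne₂ P1.card z q
  have hzqr : z ≠ q * r := fun e => hrzq (by
    rw [e, P1.uc hq hr, mul_assoc, P1.sq q hq, mul_one])
  obtain ⟨g, hg, hgr, b₀, hb₀, hgb⟩ := P1.phi q hq hq1 r hr hr1 hrq
  have hgz : g ∉ kq V z := fun h1 =>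
    hgb (P1.two_lines hq hq1 hr hr1 hrq hz hz1 (Ne.symm hqz) (Ne.symm hrz) hzqr hg hgr h1 b₀ hb₀)
  have hgU : ∀ w ∈ ws V z, ⁅g, w⁆ ∈ U := fun w hw =>
    P1.sp_mem hq hr (P1.alpha hq hq1 hr hr1 hrq hz hz1 hg hgr hw)
  have hgC : g * z = z * g := P1.cU hq hq1 hg hz
  have hgg : g * g = 1 := P1.sw q hq hq1 g hg
  have hgf : g ∈ fpl V U := ws_le_fpl hq hq1 hg
  -- the group `H`
  let C := centralizer ({z} : Set G)
  have hK := centralizer_le_normalizer_kq V z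
  have : ((kq V z).subgroupOf C).Normal := normal_subgroupOf_of_le_normalizer hK
  let H := C ⧸ (kq V z).subgroupOf C
  let π : C →* H := QuotientGroup.mk' _
  have hπ : ∀ c : C, π c = 1 ↔ (c : G) ∈ kq V z := fun c => by
    rw [show π c = (QuotientGroup.mk c : H) from rfl, QuotientGroup.eq_one_iff, mem_subgroupOf]
  have hgC' : g ∈ C := mem_centralizer_singleton_iff.mpr hgC
  set γ : C := ⟨g, hgC'⟩ with hγ
  have hγγ : γ * γ = 1 := Subtype.ext hgg
  have hπγ : π γ * π γ = 1 := by rw [← map_mul, hγγ, map_one]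
  by_cases h2 : IsPGroup 2 (normalClosure {π γ} : Subgroup H)
  · -- `O₂(H) = 1`
    apply hgz
    let R : Subgroup G := ((normalClosure {π γ} : Subgroup H).comap π).map C.subtype
    have hRC : R ≤ C := map_subtype_le _
    have hgR : g ∈ R := ⟨γ, subset_normalClosure (Set.mem_singleton _), rfl⟩
    refine h.le_kq hRC ?_ ?_ hgR
    · refine le_normalizer_of_forall fun c hc y hy => ?_
      obtain ⟨y', hy', rfl⟩ := hy
      refine ⟨⟨c, hc⟩ * y' * ⟨c, hc⟩⁻¹, ?_, rfl⟩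
      change π (⟨c, hc⟩ * y' * ⟨c, hc⟩⁻¹) ∈ normalClosure {π γ}
      rw [map_mul, map_mul, map_inv]
      exact normalClosure_normal.conj_mem _ hy' _
    · rintro y ⟨y', hy', rfl⟩
      obtain ⟨n, hn⟩ := h2 ⟨π y', hy'⟩
      refine ⟨n, ?_⟩
      have h3 : π (y' ^ 2 ^ n) = 1 := by
        rw [map_pow]
        exact congrArg Subtype.val hn
      rw [hπ] at h3
      exact h3
  · obtain ⟨η, hη1, hodd, hinv⟩ := Cfsg.Agent.Involutions.BaerSuzuki.exists_odd_inverted (π γ) hπγ h2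
    obtain ⟨c, rfl⟩ := QuotientGroup.mk'_surjective ((kq V z).subgroupOf C) η
    have hcz : (c : G) * z = z * c := mem_centralizer_singleton_iff.mp c.2
    set b : G := c * g * (c : G)⁻¹ with hb
    have hbf : b ∈ fpl V (cj (c : G) U) := conj_mem_fpl (c : G) hgf
    have hbb : b * b = 1 := by
      calc b * b = c * (g * g) * (c : G)⁻¹ := by rw [hb]; group
        _ = 1 := by rw [hgg]; group
    have hbi : b⁻¹ = b := inv_eq_self hbb
    have hbC : b * z = z * b := by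
      have : b ∈ C := mul_mem (mul_mem c.2 hgC') (inv_mem c.2)
      exact mem_centralizer_singleton_iff.mp this
    set a := b * g * b⁻¹ with ha
    have haU : ∀ u ∈ U, a * u = u * a := fun u hu => h.five hN P hz hcz hbf hu hgf
    have haC : a * z = z * a := by
      have : a ∈ C := mul_mem (mul_mem (mem_centralizer_singleton_iff.mpr hbC) hgC')
        (inv_mem (mem_centralizer_singleton_iff.mpr hbC))
      exact mem_centralizer_singleton_iff.mp this
    -- `g` and `a` commute on `W_z`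
    have hcomm : ∀ w ∈ ws V z, (g * a) * w * (g * a)⁻¹ = (a * g) * w * (a * g)⁻¹ := by
      intro w hw
      have hu := hgU w hw
      set u := ⁅g, w⁆ with hud
      have e1 : g * w * g⁻¹ = u * w := by rw [hud, commutatorElement_def]; group
      have hw' : b⁻¹ * w * b ∈ ws V z := by
        have := Ps.wsn (inv_comm_of hbC) hw
        rwa [inv_inv] at this
      have hu' := hgU _ hw'
      set u' := ⁅g, b⁻¹ * w * b⁆ with hud'
      set v := b * u' * b⁻¹ with hvd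
      have e2 : a * w * a⁻¹ = v * w := by
        rw [hvd, hud', commutatorElement_def, ha]; group
      have hgv : g * v * g⁻¹ = v := by
        have h3 := haU u' hu'
        have h4 : b⁻¹ * g * b = a := by rw [ha, hbi]
        calc g * v * g⁻¹ = b * ((b⁻¹ * g * b) * u' * (b⁻¹ * g * b)⁻¹) * b⁻¹ := by rw [hvd]; group
          _ = b * (a * u' * a⁻¹) * b⁻¹ := by rw [h4]
          _ = b * u' * b⁻¹ := by rw [conj_eq_of_comm h3]
          _ = v := by rw [hvd]
      have hau : a * u * a⁻¹ = u := conj_eq_of_comm (haU u hu)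
      have huw : u ∈ ws V z := P1.le z hz hz1 hu
      have hvw : v ∈ ws V z := by
        have h5 : v = (a * w * a⁻¹) * w⁻¹ := by rw [e2]; group
        rw [h5]
        exact mul_mem (Ps.wsn haC hw) (inv_mem hw)
      calc (g * a) * w * (g * a)⁻¹ = g * (a * w * a⁻¹) * g⁻¹ := by group
        _ = (g * v * g⁻¹) * (g * w * g⁻¹) := by rw [e2]; group
        _ = v * u * w := by rw [hgv, e1]; group
        _ = u * v * w := by rw [P1.ab z hz hz1 v hvw u huw]
        _ = (a * u * a⁻¹) * (a * w * a⁻¹) := by rw [hau, e2]; group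
        _ = a * (g * w * g⁻¹) * a⁻¹ := by rw [e1]; group
        _ = (a * g) * w * (a * g)⁻¹ := by group
    have haCm : a ∈ C := mem_centralizer_singleton_iff.mpr haC
    have hk : ⁅g, a⁆ ∈ kq V z := by
      have hC : ⁅g, a⁆ ∈ C := by
        rw [commutatorElement_def]
        exact mul_mem (mul_mem (mul_mem hgC' haCm) (inv_mem hgC')) (inv_mem haCm)
      have hfix : ∀ w ∈ ws V z, ⁅g, a⁆ * w * ⁅g, a⁆⁻¹ = w := by
        intro w hw
        have hag : (a * g) * z = z * (a * g) := mul_comm_of haC hgC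
        have h3 : (a * g)⁻¹ * w * (a * g) ∈ ws V z := by
          have := Ps.wsn (inv_comm_of hag) hw
          rwa [inv_inv] at this
        calc ⁅g, a⁆ * w * ⁅g, a⁆⁻¹ = (g * a) * ((a * g)⁻¹ * w * (a * g)) * (g * a)⁻¹ := by
              rw [commutatorElement_def]; group
          _ = (a * g) * ((a * g)⁻¹ * w * (a * g)) * (a * g)⁻¹ := hcomm _ h3
          _ = w := by group
      refine ⟨hC, fun w hw => ?_, fun w hw => ?_⟩
      · rw [hfix w hw, mul_inv_cancel]; exact one_mem _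
      · have h3 := hfix w hw
        have h4 : ⁅g, a⁆⁻¹ * w * ⁅g, a⁆ = w := by
          calc ⁅g, a⁆⁻¹ * w * ⁅g, a⁆ = ⁅g, a⁆⁻¹ * (⁅g, a⁆ * w * ⁅g, a⁆⁻¹) * ⁅g, a⁆ := by rw [h3]
            _ = w := by group
        rw [h4, mul_inv_cancel]; exact one_mem _
    -- in `H`
    have e1 : π ⁅γ, (c * γ * c⁻¹) * γ * (c * γ * c⁻¹)⁻¹⁆ = 1 := by
      rw [hπ]
      have : ((⁅γ, (c * γ * c⁻¹) * γ * (c * γ * c⁻¹)⁻¹⁆ : C) : G) = ⁅g, a⁆ := by
        simp [ha, hb, hγ, commutatorElement_def]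
      rw [this]; exact hk
    set θ := QuotientGroup.mk' ((kq V z).subgroupOf C) c with hθ
    have hθ' : π c = θ := rfl
    have e2 : ⁅π γ, (θ * π γ * θ⁻¹) * π γ * (θ * π γ * θ⁻¹)⁻¹⁆ = 1 := by
      rw [← hθ']
      have := e1
      simpa [map_mul, map_inv, map_commutatorElement] using this
    set g' := π γ with hg'
    have hgi : g'⁻¹ = g' := inv_eq_self hπγ
    have hgt : g' * θ * g' = θ⁻¹ := by rw [← hinv, hgi]
    -- `θ ^ 8 = 1`
    have hpow : ∀ n : ℕ, g' * θ ^ n * g' = (θ ^ n)⁻¹ := by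
      intro n
      have h3 : g' * θ * g'⁻¹ = θ⁻¹ := by rw [hgi]; exact hgt
      calc g' * θ ^ n * g' = g' * θ ^ n * g'⁻¹ := by rw [hgi]
        _ = (g' * θ * g'⁻¹) ^ n := conj_pow.symm
        _ = (θ ^ n)⁻¹ := by rw [h3, inv_pow]
    have s1 : θ * g' * θ⁻¹ = θ ^ 2 * g' := by
      calc θ * g' * θ⁻¹ = θ * g' * (g' * θ * g') := by rw [hgt]
        _ = θ * (g' * g') * θ * g' := by group
        _ = θ ^ 2 * g' := by rw [hπγ, mul_one, pow_two]
    have s2 : (θ ^ 2 * g') * g' * (θ ^ 2 * g')⁻¹ = θ ^ 4 * g' := by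
      calc (θ ^ 2 * g') * g' * (θ ^ 2 * g')⁻¹ = θ ^ 2 * (g' * g') * (g'⁻¹ * (θ ^ 2)⁻¹) := by group
        _ = θ ^ 2 * (g' * (g' * θ ^ 2 * g')) := by rw [hπγ, mul_one, hgi, hpow]
        _ = θ ^ 2 * (g' * g') * θ ^ 2 * g' := by group
        _ = θ ^ 4 * g' := by rw [hπγ, mul_one, ← pow_add]
    have h8 : θ ^ 8 = 1 := by
      rw [s1, s2, commutatorElement_eq_one_iff_mul_comm] at e2
      have h4 : g' * θ ^ 4 * g' = θ ^ 4 := by
        rw [mul_assoc, e2, mul_assoc, hπγ, mul_one]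
      rw [hpow] at h4
      have h5 : θ ^ 4 * θ ^ 4 = 1 := by
        calc θ ^ 4 * θ ^ 4 = θ ^ 4 * (θ ^ 4)⁻¹ := by rw [h4]
          _ = 1 := mul_inv_cancel _
      rwa [← pow_add] at h5
    apply hη1
    have h9 : orderOf θ ∣ 8 := orderOf_dvd_of_pow_eq_one h8
    have h10 : Nat.Coprime (orderOf θ) 8 := by
      have : Nat.Coprime (orderOf θ) (2 ^ 3) := Nat.Coprime.pow_right 3 (Nat.coprime_two_right.mpr hodd)
      simpa using this
    have h11 := Nat.Coprime.eq_one_of_dvd h10 h9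
    exact orderOf_eq_one_iff.mp h11

end One

end Cfsg.Agent.Omega.NO3S.TwoOne
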