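import Cfsg.Agent.Omega.NO3S.TwoOne.PlaneKC

/-!
# NO-3S, `q = 2`, `n = 1`: THEOREM P, the statement

`h : One T V z`, `y` a point of `V`, `y ≠ z`, `A` the image of `W_y` in `H = C_G(z) / K_z`, `λ = V / z`.

* `One.norm_of_image` (**THEOREM P**) : `f ∈ C_G(z)`, `A^f ≤ A` imply `f ∈ N_G(V)`, i.e. `N_H(A) = H_λ`;
* `One.norm_of_comm` : `C_H(A) ≤ H_λ`;
* `One.eq_of_image` : if `L` is a line on `z`, `y' ∈ L - ⟨z⟩`, and `W_{y'}`, `W_y` have the same image in `H` then
  `L = V`.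
-/

set_option autoImplicit false
set_option linter.unusedSectionVars false

namespace Cfsg.Agent.Omega.NO3S.TwoOne

open Subgroup Cfsg Cfsg.Agent.ZN Cfsg.Agent.MinSimple.Geo Cfsg.Agent.Omega.CaseL
open Cfsg.Agent.ZN.Block (conj_mem_of_normalizer conj_mem_of_normalizer' le_normalizer_of_forall
  mem_normalizer_of)
open scoped commutatorElement

universe u

variable {G : Type u} [Group G]

/-- the image of `W_q` in `C_G(z) / K_z` is contained in the image of `W_{q'}` -/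
def Rl (V : Subgroup G) (z q q' : G) : Prop := ∀ a ∈ ws V q, ∃ b ∈ ws V q', a * b⁻¹ ∈ kq V z

namespace Rl

variable {V : Subgroup G} {z q q' q'' : G}

theorem trans (h1 : Rl V z q q') (h2 : Rl V z q' q'') : Rl V z q q'' := by
  intro a ha
  obtain ⟨b, hb, hab⟩ := h1 a ha
  obtain ⟨c, hc, hbc⟩ := h2 b hb
  refine ⟨c, hc, ?_⟩
  have := mul_mem hab hbc
  rwa [mul_assoc, inv_mul_cancel_left] at this

theorem conj (h1 : Rl V z q q') {c : G} (hc : c * z = z * c) : Rl V z (c * q * c⁻¹) (c * q' * c⁻¹) := by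
  intro a ha
  have ha' : c⁻¹ * a * c ∈ ws V q := by
    have := conj_mem_ws c⁻¹ ha
    have e : c⁻¹ * (c * q * c⁻¹) * c⁻¹⁻¹ = q := by group
    rwa [e, inv_inv] at this
  obtain ⟨b, hb, hab⟩ := h1 _ ha'
  refine ⟨c * b * c⁻¹, conj_mem_ws c hb, ?_⟩
  have := Ps.kqn hc hab
  have e : c * (c⁻¹ * a * c * b⁻¹) * c⁻¹ = a * (c * b * c⁻¹)⁻¹ := by group
  rwa [e] at this

theorem of_kq {k : G} (hk : k ∈ kq V z) (hq : ws V q ≤ centralizer ({z} : Set G)) :
    Rl V z q (k * q * k⁻¹) := by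
  intro a ha
  refine ⟨k * a * k⁻¹, conj_mem_ws k ha, ?_⟩
  have h1 : a * k * a⁻¹ ∈ kq V z := Ps.kqn (mem_centralizer_singleton_iff.mp (hq ha)) hk
  have e : a * (k * a * k⁻¹)⁻¹ = a * k * a⁻¹ * k⁻¹ := by group
  rw [e]
  exact mul_mem h1 (inv_mem hk)

theorem of_kq' {k : G} (hk : k ∈ kq V z) (hq : ws V q ≤ centralizer ({z} : Set G)) :
    Rl V z (k * q * k⁻¹) q := by
  have h1 : ws V (k * q * k⁻¹) ≤ centralizer ({z} : Set G) := by
    intro a ha
    have ha' : k⁻¹ * a * k ∈ ws V q := by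
      have := conj_mem_ws k⁻¹ ha
      have e : k⁻¹ * (k * q * k⁻¹) * k⁻¹⁻¹ = q := by group
      rwa [e, inv_inv] at this
    have h2 := mem_centralizer_singleton_iff.mp (hq ha')
    have h3 := Ps.kp hk
    rw [mem_centralizer_singleton_iff]
    have e : a = k * (k⁻¹ * a * k) * k⁻¹ := by group
    rw [e]
    exact mul_comm_of (mul_comm_of h3 h2) (inv_comm_of h3)
  have := of_kq (inv_mem hk) h1
  have e : k⁻¹ * (k * q * k⁻¹) * k⁻¹⁻¹ = q := by group
  rwa [e] at this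

end Rl

/-- equality of the images -/
def Re (V : Subgroup G) (z q q' : G) : Prop := Rl V z q q' ∧ Rl V z q' q

namespace Re

variable {V : Subgroup G} {z q q' q'' : G}

theorem symm (h : Re V z q q') : Re V z q' q := ⟨h.2, h.1⟩

theorem refl (V : Subgroup G) (z q : G) : Re V z q q := by
  have : Rl V z q q := fun a ha => ⟨a, ha, by rw [mul_inv_cancel]; exact one_mem _⟩
  exact ⟨this, this⟩

theorem trans (h1 : Re V z q q') (h2 : Re V z q' q'') : Re V z q q'' :=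
  ⟨h1.1.trans h2.1, h2.2.trans h1.2⟩

theorem conj (h1 : Re V z q q') {c : G} (hc : c * z = z * c) : Re V z (c * q * c⁻¹) (c * q' * c⁻¹) :=
  ⟨h1.1.conj hc, h1.2.conj hc⟩

theorem of_kq {k : G} (hk : k ∈ kq V z) (hq : ws V q ≤ centralizer ({z} : Set G)) :
    Re V z q (k * q * k⁻¹) := ⟨Rl.of_kq hk hq, Rl.of_kq' hk hq⟩

end Re

namespace One

variable {T V U : Subgroup G} {z : G}

/-- `U ≤ W_p` -/
theorem pln_le (_ : One T V z) (hU : Pln V U) {p : G} (hp : p ∈ U) (hp1 : p ≠ 1) : U ≤ ws V p := by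
  intro x hx
  by_cases hx1 : x = 1
  · rw [hx1]; exact one_mem _
  by_cases hxp : x = p
  · obtain ⟨q, hq, hq1, hqp⟩ := exists_ne hU.card p
    obtain ⟨L, hL, -⟩ := hU.line p hp q hq hp1 hq1 (Ne.symm hqp)
    rw [hxp]; exact le_ws hL hL.2
  · obtain ⟨L, hL, hxL⟩ := hU.line p hp x hx hp1 hx1 (Ne.symm hxp)
    exact le_ws hL hxL

/-- `K_p` normalises a plane `U ∋ p` -/
theorem pln_conj (h : One T V z) (hU : Pln V U) {p k u : G} (hp : p ∈ U) (hp1 : p ≠ 1) (hk : k ∈ kq V p)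
    (hu : u ∈ U) : k * u * k⁻¹ ∈ U := by
  rcases (mem_zpowers_iff_of_mul_self (hU.sq p hp)).mp (kq_comm hk (h.pln_le hU hp hp1 hu)) with e | e
  · have : k * u * k⁻¹ = u := by
      calc k * u * k⁻¹ = (k * u * k⁻¹ * u⁻¹) * u := by group
        _ = u := by rw [e, one_mul]
    rw [this]; exact hu
  · have : k * u * k⁻¹ = p * u := by
      calc k * u * k⁻¹ = (k * u * k⁻¹ * u⁻¹) * u := by group
        _ = p * u := by rw [e]
    rw [this]; exact mul_mem hp hu

/-- if all `W_q` have the same image in `C_G(z) / K_z` then this holds at all points -/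
theorem pa_of (h : One T V z) [Finite G] (hU : Pln V U) (hz : z ∈ U)
    (hR : ∀ q ∈ U, q ≠ 1 → q ≠ z → ∀ q' ∈ U, q' ≠ 1 → q' ≠ z → Rl V z q q') : Pa V U := by
  refine ⟨hU, fun t ht ht1 q hq hq1 hqt q' hq' hq1' hqt' a ha => ?_⟩
  have hz1 := h.ln.z_ne
  have hzz := h.ln.zz
  by_cases htz : t = z
  · subst htz
    exact hR q hq hq1 hqt q' hq' hq1' hqt' a ha
  · have hs : z * t ∈ U := mul_mem hz ht
    have hs1 : z * t ≠ 1 := fun e => htz (by
      rw [← inv_eq_self (hU.sq t ht)]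
      exact (mul_eq_one_iff_inv_eq'.mp e))
    have hzs : z ≠ z * t := fun e => ht1 (by simpa using e.symm)
    obtain ⟨r, hr, hr1, hrs, hrz, hrsz⟩ := exists_ne₂ hU.card (z * t) z
    obtain ⟨k, hk, hkz, -⟩ := h.pln_trv hU hs hs1 hz hz1 hzs hr hr1 hrs hrz hrsz
    have hzt : z * t = t * z := by
      have h1 := hU.sq _ hs
      have h2 := inv_eq_self h1
      rw [mul_inv_rev, inv_eq_self hzz, inv_eq_self (hU.sq t ht)] at h2
      exact h2.symm
    have hkt : k * z * k⁻¹ = t := by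
      rw [hkz, hzt, mul_assoc, hzz, mul_one]
    have hkU : ∀ u ∈ U, k⁻¹ * u * k ∈ U := fun u hu => by
      have := h.pln_conj hU hs hs1 (inv_mem hk) hu
      rwa [inv_inv] at this
    have hne : ∀ {u : G}, u ≠ t → k⁻¹ * u * k ≠ z := fun {u} hut e => hut (by
      calc u = k * (k⁻¹ * u * k) * k⁻¹ := by group
        _ = t := by rw [e, hkt])
    have ha' : k⁻¹ * a * k ∈ ws V (k⁻¹ * q * k) := by
      have := conj_mem_ws k⁻¹ ha
      rwa [inv_inv] at this
    obtain ⟨b, hb, hab⟩ := hR _ (hkU q hq) (conj_ne_one hq1) (hne hqt) _ (hkU q' hq') (conj_ne_one hq1')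
      (hne hqt') _ ha'
    refine ⟨k * b * k⁻¹, ?_, ?_⟩
    · have := conj_mem_ws k hb
      have e : k * (k⁻¹ * q' * k) * k⁻¹ = q' := by group
      rwa [e] at this
    · have := conj_mem_kq k hab
      have e : k * (k⁻¹ * a * k * b⁻¹) * k⁻¹ = a * (k * b * k⁻¹)⁻¹ := by group
      rwa [hkt, e] at this

/-- the images of the `W_q`, `q ∈ U - ⟨z⟩`, `U = ⟨V, u⟩` a plane, if `W_y`, `W_u` have the same image -/
theorem re_of (h : One T V z) [Finite G] (hU : Pln V U) (hVU : V ≤ U) {u y : G} (hu : u ∈ U) (huV : u ∉ V)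
    (hy : y ∈ V) (hy1 : y ≠ 1) (hyz : y ≠ z) (hR : Re V z y u) :
    ∀ q ∈ U, q ≠ 1 → q ≠ z → Re V z y q := by
  have hz := h.ln.z_mem
  have hz1 := h.ln.z_ne
  have hzz := h.ln.zz
  have hzU := hVU hz
  have hyU := hVU hy
  have hu1 : u ≠ 1 := fun e => huV (by rw [e]; exact one_mem _)
  have huz : u ≠ z := fun e => huV (by rw [e]; exact hz)
  have huy : u ≠ y := fun e => huV (by rw [e]; exact hy)
  have huzy : u ≠ z * y := fun e => huV (by rw [e]; exact mul_mem hz hy)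
  have huyz : u ≠ y * z := fun e => huV (by rw [e]; exact mul_mem hy hz)
  -- `W_q ≤ C(z)` for `q ∈ U#`
  have hC : ∀ q ∈ U, q ≠ 1 → ws V q ≤ centralizer ({z} : Set G) := by
    intro q hq hq1 a ha
    rw [mem_centralizer_singleton_iff]
    obtain ⟨r, hr, hr1, hrq⟩ := exists_ne hU.card q
    obtain ⟨T', g, h', -, -⟩ := h.exists_one hU hq hq1 hr hr1 hrq
    have hab := h'.ab
    rw [ws_cj] at hab
    exact hab a ha z (h.pln_le hU hq hq1 hzU)
  -- `q` and `z q`
  have hzq : ∀ q ∈ U, q ≠ 1 → q ≠ z → Re V z q (z * q) := by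
    intro q hq hq1 hqz
    obtain ⟨r, hr, hr1, hrz, hrq, hrzq⟩ := exists_ne₂ hU.card z q
    obtain ⟨k, hk, hkq, -⟩ := h.pln_trv hU hzU hz1 hq hq1 hqz hr hr1 hrz hrq hrzq
    have := Re.of_kq hk (hC q hq hq1)
    rwa [hkq] at this
  -- the third line
  obtain ⟨k, hk, hku, hkz⟩ := h.pln_trv hU hyU hy1 hu hu1 huy hzU hz1 (Ne.symm hyz) (Ne.symm huz) (by
    intro e
    apply huyz
    rw [e, ← mul_assoc, h.ln.sq y hy, one_mul])
  have hR3 : Re V z y (y * u) := by
    have := hR.conj (comm_of_conj_eq hkz)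
    rwa [hku, conj_eq_of_comm (Ps.kp hk)] at this
  have hVu : ∀ x ∈ U, x ∈ V ∨ ∃ v ∈ V, x = v * u := by
    intro x hx
    have h2 : V.relIndex U = 2 := by
      have := Block.card_mul_relIndex' hVU
      rw [h.ln.card_V, hU.card] at this
      omega
    by_cases hxV : x ∈ V
    · exact Or.inl hxV
    · right
      have h3 : ((V.subgroupOf U).index) = 2 := h2
      have h4 := Subgroup.mul_mem_iff_of_index_two h3 (a := ⟨x, hx⟩) (b := ⟨u, hu⟩)
      rw [mem_subgroupOf, mem_subgroupOf, mem_subgroupOf] at h4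
      have h5 : x * u ∈ V := h4.mpr ⟨fun e => absurd e hxV, fun e => absurd e huV⟩
      exact ⟨x * u, h5, by rw [mul_assoc, hU.sq u hu, mul_one]⟩
  intro q hq hq1 hqz
  rcases hVu q hq with hqV | ⟨v, hv, rfl⟩
  · rcases h.ln.four hz hy hz1 hy1 (Ne.symm hyz) hqV with e | e | e | e
    · exact absurd e hq1
    · exact absurd e hqz
    · rw [e]; exact Re.refl _ _ _
    · rw [e]; exact hzq y hyU hy1 hyz
  · rcases h.ln.four hz hy hz1 hy1 (Ne.symm hyz) hv with e | e | e | e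
    · rw [e, one_mul]; exact hR
    · rw [e]
      exact hR.trans (hzq u hu hu1 huz)
    · rw [e]; exact hR3
    · rw [e, mul_assoc]
      refine hR3.trans (hzq _ (mul_mem hyU hu) ?_ ?_)
      · intro e'
        apply huy
        rw [← inv_eq_self (hU.sq u hu)]
        exact (mul_eq_one_iff_eq_inv.mp e').symm
      · intro e'
        apply huyz
        rw [← e', ← mul_assoc, h.ln.sq y hy, one_mul]

/-- no `λ`-transvection in `A` if all `W_q`, `q ∈ U - ⟨z⟩`, have the same image -/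
theorem nt_of_re (h : One T V z) [Finite G] (hU : Pln V U) (hVU : V ≤ U) {u y : G} (hu : u ∈ U) (huV : u ∉ V)
    (hy : y ∈ V) (hy1 : y ≠ 1) (hyz : y ≠ z)
    (hR : ∀ q ∈ U, q ≠ 1 → q ≠ z → Re V z y q) : NT V := by
  have hz := h.ln.z_mem
  have hz1 := h.ln.z_ne
  have hzz := h.ln.zz
  have hzU := hVU hz
  have hyU := hVU hy
  have hu1 : u ≠ 1 := fun e => huV (by rw [e]; exact one_mem _)
  have huz : u ≠ z := fun e => huV (by rw [e]; exact hz)
  have huy : u ≠ y := fun e => huV (by rw [e]; exact hy)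
  have hyuU : y * u ∈ U := mul_mem hyU hu
  have hyu1 : y * u ≠ 1 := fun e => huy (by
    rw [← inv_eq_self (hU.sq u hu)]
    exact (mul_eq_one_iff_eq_inv.mp e).symm)
  have hyuz : y * u ≠ z := fun e => huV (by
    have : u = y⁻¹ * z := by rw [← e]; group
    rw [this]; exact mul_mem (inv_mem hy) hz)
  have hyyu : y ≠ y * u := fun e => hu1 (by simpa using e.symm)
  have hyu : y * u = u * y := by
    have h1 := hU.sq _ hyuU
    have h2 := inv_eq_self h1
    rw [mul_inv_rev, inv_eq_self (hU.sq u hu), inv_eq_self (h.ln.sq y hy)] at h2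
    exact h2.symm
  have hyuy : y * u * y = u := by rw [hyu, mul_assoc, h.ln.sq y hy, mul_one]
  refine h.nt_of hz hz1 hy hy1 hyz fun b hb hV => ?_
  obtain ⟨k, hk, hky, hkz⟩ := h.pln_trv hU hyuU hyu1 hyU hy1 hyyu hzU hz1 (Ne.symm hyuz) (Ne.symm hyz) (by
    rw [hyuy]; exact Ne.symm huz)
  rw [hyuy] at hky
  have hkz' := comm_of_conj_eq hkz
  have hyuk : y * u ∈ kq V z := h.ws_le_kq hz hz1 (h.pln_le hU hzU hz1 hyuU)
  -- `k b k⁻¹ ≡ b`
  obtain ⟨c, hc, hbc⟩ := (hR _ hyuU hyu1 hyuz).1 b hb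
  have h1 : k * (b * c⁻¹) * k⁻¹ ∈ kq V z := Ps.kqn hkz' hbc
  have h2 : k * c * k⁻¹ * c⁻¹ ∈ kq V z := by
    rcases (mem_zpowers_iff_of_mul_self (hU.sq _ hyuU)).mp (kq_comm hk hc) with e | e
    · rw [e]; exact one_mem _
    · rw [e]; exact hyuk
  set κ := k * b * k⁻¹ * b⁻¹ with hκd
  have hκ : κ ∈ kq V z := by
    have h3 := mul_mem (mul_mem h1 h2) (inv_mem hbc)
    have e : k * (b * c⁻¹) * k⁻¹ * (k * c * k⁻¹ * c⁻¹) * (b * c⁻¹)⁻¹ = κ := by rw [hκd]; group
    rwa [e] at h3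
  have hbC := h.cent_le_centralizer hz (h.ws_le_centralizer_V hy hy1 hb)
  refine h.mem_kq hz (mem_centralizer_singleton_iff.mp hbC) fun w hw => ?_
  have hw' : k⁻¹ * w * k ∈ ws V z := by
    have := Ps.wsn (inv_comm_of hkz') hw
    rwa [inv_inv] at this
  have hv' := hV _ hw'
  have hv := hV _ hw
  set v := ⁅w, b⁆ with hvd
  set v' := ⁅k⁻¹ * w * k, b⁆ with hvd'
  -- `[w, k b k⁻¹] = k v' k⁻¹`
  have e1 : k * v' * k⁻¹ = ⁅w, κ * b⁆ := by
    rw [hvd', hκd]; simp only [commutatorElement_def]; group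
  have e2 : ⁅w, κ * b⁆ = ⁅w, κ⁆ * (κ * v * κ⁻¹) := by
    rw [hvd]; simp only [commutatorElement_def]; group
  have e3 : ⁅w, κ⁆ = 1 ∨ ⁅w, κ⁆ = z := by
    have e4 : ⁅w, κ⁆ = w * (κ * w * κ⁻¹)⁻¹ := by rw [commutatorElement_def]; group
    rcases h.kq_cases hz hκ hw with e | e
    · left; rw [e4, e, mul_inv_cancel]
    · right; rw [e4, e, mul_inv_rev, mul_inv_cancel_left, inv_eq_self hzz]
  have e5 : κ * v * κ⁻¹ = v ∨ κ * v * κ⁻¹ = z * v := h.kq_cases hz hκ (h.V_le hz hz1 hv)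
  have e6 : k * v' * k⁻¹ = v ∨ k * v' * k⁻¹ = z * v := by
    rw [e1, e2]
    rcases e3 with e3 | e3 <;> rcases e5 with e5 | e5 <;> rw [e3, e5]
    · left; exact one_mul _
    · right; exact one_mul _
    · right; rfl
    · left; rw [← mul_assoc, hzz, one_mul]
  have e7 : k * v' * k⁻¹ = 1 ∨ k * v' * k⁻¹ = z ∨ k * v' * k⁻¹ = u ∨ k * v' * k⁻¹ = z * u := by
    rcases h.ln.four hz hy hz1 hy1 (Ne.symm hyz) hv' with e | e | e | e <;> rw [e]
    · left; group
    · right; left; exact hkz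
    · right; right; left; exact hky
    · right; right; right
      calc k * (z * y) * k⁻¹ = (k * z * k⁻¹) * (k * y * k⁻¹) := by group
        _ = z * u := by rw [hkz, hky]
  have e8 : k * v' * k⁻¹ ∈ V := by
    rcases e6 with e | e <;> rw [e]
    · exact hv
    · exact mul_mem hz hv
  have e9 : k * v' * k⁻¹ = 1 ∨ k * v' * k⁻¹ = z := by
    rcases e7 with e | e | e | e
    · exact Or.inl e
    · exact Or.inr e
    · rw [e] at e8; exact absurd e8 huV
    · rw [e] at e8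
      exfalso
      have := mul_mem (inv_mem hz) e8
      rw [inv_mul_cancel_left] at this
      exact huV this
  have e10 : v = 1 ∨ v = z := by
    rcases e6 with e | e <;> rcases e9 with f | f <;> rw [e] at f
    · exact Or.inl f
    · exact Or.inr f
    · right
      rw [← inv_eq_self hzz]
      exact (mul_eq_one_iff_inv_eq.mp f).symm
    · left; simpa using f
  -- `b w b⁻¹ = v⁻¹ w`
  have e11 : b * w * b⁻¹ = v⁻¹ * w := by rw [hvd, commutatorElement_def]; group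
  rcases e10 with e | e
  · left; rw [e11, e, inv_one, one_mul]
  · right; rw [e11, e, inv_eq_self hzz]

/-- **THEOREM P**: a line `L` on `z` such that `W_{y'}`, `y' ∈ L - ⟨z⟩`, and `W_y` have the same image in
`C_G(z) / K_z` is `V`. -/
theorem eq_of_image (h : One T V z) [Finite G] {y y' : G} (hy : y ∈ V) (hy1 : y ≠ 1) (hyz : y ≠ z)
    {L : Subgroup G} (hL : L ∈ lines V z) (hy' : y' ∈ L) (hy1' : y' ≠ 1) (hyz' : y' ≠ z)
    (hR : Re V z y y') : L = V := by
  by_contra hne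
  have hz := h.ln.z_mem
  have hz1 := h.ln.z_ne
  have hzz := h.ln.zz
  obtain ⟨g, rfl, T', h'⟩ := h.of_line hL hz1
  obtain ⟨w, hw, b', hb', hwV, hwz⟩ := h'.exists_lambda hL.2 hz1 hy' hy1' hyz'
  rw [ws_cj] at hw hb'
  obtain ⟨b, hb, hκ⟩ := hR.2 b' hb'
  set κ := b' * b⁻¹ with hκd
  set u := ⁅w, b⁆ with hud
  have hui : u ∈ ii V := h.comm_ii_mem hz hz1 hy hy1 hw hb
  have huw : u ∈ ws V z := ii_le hz hz1 hui
  have e0 : b' = κ * b := by rw [hκd]; group
  have e2 : ⁅w, b'⁆ = ⁅w, κ⁆ * (κ * u * κ⁻¹) := by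
    rw [e0, hud]; simp only [commutatorElement_def]; group
  have e3 : ⁅w, κ⁆ = 1 ∨ ⁅w, κ⁆ = z := by
    have e4 : ⁅w, κ⁆ = w * (κ * w * κ⁻¹)⁻¹ := by rw [commutatorElement_def]; group
    rcases h.kq_cases hz hκ hw with e | e
    · left; rw [e4, e, mul_inv_cancel]
    · right; rw [e4, e, mul_inv_rev, mul_inv_cancel_left, inv_eq_self hzz]
  have e6 : ⁅w, b'⁆ = u ∨ ⁅w, b'⁆ = z * u := by
    rw [e2]
    rcases e3 with e3 | e3 <;> rcases h.kq_cases hz hκ huw with e5 | e5 <;> rw [e3, e5]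
    · left; exact one_mul _
    · right; exact one_mul _
    · right; rfl
    · left; rw [← mul_assoc, hzz, one_mul]
  have huL : u ∈ cj g V := by
    rcases e6 with e | e
    · rw [← e]; exact hwV
    · have : u = z * ⁅w, b'⁆ := by rw [e, ← mul_assoc, hzz, one_mul]
      rw [this]; exact mul_mem hL.2 hwV
  have huz : u ∉ zpowers z := by
    intro hu
    apply hwz
    rcases e6 with e | e <;> rw [e]
    · exact hu
    · exact mul_mem (mem_zpowers z) hu
  have hu1 : u ≠ 1 := fun e => huz (by rw [e]; exact one_mem _)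
  have huz' : u ≠ z := fun e => huz (by rw [e]; exact mem_zpowers z)
  have huV : u ∉ V := by
    intro hu
    apply hne
    have hle : V ≤ cj g V := by
      intro x hx
      rcases h.ln.four hz hu hz1 hu1 (Ne.symm huz') hx with e | e | e | e <;> rw [e]
      · exact one_mem _
      · exact hL.2
      · exact huL
      · exact mul_mem hL.2 huL
    exact (Subgroup.eq_of_le_of_card_ge hle (by rw [card_cj])).symm
  obtain ⟨U, hU, hVU, huU, -⟩ := h.exists_plane hui huV ⟨_, hL, huL⟩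
  have hyC : ∀ q ∈ cj g V, q ≠ 1 → q ≠ z → Re V z y' q := by
    intro q hq hq1 hqz
    rcases h'.ln.four hL.2 hy' hz1 hy1' (Ne.symm hyz') hq with e | e | e | e
    · exact absurd e hq1
    · exact absurd e hqz
    · rw [e]; exact Re.refl _ _ _
    · obtain ⟨k, hk, -, hk2⟩ := h'.exists_move hL.2 hz1 hy' hy1' hyz'
      rw [kq_cj] at hk
      have h1 := Re.of_kq (q := y') hk (by
        have := h'.cent_le_centralizer hL.2
        have h2 := h'.ws_le_centralizer_V hy' hy1'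
        rw [ws_cj] at h2
        exact h2.trans this)
      rwa [hk2, ← e] at h1
  have hRu : Re V z y u := hR.trans (hyC u huL hu1 huz')
  have hall := h.re_of hU hVU huU huV hy hy1 hyz hRu
  have hN := h.nt_of_re hU hVU huU huV hy hy1 hyz hall
  have P := h.pa_of hU (hVU hz) fun q hq hq1 hqz q' hq' hq1' hqz' =>
    (hall q hq hq1 hqz).2.trans (hall q' hq' hq1' hqz').1
  exact h.false_of_pa hN P (hVU hz)

/-- **THEOREM P**: `N_H(A) = H_λ`. -/
theorem norm_of_image (h : One T V z) [Finite G] {y f : G} (hy : y ∈ V) (hy1 : y ≠ 1) (hyz : y ≠ z)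
    (hf : f ∈ centralizer ({z} : Set G))
    (hA : ∀ a ∈ ws V y, ∃ b ∈ ws V y, f * a * f⁻¹ * b⁻¹ ∈ kq V z) : f ∈ normalizer (V : Set G) := by
  have hz := h.ln.z_mem
  have hfz : f * z = z * f := mem_centralizer_singleton_iff.mp hf
  have h1 : Rl V z (f * y * f⁻¹) y := by
    intro a ha
    have ha' : f⁻¹ * a * f ∈ ws V y := by
      have := conj_mem_ws f⁻¹ ha
      have e : f⁻¹ * (f * y * f⁻¹) * f⁻¹⁻¹ = y := by group
      rwa [e, inv_inv] at this
    obtain ⟨b, hb, hab⟩ := hA _ ha'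
    refine ⟨b, hb, ?_⟩
    have e : f * (f⁻¹ * a * f) * f⁻¹ = a := by group
    rwa [e] at hab
  -- `f` has finite order
  have h2 : ∀ n : ℕ, Rl V z (f ^ (n + 1) * y * (f ^ (n + 1))⁻¹) (f * y * f⁻¹) := by
    intro n
    induction n with
    | zero =>
      rw [zero_add, pow_one]
      exact fun a ha => ⟨a, ha, by rw [mul_inv_cancel]; exact one_mem _⟩
    | succ n ih =>
      have h3 := (ih.trans h1).conj hfz
      have e : f * (f ^ (n + 1) * y * (f ^ (n + 1))⁻¹) * f⁻¹ = f ^ (n + 1 + 1) * y * (f ^ (n + 1 + 1))⁻¹ := by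
        rw [pow_succ' f (n + 1)]; group
      rwa [e] at h3
  have h3 : Rl V z y (f * y * f⁻¹) := by
    obtain ⟨n, hn, hfn⟩ : ∃ n, 0 < n ∧ f ^ n = 1 := ⟨orderOf f, orderOf_pos f, pow_orderOf_eq_one f⟩
    obtain ⟨m, rfl⟩ := Nat.exists_eq_succ_of_ne_zero hn.ne'
    have h4 := h2 m
    rw [show m + 1 = m.succ from rfl, hfn] at h4
    have e : (1 : G) * y * 1⁻¹ = y := by group
    rwa [e] at h4
  have hL : cj f V ∈ lines V z := by
    have := mem_lines_cj (g := f) h.ln.V_mem_lines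
    rwa [conj_eq_of_comm hfz] at this
  have h4 := h.eq_of_image hy hy1 hyz hL (conj_mem_cj hy) (fun e => hy1 (conj_eq_one_iff.mp e))
    (fun e => hyz (by
      calc y = f⁻¹ * (f * y * f⁻¹) * f := by group
        _ = f⁻¹ * (z * f) := by rw [e]; group
        _ = z := by rw [← hfz]; group)) ⟨h3, h1⟩
  exact mem_normalizer_iff_cj.mpr h4

/-- **THEOREM P**: `C_H(A) ≤ H_λ`. -/
theorem norm_of_comm (h : One T V z) [Finite G] {y f : G} (hy : y ∈ V) (hy1 : y ≠ 1) (hyz : y ≠ z)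
    (hf : f ∈ centralizer ({z} : Set G)) (hA : ∀ a ∈ ws V y, f * a * f⁻¹ * a⁻¹ ∈ kq V z) :
    f ∈ normalizer (V : Set G) :=
  h.norm_of_image hy hy1 hyz hf fun a ha => ⟨a, ha, hA a ha⟩

end One

end Cfsg.Agent.Omega.NO3S.TwoOne
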