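import Cfsg.Agent.Omega.NO3S.TwoOne.PlaneKD

/-!
# NO-3S, `q = 2`, `n = 1`: consequences of THEOREM P

* `One.le_kq_of_norm` : a normal subgroup of `C_G(z)` contained in `N_G(V)` is in `K_z`;
* `One.le_kq_of_comm` (C1) : no normal subgroup `≠ 1` of `H` is centralised by `A`;
* `One.ee_of_comm`, `One.ii_of_comm` (VIII) : `C_H(A)` is trivial on `M / Ē` and on `[M, A] / λ`.
-/

set_option autoImplicit false
set_option linter.unusedSectionVars false

namespace Cfsg.Agent.Omega.NO3S.TwoOne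

open Subgroup Cfsg Cfsg.Agent.ZN Cfsg.Agent.MinSimple.Geo Cfsg.Agent.Omega.CaseL
open Cfsg.Agent.ZN.Block (conj_mem_of_normalizer conj_mem_of_normalizer' le_normalizer_of_forall
  mem_normalizer_of)
open scoped commutatorElement

universe u

variable {G : Type u} [Group G]

namespace One

variable {T V : Subgroup G} {z : G}

/-- a normal subgroup of `C_G(z)` contained in `N_G(V)` is in `K_z` -/
theorem le_kq_of_norm [Finite G] (h : One T V z) {R : Subgroup G} (hR : R ≤ centralizer ({z} : Set G))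
    (hn : centralizer ({z} : Set G) ≤ normalizer (R : Set G)) (h6 : R ≤ normalizer (V : Set G)) :
    R ≤ kq V z := by
  have hz := h.ln.z_mem
  have hz1 := h.ln.z_ne
  have h8 : ∀ r ∈ R, ∀ w ∈ ws V z, r * w * r⁻¹ * w⁻¹ ∈ zpowers z := by
    intro r hr
    let A : Subgroup G :=
      { carrier := {w | ∀ r ∈ R, r * w * r⁻¹ * w⁻¹ ∈ zpowers z ∧ w * z = z * w}
        mul_mem' := by
          intro a b ha hb r hr
          have haz := (ha r hr).2
          have hbz := (hb r hr).2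
          refine ⟨?_, mul_comm_of haz hbz⟩
          have e : r * (a * b) * r⁻¹ * (a * b)⁻¹ =
              (r * a * r⁻¹ * a⁻¹) * (a * (r * b * r⁻¹ * b⁻¹) * a⁻¹) := by group
          rw [e, conj_zpowers (mem_centralizer_singleton_iff.mpr haz) (hb r hr).1]
          exact mul_mem (ha r hr).1 (hb r hr).1
        one_mem' := fun r hr => ⟨by simp, by simp⟩
        inv_mem' := by
          intro a ha r hr
          have haz := (ha r hr).2
          refine ⟨?_, inv_comm_of haz⟩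
          have e : r * a⁻¹ * r⁻¹ * a⁻¹⁻¹ = a⁻¹ * (r * a * r⁻¹ * a⁻¹)⁻¹ * a⁻¹⁻¹ := by group
          rw [e, conj_zpowers (inv_mem (mem_centralizer_singleton_iff.mpr haz)) (inv_mem (ha r hr).1)]
          exact inv_mem (ha r hr).1 }
    have hA : ws V z ≤ A := by
      refine ws_le fun L hL => ?_
      obtain ⟨c, hc, rfl⟩ := h.ln.exists_of_mem_lines hL
      intro x hx r hr
      have hx' := mem_of_cj hx
      have hr' := conj_mem_of_normalizer' hn hc hr
      refine ⟨?_, mem_centralizer_singleton_iff.mp (h.ws_le_cent (le_ws hL hx))⟩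
      have h9 : c⁻¹ * r * c * (c⁻¹ * x * c) * (c⁻¹ * r * c)⁻¹ * (c⁻¹ * x * c)⁻¹ ∈ zpowers z := by
        rcases h.ln.conj_cases hz hx' hz1 (mem_centralizer_singleton_iff.mp (hR hr')) (h6 hr') with e | e
        · rw [e, mul_inv_cancel]; exact one_mem _
        · rw [e, mul_inv_cancel_right]; exact mem_zpowers z
      have e : r * x * r⁻¹ * x⁻¹ =
          c * (c⁻¹ * r * c * (c⁻¹ * x * c) * (c⁻¹ * r * c)⁻¹ * (c⁻¹ * x * c)⁻¹) * c⁻¹ := by group
      rw [e, conj_zpowers hc h9]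
      exact h9
    exact fun w hw => (hA hw r hr).1
  intro r hr
  refine ⟨hR hr, h8 r hr, fun w hw => ?_⟩
  have := h8 r⁻¹ (inv_mem hr) w hw
  rwa [inv_inv] at this

/-- **(C1)** no normal subgroup `≠ 1` of `H = C_G(z) / K_z` is centralised by `A` -/
theorem le_kq_of_comm [Finite G] (h : One T V z) {y : G} (hy : y ∈ V) (hy1 : y ≠ 1) (hyz : y ≠ z)
    {R : Subgroup G} (hR : R ≤ centralizer ({z} : Set G))
    (hn : centralizer ({z} : Set G) ≤ normalizer (R : Set G))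
    (hc : ∀ r ∈ R, ∀ a ∈ ws V y, r * a * r⁻¹ * a⁻¹ ∈ kq V z) : R ≤ kq V z :=
  h.le_kq_of_norm hR hn fun r hr => h.norm_of_comm hy hy1 hyz (hR hr) (hc r hr)

/-- an element of `N(V) ∩ C(z)` is `c k` with `c ∈ C_G(V)`, `k ∈ K_z` -/
theorem exists_mul_kq (h : One T V z) {f : G} (hf : f ∈ centralizer ({z} : Set G))
    (hfn : f ∈ normalizer (V : Set G)) : ∃ c ∈ centralizer (V : Set G), ∃ k ∈ kq V z, f = c * k := by
  have hz := h.ln.z_mem
  have hz1 := h.ln.z_ne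
  have hfz := mem_centralizer_singleton_iff.mp hf
  obtain ⟨y, hy, hy1, hyz⟩ := h.exists_q hz hz1
  rcases h.ln.conj_cases hz hy hz1 hfz hfn with e | e
  · exact ⟨f, h.mem_centralizer_of hz hz1 hy hy1 hyz hfz (comm_of_conj_eq e), 1, one_mem _, by simp⟩
  · obtain ⟨k, hk, hk1⟩ := h.exists_mover hz hz1
    have e1 := h.move hz hz1 hy hy1 hyz hk hk1
    refine ⟨f * k⁻¹, ?_, k, hk, by group⟩
    refine h.mem_centralizer_of hz hz1 (mul_mem hz hy) (h.mul_ne_one hy (Ne.symm hyz)) ?_ ?_ ?_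
    · intro e'
      exact hy1 (by simpa using e')
    · exact mul_comm_of hfz (inv_comm_of (h.kq_p hk))
    · refine comm_of_conj_eq ?_
      calc f * k⁻¹ * (z * y) * (f * k⁻¹)⁻¹ = f * (k⁻¹ * (z * y) * k) * f⁻¹ := by group
        _ = f * (k⁻¹ * (k * y * k⁻¹) * k) * f⁻¹ := by rw [e1]
        _ = f * y * f⁻¹ := by group
        _ = z * y := e

/-- **(VIII)** `C_H(A)` is trivial on `M / Ē` -/
theorem ee_of_comm [Finite G] (h : One T V z) {y f : G} (hy : y ∈ V) (hy1 : y ≠ 1) (hyz : y ≠ z)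
    (hf : f ∈ centralizer ({z} : Set G)) (hA : ∀ a ∈ ws V y, f * a * f⁻¹ * a⁻¹ ∈ kq V z) {w : G}
    (hw : w ∈ ws V z) : f * w * f⁻¹ * w⁻¹ ∈ ee V z := by
  have hz := h.ln.z_mem
  have hz1 := h.ln.z_ne
  obtain ⟨c, hc, k, hk, rfl⟩ := h.exists_mul_kq hf (h.norm_of_comm hy hy1 hyz hf hA)
  have hcz : c * z = z * c := (h.V_comm hz hc).symm
  -- `c` centralises `W_y / E_y`
  have h1 : ∀ a ∈ ws V y, c * a * c⁻¹ * a⁻¹ ∈ ee V y := by
    intro a ha
    refine h.mem_ee hy hy1 hz hz1 (Ne.symm hyz) ?_ ?_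
    · exact mul_mem (conj_mem_of_normalizer (h.cent_norm hy) hc ha) (inv_mem ha)
    · have haC : a * z = z * a := mem_centralizer_singleton_iff.mp
        (h.cent_le_centralizer hz (h.ws_le_centralizer_V hy hy1 ha))
      have h2 : c * (a * k * a⁻¹ * k⁻¹) * c⁻¹ ∈ kq V z :=
        Ps.kqn hcz (mul_mem (Ps.kqn haC hk) (inv_mem hk))
      have h3 := hA a ha
      have h4 : (c * k * a * (c * k)⁻¹ * a⁻¹) * (a * (c * (a⁻¹ * k * a * k⁻¹) * c⁻¹) * a⁻¹)  ∈ kq V z := by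
        refine mul_mem h3 (Ps.kqn haC (Ps.kqn hcz (mul_mem ?_ (inv_mem hk))))
        have := Ps.kqn (inv_comm_of haC) hk
        rwa [inv_inv] at this
      -- `c a c⁻¹ a⁻¹` from `c k a k⁻¹ c⁻¹ a⁻¹`
      have h5 : c * (k * a * k⁻¹ * a⁻¹)⁻¹ * c⁻¹ ∈ kq V z := by
        refine Ps.kqn hcz (inv_mem ?_)
        have e : k * a * k⁻¹ * a⁻¹ = k * (a * k⁻¹ * a⁻¹) := by group
        rw [e]
        exact mul_mem hk (Ps.kqn haC (inv_mem hk))
      have h6 := mul_mem h5 h3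
      have e : c * (k * a * k⁻¹ * a⁻¹)⁻¹ * c⁻¹ * (c * k * a * (c * k)⁻¹ * a⁻¹) = c * a * c⁻¹ * a⁻¹ := by
        group
      rwa [e] at h6
  -- so on `W_z / E_z`
  obtain ⟨g, hg, hgy⟩ := h.xl_trans hy hy1 hz hz1
  have h2 : c * w * c⁻¹ * w⁻¹ ∈ ee V z := by
    set a := g⁻¹ * w * g with had
    have ha : a ∈ ws V y := by
      have := conj_mem_ws g⁻¹ hw
      have e : g⁻¹ * z * g⁻¹⁻¹ = y := by rw [← hgy]; group
      rwa [e, inv_inv] at this
    have h3 := h.xl_cent hy hy1 hg hgy hc ha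
    have h4 := conj_mem_ee (h.xl_le_normalizer hg) (h1 a ha)
    rw [hgy] at h4
    have e1 : g * a * g⁻¹ = w := by rw [had]; group
    have e2 : g * (c * a * c⁻¹ * a⁻¹) * g⁻¹ = (g * (c * a * c⁻¹) * g⁻¹) * w⁻¹ := by
      rw [had]; group
    rw [e1] at h3
    rw [e2] at h4
    have := md_trans (md_symm h3) h4
    exact this
  have hkw : k * w * k⁻¹ ∈ ws V z := Ps.wsn (h.kq_p hk) hw
  rcases h.kq_cases hz hk hw with e | e
  · have e3 : c * k * w * (c * k)⁻¹ * w⁻¹ = c * (k * w * k⁻¹) * c⁻¹ * w⁻¹ := by group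
    rw [e3, e]; exact h2
  · have e3 : c * k * w * (c * k)⁻¹ * w⁻¹ = c * (k * w * k⁻¹) * c⁻¹ * w⁻¹ := by group
    have e4 : c * (z * w) * c⁻¹ * w⁻¹ = z * (c * w * c⁻¹ * w⁻¹) := by
      calc c * (z * w) * c⁻¹ * w⁻¹ = (c * z) * w * c⁻¹ * w⁻¹ := by group
        _ = z * (c * w * c⁻¹ * w⁻¹) := by rw [hcz]; group
    rw [e3, e, e4]
    exact mul_mem (h.V_le_ee hz hz1 hz) h2

end One

end Cfsg.Agent.Omega.NO3S.TwoOne
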