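import Cfsg.Agent.Omega.NO3S.TwoOne.PhiA
import Cfsg.Agent.Omega.NO3S.KOne.GrpA

/-!
# NO-3S, `q = 2`, `n = 1`, no `λ`-transvections: the relation `λ' ∈ C_M(A_λ)` is symmetric
(helper507, bb #18693, (SYM1), (SYM2); no hypothesis on planes, on `|A|` or on `D_x`)

`h : One T V z`, `NT V`, `L` a line on `z`, `y ∈ V`, `q ∈ L` points `≠ z`.

* `One.not_mem_dd_of_move` (SYM1) : some `e ∈ E_q` moves `y` implies `q ∉ D_z(V)`;
* `One.ee_of_dd` (SYM1) : `q ∈ D_z(V)` implies `y ∈ E_z(L)`;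
* `One.dd_symm`, `One.dd_iff` (SYM2) : `q ∈ D_z(V)` iff `y ∈ D_z(L)`;
* `One.inf_le_ee` : `y ∉ I_L` implies `W_y ∩ W_q ≤ E_y ∩ E_q` (`A_λ ∩ A_λ' = 1`);
* `One.comm_mem_ee` : `q ∈ D_z(V)`, `y ∉ I_L` imply `[W_y, W_q] ≤ E_y ∩ E_q` (`[A_λ, A_λ'] = 1`).
-/

set_option autoImplicit false
set_option linter.unusedSectionVars false

namespace Cfsg.Agent.Omega.NO3S.TwoOne

open Subgroup Cfsg Cfsg.Agent.ZN Cfsg.Agent.MinSimple.Geo Cfsg.Agent.Omega.CaseL
open Cfsg.Agent.ZN.Block (conj_mem_of_normalizer conj_mem_of_normalizer' le_normalizer_of_forall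
  mem_normalizer_of)
open scoped commutatorElement

universe u

variable {G : Type u} [Group G]

/-- `|A|` is the same for all lines -/
theorem relIndex_ee_line {V : Subgroup G} (g x : G) :
    (ee (cj g V) (g * x * g⁻¹)).relIndex (ws (cj g V) (g * x * g⁻¹)) = (ee V x).relIndex (ws V x) := by
  have key : ∀ (U : Subgroup G) (g x : G), ∀ w ∈ ee U x, g * w * g⁻¹ ∈ ee (cj g U) (g * x * g⁻¹) := by
    intro U g x w hw
    refine ⟨by rw [ws_cj]; exact conj_mem_ws g hw.1, fun q hq hq1 => ?_⟩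
    have h1 := hw.2 _ (mem_cj.mp hq) (conj_ne_one hq1)
    have h2 := conj_mem_kq g h1
    have e : g * (g⁻¹ * q * g) * g⁻¹ = q := by group
    rwa [e, ← kq_cj U g] at h2
  have h1 : cj g (ee V x) = ee (cj g V) (g * x * g⁻¹) := by
    apply le_antisymm
    · intro w hw
      have := key V g x _ (mem_cj.mp hw)
      have e : g * (g⁻¹ * w * g) * g⁻¹ = w := by group
      rwa [e] at this
    · intro w hw
      rw [mem_cj]
      have := key (cj g V) g⁻¹ _ w hw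
      have e1 : cj g⁻¹ (cj g V) = V := by rw [cj_cj, inv_mul_cancel, cj_one]
      have e2 : g⁻¹ * (g * x * g⁻¹) * g⁻¹⁻¹ = x := by group
      rw [e1, e2, inv_inv] at this
      exact this
  rw [← h1, ws_cj, ← cj_ws, relIndex_cj]

namespace One

variable {T V L : Subgroup G} {z y q : G}

theorem relIndex_line [Finite G] (h : One T V z) (hL : L ∈ lines V z) {p q : G} (hp : p ∈ V) (hp1 : p ≠ 1)
    (hq : q ∈ L) (hq1 : q ≠ 1) : (ee L q).relIndex (ws L q) = (ee V p).relIndex (ws V p) := by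
  obtain ⟨g, rfl, T', h'⟩ := h.of_line hL h.ln.z_ne
  have h1 := h'.relIndex_ee_ws hq hq1 (conj_mem_cj (g := g) hp) (fun e => hp1 (conj_eq_one_iff.mp e))
  rw [h1, relIndex_ee_line]

theorem mem_lines_symm (h : One T V z) (hL : L ∈ lines V z) : V ∈ lines L z := by
  obtain ⟨⟨g, rfl⟩, -⟩ := hL
  exact ⟨⟨g⁻¹, by rw [cj_cj, inv_mul_cancel, cj_one]⟩, h.ln.z_mem⟩

/-- **(SYM1)** if some `e ∈ E_q` moves `y` then `q ∉ D_z(V)` -/
theorem not_mem_dd_of_move [Finite G] (h : One T V z) (hN : NT V) (hL : L ∈ lines V z) (hy : y ∈ V)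
    (hy1 : y ≠ 1) (hyz : y ≠ z) (hq : q ∈ L) (hq1 : q ≠ 1) (hqz : q ≠ z) {e : G} (he : e ∈ ee L q)
    (hey : e * y * e⁻¹ = z * y) : q ∉ dd V z := by
  intro hqD
  have hz := h.ln.z_mem
  have hz1 := h.ln.z_ne
  obtain ⟨-, -, T', h'⟩ := h.of_line hL hz1
  have hNL : NT L := hN.of_lines hL
  have hek : e ∈ kq V z := by
    have := he.2 z h'.ln.z_mem hz1
    rwa [kq_of_lines hL] at this
  have hzy : z * y ∈ V := mul_mem hz hy
  have hzy1 : z * y ≠ 1 := h.mul_ne_one hy (Ne.symm hyz)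
  have hez : e * z * e⁻¹ = z := conj_eq_of_comm (h.kq_p hek)
  -- `w^e ∈ W_{zy}`
  have hwe : ∀ w ∈ ws V y, e * w * e⁻¹ ∈ ws V (z * y) := by
    intro w hw
    have := conj_mem_ws e hw
    rwa [hey] at this
  -- `w w^e ∈ E_q`
  have key : ∀ w ∈ ws V y, w * (e * w * e⁻¹) ∈ ee L q := by
    intro w hw
    refine h'.mem_ee hq hq1 h'.ln.z_mem hz1 (Ne.symm hqz) ?_ ?_
    · have hww : w⁻¹ = w := inv_eq_self (h.sq hy hy1 w hw)
      have hwq : w * q = q * w := (hqD.2 y hy hy1 w hw).symm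
      have h1 := conj_mem_ws (V := L) w he.1
      rw [conj_eq_of_comm hwq] at h1
      have e1 : w * (e * w * e⁻¹) = w * e * w⁻¹ * e⁻¹ := by rw [hww]; group
      rw [e1]
      exact mul_mem h1 (inv_mem he.1)
    · rw [kq_of_lines hL]
      exact h.mul_conj_kq hz hy hy1 hek hw
  -- elements of `V` commute with `w w^e`
  have hV : ∀ w ∈ ws V y, ∀ v ∈ V, v * (w * (e * w * e⁻¹)) = w * (e * w * e⁻¹) * v := by
    intro w hw v hv
    exact (mul_comm_of (h.V_comm hv (h.ws_le_centralizer_V hy hy1 hw)).symm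
      (h.V_comm hv (h.ws_le_centralizer_V hzy hzy1 (hwe w hw))).symm).symm
  -- the homomorphism
  have hn : ((dd L q).subgroupOf (ee L q)).Normal := by
    refine ⟨fun a ha b => ?_⟩
    rw [mem_subgroupOf] at ha ⊢
    change (b : G) * a * (b : G)⁻¹ ∈ dd L q
    rw [conj_eq_of_comm (h'.comm hq hq1 _ b.2.1 _ a.2.1)]
    exact ha
  have hmul : ∀ a ∈ ws V y, ∀ b ∈ ws V y, (a * (e * a * e⁻¹) * (b * (e * b * e⁻¹)))⁻¹ *
      (a * b * (e * (a * b) * e⁻¹)) ∈ dd L q := by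
    intro a ha b hb
    have h1 : (a * (e * a * e⁻¹) * (b * (e * b * e⁻¹)))⁻¹ * (a * b * (e * (a * b) * e⁻¹)) ∈ ee L q :=
      mul_mem (inv_mem (mul_mem (key a ha) (key b hb))) (key _ (mul_mem ha hb))
    refine h'.ii_le_dd hq hq1 (h'.mem_ii h'.ln.z_mem hz1 hq hq1 hqz ?_ h1.1)
    rw [ws_of_lines hL]
    -- `= [b, a^e]` conjugated by `w^e`
    have h2 := h.comm_ii_mem hzy hzy1 hy hy1 (inv_mem (hwe a ha)) hb
    have h3 := (h2 z hz hz1)
    have e1 : (a * (e * a * e⁻¹) * (b * (e * b * e⁻¹)))⁻¹ * (a * b * (e * (a * b) * e⁻¹)) =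
        (e * b * e⁻¹)⁻¹ * (b⁻¹ * ⁅(e * a * e⁻¹)⁻¹, b⁆ * b) * (e * b * e⁻¹) := by
      simp only [commutatorElement_def]; group
    rw [e1]
    have h4 : b⁻¹ * ⁅(e * a * e⁻¹)⁻¹, b⁆ * b ∈ ws V z := by
      have := conj_mem_of_normalizer (h.cent_norm hz) (inv_mem (h.ws_le_centralizer_V hy hy1 hb)) h3
      rwa [inv_inv] at this
    have := conj_mem_of_normalizer (h.cent_norm hz)
      (inv_mem (h.ws_le_centralizer_V hzy hzy1 (hwe b hb))) h4
    rwa [inv_inv] at this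
  let f : ws V y →* ee L q ⧸ (dd L q).subgroupOf (ee L q) :=
    { toFun := fun w => QuotientGroup.mk ⟨(w : G) * (e * w * e⁻¹), key w w.2⟩
      map_one' := by
        rw [QuotientGroup.eq_one_iff, mem_subgroupOf]
        change (1 : G) * (e * 1 * e⁻¹) ∈ dd L q
        have : (1 : G) * (e * 1 * e⁻¹) = 1 := by group
        rw [this]; exact one_mem _
      map_mul' := fun a b => by
        rw [← QuotientGroup.mk_mul, eq_comm, QuotientGroup.eq, mem_subgroupOf]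
        exact hmul a a.2 b b.2 }
  -- the kernel
  have hker : f.ker ≤ (ee V y).subgroupOf (ws V y) := by
    intro w hw
    rw [MonoidHom.mem_ker] at hw
    change QuotientGroup.mk (⟨(w : G) * (e * w * e⁻¹), key w w.2⟩ : ee L q) = 1 at hw
    rw [QuotientGroup.eq_one_iff, mem_subgroupOf] at hw
    change (w : G) * (e * w * e⁻¹) ∈ dd L q at hw
    rw [mem_subgroupOf, ← h.nt_w1 hN hy hy1]
    refine h.mem_w1 hy hy1 hz hz1 (Ne.symm hyz) w.2 fun m hm => ?_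
    by_contra hcon
    have hmw : (w : G) * m * (w : G)⁻¹ = y * m := by
      rcases h.kq_cases hy (hm.2 y hy hy1) w.2 with e1 | e1
      · exact absurd (comm_of_conj_eq e1).symm hcon
      · have hym : y * m = m * y := h.comm hz hz1 y (h.V_le hz hz1 hy) m hm.1
        have hyy : y * y = 1 := h.ln.sq y hy
        have e2 : m * w = y * w * m := by
          calc m * w = (m * w * m⁻¹) * m := by group
            _ = y * w * m := by rw [e1]
        have hyw : y * w = w * y := h.V_comm hy (h.ws_le_centralizer_V hy hy1 w.2)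
        calc (w : G) * m * (w : G)⁻¹ = (y * y) * (w * m) * (w : G)⁻¹ := by rw [hyy]; group
          _ = y * (y * w * m) * (w : G)⁻¹ := by group
          _ = y * m := by rw [← e2]; group
    have hmz : m ∈ ws V z := hm.1
    -- `w^e` acts as `m ↦ z y m`
    have hzw := h.V_comm hz (h.ws_le_centralizer_V hy hy1 w.2)
    have h5 : e * w * e⁻¹ * m * (e * w * e⁻¹)⁻¹ = z * y * m := by
      have h6 : ∀ m', m' = m ∨ m' = z * m → (w : G) * m' * (w : G)⁻¹ = y * m' := by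
        rintro m' (rfl | rfl)
        · exact hmw
        · have hyz' : y * z = z * y := h.ln.comm hy hz
          calc (w : G) * (z * m) * (w : G)⁻¹ = (w * z) * m * (w : G)⁻¹ := by group
            _ = z * (w * m * (w : G)⁻¹) := by rw [← hzw]; group
            _ = (z * y) * m := by rw [hmw]; group
            _ = y * (z * m) := by rw [← hyz']; group
      have h7 : e⁻¹ * m * e = m ∨ e⁻¹ * m * e = z * m := by
        have := h.kq_cases hz (inv_mem hek) hmz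
        rwa [inv_inv] at this
      have h8 := h6 _ h7
      calc e * w * e⁻¹ * m * (e * w * e⁻¹)⁻¹ = e * ((w : G) * (e⁻¹ * m * e) * (w : G)⁻¹) * e⁻¹ := by group
        _ = (e * y * e⁻¹) * m := by rw [h8]; group
        _ = z * y * m := by rw [hey]
    have h9 : (w : G) * (e * w * e⁻¹) * m * ((w : G) * (e * w * e⁻¹))⁻¹ = z * m := by
      have hyw := h.V_comm hzy (h.ws_le_centralizer_V hy hy1 w.2)
      calc (w : G) * (e * w * e⁻¹) * m * ((w : G) * (e * w * e⁻¹))⁻¹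
          = w * (e * w * e⁻¹ * m * (e * w * e⁻¹)⁻¹) * (w : G)⁻¹ := by group
        _ = (w * (z * y)) * m * (w : G)⁻¹ := by rw [h5]; group
        _ = (z * y) * (w * m * (w : G)⁻¹) := by rw [← hyw]; group
        _ = z * (y * y) * m := by rw [hmw]; group
        _ = z * m := by rw [h.ln.sq y hy, mul_one]
    have h10 := hw.2 z h'.ln.z_mem hz1 m (by rw [ws_of_lines hL]; exact hmz)
    rw [conj_eq_of_comm h10] at h9
    exact hz1 (by simpa using h9.symm)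
  -- surjectivity
  have hrange : f.range = ⊤ := by
    apply Subgroup.eq_top_of_card_eq
    have h1 : f.ker.index = Nat.card f.range := Subgroup.index_ker f
    have h2 : ((ee V y).subgroupOf (ws V y)).index ≤ f.ker.index :=
      Nat.le_of_dvd (Nat.pos_of_ne_zero index_ne_zero_of_finite) (index_dvd_of_le hker)
    have h3 : Nat.card (ee L q ⧸ (dd L q).subgroupOf (ee L q)) = (dd L q).relIndex (ee L q) := rfl
    have h4 : (dd L q).relIndex (ee L q) = (ee L q).relIndex (ws L q) := h'.nt_phi_card hNL hq hq1 hq hq1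
    have h5 := h.relIndex_line hL hy hy1 hq hq1
    have h6 : ((ee V y).subgroupOf (ws V y)).index = (ee V y).relIndex (ws V y) := rfl
    have h7 : Nat.card f.range ≤ Nat.card (ee L q ⧸ (dd L q).subgroupOf (ee L q)) :=
      Nat.card_le_card_of_injective _ Subtype.val_injective
    omega
  obtain ⟨w, hw⟩ := MonoidHom.range_eq_top.mp hrange (QuotientGroup.mk ⟨e, he⟩)
  change QuotientGroup.mk (⟨(w : G) * (e * w * e⁻¹), key w w.2⟩ : ee L q) = _ at hw
  rw [QuotientGroup.eq, mem_subgroupOf] at hw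
  have hd : ((w : G) * (e * w * e⁻¹))⁻¹ * e ∈ dd L q := hw
  have hyLz : y ∈ ws L z := by
    rw [ws_of_lines hL]; exact h.V_le hz hz1 hy
  have h1 := hd.2 z h'.ln.z_mem hz1 y hyLz
  have h2 := hV w w.2 y hy
  have h3 : e * y = y * e := by
    have e1 : e = (w : G) * (e * w * e⁻¹) * (((w : G) * (e * w * e⁻¹))⁻¹ * e) := by group
    have h4 : (w : G) * (e * w * e⁻¹) * (((w : G) * (e * w * e⁻¹))⁻¹ * e) * y =
        y * ((w : G) * (e * w * e⁻¹) * (((w : G) * (e * w * e⁻¹))⁻¹ * e)) :=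
      mul_comm_of h2.symm h1
    rwa [← e1] at h4
  rw [conj_eq_of_comm h3] at hey
  exact hz1 (by simpa using hey.symm)

/-- **(SYM1)** `q ∈ D_z(V)` implies `y ∈ E_z(L)` -/
theorem ee_of_dd [Finite G] (h : One T V z) (hN : NT V) (hL : L ∈ lines V z) (hy : y ∈ V)
    (hy1 : y ≠ 1) (hyz : y ≠ z) (hq : q ∈ L) (hq1 : q ≠ 1) (hqz : q ≠ z) (hqD : q ∈ dd V z) : y ∈ ee L z := by
  by_contra hyE
  have hz1 := h.ln.z_ne
  obtain ⟨-, -, T', h'⟩ := h.of_line hL hz1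
  obtain ⟨e, he, hey⟩ := h'.nt_move_ee (hN.of_lines hL) hq hq1 h'.ln.z_mem hz1 (Ne.symm hqz)
    (by rw [ws_of_lines hL]; exact h.V_le h.ln.z_mem hz1 hy) hyE
  exact h.not_mem_dd_of_move hN hL hy hy1 hyz hq hq1 hqz he hey hqD

/-- `y ∉ I_L` implies `W_y ∩ W_q ≤ E_y` -/
theorem inf_le_ee [Finite G] (h : One T V z) (hN : NT V) (hL : L ∈ lines V z) (hy : y ∈ V)
    (hy1 : y ≠ 1) (hyz : y ≠ z) (hq : q ∈ L) (hq1 : q ≠ 1) (hyI : y ∉ ii L) {c : G}
    (hc : c ∈ ws V y) (hc' : c ∈ ws L q) : c ∈ ee V y := by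
  by_contra hcE
  have hz := h.ln.z_mem
  have hz1 := h.ln.z_ne
  obtain ⟨-, -, T', h'⟩ := h.of_line hL hz1
  obtain ⟨e, he, hec⟩ := h.nt_move_ee hN hz hz1 hy hy1 hyz hc hcE
  apply hyI
  have h1 : ⁅e, c⁆ = y := by rw [commutatorElement_def, hec, mul_inv_cancel_right]
  rw [← h1]
  exact h'.comm_ii_mem h'.ln.z_mem hz1 hq hq1 (by rw [ws_of_lines hL]; exact he.1) hc'

/-- `q ∈ I_V` implies `y ∈ I_L` -/
theorem ii_symm [Finite G] (h : One T V z) (hL : L ∈ lines V z) (hy : y ∈ V)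
    (hy1 : y ≠ 1) (hq : q ∈ L) (hq1 : q ≠ 1) (hqz : q ≠ z) (hqI : q ∈ ii V) : y ∈ ii L := by
  have hz := h.ln.z_mem
  have hz1 := h.ln.z_ne
  obtain ⟨-, -, T', h'⟩ := h.of_line hL hz1
  have hyz' : y ∈ ws L z := by rw [ws_of_lines hL]; exact h.V_le hz hz1 hy
  refine h'.mem_ii h'.ln.z_mem hz1 hq hq1 hqz hyz' ?_
  by_cases hqV : q ∈ V
  · rw [ws_of_lines hL]
    exact h.V_le hqV hq1 hy
  · obtain ⟨U, hU, hVU, hqU, -⟩ := h.exists_plane hqI hqV ⟨L, hL, hq⟩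
    obtain ⟨L', hL', hyL'⟩ := hU.line q hqU y (hVU hy) hq1 hy1 (fun e => hqV (by rw [e]; exact hy))
    rw [ws_of_lines hL]
    exact le_ws hL' hyL'

/-- **(SYM2)** `q ∈ D_z(V)` implies `y ∈ D_z(L)` -/
theorem dd_symm [Finite G] (h : One T V z) (hN : NT V) (hL : L ∈ lines V z) (hy : y ∈ V)
    (hy1 : y ≠ 1) (hyz : y ≠ z) (hq : q ∈ L) (hq1 : q ≠ 1) (hqz : q ≠ z) (hqD : q ∈ dd V z) : y ∈ dd L z := by
  by_contra hyD
  have hz := h.ln.z_mem
  have hz1 := h.ln.z_ne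
  obtain ⟨-, -, T', h'⟩ := h.of_line hL hz1
  have hzL := h'.ln.z_mem
  have hNL : NT L := hN.of_lines hL
  have hyE := h.ee_of_dd hN hL hy hy1 hyz hq hq1 hqz hqD
  have hyI : y ∉ ii L := fun hi => hyD (h'.ii_le_dd hzL hz1 hi)
  have hyq : y * q = q * y := (hqD.2 y hy hy1 y (h.V_le hy hy1 hy)).symm
  have hqq : q * q = 1 := h'.ln.sq q hq
  -- some `c ∈ W_q` moves `y` to `q y`
  obtain ⟨c, hc, hcy⟩ : ∃ c ∈ ws L q, c * y * c⁻¹ = q * y := by
    by_contra hcon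
    push Not at hcon
    apply hyD
    refine h'.mem_dd hzL hz1 hq hq1 hqz hyE.1 fun b hb => ?_
    rcases h'.kq_cases hq (hyE.2 q hq hq1) hb with e1 | e1
    · exact comm_of_conj_eq e1
    · exfalso
      apply hcon b hb
      have hbq : q * b = b * q := h'.V_comm hq (h'.ws_le_centralizer_V hq hq1 hb)
      have e2 : y * b = q * b * y := by
        calc y * b = (y * b * y⁻¹) * y := by group
          _ = q * b * y := by rw [e1]
      calc b * y * b⁻¹ = (q * q) * (b * y) * b⁻¹ := by rw [hqq]; group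
        _ = q * (q * b * y) * b⁻¹ := by group
        _ = q * y := by rw [← e2]; group
  -- `W_y` normalizes `W_q`
  have hWy : ∀ w ∈ ws V y, ∀ b ∈ ws L q, w * b * w⁻¹ ∈ ws L q := by
    intro w hw b hb
    have h1 := conj_mem_ws (V := L) w hb
    rwa [conj_eq_of_comm (hqD.2 y hy hy1 w hw).symm] at h1
  -- `U = C_{W_q}(y)`
  let U : Subgroup G := ws L q ⊓ centralizer ({y} : Set G)
  have hEU : ee L q ≤ U := fun b hb => ⟨hb.1, mem_centralizer_singleton_iff.mpr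
    (h'.ee_comm hq hq1 hzL hz1 hb hyE)⟩
  have hUW : U ≤ ws L q := inf_le_left
  -- `[U, W_y] ≤ E_q`
  have hU : ∀ w ∈ ws V y, ∀ b ∈ U, w * b * w⁻¹ * b⁻¹ ∈ ee L q := by
    intro w hw b hb
    have hbW : b ∈ ws L q := hb.1
    have h1 : w * b * w⁻¹ * b⁻¹ ∈ ws L q := mul_mem (hWy w hw b hbW) (inv_mem hbW)
    have h2 : w * b * w⁻¹ * b⁻¹ ∈ ws V y := by
      have h3 := conj_mem_ws b (inv_mem hw)
      rw [conj_eq_of_comm (mem_centralizer_singleton_iff.mp hb.2)] at h3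
      have e1 : w * b * w⁻¹ * b⁻¹ = w * (b * w⁻¹ * b⁻¹) := by group
      rw [e1]
      exact mul_mem hw h3
    have h3 := h.inf_le_ee hN hL hy hy1 hyz hq hq1 hyI h2 h1
    refine h'.mem_ee hq hq1 hzL hz1 (Ne.symm hqz) h1 ?_
    rw [kq_of_lines hL]
    exact h3.2 z hz hz1
  -- `[w, c] ∈ U`
  have hcU : ∀ w ∈ ws V y, w * c * w⁻¹ * c⁻¹ ∈ U := by
    intro w hw
    have hmem : w * c * w⁻¹ * c⁻¹ ∈ ws L q := mul_mem (hWy w hw c hc) (inv_mem hc)
    refine ⟨hmem, mem_centralizer_singleton_iff.mpr ?_⟩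
    apply comm_of_conj_eq
    have hwy : w * y * w⁻¹ = y := conj_eq_of_comm
      (h.V_comm hy (h.ws_le_centralizer_V hy hy1 hw)).symm
    have hwq : w * q * w⁻¹ = q := conj_eq_of_comm (hqD.2 y hy hy1 w hw).symm
    have hcq : c * q * c⁻¹ = q := conj_eq_of_comm
      (h'.V_comm hq (h'.ws_le_centralizer_V hq hq1 hc)).symm
    have hcq' : c⁻¹ * q * c = q := by
      calc c⁻¹ * q * c = c⁻¹ * (c * q * c⁻¹) * c := by rw [hcq]
        _ = q := by group
    have hwq' : w⁻¹ * q * w = q := by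
      calc w⁻¹ * q * w = w⁻¹ * (w * q * w⁻¹) * w := by rw [hwq]
        _ = q := by group
    have hwy' : w⁻¹ * y * w = y := by
      calc w⁻¹ * y * w = w⁻¹ * (w * y * w⁻¹) * w := by rw [hwy]
        _ = y := by group
    have hcy' : c⁻¹ * y * c = q * y := by
      have e1 : y = q * (c⁻¹ * y * c) := by
        calc y = c⁻¹ * (c * y * c⁻¹) * c := by group
          _ = (c⁻¹ * q * c) * (c⁻¹ * y * c) := by rw [hcy]; group
          _ = q * (c⁻¹ * y * c) := by rw [hcq']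
      calc c⁻¹ * y * c = (q * q) * (c⁻¹ * y * c) := by rw [hqq, one_mul]
        _ = q * (q * (c⁻¹ * y * c)) := by group
        _ = q * y := by rw [← e1]
    calc w * c * w⁻¹ * c⁻¹ * y * (w * c * w⁻¹ * c⁻¹)⁻¹
        = w * (c * (w⁻¹ * (c⁻¹ * y * c) * w) * c⁻¹) * w⁻¹ := by group
      _ = w * (c * ((w⁻¹ * q * w) * (w⁻¹ * y * w)) * c⁻¹) * w⁻¹ := by rw [hcy']; group
      _ = w * ((c * q * c⁻¹) * (c * y * c⁻¹)) * w⁻¹ := by rw [hwq', hwy']; group
      _ = w * (q * (q * y)) * w⁻¹ := by rw [hcq, hcy]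
      _ = w * y * w⁻¹ := by rw [← mul_assoc q q y, hqq, one_mul]
      _ = y := hwy
  -- the homomorphism `w ↦ [w, c]` into `U / E_q`
  have hn : ((ee L q).subgroupOf U).Normal := by
    refine ⟨fun a ha b => ?_⟩
    rw [mem_subgroupOf] at ha ⊢
    change (b : G) * a * (b : G)⁻¹ ∈ ee L q
    rw [conj_eq_of_comm (h'.comm hq hq1 _ b.2.1 _ a.2.1)]
    exact ha
  have hmul : ∀ a ∈ ws V y, ∀ b ∈ ws V y, ((a * c * a⁻¹ * c⁻¹) * (b * c * b⁻¹ * c⁻¹))⁻¹ *
      (a * b * c * (a * b)⁻¹ * c⁻¹) ∈ ee L q := by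
    intro a ha b hb
    have h1 := hU a ha _ (hcU b hb)
    have h2 := h'.comm hq hq1 _ (hcU a ha).1 _ (hcU b hb).1
    have h3 := h'.comm hq hq1 _ (hcU a ha).1 _ h1.1
    set u := a * c * a⁻¹ * c⁻¹ with hu
    set v := b * c * b⁻¹ * c⁻¹ with hv
    have e1 : a * b * c * (a * b)⁻¹ * c⁻¹ = (a * v * a⁻¹ * v⁻¹) * v * u := by
      rw [hu, hv]; group
    have e2 : (u * v)⁻¹ * (a * b * c * (a * b)⁻¹ * c⁻¹) = (u * v)⁻¹ * (a * v * a⁻¹ * v⁻¹) * (u * v) := by
      rw [e1, h2]; group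
    rw [e2]
    have h4 : (u * v)⁻¹ * (a * v * a⁻¹ * v⁻¹) = (a * v * a⁻¹ * v⁻¹) * (u * v)⁻¹ :=
      h'.comm hq hq1 _ (inv_mem (mul_mem (hcU a ha).1 (hcU b hb).1)) _ h1.1
    rw [h4, inv_mul_cancel_right]
    exact h1
  let f : ws V y →* U ⧸ (ee L q).subgroupOf U :=
    { toFun := fun w => QuotientGroup.mk ⟨(w : G) * c * (w : G)⁻¹ * c⁻¹, hcU w w.2⟩
      map_one' := by
        rw [QuotientGroup.eq_one_iff, mem_subgroupOf]
        change (1 : G) * c * (1 : G)⁻¹ * c⁻¹ ∈ ee L q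
        have : (1 : G) * c * (1 : G)⁻¹ * c⁻¹ = 1 := by group
        rw [this]; exact one_mem _
      map_mul' := fun a b => by
        rw [← QuotientGroup.mk_mul, eq_comm, QuotientGroup.eq, mem_subgroupOf]
        exact hmul a a.2 b b.2 }
  -- some `w ∈ W_y - E_y` commutes with `c` modulo `E_q`
  obtain ⟨w, hw, hwE, hwc⟩ : ∃ w ∈ ws V y, w ∉ ee V y ∧ w * c * w⁻¹ * c⁻¹ ∈ ee L q := by
    by_contra hcon
    push Not at hcon
    have hker : f.ker ≤ (ee V y).subgroupOf (ws V y) := by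
      intro w hw
      rw [MonoidHom.mem_ker] at hw
      change QuotientGroup.mk (⟨(w : G) * c * (w : G)⁻¹ * c⁻¹, hcU w w.2⟩ : U) = 1 at hw
      rw [QuotientGroup.eq_one_iff, mem_subgroupOf] at hw
      by_contra hwE
      exact hcon w w.2 hwE hw
    have h1 : f.ker.index = Nat.card f.range := Subgroup.index_ker f
    have h2 : ((ee V y).subgroupOf (ws V y)).index ≤ f.ker.index :=
      Nat.le_of_dvd (Nat.pos_of_ne_zero index_ne_zero_of_finite) (index_dvd_of_le hker)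
    have h3 : Nat.card (U ⧸ (ee L q).subgroupOf U) = (ee L q).relIndex U := rfl
    have h5 := h.relIndex_line hL hy hy1 hq hq1
    have h6 : ((ee V y).subgroupOf (ws V y)).index = (ee V y).relIndex (ws V y) := rfl
    have h7 : Nat.card f.range ≤ Nat.card (U ⧸ (ee L q).subgroupOf U) :=
      Nat.card_le_card_of_injective _ Subtype.val_injective
    have h8 : (ee L q).relIndex U * U.relIndex (ws L q) = (ee L q).relIndex (ws L q) :=
      relIndex_mul_relIndex _ _ _ hEU hUW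
    have h9 : U.relIndex (ws L q) ≠ 1 := by
      intro e1
      rw [relIndex_eq_one] at e1
      have h10 := mem_centralizer_singleton_iff.mp (e1 hc).2
      rw [conj_eq_of_comm h10] at hcy
      exact hq1 (by simpa using hcy.symm)
    have h10 : U.relIndex (ws L q) ≠ 0 := relIndex_ne_zero' _ _
    have h11 : (ee L q).relIndex U ≠ 0 := relIndex_ne_zero' _ _
    have h12 : 2 * (ee L q).relIndex U ≤ (ee L q).relIndex (ws L q) := by
      rw [← h8, mul_comm 2]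
      exact Nat.mul_le_mul_left _ (by omega)
    omega
  -- `y = [e, w]`, conjugate by `c`
  obtain ⟨e, he, hew⟩ := h.nt_move_ee hN hz hz1 hy hy1 hyz hw hwE
  have hcz : c * z * c⁻¹ = z := conj_eq_of_comm (h'.V_comm hzL (h'.ws_le_centralizer_V hq hq1 hc)).symm
  have he' : c * e * c⁻¹ ∈ ws V z := by
    have := conj_mem_ws c he.1
    rwa [hcz] at this
  set k := w * c * w⁻¹ * c⁻¹ with hk
  have hkz : k⁻¹ ∈ kq V z := by
    have := hwc.2 z hzL hz1
    rw [kq_of_lines hL] at this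
    exact inv_mem this
  have hcw : c * w * c⁻¹ = k⁻¹ * w := by rw [hk]; group
  set e' := c * e * c⁻¹ with he'd
  have h1 : q * y = (e' * k⁻¹ * e'⁻¹ * k) * (k⁻¹ * ⁅e', w⁆ * k) := by
    have h2 : e' * (k⁻¹ * w) * e'⁻¹ = q * y * (k⁻¹ * w) := by
      calc e' * (k⁻¹ * w) * e'⁻¹ = c * (e * w * e⁻¹) * c⁻¹ := by rw [← hcw, he'd]; group
        _ = (c * y * c⁻¹) * (c * w * c⁻¹) := by rw [hew]; group
        _ = q * y * (k⁻¹ * w) := by rw [hcy, hcw]
    calc q * y = (q * y * (k⁻¹ * w)) * (k⁻¹ * w)⁻¹ := by group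
      _ = e' * (k⁻¹ * w) * e'⁻¹ * (k⁻¹ * w)⁻¹ := by rw [← h2]
      _ = (e' * k⁻¹ * e'⁻¹ * k) * (k⁻¹ * ⁅e', w⁆ * k) := by
          simp only [commutatorElement_def]; group
  have h2 : ⁅e', w⁆ ∈ ii V := h.comm_ii_mem hz hz1 hy hy1 he' hw
  have h3 : k⁻¹ * ⁅e', w⁆ * k ∈ ii V := by
    have h4 := h.kq_cases hz hkz (h2 z hz hz1)
    rw [inv_inv] at h4
    rcases h4 with e1 | e1
    · rw [e1]; exact h2
    · rw [e1]; exact mul_mem (h.V_le_ii hz) h2
  have h4 : e' * k⁻¹ * e'⁻¹ * k ∈ ii V := by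
    have h5 := h.kq_cases hz hkz (inv_mem he')
    rw [inv_inv] at h5
    have e1 : e' * k⁻¹ * e'⁻¹ * k = e' * (k⁻¹ * e'⁻¹ * k) := by group
    rw [e1]
    rcases h5 with e2 | e2
    · rw [e2, mul_inv_cancel]; exact one_mem _
    · have hze : z * e' = e' * z := h.comm hz hz1 z (h.V_le hz hz1 hz) e' he'
      rw [e2, ← mul_assoc, ← hze, mul_inv_cancel_right]
      exact h.V_le_ii hz
  have h5 : q ∈ ii V := by
    have h6 : q * y ∈ ii V := by rw [h1]; exact mul_mem h4 h3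
    have := mul_mem h6 (inv_mem (h.V_le_ii hy))
    rwa [mul_inv_cancel_right] at this
  exact hyI (h.ii_symm hL hy hy1 hq hq1 hqz h5)

/-- **(SYM2)** `q ∈ D_z(V)` iff `y ∈ D_z(L)` -/
theorem dd_iff [Finite G] (h : One T V z) (hN : NT V) (hL : L ∈ lines V z) (hy : y ∈ V)
    (hy1 : y ≠ 1) (hyz : y ≠ z) (hq : q ∈ L) (hq1 : q ≠ 1) (hqz : q ≠ z) : q ∈ dd V z ↔ y ∈ dd L z := by
  refine ⟨h.dd_symm hN hL hy hy1 hyz hq hq1 hqz, fun hyD => ?_⟩
  obtain ⟨-, -, T', h'⟩ := h.of_line hL h.ln.z_ne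
  exact h'.dd_symm (hN.of_lines hL) (h.mem_lines_symm hL) hq hq1 hqz hy hy1 hyz hyD

/-- `q ∈ D_z(V)`, `y ∉ I_L` imply `[W_y, W_q] ≤ E_y ∩ E_q` -/
theorem comm_mem_ee [Finite G] (h : One T V z) (hN : NT V) (hL : L ∈ lines V z) (hy : y ∈ V)
    (hy1 : y ≠ 1) (hyz : y ≠ z) (hq : q ∈ L) (hq1 : q ≠ 1) (hqz : q ≠ z) (hqD : q ∈ dd V z)
    (hyI : y ∉ ii L) {w b : G} (hw : w ∈ ws V y) (hb : b ∈ ws L q) : ⁅w, b⁆ ∈ ee V y ∧ ⁅w, b⁆ ∈ ee L q := by
  have hz := h.ln.z_mem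
  have hz1 := h.ln.z_ne
  obtain ⟨-, -, T', h'⟩ := h.of_line hL hz1
  have hzL := h'.ln.z_mem
  have hyD := h.dd_symm hN hL hy hy1 hyz hq hq1 hqz hqD
  have h1 : ⁅w, b⁆ ∈ ws L q := by
    have h2 := conj_mem_ws (V := L) w hb
    rw [conj_eq_of_comm (hqD.2 y hy hy1 w hw).symm] at h2
    exact mul_mem h2 (inv_mem hb)
  have h2 : ⁅w, b⁆ ∈ ws V y := by
    have h3 := conj_mem_ws b (inv_mem hw)
    rw [conj_eq_of_comm (hyD.2 q hq hq1 b hb).symm] at h3
    have e1 : ⁅w, b⁆ = w * (b * w⁻¹ * b⁻¹) := by rw [commutatorElement_def]; group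
    rw [e1]
    exact mul_mem hw h3
  have h3 := h.inf_le_ee hN hL hy hy1 hyz hq hq1 hyI h2 h1
  refine ⟨h3, h'.mem_ee hq hq1 hzL hz1 (Ne.symm hqz) h1 ?_⟩
  rw [kq_of_lines hL]
  exact h3.2 z hz hz1

end One

end Cfsg.Agent.Omega.NO3S.TwoOne
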