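import Cfsg.Agent.Omega.NO3S.TwoOne.PhiA
import Cfsg.Agent.Omega.NO3S.TwoOne.DRel
import Cfsg.Agent.Omega.NO3S.TwoOne.PlaneKD

/-!
# NO-3S, `q = 2`, `n = 1`, no `λ`-transvections: symmetric pairs (helper225's text #18607, (S1), (S2), (S3))

`h : One T V z`, `NT V`, `L` another line on `z`, `y ∈ V`, `q ∈ L` points `≠ z`; the pair `(V, L)` is symmetric:
`y ∉ E_z^L`, `q ∉ E_z^V`.  Planes and `D_x` arbitrary.

* `One.twin_iff` : `e ∈ E_{pq}`, `a ∈ W_p` and `b ∈ W_q` the same element of `N`: `e` moves `a` iff it moves `b`;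
* `One.sig_one` (S1) : for `e ∈ E_y ∩ C(q)` some `j ∈ I_L ∩ E_z` has on `W_y` the functional of `e`;
* `One.sig_two` (S2) : `b ∈ W_y ∩ N_G(L)` is in `E_y` or is (mod `E_y`) the element `q`;
* `One.sig_three` (S3) : if `[q, b₁] ∉ E_z^L` for some `b₁ ∈ W_y` then some `j ∈ I_L ∩ E_z` moves the twin of `q`;
* `One.sig_three'` : then `W_y ∩ N_G(L) ≤ E_y`.
-/

set_option autoImplicit false
set_option linter.unusedSectionVars false

namespace Cfsg.Agent.Omega.NO3S.TwoOne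

open Subgroup Cfsg Cfsg.Agent.ZN Cfsg.Agent.MinSimple.Geo Cfsg.Agent.Omega.CaseL
open Cfsg.Agent.ZN.Block (conj_mem_of_normalizer conj_mem_of_normalizer' le_normalizer_of_forall
  mem_normalizer_of)
open scoped commutatorElement

universe u

variable {G : Type u} [Group G]

/-- the line `L` with everything that is known about it -/
theorem One.line [Finite G] {T V L : Subgroup G} {z : G} (h : One T V z) (hN : NT V) (hL : L ∈ lines V z) :
    ∃ T', One T' L z ∧ NT L ∧ (∀ x, ws L x = ws V x) ∧ (∀ x, kq L x = kq V x) := by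
  obtain ⟨c, hLc, T', h'⟩ := h.of_line hL h.ln.z_ne
  refine ⟨T', h', ?_, fun x => by rw [hLc, ws_cj], fun x => by rw [hLc, kq_cj]⟩
  rw [hLc]; exact NT.conj hN c

namespace One

variable {T V L : Subgroup G} {z y q p : G}

/-- `e ∈ E_{pq}` moves `a ∈ W_p` iff it moves its twin `b ∈ W_q` -/
theorem twin_iff (h : One T V z) (hp : p ∈ V) (hp1 : p ≠ 1) (hq : q ∈ V) (hq1 : q ≠ 1) (hqp : q ≠ p)
    {e a b : G} (he : e ∈ ee V (p * q)) (ha : a ∈ ws V p) (ht : Tw V p a q b) :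
    e * a = a * e ↔ e * b = b * e := by
  have hr : p * q ∈ V := mul_mem hp hq
  have hr1 : p * q ≠ 1 := h.mul_ne_one hq (Ne.symm hqp)
  have hpr : p ≠ p * q := fun e' => hq1 (by simpa using e'.symm)
  have hpp := h.ln.sq p hp
  obtain ⟨t, ht1, -, ht2⟩ := h.exists_move hr hr1 hp hp1 hpr
  have ht3 : t * p * t⁻¹ = q := by rw [ht2, h.ln.comm hp hq, mul_assoc, hpp, mul_one]
  have htx : t ∈ xl V := kq_le_xl hr hr1 ht1
  have h1 : (t * a * t⁻¹) * b⁻¹ ∈ ee V q := (h.tw_iff hp hp1 ha htx ht3).mp ht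
  set b₀ := t * a * t⁻¹ with hb₀
  have hb₀q : b₀ ∈ ws V q := by
    have := conj_mem_ws t ha
    rwa [ht3] at this
  -- `e` commutes with `b₀ b⁻¹`
  have h2 := h.ee_comm hr hr1 hq hq1 he h1
  have h3 : e * b = b * e ↔ e * b₀ = b₀ * e := by
    have e1 : b₀ = (b₀ * b⁻¹) * b := by group
    constructor
    · intro hc
      rw [e1]
      exact comm_mul_of h2 hc
    · intro hc
      have e2 : b = (b₀ * b⁻¹)⁻¹ * b₀ := by group
      rw [e2]
      exact comm_mul_of (comm_inv_of h2) hc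
  rw [h3]
  -- `a b₀ ∈ K_{pq}`
  have h4 : a * b₀ ∈ kq V (p * q) := h.mul_conj_kq hr hp hp1 ht1 ha
  have heV := h.ws_le_centralizer_V hr hr1 he.1
  have h5 : ⁅e, a * b₀⁆ = ⁅e, a⁆ * ⁅e, b₀⁆ := by
    have h6 : ⁅e, b₀⁆ ∈ V := by
      rcases h.ee_cases hq hq1 he hb₀q with e1 | e1
      · rw [e1]; exact one_mem _
      · rw [e1]; exact hq
    have h7 : ⁅e, b₀⁆ * a = a * ⁅e, b₀⁆ := h.V_comm h6 (h.ws_le_centralizer_V hp hp1 ha)
    calc ⁅e, a * b₀⁆ = ⁅e, a⁆ * (a * ⁅e, b₀⁆) * a⁻¹ := by simp only [commutatorElement_def]; group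
      _ = ⁅e, a⁆ * (⁅e, b₀⁆ * a) * a⁻¹ := by rw [h7]
      _ = ⁅e, a⁆ * ⁅e, b₀⁆ := by group
  have h8 : ⁅e, a * b₀⁆ = 1 ∨ ⁅e, a * b₀⁆ = p * q := by
    rcases h.kq_cases hr h4 he.1 with e1 | e1
    · left
      exact commutatorElement_eq_one_iff_mul_comm.mpr (comm_of_conj_eq e1).symm
    · right
      have hrr := h.ln.sq _ hr
      have hre : (p * q) * e = e * (p * q) := h.V_comm hr heV
      obtain ⟨k, hk⟩ : ∃ k, k = a * b₀ := ⟨_, rfl⟩
      rw [← hk] at e1 ⊢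
      have e2 : k * e = (p * q) * e * k := by
        calc k * e = (k * e * k⁻¹) * k := by group
          _ = (p * q) * e * k := by rw [e1]
      have e3 : e * k = (p * q) * (k * e) := by
        calc e * k = ((p * q) * (p * q)) * (e * k) := by rw [hrr, one_mul]
          _ = (p * q) * ((p * q) * e * k) := by group
          _ = (p * q) * (k * e) := by rw [e2]
      calc ⁅e, k⁆ = (e * k) * e⁻¹ * k⁻¹ := by rw [commutatorElement_def]
        _ = p * q := by rw [e3]; group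
  constructor
  · intro hc
    have e1 : ⁅e, a⁆ = 1 := commutatorElement_eq_one_iff_mul_comm.mpr hc
    rw [e1, one_mul] at h5
    apply commutatorElement_eq_one_iff_mul_comm.mp
    rcases h.ee_cases hq hq1 he hb₀q with e2 | e2
    · exact e2
    · exfalso
      rw [e2] at h5
      rw [h5] at h8
      rcases h8 with e3 | e3
      · exact hq1 e3
      · exact hp1 (by simpa using e3.symm)
  · intro hc
    have e1 : ⁅e, b₀⁆ = 1 := commutatorElement_eq_one_iff_mul_comm.mpr hc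
    rw [e1, mul_one] at h5
    apply commutatorElement_eq_one_iff_mul_comm.mp
    rcases h.ee_cases hp hp1 he ha with e2 | e2
    · exact e2
    · exfalso
      rw [e2] at h5
      rw [h5] at h8
      rcases h8 with e3 | e3
      · exact hp1 e3
      · exact hq1 (by simpa using e3.symm)


/-- two movers: the product does not move -/
theorem mv_mul (h : One T V z) (hp : p ∈ V) {k k' w : G} (hk : k ∈ kq V p) (hk' : k' ∈ kq V p)
    (hw : w ∈ ws V p) (h1 : k * w ≠ w * k) (h2 : k' * w ≠ w * k') : k * k' * w = w * (k * k') := by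
  have h3 := (h.kq_or hp hk hw).resolve_left h1
  have h4 := (h.kq_or hp hk' hw).resolve_left h2
  have h5 := h.kq_p hk
  calc k * k' * w = k * (k' * w) := by group
    _ = (k * p) * w * k' := by rw [h4]; group
    _ = p * (k * w) * k' := by rw [h5]; group
    _ = (p * p) * w * k * k' := by rw [h3]; group
    _ = w * (k * k') := by rw [h.ln.sq p hp]; group

theorem mv_mul' (h : One T V z) (hp : p ∈ V) {k w w' : G} (hk : k ∈ kq V p)
    (hw : w ∈ ws V p) (hw' : w' ∈ ws V p) (h1 : k * w ≠ w * k) (h2 : k * w' ≠ w' * k) :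
    k * (w * w') = w * w' * k := by
  have h3 := (h.kq_or hp hk hw).resolve_left h1
  have h4 := (h.kq_or hp hk hw').resolve_left h2
  have h5 : p * w = w * p := h.V_comm hp (h.ws_le_centralizer_V hp (fun e => h1 (by
    have e3 := h3
    rw [e, one_mul] at e3
    exact e3)) hw)
  calc k * (w * w') = (k * w) * w' := by group
    _ = (p * w) * (k * w') := by rw [h3]; group
    _ = w * (p * p) * w' * k := by rw [h4, h5]; group
    _ = w * w' * k := by rw [h.ln.sq p hp]; group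

/-- one `e ∈ E_p` moves `a` and `b`, `a, b ∈ W_q - E_q` -/
theorem move_two [Finite G] (h : One T V z) (hN : NT V) (hp : p ∈ V) (hp1 : p ≠ 1) (hq : q ∈ V)
    (hq1 : q ≠ 1) (hqp : q ≠ p) {a b : G} (ha : a ∈ ws V q) (haE : a ∉ ee V q) (hb : b ∈ ws V q)
    (hbE : b ∉ ee V q) : ∃ e ∈ ee V p, e * a * e⁻¹ = q * a ∧ e * b * e⁻¹ = q * b := by
  obtain ⟨e, he, hea⟩ := h.nt_move_ee hN hp hp1 hq hq1 hqp ha haE
  obtain ⟨f, hf, hfb⟩ := h.nt_move_ee hN hp hp1 hq hq1 hqp hb hbE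
  rcases h.kq_cases hq (he.2 q hq hq1) hb with e1 | e1
  · rcases h.kq_cases hq (hf.2 q hq hq1) ha with e2 | e2
    · refine ⟨e * f, mul_mem he hf, ?_, ?_⟩
      · calc e * f * a * (e * f)⁻¹ = e * (f * a * f⁻¹) * e⁻¹ := by group
          _ = q * a := by rw [e2, hea]
      · calc e * f * b * (e * f)⁻¹ = e * (f * b * f⁻¹) * e⁻¹ := by group
          _ = (e * q) * b * e⁻¹ := by rw [hfb]; group
          _ = q * (e * b * e⁻¹) := by rw [h.kq_p (he.2 q hq hq1)]; group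
          _ = q * b := by rw [e1]
    · exact ⟨f, hf, e2, hfb⟩
  · exact ⟨e, he, hea, e1⟩

end One

/-- a symmetric pair of lines on `z` -/
structure SyP (V L : Subgroup G) (z y q : G) : Prop where
  line : L ∈ lines V z
  hy : y ∈ V
  hy1 : y ≠ 1
  hyz : y ≠ z
  hq : q ∈ L
  hq1 : q ≠ 1
  hqz : q ≠ z
  yL : y ∉ ee L z
  qV : q ∉ ee V z

namespace SyP

variable {T V L : Subgroup G} {z y q : G} (S : SyP V L z y q) (h : One T V z) (hN : NT V)
include S h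

theorem q_ws : q ∈ ws V z := le_ws S.line S.hq

theorem hs : z * y ∈ V := mul_mem h.ln.z_mem S.hy

theorem hs1 : z * y ≠ 1 := h.mul_ne_one S.hy (Ne.symm S.hyz)

theorem hsz : z * y ≠ z := fun e' => S.hy1 (by simpa using e')

theorem hsy : z * y ≠ y := fun e' => h.ln.z_ne (by simpa using e')

/-- the elements of `C_G(V)` which fix `q` centralise `L` -/
theorem cent_L {c : G} (hc : c ∈ centralizer (V : Set G)) (hcq : c * q = q * c) :
    c ∈ centralizer (L : Set G) := by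
  obtain ⟨k, hk, T', h'⟩ := h.of_line S.line h.ln.z_ne
  exact h'.mem_centralizer_of S.hq S.hq1 S.line.2 h.ln.z_ne (Ne.symm S.hqz) hcq (h.V_comm h.ln.z_mem hc).symm

include hN

/-- some `e ∈ E_y` moves `q` -/
theorem exists_e [Finite G] : ∃ e ∈ ee V y, e * q * e⁻¹ = z * q :=
  h.nt_move_ee hN S.hy S.hy1 h.ln.z_mem h.ln.z_ne (Ne.symm S.hyz) (S.q_ws h) S.qV

/-- some `e ∈ E_q` (of `L`) moves `y` -/
theorem exists_f [Finite G] : ∃ e ∈ ee L q, e * y * e⁻¹ = z * y := by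
  obtain ⟨T', h', hNL, hws, hkq⟩ := h.line hN S.line
  refine h'.nt_move_ee hNL S.hq S.hq1 S.line.2 h.ln.z_ne (Ne.symm S.hqz) ?_ S.yL
  rw [hws]
  exact h.V_le h.ln.z_mem h.ln.z_ne S.hy

/-- `f = e_q`, `e ∈ E_y` fixes `q` : `e e^f ∈ I_L` -/
theorem mem_ii [Finite G] {e f : G} (he : e ∈ ee V y) (heq : e * q = q * e) (hf : f ∈ ee L q)
    (hfy : f * y * f⁻¹ = z * y) : e * (f * e * f⁻¹) ∈ ii L := by
  obtain ⟨T', h', hNL, hws, hkq⟩ := h.line hN S.line
  obtain ⟨g, hg, hgq⟩ := S.exists_e h hN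
  have hee := h.sq S.hy S.hy1 e he.1
  have hei : e⁻¹ = e := inv_eq_self hee
  have hfV : f ∈ kq V z := by
    rw [← hkq]
    exact hf.2 z S.line.2 h.ln.z_ne
  have heL := S.cent_L h (h.ws_le_centralizer_V S.hy S.hy1 he.1) heq
  have h1 : e * (f * e * f⁻¹) ∈ ws L q := by
    have e1 : e * (f * e * f⁻¹) = (e * f * e⁻¹) * f⁻¹ := by rw [hei]; group
    rw [e1]
    exact mul_mem (conj_mem_of_normalizer (h'.cent_norm S.hq) heL hf.1) (inv_mem hf.1)
  have h2 : f * e * f⁻¹ ∈ ee V (z * y) := by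
    have := conj_mem_ee (h.kq_le_normalizer h.ln.z_mem h.ln.z_ne hfV) he
    rwa [hfy] at this
  have h3 : e * (f * e * f⁻¹) * g = g * (e * (f * e * f⁻¹)) :=
    mul_comm_of (h.comm S.hy S.hy1 _ he.1 _ hg.1) (h.ee_comm (S.hs h) (S.hs1 h) S.hy S.hy1 h2 hg)
  exact h'.mem_ii_of_move S.hq S.hq1 S.line.2 h.ln.z_ne (Ne.symm S.hqz) hgq h1 h3

/-- **(S1)** -/
theorem one [Finite G] {e : G} (he : e ∈ ee V y) (heq : e * q = q * e) : ∃ j ∈ ii L, j ∈ ee V z ∧
    ∀ a ∈ ws V z, ∀ b ∈ ws V y, Tw V z a y b → (j * b = b * j ↔ e * a = a * e) := by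
  obtain ⟨T', h', hNL, hws, hkq⟩ := h.line hN S.line
  obtain ⟨f, hf, hfy⟩ := S.exists_f h hN
  have hfV : f ∈ kq V z := by
    rw [← hkq]
    exact hf.2 z S.line.2 h.ln.z_ne
  have h0 := S.mem_ii h hN he heq hf hfy
  have h2 : f * e * f⁻¹ ∈ ee V (z * y) := by
    have := conj_mem_ee (h.kq_le_normalizer h.ln.z_mem h.ln.z_ne hfV) he
    rwa [hfy] at this
  refine ⟨_, h0, ⟨?_, fun p hp hp1 => mul_mem (he.2 p hp hp1) (h2.2 p hp hp1)⟩, fun a ha b hb ht => ?_⟩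
  · rw [← hws]
    exact ii_le S.line.2 h.ln.z_ne h0
  · have h3 : f * e * f⁻¹ * a = a * (f * e * f⁻¹) ↔ f * e * f⁻¹ * b = b * (f * e * f⁻¹) :=
      h.twin_iff h.ln.z_mem h.ln.z_ne S.hy S.hy1 S.hyz h2 ha ht
    have h4 : e * b = b * e := h.comm S.hy S.hy1 _ he.1 _ hb
    have h5 : e * (f * e * f⁻¹) * b = b * (e * (f * e * f⁻¹)) ↔
        f * e * f⁻¹ * b = b * (f * e * f⁻¹) := by
      constructor
      · intro hc
        have e1 : f * e * f⁻¹ = e⁻¹ * (e * (f * e * f⁻¹)) := by group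
        rw [e1]
        exact mul_comm_of (inv_comm_of h4) hc
      · intro hc
        exact mul_comm_of h4 hc
    rw [h5, ← h3]
    -- `f e f⁻¹` and `e` act in the same way on `W_z`
    have hze := h.V_comm h.ln.z_mem (h.ws_le_centralizer_V S.hy S.hy1 he.1)
    have hzf := h.kq_p hfV
    constructor
    · intro hc
      rcases h.kq_cases h.ln.z_mem (inv_mem hfV) ha with e1 | e1
      · rw [inv_inv] at e1
        have : e * (f⁻¹ * a * f) = (f⁻¹ * a * f) * e := by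
          calc e * (f⁻¹ * a * f) = f⁻¹ * (f * e * f⁻¹ * a) * f := by group
            _ = f⁻¹ * (a * (f * e * f⁻¹)) * f := by rw [hc]
            _ = (f⁻¹ * a * f) * e := by group
        rwa [e1] at this
      · rw [inv_inv] at e1
        have : e * (f⁻¹ * a * f) = (f⁻¹ * a * f) * e := by
          calc e * (f⁻¹ * a * f) = f⁻¹ * (f * e * f⁻¹ * a) * f := by group
            _ = f⁻¹ * (a * (f * e * f⁻¹)) * f := by rw [hc]
            _ = (f⁻¹ * a * f) * e := by group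
        rw [e1] at this
        calc e * a = z⁻¹ * ((z * e) * a) := by group
          _ = z⁻¹ * (e * (z * a)) := by rw [hze]; group
          _ = z⁻¹ * (z * a * e) := by rw [this]
          _ = a * e := by group
    · intro hc
      rcases h.kq_cases h.ln.z_mem (inv_mem hfV) ha with e1 | e1
      · rw [inv_inv] at e1
        calc f * e * f⁻¹ * a = f * (e * (f⁻¹ * a * f)) * f⁻¹ := by group
          _ = f * ((f⁻¹ * a * f) * e) * f⁻¹ := by rw [e1, hc]
          _ = a * (f * e * f⁻¹) := by group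
      · rw [inv_inv] at e1
        have : e * (f⁻¹ * a * f) = (f⁻¹ * a * f) * e := by
          rw [e1]
          calc e * (z * a) = (e * z) * a := by group
            _ = z * (e * a) := by rw [← hze]; group
            _ = z * a * e := by rw [hc]; group
        calc f * e * f⁻¹ * a = f * (e * (f⁻¹ * a * f)) * f⁻¹ := by group
          _ = f * ((f⁻¹ * a * f) * e) * f⁻¹ := by rw [this]
          _ = a * (f * e * f⁻¹) := by group

/-- `[j, b] ∈ I_L` for `j ∈ I_L`, `b ∈ W_y` normalising `L` -/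
theorem not_move [Finite G] {j b : G} (hj : j ∈ ii L) (hjE : j ∈ ee V z) (hb : b ∈ ws V y)
    (hbq : b * q * b⁻¹ = q ∨ b * q * b⁻¹ = z * q) : j * b = b * j := by
  obtain ⟨T', h', hNL, hws, hkq⟩ := h.line hN S.line
  have hzL : z ∈ L := S.line.2
  have hbb := h.sq S.hy S.hy1 b hb
  have hbi : b⁻¹ = b := inv_eq_self hbb
  have hbz : b * z * b⁻¹ = z := conj_eq_of_comm (h.V_comm h.ln.z_mem (h.ws_le_centralizer_V S.hy S.hy1 hb)).symm
  have hbqL : b * q * b⁻¹ ∈ L := by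
    rcases hbq with e | e
    · rw [e]; exact S.hq
    · rw [e]; exact mul_mem hzL S.hq
  have h1 : ∀ m ∈ L, b * m * b⁻¹ ∈ L := by
    intro m hm
    rcases h'.ln.four hzL S.hq h.ln.z_ne S.hq1 (Ne.symm S.hqz) hm with e | e | e | e
    · rw [e, mul_one, mul_inv_cancel]; exact one_mem _
    · rw [e, hbz]; exact hzL
    · rw [e]; exact hbqL
    · rw [e]
      have e1 : b * (z * q) * b⁻¹ = (b * z * b⁻¹) * (b * q * b⁻¹) := by group
      rw [e1, hbz]
      exact mul_mem hzL hbqL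
  have hbN : b ∈ normalizer (L : Set G) := mem_normalizer_of h1 (fun m hm => by
    have := h1 m hm
    rwa [hbi] at this ⊢)
  have h2 : ⁅j, b⁆ ∈ ii L := by
    have h3 := conj_mem_of_normalizer (normalizer_le_normalizer_ii L) hbN (inv_mem hj)
    have e1 : ⁅j, b⁆ = j * (b * j⁻¹ * b⁻¹) := by rw [commutatorElement_def]; group
    rw [e1]
    exact mul_mem hj h3
  rcases h.ee_cases S.hy S.hy1 hjE hb with e | e
  · exact commutatorElement_eq_one_iff_mul_comm.mp e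
  · exfalso
    rw [e] at h2
    exact S.yL (h'.ii_le_ee hzL h.ln.z_ne h2)

/-- **(S2)** -/
theorem two [Finite G] {b : G} (hb : b ∈ ws V y) (hbq : b * q * b⁻¹ = q ∨ b * q * b⁻¹ = z * q) :
    b ∈ ee V y ∨ Tw V z q y b := by
  have hz := h.ln.z_mem
  have hz1 := h.ln.z_ne
  obtain ⟨a, ha, hta⟩ := h.tw_exists S.hy S.hy1 hz hz1 hb
  have ht := h.tw_symm hta
  have hqw := S.q_ws h
  have key : ∀ e ∈ ee V y, e * q = q * e → e * a = a * e := by
    intro e he heq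
    obtain ⟨j, hj, hjE, hf⟩ := S.one h hN he heq
    exact (hf a ha b hb ht).mp (S.not_move h hN hj hjE hb hbq)
  obtain ⟨e₀, he₀, he₀q⟩ := S.exists_e h hN
  have he₀q' : e₀ * q ≠ q * e₀ := fun e => by
    rw [conj_eq_of_comm e] at he₀q
    exact hz1 (by simpa using he₀q.symm)
  by_cases h0 : e₀ * a = a * e₀
  · left
    have h1 : a ∈ ee V z := by
      rw [← h.nt_w1 hN hz hz1]
      refine h.mem_w1 hz hz1 S.hy S.hy1 S.hyz ha fun e he => ?_
      by_cases heq : e * q = q * e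
      · exact (key e he heq).symm
      · have h2 := key _ (mul_mem he he₀) (h.mv_mul hz (he.2 z hz hz1) (he₀.2 z hz hz1) hqw heq he₀q')
        have e1 : e = (e * e₀) * e₀⁻¹ := by group
        rw [e1]
        exact (mul_comm_of h2 (inv_comm_of h0)).symm
    have h2 := h.tw_trans hta ((h.tw_one hz hz1 S.hy S.hy1 ha).mpr h1)
    have h3 := (h.tw_self S.hy S.hy1 hb).mp h2
    rwa [inv_one, mul_one] at h3
  · right
    have h1 : a * q ∈ ee V z := by
      rw [← h.nt_w1 hN hz hz1]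
      refine h.mem_w1 hz hz1 S.hy S.hy1 S.hyz (mul_mem ha hqw) fun e he => ?_
      by_cases heq : e * q = q * e
      · have h2 := key e he heq
        calc a * q * e = a * (e * q) := by rw [heq]; group
          _ = (a * e) * q := by group
          _ = e * (a * q) := by rw [← h2]; group
      · have h2 := key _ (mul_mem he he₀) (h.mv_mul hz (he.2 z hz hz1) (he₀.2 z hz hz1) hqw heq he₀q')
        have h3 : e * a ≠ a * e := fun h3 => h0 (by
          have e1 : e₀ = e⁻¹ * (e * e₀) := by group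
          rw [e1]
          exact mul_comm_of (inv_comm_of h3) h2)
        exact (h.mv_mul' hz (he.2 z hz hz1) ha hqw h3 heq).symm
    have h2 : Tw V z q z a := by
      rw [h.tw_self hz hz1 hqw, inv_eq_self (h.sq hz hz1 a ha), h.comm hz hz1 q hqw a ha]
      exact h1
    exact h.tw_trans h2 ht

/-- **(S3)** -/
theorem three [Finite G] {b₁ : G} (hb₁ : b₁ ∈ ws V y) (hω : ⁅q, b₁⁆ ∉ ee L z) :
    ∃ j ∈ ii L, j ∈ ee V z ∧ ∀ b ∈ ws V y, Tw V z q y b → j * b ≠ b * j := by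
  obtain ⟨T', h', hNL, hws, hkq⟩ := h.line hN S.line
  have hz := h.ln.z_mem
  have hz1 := h.ln.z_ne
  have hzL : z ∈ L := S.line.2
  have hqw := S.q_ws h
  have hs := S.hs h
  have hs1 := S.hs1 h
  have hωI : ⁅q, b₁⁆ ∈ ii V := h.comm_ii_mem hz hz1 S.hy S.hy1 hqw hb₁
  have hωz : ⁅q, b₁⁆ ∈ ws L z := by rw [hws]; exact ii_le hz hz1 hωI
  have hyz : y ∈ ws L z := by rw [hws]; exact h.V_le hz hz1 S.hy
  obtain ⟨f, hf, hfy, hfω⟩ := h'.move_two hNL S.hq S.hq1 hzL hz1 (Ne.symm S.hqz) hyz S.yL hωz hω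
  have hfV : f ∈ kq V z := by
    rw [← hkq]
    exact hf.2 z hzL hz1
  have hff : f * f = 1 := h'.sq S.hq S.hq1 f hf.1
  have hfq : f * q = q * f := h'.comm S.hq S.hq1 f hf.1 q (h'.V_le S.hq S.hq1 S.hq)
  obtain ⟨ω, hωd⟩ : ∃ ω, ω = ⁅q, b₁⁆ := ⟨_, rfl⟩
  rw [← hωd] at hω hωI hωz hfω
  have hωω : ω * ω = 1 := h.sq S.hy S.hy1 ω (ii_le S.hy S.hy1 hωI)
  have hb1b : b₁ * b₁ = 1 := h.sq S.hy S.hy1 b₁ hb₁
  have hb1i : b₁⁻¹ = b₁ := inv_eq_self hb1b
  have hb1V := h.ws_le_centralizer_V S.hy S.hy1 hb₁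
  -- `b₁' = b₁^f`
  obtain ⟨c, hc⟩ : ∃ c, c = f * b₁ * f⁻¹ := ⟨_, rfl⟩
  have hcs : c ∈ ws V (z * y) := by
    have := conj_mem_ws f hb₁
    rw [hfy] at this
    rwa [hc]
  have hcc : c * c = 1 := h.sq hs hs1 c hcs
  have hci : c⁻¹ = c := inv_eq_self hcc
  have hcV := h.ws_le_centralizer_V hs hs1 hcs
  have hfc : f * c * f⁻¹ = b₁ := by
    rw [hc]
    calc f * (f * b₁ * f⁻¹) * f⁻¹ = (f * f) * b₁ * (f * f)⁻¹ := by group
      _ = b₁ := by rw [hff]; group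
  obtain ⟨g₀, hg₀⟩ : ∃ g₀, g₀ = b₁ * c := ⟨_, rfl⟩
  have hg₀k : g₀ ∈ kq V z := by
    rw [hg₀, hc]
    exact h.mul_conj_kq hz S.hy S.hy1 hfV hb₁
  have hg₀V : g₀ ∈ centralizer (V : Set G) := by rw [hg₀]; exact mul_mem hb1V hcV
  have hfg₀ : f * g₀ * f⁻¹ = g₀⁻¹ := by
    calc f * g₀ * f⁻¹ = (f * b₁ * f⁻¹) * (f * c * f⁻¹) := by rw [hg₀]; group
      _ = c⁻¹ * b₁⁻¹ := by rw [← hc, hfc, hci, hb1i]
      _ = g₀⁻¹ := by rw [hg₀]; group
  -- `b₁ q b₁⁻¹ = ω q`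
  have h1 : b₁ * q * b₁⁻¹ = ω * q := by
    have h2 : ⁅b₁, q⁆ = ω := by rw [h.comm_swap hz hz1 S.hy S.hy1 hqw hb₁, hωd]
    calc b₁ * q * b₁⁻¹ = ⁅b₁, q⁆ * q := by rw [commutatorElement_def]; group
      _ = ω * q := by rw [h2]
  have h2 : c * q * c⁻¹ = z * ω * q := by
    calc c * q * c⁻¹ = f * (b₁ * (f⁻¹ * q * f) * b₁⁻¹) * f⁻¹ := by rw [hc]; group
      _ = f * (b₁ * q * b₁⁻¹) * f⁻¹ := by
        have e1 : f⁻¹ * q * f = q := by
          calc f⁻¹ * q * f = f⁻¹ * (q * f) := by group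
            _ = q := by rw [← hfq]; group
        rw [e1]
      _ = (f * ω * f⁻¹) * (f * q * f⁻¹) := by rw [h1]; group
      _ = z * ω * q := by rw [hfω, conj_eq_of_comm hfq]
  have hzb : z * b₁ = b₁ * z := h.V_comm hz hb1V
  have hb1ω : b₁ * ω = ω * b₁ := h.comm S.hy S.hy1 b₁ hb₁ ω (ii_le S.hy S.hy1 hωI)
  have h3 : g₀ * q * g₀⁻¹ = z * q := by
    calc g₀ * q * g₀⁻¹ = b₁ * (c * q * c⁻¹) * b₁⁻¹ := by rw [hg₀]; group
      _ = (b₁ * z) * ω * q * b₁⁻¹ := by rw [h2]; group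
      _ = z * (b₁ * ω) * q * b₁⁻¹ := by rw [← hzb]; group
      _ = z * ω * (b₁ * q * b₁⁻¹) := by rw [hb1ω]; group
      _ = z * (ω * ω) * q := by rw [h1]; group
      _ = z * q := by rw [hωω, mul_one]
  obtain ⟨e₀, he₀, he₀q⟩ := S.exists_e h hN
  have he₀V := h.ws_le_centralizer_V S.hy S.hy1 he₀.1
  have he₀e : e₀ * e₀ = 1 := h.sq S.hy S.hy1 e₀ he₀.1
  obtain ⟨e₁, he₁⟩ : ∃ e₁, e₁ = f * e₀ * f⁻¹ := ⟨_, rfl⟩
  have he₁E : e₁ ∈ ee V (z * y) := by
    have := conj_mem_ee (h.kq_le_normalizer hz hz1 hfV) he₀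
    rw [hfy] at this
    rwa [he₁]
  have he₁e : e₁ * e₁ = 1 := h.sq hs hs1 e₁ he₁E.1
  have hg₁k : g₀ * e₀ ∈ kq V z := mul_mem hg₀k (he₀.2 z hz hz1)
  have hzz := h.ln.sq z hz
  have hzg₀ : z * g₀ = g₀ * z := h.V_comm hz hg₀V
  have hze₀ : z * e₀ = e₀ * z := h.V_comm hz he₀V
  have hg₁q : (g₀ * e₀) * q = q * (g₀ * e₀) := by
    apply comm_of_conj_eq
    calc g₀ * e₀ * q * (g₀ * e₀)⁻¹ = g₀ * (e₀ * q * e₀⁻¹) * g₀⁻¹ := by group
      _ = (g₀ * z) * q * g₀⁻¹ := by rw [he₀q]; group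
      _ = z * (g₀ * q * g₀⁻¹) := by rw [← hzg₀]; group
      _ = (z * z) * q := by rw [h3]; group
      _ = q := by rw [hzz, one_mul]
  -- `j = [g₁, f] = g₀ e₀ e₁ g₀`
  obtain ⟨j, hj⟩ : ∃ j, j = g₀ * (e₀ * e₁) * g₀ := ⟨_, rfl⟩
  have hj1 : j = (g₀ * e₀) * (f * (g₀ * e₀)⁻¹ * f⁻¹) := by
    have e1 : f * (g₀ * e₀)⁻¹ * f⁻¹ = (f * e₀ * f⁻¹)⁻¹ * (f * g₀ * f⁻¹)⁻¹ := by group
    rw [e1, hfg₀, ← he₁, inv_inv, inv_eq_self he₁e, hj]
    group
  have hjL : j ∈ ws L q := by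
    have h4 := S.cent_L h (mul_mem hg₀V he₀V) hg₁q
    have h5 := conj_mem_of_normalizer (h'.cent_norm S.hq) h4 hf.1
    have e1 : j = (g₀ * e₀ * f * (g₀ * e₀)⁻¹) * f⁻¹ := by rw [hj1]; group
    rw [e1]
    exact mul_mem h5 (inv_mem hf.1)
  -- `j` commutes with `e₀`
  have hje : j * e₀ = e₀ * j := by
    have h4 : e₀ * b₁ = b₁ * e₀ := h.comm S.hy S.hy1 _ he₀.1 _ hb₁
    have h5 : e₀ * e₁ = e₁ * e₀ := h.ee_comm S.hy S.hy1 hs hs1 he₀ he₁E
    rcases h.kq_or hs (he₀.2 _ hs hs1) hcs with e1 | e1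
    · have h6 : g₀ * e₀ = e₀ * g₀ := by
        calc g₀ * e₀ = b₁ * (c * e₀) := by rw [hg₀]; group
          _ = (b₁ * e₀) * c := by rw [← e1]; group
          _ = e₀ * g₀ := by rw [← h4, hg₀]; group
      calc j * e₀ = g₀ * (e₀ * e₁) * (g₀ * e₀) := by rw [hj]; group
        _ = g₀ * (e₀ * e₁) * (e₀ * g₀) := by rw [h6]
        _ = (g₀ * e₀) * (e₁ * e₀) * g₀ := by group
        _ = (e₀ * g₀) * (e₀ * e₁) * g₀ := by rw [h6, h5]
        _ = e₀ * j := by rw [hj]; group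
    · have hse := h.V_comm hs he₀V
      have hsg := h.V_comm hs hg₀V
      have hsb := h.V_comm hs hb1V
      have hse1 := h.V_comm hs (h.ws_le_centralizer_V hs hs1 he₁E.1)
      have hss := h.ln.sq _ hs
      have h6 : e₀ * g₀ = (z * y) * (g₀ * e₀) := by
        calc e₀ * g₀ = (e₀ * b₁) * c := by rw [hg₀]; group
          _ = b₁ * (e₀ * c) := by rw [h4]; group
          _ = (b₁ * (z * y)) * (c * e₀) := by rw [e1]; group
          _ = (z * y) * (g₀ * e₀) := by rw [← hsb, hg₀]; group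
      have h7 : g₀ * e₀ = (z * y) * (e₀ * g₀) := by
        rw [h6, ← mul_assoc, hss, one_mul]
      obtain ⟨s, hsd⟩ : ∃ s, s = z * y := ⟨_, rfl⟩
      rw [← hsd] at h6 h7 hse hsg hsb hss hse1
      calc j * e₀ = g₀ * (e₀ * e₁) * (g₀ * e₀) := by rw [hj]; group
        _ = g₀ * (e₀ * e₁) * (s * (e₀ * g₀)) := by rw [h7]
        _ = g₀ * e₀ * (e₁ * s) * (e₀ * g₀) := by group
        _ = g₀ * e₀ * (s * e₁) * (e₀ * g₀) := by rw [hse1]
        _ = g₀ * (e₀ * s) * (e₁ * e₀) * g₀ := by group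
        _ = g₀ * (s * e₀) * (e₁ * e₀) * g₀ := by rw [hse]
        _ = (g₀ * s) * e₀ * (e₁ * e₀) * g₀ := by group
        _ = (s * g₀) * e₀ * (e₁ * e₀) * g₀ := by rw [hsg]
        _ = s * (g₀ * e₀) * (e₁ * e₀) * g₀ := by group
        _ = s * (s * (e₀ * g₀)) * (e₀ * e₁) * g₀ := by rw [h7, h5]
        _ = (s * s) * (e₀ * (g₀ * (e₀ * e₁) * g₀)) := by group
        _ = e₀ * j := by rw [hss, one_mul, hj]
  have hjI : j ∈ ii L := h'.mem_ii_of_move S.hq S.hq1 hzL hz1 (Ne.symm S.hqz) he₀q hjL hje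
  -- `j = g₀² e' e''`, `e' ∈ E_y`, `e'' ∈ E_s`
  have hgn := centralizer_le_normalizer _ hg₀V
  have hgy : g₀⁻¹ * y * g₀ = y := by
    calc g₀⁻¹ * y * g₀ = g₀⁻¹ * (y * g₀) := by group
      _ = y := by rw [h.V_comm S.hy hg₀V]; group
  have hgs : g₀⁻¹ * (z * y) * g₀ = z * y := by
    calc g₀⁻¹ * (z * y) * g₀ = g₀⁻¹ * ((z * y) * g₀) := by group
      _ = z * y := by rw [h.V_comm hs hg₀V]; group
  obtain ⟨e', he'⟩ : ∃ e', e' = g₀⁻¹ * e₀ * g₀ := ⟨_, rfl⟩
  obtain ⟨e'', he''⟩ : ∃ e'', e'' = g₀⁻¹ * e₁ * g₀ := ⟨_, rfl⟩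
  have he'E : e' ∈ ee V y := by
    have := conj_mem_ee (inv_mem hgn) he₀
    rw [inv_inv, hgy] at this
    rwa [he']
  have he''E : e'' ∈ ee V (z * y) := by
    have := conj_mem_ee (inv_mem hgn) he₁E
    rw [inv_inv, hgs] at this
    rwa [he'']
  have hgg : g₀ * g₀ ∈ ii V := by
    have e1 : g₀ * g₀ = ⁅b₁, c⁆ := by
      rw [commutatorElement_def, hb1i, hci, hg₀]; group
    rw [e1]
    exact h.comm_ii_mem S.hy S.hy1 hs hs1 hb₁ hcs
  have hj2 : j = (g₀ * g₀) * (e' * e'') := by rw [hj, he', he'']; group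
  refine ⟨j, hjI, ⟨?_, fun p hp hp1 => ?_⟩, fun b hb htw hc' => ?_⟩
  · rw [← hws]
    exact ii_le hzL hz1 hjI
  · rw [hj2]
    exact mul_mem ((h.ii_le_ee S.hy S.hy1 hgg).2 p hp hp1) (mul_mem (he'E.2 p hp hp1) (he''E.2 p hp hp1))
  · -- `e''` commutes with `b`, hence with `q`
    have h4 : (g₀ * g₀) * b = b * (g₀ * g₀) := h.comm S.hy S.hy1 _ (ii_le S.hy S.hy1 hgg) _ hb
    have h5 : e' * b = b * e' := h.comm S.hy S.hy1 _ he'E.1 _ hb
    have h6 : e'' * b = b * e'' := by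
      have e1 : e'' = (g₀ * g₀ * e')⁻¹ * j := by rw [hj2]; group
      rw [e1]
      exact mul_comm_of (inv_comm_of (mul_comm_of h4 h5)) hc'
    have h7 := (h.twin_iff hz hz1 S.hy S.hy1 S.hyz he''E hqw htw).mpr h6
    -- but it moves `q`
    have h8 : g₀⁻¹ * q * g₀ = z * q := by
      calc g₀⁻¹ * q * g₀ = g₀⁻¹ * (z * z) * q * g₀ := by rw [hzz]; group
        _ = g₀⁻¹ * z * (z * q) * g₀ := by group
        _ = g₀⁻¹ * z * (g₀ * q * g₀⁻¹) * g₀ := by rw [h3]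
        _ = g₀⁻¹ * (z * g₀) * q := by group
        _ = z * q := by rw [hzg₀]; group
    have h9 : e₁ * q * e₁⁻¹ = z * q := by
      calc e₁ * q * e₁⁻¹ = f * (e₀ * (f⁻¹ * q * f) * e₀⁻¹) * f⁻¹ := by rw [he₁]; group
        _ = f * (e₀ * q * e₀⁻¹) * f⁻¹ := by
          have e1 : f⁻¹ * q * f = q := by
            calc f⁻¹ * q * f = f⁻¹ * (q * f) := by group
              _ = q := by rw [← hfq]; group
          rw [e1]
        _ = (f * z) * q * f⁻¹ := by rw [he₀q]; group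
        _ = z * (f * q * f⁻¹) := by rw [h.kq_p hfV]; group
        _ = z * q := by rw [conj_eq_of_comm hfq]
    have h10 : e'' * q * e''⁻¹ = z * q := by
      have hze₁ := h.V_comm hz (h.ws_le_centralizer_V hs hs1 he₁E.1)
      calc e'' * q * e''⁻¹ = g₀⁻¹ * (e₁ * (g₀ * q * g₀⁻¹) * e₁⁻¹) * g₀ := by rw [he'']; group
        _ = g₀⁻¹ * ((e₁ * z) * q * e₁⁻¹) * g₀ := by rw [h3]; group
        _ = g₀⁻¹ * (z * (e₁ * q * e₁⁻¹)) * g₀ := by rw [← hze₁]; group
        _ = g₀⁻¹ * ((z * z) * q) * g₀ := by rw [h9]; group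
        _ = z * q := by rw [hzz, one_mul, h8]
    rw [conj_eq_of_comm h7] at h10
    exact hz1 (by simpa using h10.symm)

/-- (S3) with (S2) -/
theorem three' [Finite G] {b₁ b : G} (hb₁ : b₁ ∈ ws V y) (hω : ⁅q, b₁⁆ ∉ ee L z) (hb : b ∈ ws V y)
    (hbq : b * q * b⁻¹ = q ∨ b * q * b⁻¹ = z * q) : b ∈ ee V y := by
  rcases S.two h hN hb hbq with e | e
  · exact e
  · obtain ⟨j, hj, hjE, hf⟩ := S.three h hN hb₁ hω
    exact absurd (S.not_move h hN hj hjE hb hbq) (hf b hb e)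

end SyP

end Cfsg.Agent.Omega.NO3S.TwoOne
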