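import Cfsg.Agent.Omega.NO3S.TwoOne.PhiA
import Cfsg.Agent.Omega.NO3S.TwoOne.PlaneKD

/-!
# NO-3S, `q = 2`, `n = 1`, no `λ`-transvections: `A_l ∩ A_m` (helper409's text #17866, (N1), (N3), (N4))

`h : One T V z`, `NT V`; `A_l` = image of `W_y`, `y ∈ V - ⟨z⟩`, in `H = C_G(z) / K_z`.

* `One.nt_ti_mem` : a line `L` on `z`, `q ∈ L`; an element `≠ 1` of `A_V ∩ A_L` gives `q ∈ ii V` (`L` and `V` are in a
  plane);
* `NP V z` : there is no plane on `V`: the only line on `z` in `ii V` is `V`; `One.nt_ti` : then `L = V`;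
* `One.nt_cent_mem` : `f ∈ C_G(z)`, `[f, a] ∈ K_z` for an `a ∈ W_y - K_z`: `f y f⁻¹ ∈ ii V`; `One.nt_cent` : without planes
  `f ∈ N_G(V)`: `C_H(a) ≤ H_λ` for every `a ∈ A#`;
* `One.plane_inter` (N3) : in a plane `⟨V, u⟩` : an element of `A_V ∩ A_{⟨z, u⟩}` is in `A_{⟨z, y u⟩}`;
* `comm_of_norm` : the abstract form of (N4); `One.nt_comm` (N4): no plane, `A_V` normalises `A_L`: they commute.
-/

set_option autoImplicit false
set_option linter.unusedSectionVars false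

namespace Cfsg.Agent.Omega.NO3S.TwoOne

open Subgroup Cfsg Cfsg.Agent.ZN Cfsg.Agent.MinSimple.Geo Cfsg.Agent.Omega.CaseL
open Cfsg.Agent.ZN.Block (conj_mem_of_normalizer conj_mem_of_normalizer' le_normalizer_of_forall
  mem_normalizer_of)
open scoped commutatorElement

universe u

variable {G : Type u} [Group G]

/-- no plane on `V`, seen from `z` -/
def NP (V : Subgroup G) (z : G) : Prop := ∀ L ∈ lines V z, L ≤ ii V → L = V

/-- **(N4)**, abstract form -/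
theorem comm_of_norm {H : Type u} [Group H] [Finite H] {A B : Subgroup H} (hcard : Nat.card A = Nat.card B)
    (hB : ∀ b ∈ B, b * b = 1) (hAB : ∀ a ∈ A, ∀ b ∈ B, a * b * a⁻¹ ∈ B)
    (hd : ∀ a ∈ A, a ∈ B → a = 1)
    (hc : ∀ b ∈ B, (∀ a ∈ A, b * a * b⁻¹ ∈ A) ∨ (∀ a ∈ A, a * b = b * a → a = 1)) :
    ∀ a ∈ A, ∀ b ∈ B, a * b = b * a := by
  intro a ha b hb
  by_cases hb1 : b = 1
  · rw [hb1]; simp
  rcases hc b hb with h1 | h1
  · -- `[a, b] ∈ A ∩ B`
    have h2 : a * b * a⁻¹ * b⁻¹ ∈ B := mul_mem (hAB a ha b hb) (inv_mem hb)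
    have h3 : a * b * a⁻¹ * b⁻¹ ∈ A := by
      have e : a * b * a⁻¹ * b⁻¹ = a * (b * a⁻¹ * b⁻¹) := by group
      rw [e]
      exact mul_mem ha (h1 _ (inv_mem ha))
    have h4 := hd _ h3 h2
    calc a * b = (a * b * a⁻¹ * b⁻¹) * (b * a) := by group
      _ = b * a := by rw [h4, one_mul]
  · exfalso
    -- `a ↦ [a, b]` is injective and misses `b`
    let f : A → B := fun a => ⟨(a : H) * b * (a : H)⁻¹ * b⁻¹, mul_mem (hAB a a.2 b hb) (inv_mem hb)⟩
    have hf : Function.Injective f := by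
      intro x y hxy
      have e1 : (x : H) * b * (x : H)⁻¹ * b⁻¹ = (y : H) * b * (y : H)⁻¹ * b⁻¹ := congrArg Subtype.val hxy
      have e2 : (x : H) * b * (x : H)⁻¹ = (y : H) * b * (y : H)⁻¹ := mul_right_cancel e1
      have e3 : ((y : H)⁻¹ * x) * b = b * ((y : H)⁻¹ * x) := by
        calc ((y : H)⁻¹ * x) * b = (y : H)⁻¹ * ((x : H) * b * (x : H)⁻¹) * x := by group
          _ = b * ((y : H)⁻¹ * x) := by rw [e2]; group
      have e4 := h1 _ (mul_mem (inv_mem y.2) x.2) e3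
      exact Subtype.ext (inv_mul_eq_one.mp e4).symm
    have hs : Function.Surjective f := by
      have := Fintype.ofFinite A
      have := Fintype.ofFinite B
      rw [Nat.card_eq_fintype_card, Nat.card_eq_fintype_card] at hcard
      exact ((Fintype.bijective_iff_injective_and_card f).mpr ⟨hf, hcard⟩).2
    obtain ⟨x, hx⟩ := hs ⟨b, hb⟩
    have e1 : (x : H) * b * (x : H)⁻¹ * b⁻¹ = b := congrArg Subtype.val hx
    have e2 : (x : H) * b * (x : H)⁻¹ = 1 := by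
      rw [← hB b hb]
      calc (x : H) * b * (x : H)⁻¹ = ((x : H) * b * (x : H)⁻¹ * b⁻¹) * b := by group
        _ = b * b := by rw [e1]
    exact hb1 (conj_eq_one_iff.mp e2)

namespace One

variable {T V : Subgroup G} {z p q r : G}

/-- the common element of `A_V` and `A_L` -/
theorem nt_ti_mem [Finite G] (h : One T V z) (hN : NT V) {L : Subgroup G} (hL : L ∈ lines V z) {y a a' : G}
    (hy : y ∈ V) (hy1 : y ≠ 1) (hq : q ∈ L) (hq1 : q ≠ 1) (hqz : q ≠ z) (ha : a ∈ ws V y)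
    (hak : a ∉ kq V z) (ha' : a' ∈ ws V q) (haa : a * a'⁻¹ ∈ kq V z) : q ∈ ii V := by
  have hz := h.ln.z_mem
  have hz1 := h.ln.z_ne
  obtain ⟨c, hLc, T', h'⟩ := h.of_line hL hz1
  have hws : ∀ x, ws L x = ws V x := fun x => by rw [hLc, ws_cj]
  have hkq : ∀ x, kq L x = kq V x := fun x => by rw [hLc, kq_cj]
  have hN' : NT L := by
    rw [hLc]; exact NT.conj hN c
  have haE : a' ∉ ee L q := by
    intro e
    apply hak
    have h1 := e.2 z hL.2 hz1
    rw [hkq] at h1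
    have h2 := mul_mem haa h1
    rwa [inv_mul_cancel_right] at h2
  obtain ⟨e, he, heq⟩ := h'.nt_move_ee hN' hL.2 hz1 hq hq1 hqz (by rwa [hws]) haE
  have hez : e ∈ ws V z := by
    have := he.1
    rwa [hws] at this
  have hqz' : q ∈ ws V z := le_ws hL hq
  have hqq : q * q = 1 := h'.ln.sq q hq
  -- `a' e a'⁻¹ = q e`
  have h1 : a' * e * a'⁻¹ = q * e := by
    have hqa : q * a' = a' * q := h'.V_comm hq (h'.ws_le_centralizer_V hq hq1 (by rwa [hws]))
    have h2 : e * a' = q * a' * e := by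
      calc e * a' = (e * a' * e⁻¹) * e := by group
        _ = q * a' * e := by rw [heq]
    have h3 : a' * e = q * (e * a') := by
      rw [h2, ← mul_assoc, ← mul_assoc, hqq, one_mul]
    rw [h3]; group
  set k := a * a'⁻¹ with hk
  have hak' : a = k * a' := by rw [hk]; group
  have h2 : a * e * a⁻¹ = k * (q * e) * k⁻¹ := by
    rw [hak']
    calc k * a' * e * (k * a')⁻¹ = k * (a' * e * a'⁻¹) * k⁻¹ := by group
      _ = k * (q * e) * k⁻¹ := by rw [h1]
  have h3 : ⁅a, e⁆ ∈ ii V := h.comm_ii_mem hy hy1 hz hz1 ha hez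
  have h4 : ⁅a, e⁆ = k * (q * e) * k⁻¹ * e⁻¹ := by rw [commutatorElement_def, h2]
  rcases h.kq_cases hz haa (mul_mem hqz' hez) with e1 | e1
  · rw [h4, e1, mul_inv_cancel_right] at h3
    exact h3
  · have e2 : z * (q * e) * e⁻¹ = z * q := by group
    rw [h4, e1, e2] at h3
    have h5 := mul_mem (inv_mem (h.V_le_ii hz)) h3
    rwa [inv_mul_cancel_left] at h5

/-- two lines on `z` with a common point `q ≠ z` -/
theorem line_eq (h : One T V z) {L : Subgroup G} (hL : L ∈ lines V z) (hqL : q ∈ L) (hq1 : q ≠ 1)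
    (hqz : q ≠ z) (hqV : q ∈ V) : L = V := by
  have hz := h.ln.z_mem
  have hz1 := h.ln.z_ne
  obtain ⟨c, hLc, T', h'⟩ := h.of_line hL hz1
  have h1 : L ≤ V := by
    intro x hx
    by_cases hx1 : x = 1
    · rw [hx1]; exact one_mem _
    · rcases h'.third hL.2 hz1 hqL hq1 hqz hx hx1 with e | e | e
      · rw [e]; exact hz
      · rw [e]; exact hqV
      · rw [e]; exact mul_mem hz hqV
  have h2 : V ≤ L := by
    intro x hx
    by_cases hx1 : x = 1
    · rw [hx1]; exact one_mem _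
    · rcases h.third hz hz1 hqV hq1 hqz hx hx1 with e | e | e
      · rw [e]; exact hL.2
      · rw [e]; exact hqL
      · rw [e]; exact mul_mem hL.2 hqL
  exact le_antisymm h1 h2

/-- a line on `z` is in `ii V` as soon as it contains a point `≠ z` of `ii V` -/
theorem line_le_ii (h : One T V z) {L : Subgroup G} (hL : L ∈ lines V z) (hqL : q ∈ L) (hq1 : q ≠ 1)
    (hqz : q ≠ z) (hqV : q ∈ ii V) : L ≤ ii V := by
  have hz := h.ln.z_mem
  have hz1 := h.ln.z_ne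
  obtain ⟨c, hLc, T', h'⟩ := h.of_line hL hz1
  intro x hx
  by_cases hx1 : x = 1
  · rw [hx1]; exact one_mem _
  · rcases h'.third hL.2 hz1 hqL hq1 hqz hx hx1 with e | e | e
    · rw [e]; exact h.V_le_ii hz
    · rw [e]; exact hqV
    · rw [e]; exact mul_mem (h.V_le_ii hz) hqV

/-- **(TI)** : no plane: `A_V ∩ A_L = 1` for `L ≠ V` -/
theorem nt_ti [Finite G] (h : One T V z) (hN : NT V) (hP : NP V z) {L : Subgroup G} (hL : L ∈ lines V z) {y a a' : G}
    (hy : y ∈ V) (hy1 : y ≠ 1) (hq : q ∈ L) (hq1 : q ≠ 1) (hqz : q ≠ z) (ha : a ∈ ws V y)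
    (hak : a ∉ kq V z) (ha' : a' ∈ ws V q) (haa : a * a'⁻¹ ∈ kq V z) : L = V :=
  hP L hL (h.line_le_ii hL hq hq1 hqz (h.nt_ti_mem hN hL hy hy1 hq hq1 hqz ha hak ha' haa))

/-- `C_H(a)` moves `λ` only inside `Ī` -/
theorem nt_cent_mem [Finite G] (h : One T V z) (hN : NT V) {y f a : G} (hy : y ∈ V) (hy1 : y ≠ 1) (hyz : y ≠ z)
    (hf : f ∈ centralizer ({z} : Set G)) (ha : a ∈ ws V y) (hak : a ∉ kq V z)
    (hfa : f * a * f⁻¹ * a⁻¹ ∈ kq V z) : f * y * f⁻¹ ∈ ii V := by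
  have hfz : f * z * f⁻¹ = z := conj_eq_of_comm (mem_centralizer_singleton_iff.mp hf)
  have hL : cj f V ∈ lines V z := by
    have := mem_lines_cj (g := f) (L := V) (V := V) (x := z) ⟨⟨1, (cj_one V).symm⟩, h.ln.z_mem⟩
    rwa [hfz] at this
  refine h.nt_ti_mem hN hL hy hy1 (conj_mem_cj hy) (fun e => hy1 (conj_eq_one_iff.mp e)) (fun e => hyz ?_) ha hak
    (conj_mem_ws f ha) ?_
  · calc y = f⁻¹ * (f * y * f⁻¹) * f := by group
      _ = f⁻¹ * (f * z * f⁻¹) * f := by rw [e, hfz]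
      _ = z := by group
  · have := inv_mem hfa
    have e : (f * a * f⁻¹ * a⁻¹)⁻¹ = a * (f * a * f⁻¹)⁻¹ := by group
    rwa [e] at this

/-- **`C_H(a) ≤ H_λ`** for every `a ∈ A#` if there is no plane on `V` -/
theorem nt_cent [Finite G] (h : One T V z) (hN : NT V) (hP : NP V z) {y f a : G} (hy : y ∈ V) (hy1 : y ≠ 1)
    (hyz : y ≠ z) (hf : f ∈ centralizer ({z} : Set G)) (ha : a ∈ ws V y) (hak : a ∉ kq V z)
    (hfa : f * a * f⁻¹ * a⁻¹ ∈ kq V z) : f ∈ normalizer (V : Set G) := by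
  have hfz : f * z * f⁻¹ = z := conj_eq_of_comm (mem_centralizer_singleton_iff.mp hf)
  have hL : cj f V ∈ lines V z := by
    have := mem_lines_cj (g := f) (L := V) (V := V) (x := z) ⟨⟨1, (cj_one V).symm⟩, h.ln.z_mem⟩
    rwa [hfz] at this
  have h1 : cj f V = V := by
    refine hP _ hL (h.line_le_ii hL (conj_mem_cj hy) (fun e => hy1 (conj_eq_one_iff.mp e)) (fun e => hyz ?_)
      (h.nt_cent_mem hN hy hy1 hyz hf ha hak hfa))
    calc y = f⁻¹ * (f * y * f⁻¹) * f := by group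
      _ = f⁻¹ * (f * z * f⁻¹) * f := by rw [e, hfz]
      _ = z := by group
  rw [mem_normalizer_iff_cj, h1]

/-- **(N3)**: in a plane `⟨V, u⟩` : an element of `A_V ∩ A_{⟨z, u⟩}` is in `A_{⟨z, y u⟩}` -/
theorem plane_inter [Finite G] (h : One T V z) {y u a a' : G} (hy : y ∈ V) (hy1 : y ≠ 1)
    (hu : u ∈ ii V) (huV : u ∉ V) (ha : a ∈ ws V y) (ha' : a' ∈ ws V u)
    (haa : a * a'⁻¹ ∈ kq V z) : ∃ a'' ∈ ws V (y * u), a * a''⁻¹ ∈ kq V z := by
  have hz := h.ln.z_mem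
  have hz1 := h.ln.z_ne
  obtain ⟨k, hk, hkV, hku⟩ := h.fu hu huV hy hy1
  refine ⟨k * a' * k⁻¹, ?_, ?_⟩
  · have := conj_mem_ws k ha'
    rwa [hku] at this
  · have h1 : k * (a * a'⁻¹) * k⁻¹ ∈ kq V z :=
      conj_mem_of_normalizer (centralizer_le_normalizer_kq V z) (h.cent_le_centralizer hz hkV) haa
    rcases h.kq_cases hy hk ha with e | e
    · have e1 : k * (a * a'⁻¹) * k⁻¹ = (k * a * k⁻¹) * (k * a' * k⁻¹)⁻¹ := by group
      rwa [e1, e] at h1
    · have e1 : k * (a * a'⁻¹) * k⁻¹ = (k * a * k⁻¹) * (k * a' * k⁻¹)⁻¹ := by group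
      rw [e1, e] at h1
      have h2 := mul_mem (h.V_le_kq hz hz1 (inv_mem hy)) h1
      have e2 : y⁻¹ * (y * a * (k * a' * k⁻¹)⁻¹) = a * (k * a' * k⁻¹)⁻¹ := by group
      rwa [e2] at h2

end One

end Cfsg.Agent.Omega.NO3S.TwoOne
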