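import Cfsg.Agent.Omega.NO3S.TwoOne.Base

/-!
# NO-3S, `q = 2`, `n = 1` (helper881's text #13700): part (III)

`h : One T V z`; points: all `p ∈ V`, `p ≠ 1`.

* `ee V p` = `E_p = W_p ∩ K_q` (`One.mem_ee` : one `q ≠ p` is enough), `dd V p` = `D_p = C_{W_p}(W_q)` (`One.mem_dd`),
  `w1 V p` = `C_{W_p}(E_q)` (`One.mem_w1`); `V ≤ I ≤ D_p ≤ E_p ≤ w1 V p ≤ W_p`;
* `One.comm_ii_mem`, `One.comm_mul_left/right`, `One.comm_swap` : `[·, ·] : W_p × W_q → I` is bilinear;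
* `One.kq_ee` : `[K_p ∩ C_G(V), W_q] ≤ E_q` for all points `p`, `q`;
* `xl V` = `X_l = ⟨K_p | p ∈ V#⟩`; `One.xl_fix` : `g ∈ X_l`, `p^g = p` implies `[g, W_p] ≤ E_p`; `One.xl_md` : two
  elements of `X_l` which map `p` to the same point `q` induce the same map `W_p / E_p → W_q / E_q`: this identifies
  the modules `W_p / E_p` with one module `N`; `One.xl_cent` : it is `C_G(V)`-equivariant;
  `Tw V p a q b` : `a ∈ W_p` and `b ∈ W_q` are the same element of `N`;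
* `One.beta_left/right`, `One.beta_xl`, `One.beta_tw`, `One.beta_symm` : `[·, ·]` induces one symmetric bilinear map
  `β : N × N → R / V`, the same for all pairs of points, `X_l` is trivial on `I / V` (`One.xl_ii`);
* `One.ee_cases` : `[e, w] ∈ ⟨q⟩` for `e ∈ E_p`, `w ∈ W_q`; `One.ee_comm` : `[E_p, E_q] = 1`;
* `One.w1_comm` (III.a) : `[w1 V p, w1 V q] ≤ V`.
-/

set_option autoImplicit false
set_option linter.unusedSectionVars false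

namespace Cfsg.Agent.Omega.NO3S.TwoOne

open Subgroup Cfsg Cfsg.Agent.ZN Cfsg.Agent.MinSimple.Geo Cfsg.Agent.Omega.CaseL
open Cfsg.Agent.ZN.Block (conj_mem_of_normalizer conj_mem_of_normalizer' le_normalizer_of_forall
  mem_normalizer_of)
open scoped commutatorElement

universe u

variable {G : Type u} [Group G]

/-! ### the subgroups -/

/-- `E_p = W_p ∩ K_q` -/
def ee (V : Subgroup G) (p : G) : Subgroup G where
  carrier := {w | w ∈ ws V p ∧ ∀ q ∈ V, q ≠ 1 → w ∈ kq V q}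
  mul_mem' := fun ha hb => ⟨mul_mem ha.1 hb.1, fun q hq hq1 => mul_mem (ha.2 q hq hq1) (hb.2 q hq hq1)⟩
  one_mem' := ⟨one_mem _, fun _ _ _ => one_mem _⟩
  inv_mem' := fun ha => ⟨inv_mem ha.1, fun q hq hq1 => inv_mem (ha.2 q hq hq1)⟩

/-- `D_p = C_{W_p}(W_q)` -/
def dd (V : Subgroup G) (p : G) : Subgroup G where
  carrier := {w | w ∈ ws V p ∧ ∀ q ∈ V, q ≠ 1 → ∀ b ∈ ws V q, w * b = b * w}
  mul_mem' := fun ha hb => ⟨mul_mem ha.1 hb.1, fun q hq hq1 b hb' =>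
    mul_comm_of (ha.2 q hq hq1 b hb') (hb.2 q hq hq1 b hb')⟩
  one_mem' := ⟨one_mem _, fun _ _ _ b _ => by simp⟩
  inv_mem' := fun ha => ⟨inv_mem ha.1, fun q hq hq1 b hb => inv_comm_of (ha.2 q hq hq1 b hb)⟩

/-- `C_{W_p}(E_q)` -/
def w1 (V : Subgroup G) (p : G) : Subgroup G where
  carrier := {w | w ∈ ws V p ∧ ∀ q ∈ V, q ≠ 1 → ∀ b ∈ ee V q, w * b = b * w}
  mul_mem' := fun ha hb => ⟨mul_mem ha.1 hb.1, fun q hq hq1 b hb' =>
    mul_comm_of (ha.2 q hq hq1 b hb') (hb.2 q hq hq1 b hb')⟩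
  one_mem' := ⟨one_mem _, fun _ _ _ b _ => by simp⟩
  inv_mem' := fun ha => ⟨inv_mem ha.1, fun q hq hq1 b hb => inv_comm_of (ha.2 q hq hq1 b hb)⟩

/-- `X_l = ⟨K_p | p ∈ V#⟩` -/
def xl (V : Subgroup G) : Subgroup G := closure {k | ∃ p ∈ V, p ≠ 1 ∧ k ∈ kq V p}

theorem ee_le_ws (V : Subgroup G) (p : G) : ee V p ≤ ws V p := fun _ h => h.1

theorem dd_le_ws (V : Subgroup G) (p : G) : dd V p ≤ ws V p := fun _ h => h.1

theorem w1_le_ws (V : Subgroup G) (p : G) : w1 V p ≤ ws V p := fun _ h => h.1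

theorem ee_le_kq {V : Subgroup G} {q : G} (p : G) (hq : q ∈ V) (hq1 : q ≠ 1) : ee V p ≤ kq V q :=
  fun _ h => h.2 q hq hq1

theorem kq_le_xl {V : Subgroup G} {p : G} (hp : p ∈ V) (hp1 : p ≠ 1) : kq V p ≤ xl V :=
  fun _ hk => subset_closure ⟨p, hp, hp1, hk⟩

theorem xl_le {V U : Subgroup G} (h : ∀ p ∈ V, p ≠ 1 → kq V p ≤ U) : xl V ≤ U := by
  unfold xl
  rw [closure_le]
  rintro k ⟨p, hp, hp1, hk⟩
  exact h p hp hp1 hk

theorem conj_ne_one {g q : G} (h : q ≠ 1) : g⁻¹ * q * g ≠ 1 := fun e => h (by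
  have : q = g * (g⁻¹ * q * g) * g⁻¹ := by group
  rw [this, e]; group)

theorem conj_mem_ee {V : Subgroup G} {g w p : G} (hg : g ∈ normalizer (V : Set G)) (hw : w ∈ ee V p) :
    g * w * g⁻¹ ∈ ee V (g * p * g⁻¹) := by
  refine ⟨conj_mem_ws g hw.1, fun q hq hq1 => ?_⟩
  have h1 := conj_mem_kq g (hw.2 _ ((mem_normalizer_iff''.mp hg q).mp hq) (conj_ne_one hq1))
  have e : g * (g⁻¹ * q * g) * g⁻¹ = q := by group
  rwa [e] at h1

theorem conj_mem_dd {V : Subgroup G} {g w p : G} (hg : g ∈ normalizer (V : Set G)) (hw : w ∈ dd V p) :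
    g * w * g⁻¹ ∈ dd V (g * p * g⁻¹) := by
  refine ⟨conj_mem_ws g hw.1, fun q hq hq1 b hb => ?_⟩
  have h1 : g⁻¹ * b * g ∈ ws V (g⁻¹ * q * g) := by
    have := conj_mem_ws g⁻¹ hb
    rwa [inv_inv] at this
  have h2 := hw.2 _ ((mem_normalizer_iff''.mp hg q).mp hq) (conj_ne_one hq1) _ h1
  calc g * w * g⁻¹ * b = g * (w * (g⁻¹ * b * g)) * g⁻¹ := by group
    _ = g * ((g⁻¹ * b * g) * w) * g⁻¹ := by rw [h2]
    _ = b * (g * w * g⁻¹) := by group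

theorem conj_mem_w1 {V : Subgroup G} {g w p : G} (hg : g ∈ normalizer (V : Set G)) (hw : w ∈ w1 V p) :
    g * w * g⁻¹ ∈ w1 V (g * p * g⁻¹) := by
  refine ⟨conj_mem_ws g hw.1, fun q hq hq1 b hb => ?_⟩
  have h1 : g⁻¹ * b * g ∈ ee V (g⁻¹ * q * g) := by
    have := conj_mem_ee (inv_mem hg) hb
    rwa [inv_inv] at this
  have h2 := hw.2 _ ((mem_normalizer_iff''.mp hg q).mp hq) (conj_ne_one hq1) _ h1
  calc g * w * g⁻¹ * b = g * (w * (g⁻¹ * b * g)) * g⁻¹ := by group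
    _ = g * ((g⁻¹ * b * g) * w) * g⁻¹ := by rw [h2]
    _ = b * (g * w * g⁻¹) := by group

theorem conj_mem_xl {V : Subgroup G} {g k : G} (hg : g ∈ normalizer (V : Set G)) (hk : k ∈ xl V) :
    g * k * g⁻¹ ∈ xl V := by
  have h1 : xl V ≤ cj g⁻¹ (xl V) := by
    refine xl_le fun p hp hp1 k hk => ?_
    rw [mem_cj, inv_inv]
    exact kq_le_xl ((mem_normalizer_iff.mp hg p).mp hp) (by
      intro e
      exact hp1 (conj_eq_one_iff.mp e)) (conj_mem_kq g hk)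
  have := h1 hk
  rwa [mem_cj, inv_inv] at this

theorem normalizer_le_normalizer_xl (V : Subgroup G) :
    normalizer (V : Set G) ≤ normalizer ((xl V : Subgroup G) : Set G) :=
  le_normalizer_of_forall fun _ hg _ hk => conj_mem_xl hg hk

namespace One

variable {T V : Subgroup G} {z : G} {p q r : G}

theorem mem_kq (h : One T V z) (hq : q ∈ V) {g : G} (hg : g * q = q * g)
    (hw : ∀ w ∈ ws V q, g * w * g⁻¹ = w ∨ g * w * g⁻¹ = q * w) : g ∈ kq V q := by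
  refine ⟨mem_centralizer_singleton_iff.mpr hg, fun w hw' => ?_, fun w hw' => ?_⟩
  · rcases hw w hw' with e | e
    · rw [e, mul_inv_cancel]; exact one_mem _
    · rw [e, mul_inv_cancel_right]; exact mem_zpowers _
  · rcases hw w hw' with e | e
    · have : g⁻¹ * w * g = w := by
        calc g⁻¹ * w * g = g⁻¹ * (g * w * g⁻¹) * g := by rw [e]
          _ = w := by group
      rw [this, mul_inv_cancel]; exact one_mem _
    · have h1 : g⁻¹ * q = q * g⁻¹ := inv_comm_of hg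
      have : g⁻¹ * w * g = q * w := by
        have h2 : w = q * (g⁻¹ * w * g) := by
          calc w = g⁻¹ * (g * w * g⁻¹) * g := by group
            _ = (g⁻¹ * q) * w * g := by rw [e]; group
            _ = q * (g⁻¹ * w * g) := by rw [h1]; group
        calc g⁻¹ * w * g = (q * q) * (g⁻¹ * w * g) := by rw [h.ln.sq q hq, one_mul]
          _ = q * (q * (g⁻¹ * w * g)) := by group
          _ = q * w := by rw [← h2]
      rw [this, mul_inv_cancel_right]; exact mem_zpowers _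

theorem ws_le_kq (h : One T V z) (hp : p ∈ V) (hp1 : p ≠ 1) : ws V p ≤ kq V p := by
  intro w hw
  refine h.mem_kq hp (h.comm hp hp1 w hw p (h.V_le hp hp1 hp)) fun w' hw' => Or.inl ?_
  exact conj_eq_of_comm (h.comm hp hp1 w hw w' hw')

theorem V_le_kq (h : One T V z) (hp : p ∈ V) (hp1 : p ≠ 1) : V ≤ kq V p :=
  (h.V_le hp hp1).trans (h.ws_le_kq hp hp1)

theorem ii_le_dd (h : One T V z) (hp : p ∈ V) (hp1 : p ≠ 1) : ii V ≤ dd V p := fun u hu =>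
  ⟨hu p hp hp1, fun q hq hq1 b hb => h.comm hq hq1 u (hu q hq hq1) b hb⟩

theorem dd_le_ee (h : One T V z) (p : G) : dd V p ≤ ee V p := fun _ hw =>
  ⟨hw.1, fun q hq hq1 => h.mem_kq hq (hw.2 q hq hq1 q (h.V_le hq hq1 hq)) fun w' hw' =>
    Or.inl (conj_eq_of_comm (hw.2 q hq hq1 w' hw'))⟩

theorem dd_le_w1 (_ : One T V z) (p : G) : dd V p ≤ w1 V p := fun _ hw =>
  ⟨hw.1, fun q hq hq1 b hb => hw.2 q hq hq1 b hb.1⟩

theorem V_le_dd (h : One T V z) (hp : p ∈ V) (hp1 : p ≠ 1) : V ≤ dd V p :=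
  h.V_le_ii.trans (h.ii_le_dd hp hp1)

theorem V_le_ee (h : One T V z) (hp : p ∈ V) (hp1 : p ≠ 1) : V ≤ ee V p :=
  (h.V_le_dd hp hp1).trans (h.dd_le_ee p)

theorem ii_le_ee (h : One T V z) (hp : p ∈ V) (hp1 : p ≠ 1) : ii V ≤ ee V p :=
  (h.ii_le_dd hp hp1).trans (h.dd_le_ee p)

/-- the third point -/
theorem third (h : One T V z) (hp : p ∈ V) (hp1 : p ≠ 1) (hq : q ∈ V) (hq1 : q ≠ 1) (hqp : q ≠ p)
    (hr : r ∈ V) (hr1 : r ≠ 1) : r = p ∨ r = q ∨ r = p * q := by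
  obtain ⟨g, -, -, hg⟩ := h.point hp hp1
  rcases hg.ln.four hp hq hp1 hq1 (Ne.symm hqp) hr with e | e
  · exact absurd e hr1
  · exact e

/-- a mover of `K_p` maps `q` to `p q` and fixes `W_p` modulo `p` -/
theorem exists_move (h : One T V z) (hp : p ∈ V) (hp1 : p ≠ 1) (hq : q ∈ V) (hq1 : q ≠ 1) (hqp : q ≠ p) :
    ∃ t ∈ kq V p, t ∉ centralizer (V : Set G) ∧ t * q * t⁻¹ = p * q := by
  obtain ⟨t, ht, ht1⟩ := h.exists_mover hp hp1
  exact ⟨t, ht, ht1, h.move hp hp1 hq hq1 hqp ht ht1⟩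

/-- `E_p = W_p ∩ K_q` for one `q ≠ p` -/
theorem mem_ee (h : One T V z) (hp : p ∈ V) (hp1 : p ≠ 1) (hq : q ∈ V) (hq1 : q ≠ 1) (hqp : q ≠ p)
    {w : G} (hw : w ∈ ws V p) (hk : w ∈ kq V q) : w ∈ ee V p := by
  refine ⟨hw, fun r hr hr1 => ?_⟩
  rcases h.third hp hp1 hq hq1 hqp hr hr1 with e | e | e
  · rw [e]; exact h.ws_le_kq hp hp1 hw
  · rw [e]; exact hk
  · obtain ⟨t, ht, -, ht2⟩ := h.exists_move hp hp1 hq hq1 hqp
    have h1 := conj_mem_kq t hk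
    rw [ht2, ← e] at h1
    rcases h.kq_cases hp ht hw with e2 | e2
    · rwa [e2] at h1
    · rw [e2] at h1
      have h2 := mul_mem (h.V_le_kq hr hr1 hp) h1
      rwa [← mul_assoc, h.ln.sq p hp, one_mul] at h2

/-- `D_p = C_{W_p}(W_q)` for one `q ≠ p` -/
theorem mem_dd (h : One T V z) (hp : p ∈ V) (hp1 : p ≠ 1) (hq : q ∈ V) (hq1 : q ≠ 1) (hqp : q ≠ p)
    {w : G} (hw : w ∈ ws V p) (hc : ∀ b ∈ ws V q, w * b = b * w) : w ∈ dd V p := by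
  refine ⟨hw, fun r hr hr1 b hb => ?_⟩
  rcases h.third hp hp1 hq hq1 hqp hr hr1 with e | e | e
  · rw [e] at hb; exact h.comm hp hp1 w hw b hb
  · rw [e] at hb; exact hc b hb
  · obtain ⟨t, ht, -, ht2⟩ := h.exists_move hp hp1 hq hq1 hqp
    have h1 : t⁻¹ * b * t ∈ ws V q := by
      have h2 := conj_mem_ws t⁻¹ hb
      rw [inv_inv] at h2
      have e3 : t⁻¹ * r * t = q := by rw [e, ← ht2]; group
      rwa [e3] at h2
    have h3 : t * w * t⁻¹ * b = b * (t * w * t⁻¹) := by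
      calc t * w * t⁻¹ * b = t * (w * (t⁻¹ * b * t)) * t⁻¹ := by group
        _ = t * ((t⁻¹ * b * t) * w) * t⁻¹ := by rw [hc _ h1]
        _ = b * (t * w * t⁻¹) := by group
    rcases h.kq_cases hp ht hw with e2 | e2
    · rwa [e2] at h3
    · rw [e2] at h3
      have hpb : p * b = b * p := h.V_comm hp (h.ws_le_centralizer_V hr hr1 hb)
      calc w * b = p⁻¹ * (p * w * b) := by group
        _ = p⁻¹ * (b * (p * w)) := by rw [h3]
        _ = p⁻¹ * (b * p) * w := by group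
        _ = p⁻¹ * (p * b) * w := by rw [hpb]
        _ = b * w := by group

/-- `[W_p, W_q] ≤ I` -/
theorem comm_ii_mem (h : One T V z) (hp : p ∈ V) (hp1 : p ≠ 1) (hq : q ∈ V) (hq1 : q ≠ 1) {a b : G}
    (ha : a ∈ ws V p) (hb : b ∈ ws V q) : ⁅a, b⁆ ∈ ii V := by
  have h1 : ⁅a, b⁆ ∈ ws V p := by
    have := conj_mem_of_normalizer (h.cent_norm hp) (h.ws_le_centralizer_V hq hq1 hb) (inv_mem ha)
    have e : ⁅a, b⁆ = a * (b * a⁻¹ * b⁻¹) := by rw [commutatorElement_def]; group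
    rw [e]; exact mul_mem ha this
  have h2 : ⁅a, b⁆ ∈ ws V q := by
    have := conj_mem_of_normalizer (h.cent_norm hq) (h.ws_le_centralizer_V hp hp1 ha) hb
    exact mul_mem this (inv_mem hb)
  by_cases hqp : q = p
  · subst hqp
    have : ⁅a, b⁆ = 1 := commutatorElement_eq_one_iff_mul_comm.mpr (h.comm hq hq1 a ha b hb)
    rw [this]; exact one_mem _
  · exact h.mem_ii hp hp1 hq hq1 hqp h1 h2

theorem comm_mul_left (h : One T V z) (hp : p ∈ V) (hp1 : p ≠ 1) (hq : q ∈ V) (hq1 : q ≠ 1) {a a' b : G}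
    (ha : a ∈ ws V p) (ha' : a' ∈ ws V p) (hb : b ∈ ws V q) : ⁅a * a', b⁆ = ⁅a, b⁆ * ⁅a', b⁆ := by
  have h1 := ii_le hp hp1 (h.comm_ii_mem hp hp1 hq hq1 ha' hb)
  have h2 := ii_le hp hp1 (h.comm_ii_mem hp hp1 hq hq1 ha hb)
  calc ⁅a * a', b⁆ = (a * ⁅a', b⁆) * a⁻¹ * ⁅a, b⁆ := by simp only [commutatorElement_def]; group
    _ = (⁅a', b⁆ * a) * a⁻¹ * ⁅a, b⁆ := by rw [h.comm hp hp1 a ha _ h1]
    _ = ⁅a', b⁆ * ⁅a, b⁆ := by group
    _ = ⁅a, b⁆ * ⁅a', b⁆ := h.comm hp hp1 _ h1 _ h2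

theorem comm_mul_right (h : One T V z) (hp : p ∈ V) (hp1 : p ≠ 1) (hq : q ∈ V) (hq1 : q ≠ 1) {a b b' : G}
    (ha : a ∈ ws V p) (hb : b ∈ ws V q) (hb' : b' ∈ ws V q) : ⁅a, b * b'⁆ = ⁅a, b⁆ * ⁅a, b'⁆ := by
  have h1 := ii_le hq hq1 (h.comm_ii_mem hp hp1 hq hq1 ha hb')
  calc ⁅a, b * b'⁆ = ⁅a, b⁆ * (b * ⁅a, b'⁆) * b⁻¹ := by simp only [commutatorElement_def]; group
    _ = ⁅a, b⁆ * (⁅a, b'⁆ * b) * b⁻¹ := by rw [h.comm hq hq1 b hb _ h1]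
    _ = ⁅a, b⁆ * ⁅a, b'⁆ := by group

theorem comm_sq (h : One T V z) (hp : p ∈ V) (hp1 : p ≠ 1) (hq : q ∈ V) (hq1 : q ≠ 1) {a b : G}
    (ha : a ∈ ws V p) (hb : b ∈ ws V q) : ⁅a, b⁆ * ⁅a, b⁆ = 1 :=
  h.sq hp hp1 _ (ii_le hp hp1 (h.comm_ii_mem hp hp1 hq hq1 ha hb))

theorem comm_swap (h : One T V z) (hp : p ∈ V) (hp1 : p ≠ 1) (hq : q ∈ V) (hq1 : q ≠ 1) {a b : G}
    (ha : a ∈ ws V p) (hb : b ∈ ws V q) : ⁅b, a⁆ = ⁅a, b⁆ := by
  rw [← commutatorElement_inv, inv_eq_self (h.comm_sq hp hp1 hq hq1 ha hb)]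

/-- `[e, w] ∈ ⟨q⟩` for `e ∈ E_p`, `w ∈ W_q` -/
theorem ee_cases (h : One T V z) (hq : q ∈ V) (hq1 : q ≠ 1) {e w : G} (he : e ∈ ee V p) (hw : w ∈ ws V q) :
    ⁅e, w⁆ = 1 ∨ ⁅e, w⁆ = q := by
  rcases h.kq_cases hq (he.2 q hq hq1) hw with e1 | e1
  · left; rw [commutatorElement_def, e1, mul_inv_cancel]
  · right; rw [commutatorElement_def, e1, mul_inv_cancel_right]

/-- `[E_p, E_q] = 1` -/
theorem ee_comm (h : One T V z) (hp : p ∈ V) (hp1 : p ≠ 1) (hq : q ∈ V) (hq1 : q ≠ 1) {e f : G}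
    (he : e ∈ ee V p) (hf : f ∈ ee V q) : e * f = f * e := by
  by_cases hqp : q = p
  · subst hqp; exact h.comm hq hq1 e he.1 f hf.1
  rw [← commutatorElement_eq_one_iff_mul_comm]
  rcases h.ee_cases hq hq1 he hf.1 with e1 | e1
  · exact e1
  · rcases h.ee_cases hp hp1 hf he.1 with e2 | e2
    · rw [← commutatorElement_inv, e2, inv_one]
    · rw [h.comm_swap hp hp1 hq hq1 he.1 hf.1, e1] at e2
      exact absurd e2 hqp

theorem ee_le_w1 (h : One T V z) (hp : p ∈ V) (hp1 : p ≠ 1) : ee V p ≤ w1 V p := fun _ hw =>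
  ⟨hw.1, fun _ hq hq1 _ hb => h.ee_comm hp hp1 hq hq1 hw hb⟩

/-- `w1 V p = C_{W_p}(E_q)` for one `q ≠ p` -/
theorem mem_w1 (h : One T V z) (hp : p ∈ V) (hp1 : p ≠ 1) (hq : q ∈ V) (hq1 : q ≠ 1) (hqp : q ≠ p)
    {w : G} (hw : w ∈ ws V p) (hc : ∀ b ∈ ee V q, w * b = b * w) : w ∈ w1 V p := by
  refine ⟨hw, fun r hr hr1 b hb => ?_⟩
  rcases h.third hp hp1 hq hq1 hqp hr hr1 with e | e | e
  · rw [e] at hb; exact h.comm hp hp1 w hw b hb.1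
  · rw [e] at hb; exact hc b hb
  · obtain ⟨t, ht, -, ht2⟩ := h.exists_move hp hp1 hq hq1 hqp
    have h1 : t⁻¹ * b * t ∈ ee V q := by
      have h2 := conj_mem_ee (inv_mem (h.kq_le_normalizer hp hp1 ht)) hb
      rw [inv_inv] at h2
      have e3 : t⁻¹ * r * t = q := by rw [e, ← ht2]; group
      rwa [e3] at h2
    have h3 : t * w * t⁻¹ * b = b * (t * w * t⁻¹) := by
      calc t * w * t⁻¹ * b = t * (w * (t⁻¹ * b * t)) * t⁻¹ := by group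
        _ = t * ((t⁻¹ * b * t) * w) * t⁻¹ := by rw [hc _ h1]
        _ = b * (t * w * t⁻¹) := by group
    rcases h.kq_cases hp ht hw with e2 | e2
    · rwa [e2] at h3
    · rw [e2] at h3
      have hpb : p * b = b * p := h.V_comm hp (h.ws_le_centralizer_V hr hr1 hb.1)
      calc w * b = p⁻¹ * (p * w * b) := by group
        _ = p⁻¹ * (b * (p * w)) := by rw [h3]
        _ = p⁻¹ * (b * p) * w := by group
        _ = p⁻¹ * (p * b) * w := by rw [hpb]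
        _ = b * w := by group

/-! ### congruence modulo `E_p` -/

theorem md_symm {a b : G} (h1 : a * b⁻¹ ∈ ee V p) : b * a⁻¹ ∈ ee V p := by
  have := inv_mem h1
  rwa [mul_inv_rev, inv_inv] at this

theorem md_trans {a b c : G} (h1 : a * b⁻¹ ∈ ee V p) (h2 : b * c⁻¹ ∈ ee V p) : a * c⁻¹ ∈ ee V p := by
  have := mul_mem h1 h2
  rwa [mul_assoc, inv_mul_cancel_left] at this

theorem md_conj {a b g : G} (hg : g ∈ normalizer (V : Set G)) (h1 : a * b⁻¹ ∈ ee V p) :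
    (g * a * g⁻¹) * (g * b * g⁻¹)⁻¹ ∈ ee V (g * p * g⁻¹) := by
  have := conj_mem_ee hg h1
  have e : g * (a * b⁻¹) * g⁻¹ = (g * a * g⁻¹) * (g * b * g⁻¹)⁻¹ := by group
  rwa [e] at this

theorem md_mul (h : One T V z) (hp : p ∈ V) (hp1 : p ≠ 1) {a b a' b' : G} (ha : a ∈ ws V p)
    (h1 : a * b⁻¹ ∈ ee V p) (h2 : a' * b'⁻¹ ∈ ee V p) : (a * a') * (b * b')⁻¹ ∈ ee V p := by
  have h3 := h.comm hp hp1 a ha _ (ee_le_ws V p h2)
  have e : (a * a') * (b * b')⁻¹ = (a' * b'⁻¹) * (a * b⁻¹) := by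
    calc (a * a') * (b * b')⁻¹ = (a * (a' * b'⁻¹)) * b⁻¹ := by group
      _ = ((a' * b'⁻¹) * a) * b⁻¹ := by rw [h3]
      _ = (a' * b'⁻¹) * (a * b⁻¹) := by group
  rw [e]
  exact mul_mem h2 h1

/-! ### (III) -/

/-- `[K_p ∩ C_G(V), W_q] ≤ E_q` -/
theorem kq_ee (h : One T V z) (hp : p ∈ V) (hp1 : p ≠ 1) (hq : q ∈ V) (hq1 : q ≠ 1) {k w : G}
    (hk : k ∈ kq V p) (hkV : k ∈ centralizer (V : Set G)) (hw : w ∈ ws V q) :
    k * w * k⁻¹ * w⁻¹ ∈ ee V q := by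
  by_cases hqp : q = p
  · subst hqp
    rcases h.kq_cases hq hk hw with e | e
    · rw [e, mul_inv_cancel]; exact one_mem _
    · rw [e, mul_inv_cancel_right]; exact h.V_le_ee hq hq1 hq
  · refine h.mem_ee hq hq1 hp hp1 (Ne.symm hqp) ?_ ?_
    · exact mul_mem (conj_mem_of_normalizer (h.cent_norm hq) hkV hw) (inv_mem hw)
    · have h1 : w ∈ centralizer ({p} : Set G) :=
        h.cent_le_centralizer hp (h.ws_le_centralizer_V hq hq1 hw)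
      have h2 := conj_mem_of_normalizer (centralizer_le_normalizer_kq V p) h1 (inv_mem hk)
      have e : k * w * k⁻¹ * w⁻¹ = k * (w * k⁻¹ * w⁻¹) := by group
      rw [e]
      exact mul_mem hk h2

theorem xl_le_normalizer (h : One T V z) : xl V ≤ normalizer (V : Set G) :=
  xl_le fun _ hp hp1 => h.kq_le_normalizer hp hp1

/-- `X_l` is trivial on `I / V` -/
theorem xl_ii (h : One T V z) {g u : G} (hg : g ∈ xl V) (hu : u ∈ ii V) : g * u * g⁻¹ * u⁻¹ ∈ V := by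
  have hn := normalizer_le_normalizer_ii V
  refine closure_induction (p := fun g _ => ∀ u ∈ ii V, g * u * g⁻¹ * u⁻¹ ∈ V) ?_ ?_ ?_ ?_ hg u hu
  · rintro k ⟨p, hp, hp1, hk⟩ u hu
    rcases h.kq_cases hp hk (hu p hp hp1) with e | e
    · rw [e, mul_inv_cancel]; exact one_mem _
    · rw [e, mul_inv_cancel_right]; exact hp
  · intro u _
    simp
  · intro a b ha hb iha ihb u hu
    have hb' := hn (h.xl_le_normalizer hb)
    have e : a * b * u * (a * b)⁻¹ * u⁻¹ =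
        (a * (b * u * b⁻¹) * a⁻¹ * (b * u * b⁻¹)⁻¹) * (b * u * b⁻¹ * u⁻¹) := by group
    rw [e]
    exact mul_mem (iha _ ((mem_normalizer_iff.mp hb' u).mp hu)) (ihb u hu)
  · intro a ha iha u hu
    have ha' := hn (h.xl_le_normalizer ha)
    have h1 := iha _ ((mem_normalizer_iff''.mp ha' u).mp hu)
    have e : a⁻¹ * u * a⁻¹⁻¹ * u⁻¹ = (a * (a⁻¹ * u * a) * a⁻¹ * (a⁻¹ * u * a)⁻¹)⁻¹ := by group
    rw [e]
    exact inv_mem h1

/-- the elements of `⋃ K_r` which map `p` to `q` -/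
def tt (V : Subgroup G) (p q : G) : Set G := {t | (∃ r ∈ V, r ≠ 1 ∧ t ∈ kq V r) ∧ t * p * t⁻¹ = q}

theorem exists_tt (h : One T V z) (hp : p ∈ V) (hp1 : p ≠ 1) (hq : q ∈ V) (hq1 : q ≠ 1) :
    ∃ t, t ∈ tt V p q := by
  by_cases hqp : q = p
  · exact ⟨1, ⟨p, hp, hp1, one_mem _⟩, by rw [hqp]; simp⟩
  · have hr : p * q ∈ V := mul_mem hp hq
    have hr1 : p * q ≠ 1 := h.mul_ne_one hq (Ne.symm hqp)
    have hpr : p ≠ p * q := fun e => hq1 (by simpa using e.symm)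
    obtain ⟨t, ht, -, ht2⟩ := h.exists_move hr hr1 hp hp1 hpr
    refine ⟨t, ⟨_, hr, hr1, ht⟩, ?_⟩
    rw [ht2, h.ln.comm hp hq, mul_assoc, h.ln.sq p hp, mul_one]

/-- elements of `tt V p p` are trivial on `W_p / E_p` -/
theorem tt_self (h : One T V z) (hp : p ∈ V) (hp1 : p ≠ 1) {t w : G} (ht : t ∈ tt V p p) (hw : w ∈ ws V p) :
    t * w * t⁻¹ * w⁻¹ ∈ ee V p := by
  obtain ⟨⟨r, hr, hr1, ht1⟩, ht2⟩ := ht
  by_cases hrp : r = p
  · subst hrp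
    rcases h.kq_cases hr ht1 hw with e | e
    · rw [e, mul_inv_cancel]; exact one_mem _
    · rw [e, mul_inv_cancel_right]; exact h.V_le_ee hr hr1 hr
  · refine h.kq_ee hr hr1 hp hp1 ht1 ?_ hw
    exact h.mem_centralizer_of hp hp1 hr hr1 hrp (comm_of_conj_eq ht2) (h.kq_p ht1)

/-- two elements of `tt V p q` induce the same map `W_p / E_p → W_q / E_q` -/
theorem tt_eq (h : One T V z) (hp : p ∈ V) (hp1 : p ≠ 1) (hq : q ∈ V) (hq1 : q ≠ 1) {t s w : G}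
    (ht : t ∈ tt V p q) (hs : s ∈ tt V p q) (hw : w ∈ ws V p) :
    (t * w * t⁻¹) * (s * w * s⁻¹)⁻¹ ∈ ee V q := by
  by_cases hqp : q = p
  · subst hqp
    exact md_trans (b := w) (h.tt_self hq hq1 ht hw) (md_symm (h.tt_self hq hq1 hs hw))
  · -- both lie in `K_{pq}`
    have key : ∀ t ∈ tt V p q, t ∈ kq V (p * q) := by
      rintro t ⟨⟨r, hr, hr1, ht1⟩, ht2⟩
      rcases h.third hp hp1 hq hq1 hqp hr hr1 with e | e | e
      · exfalso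
        rw [e] at ht1
        exact hqp (by rw [← ht2]; exact conj_eq_of_comm (h.kq_p ht1))
      · exfalso
        rw [e] at ht1
        apply hqp
        have h1 := conj_eq_of_comm (h.kq_p ht1)
        have h2 : t * q * t⁻¹ = t * p * t⁻¹ := by rw [h1, ht2]
        simpa using h2
      · rw [e] at ht1; exact ht1
    have hr : p * q ∈ V := mul_mem hp hq
    have hr1 : p * q ≠ 1 := h.mul_ne_one hq (Ne.symm hqp)
    have hpr : p ≠ p * q := fun e => hq1 (by simpa using e.symm)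
    have hts : s⁻¹ * t ∈ tt V p p := by
      refine ⟨⟨p * q, hr, hr1, mul_mem (inv_mem (key s hs)) (key t ht)⟩, ?_⟩
      calc s⁻¹ * t * p * (s⁻¹ * t)⁻¹ = s⁻¹ * (t * p * t⁻¹) * s := by group
        _ = s⁻¹ * (s * p * s⁻¹) * s := by rw [ht.2, hs.2]
        _ = p := by group
    have h1 := h.tt_self hp hp1 hts hw
    have h2 := conj_mem_ee (h.kq_le_normalizer hr hr1 (key s hs)) h1
    rw [hs.2] at h2
    have e : s * (s⁻¹ * t * w * (s⁻¹ * t)⁻¹ * w⁻¹) * s⁻¹ = (t * w * t⁻¹) * (s * w * s⁻¹)⁻¹ := by group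
    rwa [e] at h2

theorem tt_norm (h : One T V z) {t : G} (ht : t ∈ tt V p q) : t ∈ normalizer (V : Set G) := by
  obtain ⟨⟨r, hr, hr1, ht1⟩, -⟩ := ht
  exact h.kq_le_normalizer hr hr1 ht1

theorem tt_kq (h : One T V z) (hp : p ∈ V) (hp1 : p ≠ 1) (hq : q ∈ V) (hq1 : q ≠ 1) (hqp : q ≠ p) {t : G}
    (ht : t ∈ tt V p q) : t ∈ kq V (p * q) := by
  obtain ⟨⟨r, hr, hr1, ht1⟩, ht2⟩ := ht
  rcases h.third hp hp1 hq hq1 hqp hr hr1 with e | e | e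
  · exfalso
    rw [e] at ht1
    exact hqp (by rw [← ht2]; exact conj_eq_of_comm (h.kq_p ht1))
  · exfalso
    rw [e] at ht1
    apply hqp
    have h1 := conj_eq_of_comm (h.kq_p ht1)
    have h2 : t * q * t⁻¹ = t * p * t⁻¹ := by rw [h1, ht2]
    simpa using h2
  · rw [e] at ht1; exact ht1

/-- the cocycle relation -/
theorem tt_mul (h : One T V z) (hp : p ∈ V) (hp1 : p ≠ 1) (hq : q ∈ V) (hq1 : q ≠ 1) (hr : r ∈ V) (hr1 : r ≠ 1)
    {t t' t'' w : G} (ht : t ∈ tt V p q) (ht' : t' ∈ tt V q r) (ht'' : t'' ∈ tt V p r) (hw : w ∈ ws V p) :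
    (t' * (t * w * t⁻¹) * t'⁻¹) * (t'' * w * t''⁻¹)⁻¹ ∈ ee V r := by
  have htn := h.tt_norm ht
  have htn' := h.tt_norm ht'
  have hw' : t * w * t⁻¹ ∈ ws V q := by
    have := conj_mem_ws t hw
    rwa [ht.2] at this
  by_cases hpq : q = p
  · subst hpq
    have h1 := md_conj htn' (h.tt_self hq hq1 ht hw)
    rw [ht'.2] at h1
    exact md_trans h1 (h.tt_eq hq hq1 hr hr1 ht' ht'' hw)
  by_cases hqr : r = q
  · subst hqr
    exact md_trans (h.tt_self hr hr1 ht' hw') (h.tt_eq hp hp1 hr hr1 ht ht'' hw)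
  by_cases hpr : r = p
  · subst hpr
    have h1 := h.tt_kq hr hr1 hq hq1 hpq ht
    have h2 := h.tt_kq hq hq1 hr hr1 hqr ht'
    rw [h.ln.comm hq hr] at h2
    have h3 : t' * t ∈ tt V r r := by
      refine ⟨⟨r * q, mul_mem hr hq, h.mul_ne_one hq (Ne.symm hpq), mul_mem h2 h1⟩, ?_⟩
      calc t' * t * r * (t' * t)⁻¹ = t' * (t * r * t⁻¹) * t'⁻¹ := by group
        _ = r := by rw [ht.2, ht'.2]
    have h4 := h.tt_eq hr hr1 hr hr1 h3 ht'' hw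
    have e : t' * t * w * (t' * t)⁻¹ = t' * (t * w * t⁻¹) * t'⁻¹ := by group
    rwa [e] at h4
  · -- three different points
    have er : r = p * q := by
      rcases h.third hp hp1 hq hq1 hpq hr hr1 with e | e | e
      · exact absurd e hpr
      · exact absurd e hqr
      · exact e
    have epq : q * r = p := by
      rw [er, ← mul_assoc, h.ln.comm hq hp, mul_assoc, h.ln.sq q hq, mul_one]
    have h1 := h.tt_kq hp hp1 hq hq1 hpq ht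
    rw [← er] at h1
    have h2 := h.tt_kq hq hq1 hr hr1 hqr ht'
    rw [epq] at h2
    -- `t'` fixes `p` and maps `r` to `q`
    have h3 : t' * p * t'⁻¹ = p := conj_eq_of_comm (h.kq_p h2)
    have h4 : t' * r * t'⁻¹ = q := by
      have : t' * r * t'⁻¹ = (t' * p * t'⁻¹) * (t' * q * t'⁻¹) := by rw [er]; group
      rw [this, h3, ht'.2, er, ← mul_assoc, h.ln.sq p hp, one_mul]
    have h5 := conj_mem_kq t' h1
    rw [h4] at h5
    have h6 : t' * t * t'⁻¹ ∈ tt V p r := by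
      refine ⟨⟨q, hq, hq1, h5⟩, ?_⟩
      have h7 : t'⁻¹ * p * t' = p := by
        calc t'⁻¹ * p * t' = t'⁻¹ * (t' * p * t'⁻¹) * t' := by rw [h3]
          _ = p := by group
      calc t' * t * t'⁻¹ * p * (t' * t * t'⁻¹)⁻¹ = t' * (t * (t'⁻¹ * p * t') * t⁻¹) * t'⁻¹ := by group
        _ = r := by rw [h7, ht.2, ht'.2]
    have h8 : t' ∈ tt V p p := ⟨⟨p, hp, hp1, h2⟩, h3⟩
    have h9 := md_conj (h.tt_norm h6) (h.tt_self hp hp1 h8 hw)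
    rw [h6.2] at h9
    have h10 := md_trans h9 (h.tt_eq hp hp1 hr hr1 h6 ht'' hw)
    have e : t' * t * t'⁻¹ * (t' * w * t'⁻¹) * (t' * t * t'⁻¹)⁻¹ = t' * (t * w * t⁻¹) * t'⁻¹ := by group
    rwa [e] at h10

/-- an element of `X_l` induces on `W_p / E_p` the same map as an element of `tt`. -/
theorem xl_tt (h : One T V z) {g : G} (hg : g ∈ xl V) : ∀ p ∈ V, p ≠ 1 → ∀ t ∈ tt V p (g * p * g⁻¹),
    ∀ w ∈ ws V p, (g * w * g⁻¹) * (t * w * t⁻¹)⁻¹ ∈ ee V (g * p * g⁻¹) := by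
  have hN := h.xl_le_normalizer
  have hc : ∀ {g p : G}, g ∈ xl V → p ∈ V → p ≠ 1 → g * p * g⁻¹ ∈ V ∧ g * p * g⁻¹ ≠ 1 := by
    intro g p hg hp hp1
    exact ⟨(mem_normalizer_iff.mp (hN hg) p).mp hp, fun e => hp1 (conj_eq_one_iff.mp e)⟩
  refine closure_induction (p := fun g _ => ∀ p ∈ V, p ≠ 1 → ∀ t ∈ tt V p (g * p * g⁻¹),
    ∀ w ∈ ws V p, (g * w * g⁻¹) * (t * w * t⁻¹)⁻¹ ∈ ee V (g * p * g⁻¹)) ?_ ?_ ?_ ?_ hg
  · rintro k ⟨s, hs, hs1, hk⟩ p hp hp1 t ht w hw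
    obtain ⟨h1, h2⟩ := hc (kq_le_xl hs hs1 hk) hp hp1
    exact h.tt_eq hp hp1 h1 h2 ⟨⟨s, hs, hs1, hk⟩, rfl⟩ ht hw
  · intro p hp hp1 t ht w hw
    have e : (1 : G) * p * 1⁻¹ = p := by group
    rw [e] at ht ⊢
    have h1 : (1 : G) ∈ tt V p p := ⟨⟨p, hp, hp1, one_mem _⟩, e⟩
    exact h.tt_eq hp hp1 hp hp1 h1 ht hw
  · intro a b ha hb iha ihb p hp hp1 t ht w hw
    obtain ⟨hq, hq1⟩ := hc hb hp hp1
    obtain ⟨hr, hr1⟩ := hc ha hq hq1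
    have e : a * b * p * (a * b)⁻¹ = a * (b * p * b⁻¹) * a⁻¹ := by group
    rw [e] at ht ⊢
    obtain ⟨s, hs⟩ := h.exists_tt hp hp1 hq hq1
    obtain ⟨s', hs'⟩ := h.exists_tt hq hq1 hr hr1
    have hw' : s * w * s⁻¹ ∈ ws V (b * p * b⁻¹) := by
      have := conj_mem_ws s hw
      rwa [hs.2] at this
    have h1 := md_conj (hN ha) (ihb p hp hp1 s hs w hw)
    have h2 := iha _ hq hq1 s' hs' _ hw'
    have h3 := h.tt_mul hp hp1 hq hq1 hr hr1 hs hs' ht hw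
    have e2 : a * b * w * (a * b)⁻¹ = a * (b * w * b⁻¹) * a⁻¹ := by group
    rw [e2]
    exact md_trans h1 (md_trans h2 h3)
  · intro a ha iha p hp hp1 t ht w hw
    obtain ⟨hq, hq1⟩ := hc (inv_mem ha) hp hp1
    set q := a⁻¹ * p * a⁻¹⁻¹ with hqd
    have e : a * q * a⁻¹ = p := by rw [hqd]; group
    have hs : t⁻¹ ∈ tt V q (a * q * a⁻¹) := by
      rw [e]
      obtain ⟨⟨r, hr, hr1, ht1⟩, ht2⟩ := ht
      refine ⟨⟨r, hr, hr1, inv_mem ht1⟩, ?_⟩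
      rw [← ht2]; group
    have hw' : a⁻¹ * w * a⁻¹⁻¹ ∈ ws V q := conj_mem_ws _ hw
    have h1 := iha q hq hq1 _ hs _ hw'
    rw [e] at h1
    have h2 := md_symm (md_conj (h.tt_norm ht) h1)
    rw [ht.2] at h2
    have e3 : t * (t⁻¹ * (a⁻¹ * w * a⁻¹⁻¹) * t⁻¹⁻¹) * t⁻¹ = a⁻¹ * w * a⁻¹⁻¹ := by group
    have e4 : t * (a * (a⁻¹ * w * a⁻¹⁻¹) * a⁻¹) * t⁻¹ = t * w * t⁻¹ := by group
    rwa [e3, e4] at h2

/-- **(III)** : two elements of `X_l` which map `p` to the same point induce the same map on `W_p / E_p`. -/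
theorem xl_md (h : One T V z) (hp : p ∈ V) (hp1 : p ≠ 1) {g g' w : G} (hg : g ∈ xl V) (hg' : g' ∈ xl V)
    (hgp : g * p * g⁻¹ = q) (hgp' : g' * p * g'⁻¹ = q) (hw : w ∈ ws V p) :
    (g * w * g⁻¹) * (g' * w * g'⁻¹)⁻¹ ∈ ee V q := by
  have hq : q ∈ V := by
    rw [← hgp]; exact (mem_normalizer_iff.mp (h.xl_le_normalizer hg) p).mp hp
  have hq1 : q ≠ 1 := by
    rw [← hgp]; exact fun e => hp1 (conj_eq_one_iff.mp e)
  obtain ⟨t, ht⟩ := h.exists_tt hp hp1 hq hq1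
  have h1 := h.xl_tt hg p hp hp1 t (by rw [hgp]; exact ht) w hw
  have h2 := h.xl_tt hg' p hp hp1 t (by rw [hgp']; exact ht) w hw
  rw [hgp] at h1
  rw [hgp'] at h2
  exact md_trans h1 (md_symm h2)

/-- **(III)** : the stabiliser of `p` in `X_l` is trivial on `W_p / E_p`. -/
theorem xl_fix (h : One T V z) (hp : p ∈ V) (hp1 : p ≠ 1) {g w : G} (hg : g ∈ xl V)
    (hgp : g * p * g⁻¹ = p) (hw : w ∈ ws V p) : g * w * g⁻¹ * w⁻¹ ∈ ee V p := by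
  have h1 := h.xl_md hp hp1 hg (one_mem _) hgp (by simp) hw
  have e : (g * w * g⁻¹) * (1 * w * 1⁻¹)⁻¹ = g * w * g⁻¹ * w⁻¹ := by group
  rwa [e] at h1

/-- `X_l` is 2-transitive on the points -/
theorem xl_trans₂ (h : One T V z) {p' q' : G} (hp : p ∈ V) (hp1 : p ≠ 1) (hq : q ∈ V) (hq1 : q ≠ 1)
    (hqp : q ≠ p) (hp' : p' ∈ V) (hp1' : p' ≠ 1) (hq' : q' ∈ V) (hq1' : q' ≠ 1) (hqp' : q' ≠ p') :
    ∃ g ∈ xl V, g * p * g⁻¹ = p' ∧ g * q * g⁻¹ = q' := by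
  obtain ⟨t, ⟨r, hr, hr1, ht⟩, ht2⟩ := h.exists_tt hp hp1 hp' hp1'
  have htx := kq_le_xl hr hr1 ht
  have htn := h.xl_le_normalizer htx
  set s := t * q * t⁻¹ with hs
  have hsV : s ∈ V := (mem_normalizer_iff.mp htn q).mp hq
  have hs1 : s ≠ 1 := fun e => hq1 (conj_eq_one_iff.mp e)
  have hsp : s ≠ p' := by
    intro e
    apply hqp
    rw [hs, ← ht2] at e
    simpa using e
  rcases h.third hp' hp1' hq' hq1' hqp' hsV hs1 with e | e | e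
  · exact absurd e hsp
  · exact ⟨t, htx, ht2, by rw [← hs, e]⟩
  · obtain ⟨m, hm, -, hm2⟩ := h.exists_move hp' hp1' hsV hs1 hsp
    refine ⟨m * t, mul_mem (kq_le_xl hp' hp1' hm) htx, ?_, ?_⟩
    · calc m * t * p * (m * t)⁻¹ = m * (t * p * t⁻¹) * m⁻¹ := by group
        _ = p' := by rw [ht2]; exact conj_eq_of_comm (h.kq_p hm)
    · calc m * t * q * (m * t)⁻¹ = m * (t * q * t⁻¹) * m⁻¹ := by group
        _ = p' * s := by rw [← hs, hm2]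
        _ = q' := by rw [e, ← mul_assoc, h.ln.sq p' hp', one_mul]

theorem xl_trans (h : One T V z) (hp : p ∈ V) (hp1 : p ≠ 1) (hq : q ∈ V) (hq1 : q ≠ 1) :
    ∃ g ∈ xl V, g * p * g⁻¹ = q := by
  obtain ⟨t, ⟨r, hr, hr1, ht⟩, ht2⟩ := h.exists_tt hp hp1 hq hq1
  exact ⟨t, kq_le_xl hr hr1 ht, ht2⟩

/-- **(III)** : the identification is `C_G(V)`-equivariant. -/
theorem xl_cent (h : One T V z) (hp : p ∈ V) (hp1 : p ≠ 1) {g c w : G} (hg : g ∈ xl V)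
    (hgp : g * p * g⁻¹ = q) (hc : c ∈ centralizer (V : Set G)) (hw : w ∈ ws V p) :
    (g * (c * w * c⁻¹) * g⁻¹) * (c * (g * w * g⁻¹) * c⁻¹)⁻¹ ∈ ee V q := by
  have hcn := centralizer_le_normalizer _ hc
  have hq : q ∈ V := by
    rw [← hgp]; exact (mem_normalizer_iff.mp (h.xl_le_normalizer hg) p).mp hp
  have hg' := conj_mem_xl hcn hg
  have hcp : c * p * c⁻¹ = p := conj_eq_of_comm (h.V_comm hp hc).symm
  have hcp' : c⁻¹ * p * c = p := by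
    calc c⁻¹ * p * c = c⁻¹ * (c * p * c⁻¹) * c := by rw [hcp]
      _ = p := by group
  have hcq : c * q * c⁻¹ = q := conj_eq_of_comm (h.V_comm hq hc).symm
  have hw' : c * w * c⁻¹ ∈ ws V p := conj_mem_of_normalizer (h.cent_norm hp) hc hw
  have h1 : (c * g * c⁻¹) * p * (c * g * c⁻¹)⁻¹ = q := by
    calc (c * g * c⁻¹) * p * (c * g * c⁻¹)⁻¹ = c * (g * (c⁻¹ * p * c) * g⁻¹) * c⁻¹ := by group
      _ = q := by rw [hcp', hgp, hcq]
  have h2 := h.xl_md hp hp1 hg hg' hgp h1 hw'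
  have e : (c * g * c⁻¹) * (c * w * c⁻¹) * (c * g * c⁻¹)⁻¹ = c * (g * w * g⁻¹) * c⁻¹ := by group
  rwa [e] at h2

end One

/-- `a ∈ W_p` and `b ∈ W_q` represent the same element of the module `N`. -/
def Tw (V : Subgroup G) (p a q b : G) : Prop := ∃ g ∈ xl V, g * p * g⁻¹ = q ∧ (g * a * g⁻¹) * b⁻¹ ∈ ee V q

namespace One

variable {T V : Subgroup G} {z : G} {p q r : G}

theorem tw_iff (h : One T V z) (hp : p ∈ V) (hp1 : p ≠ 1) {a b g : G} (ha : a ∈ ws V p) (hg : g ∈ xl V)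
    (hgp : g * p * g⁻¹ = q) : Tw V p a q b ↔ (g * a * g⁻¹) * b⁻¹ ∈ ee V q := by
  constructor
  · rintro ⟨g', hg', h1, h2⟩
    exact md_trans (h.xl_md hp hp1 hg hg' hgp h1 ha) h2
  · exact fun h1 => ⟨g, hg, hgp, h1⟩

theorem tw_self (h : One T V z) (hp : p ∈ V) (hp1 : p ≠ 1) {a b : G} (ha : a ∈ ws V p) :
    Tw V p a p b ↔ a * b⁻¹ ∈ ee V p := by
  rw [h.tw_iff hp hp1 ha (one_mem (xl V)) (by simp)]
  simp

theorem tw_conj (_ : One T V z) {g : G} (hg : g ∈ xl V) (p a : G) : Tw V p a (g * p * g⁻¹) (g * a * g⁻¹) :=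
  ⟨g, hg, rfl, by simp⟩

theorem tw_symm (h : One T V z) {a b : G} (h1 : Tw V p a q b) : Tw V q b p a := by
  obtain ⟨g, hg, hgp, h2⟩ := h1
  refine ⟨g⁻¹, inv_mem hg, by rw [← hgp]; group, ?_⟩
  have h3 := md_symm (md_conj (inv_mem (h.xl_le_normalizer hg)) h2)
  have e1 : g⁻¹ * q * g⁻¹⁻¹ = p := by rw [← hgp]; group
  have e2 : g⁻¹ * (g * a * g⁻¹) * g⁻¹⁻¹ = a := by group
  rwa [e1, e2] at h3

theorem tw_trans (h : One T V z) {a b c : G} (h1 : Tw V p a q b) (h2 : Tw V q b r c) : Tw V p a r c := by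
  obtain ⟨g, hg, hgp, h3⟩ := h1
  obtain ⟨g', hg', hgp', h4⟩ := h2
  refine ⟨g' * g, mul_mem hg' hg, ?_, ?_⟩
  · rw [← hgp', ← hgp]; group
  · have h5 := md_conj (h.xl_le_normalizer hg') h3
    rw [hgp'] at h5
    have e : g' * g * a * (g' * g)⁻¹ = g' * (g * a * g⁻¹) * g'⁻¹ := by group
    rw [e]
    exact md_trans h5 h4

theorem tw_exists (h : One T V z) (hp : p ∈ V) (hp1 : p ≠ 1) (hq : q ∈ V) (hq1 : q ≠ 1) {a : G}
    (ha : a ∈ ws V p) : ∃ b ∈ ws V q, Tw V p a q b := by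
  obtain ⟨g, hg, hgp⟩ := h.xl_trans hp hp1 hq hq1
  refine ⟨g * a * g⁻¹, ?_, g, hg, hgp, by simp⟩
  have := conj_mem_ws g ha
  rwa [hgp] at this

theorem tw_mul (h : One T V z) (hp : p ∈ V) (hp1 : p ≠ 1) (hq : q ∈ V) (hq1 : q ≠ 1) {a b a' b' : G}
    (ha : a ∈ ws V p) (ha' : a' ∈ ws V p) (h1 : Tw V p a q b) (h2 : Tw V p a' q b') :
    Tw V p (a * a') q (b * b') := by
  obtain ⟨g, hg, hgp⟩ := h.xl_trans hp hp1 hq hq1
  rw [h.tw_iff hp hp1 ha hg hgp] at h1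
  rw [h.tw_iff hp hp1 ha' hg hgp] at h2
  rw [h.tw_iff hp hp1 (mul_mem ha ha') hg hgp]
  have h3 : g * a * g⁻¹ ∈ ws V q := by
    have := conj_mem_ws g ha
    rwa [hgp] at this
  have h4 := h.md_mul hq hq1 h3 h1 h2
  have e : g * a * g⁻¹ * (g * a' * g⁻¹) = g * (a * a') * g⁻¹ := by group
  rwa [e] at h4

theorem tw_one (h : One T V z) (hp : p ∈ V) (hp1 : p ≠ 1) (hq : q ∈ V) (hq1 : q ≠ 1) {a : G}
    (ha : a ∈ ws V p) : Tw V p a q 1 ↔ a ∈ ee V p := by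
  obtain ⟨g, hg, hgp⟩ := h.xl_trans hp hp1 hq hq1
  rw [h.tw_iff hp hp1 ha hg hgp, inv_one, mul_one]
  constructor
  · intro h1
    have h2 := conj_mem_ee (inv_mem (h.xl_le_normalizer hg)) h1
    have e1 : g⁻¹ * q * g⁻¹⁻¹ = p := by rw [← hgp]; group
    have e2 : g⁻¹ * (g * a * g⁻¹) * g⁻¹⁻¹ = a := by group
    rwa [e1, e2] at h2
  · intro h1
    have := conj_mem_ee (h.xl_le_normalizer hg) h1
    rwa [hgp] at this

/-- `Tw` is invariant under `N_G(V)` -/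
theorem tw_norm (_ : One T V z) {g a b : G} (hg : g ∈ normalizer (V : Set G)) (h1 : Tw V p a q b) :
    Tw V (g * p * g⁻¹) (g * a * g⁻¹) (g * q * g⁻¹) (g * b * g⁻¹) := by
  obtain ⟨c, hc, hcp, h2⟩ := h1
  refine ⟨g * c * g⁻¹, conj_mem_xl hg hc, ?_, ?_⟩
  · rw [← hcp]; group
  · have h3 := md_conj hg h2
    have e : g * c * g⁻¹ * (g * a * g⁻¹) * (g * c * g⁻¹)⁻¹ = g * (c * a * c⁻¹) * g⁻¹ := by group
    rwa [e]

/-- `Tw` is invariant under `C_G(V)` -/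
theorem tw_cent (h : One T V z) (hp : p ∈ V) (hq : q ∈ V) {c a b : G} (hc : c ∈ centralizer (V : Set G))
    (h1 : Tw V p a q b) : Tw V p (c * a * c⁻¹) q (c * b * c⁻¹) := by
  have h2 := h.tw_norm (centralizer_le_normalizer _ hc) h1
  rwa [conj_eq_of_comm (h.V_comm hp hc).symm, conj_eq_of_comm (h.V_comm hq hc).symm] at h2

/-! ### `β` -/

/-- `β` is defined on `W_p / E_p` -/
theorem beta_left (h : One T V z) (hp : p ∈ V) (hp1 : p ≠ 1) (hq : q ∈ V) (hq1 : q ≠ 1) {a a' b : G}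
    (ha : a ∈ ws V p) (ha' : a' ∈ ws V p) (hb : b ∈ ws V q) (h1 : a * a'⁻¹ ∈ ee V p) :
    ⁅a, b⁆ * ⁅a', b⁆⁻¹ ∈ V := by
  have e : ⁅a, b⁆ = ⁅a * a'⁻¹, b⁆ * ⁅a', b⁆ := by
    rw [← h.comm_mul_left hp hp1 hq hq1 (mul_mem ha (inv_mem ha')) ha' hb]
    simp
  rw [e, mul_inv_cancel_right]
  rcases h.ee_cases hq hq1 h1 hb with e1 | e1
  · rw [e1]; exact one_mem _
  · rw [e1]; exact hq

theorem beta_right (h : One T V z) (hp : p ∈ V) (hp1 : p ≠ 1) (hq : q ∈ V) (hq1 : q ≠ 1) {a b b' : G}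
    (ha : a ∈ ws V p) (hb : b ∈ ws V q) (hb' : b' ∈ ws V q) (h1 : b * b'⁻¹ ∈ ee V q) :
    ⁅a, b⁆ * ⁅a, b'⁆⁻¹ ∈ V := by
  rw [← h.comm_swap hp hp1 hq hq1 ha hb, ← h.comm_swap hp hp1 hq hq1 ha hb']
  exact h.beta_left hq hq1 hp hp1 hb hb' ha h1

theorem beta_xl (h : One T V z) (hp : p ∈ V) (hp1 : p ≠ 1) (hq : q ∈ V) (hq1 : q ≠ 1) {g a b : G}
    (hg : g ∈ xl V) (ha : a ∈ ws V p) (hb : b ∈ ws V q) :
    ⁅g * a * g⁻¹, g * b * g⁻¹⁆ * ⁅a, b⁆⁻¹ ∈ V := by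
  rw [← conjugate_commutatorElement]
  exact h.xl_ii hg (h.comm_ii_mem hp hp1 hq hq1 ha hb)

/-- `β` is the same for all pairs of points -/
theorem beta_tw (h : One T V z) {p' q' : G} (hp : p ∈ V) (hp1 : p ≠ 1) (hq : q ∈ V) (hq1 : q ≠ 1)
    (hqp : q ≠ p) (hp' : p' ∈ V) (hp1' : p' ≠ 1) (hq' : q' ∈ V) (hq1' : q' ≠ 1) (hqp' : q' ≠ p')
    {a b a' b' : G} (ha : a ∈ ws V p) (hb : b ∈ ws V q) (ha' : a' ∈ ws V p') (hb' : b' ∈ ws V q')
    (h1 : Tw V p a p' a') (h2 : Tw V q b q' b') : ⁅a, b⁆ * ⁅a', b'⁆⁻¹ ∈ V := by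
  obtain ⟨g, hg, hgp, hgq⟩ := h.xl_trans₂ hp hp1 hq hq1 hqp hp' hp1' hq' hq1' hqp'
  rw [h.tw_iff hp hp1 ha hg hgp] at h1
  rw [h.tw_iff hq hq1 hb hg hgq] at h2
  have h3 : g * a * g⁻¹ ∈ ws V p' := by
    have := conj_mem_ws g ha
    rwa [hgp] at this
  have h4 : g * b * g⁻¹ ∈ ws V q' := by
    have := conj_mem_ws g hb
    rwa [hgq] at this
  have h5 := h.beta_xl hp hp1 hq hq1 hg ha hb
  have h6 := h.beta_left hp' hp1' hq' hq1' h3 ha' h4 h1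
  have h7 := h.beta_right hp' hp1' hq' hq1' ha' h4 hb' h2
  have h8 := mul_mem (inv_mem h5) (mul_mem h6 h7)
  have e : (⁅g * a * g⁻¹, g * b * g⁻¹⁆ * ⁅a, b⁆⁻¹)⁻¹ *
      (⁅g * a * g⁻¹, g * b * g⁻¹⁆ * ⁅a', g * b * g⁻¹⁆⁻¹ * (⁅a', g * b * g⁻¹⁆ * ⁅a', b'⁆⁻¹)) =
      ⁅a, b⁆ * ⁅a', b'⁆⁻¹ := by
    generalize ⁅g * a * g⁻¹, g * b * g⁻¹⁆ = x1
    generalize ⁅a', g * b * g⁻¹⁆ = x2
    generalize ⁅a, b⁆ = x3
    generalize ⁅a', b'⁆ = x4
    group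
  rwa [e] at h8

/-- **`β` is symmetric** -/
theorem beta_symm (h : One T V z) (hp : p ∈ V) (hp1 : p ≠ 1) (hq : q ∈ V) (hq1 : q ≠ 1) (hqp : q ≠ p)
    {a b a' b' : G} (ha : a ∈ ws V p) (hb : b ∈ ws V q) (ha' : a' ∈ ws V q) (hb' : b' ∈ ws V p)
    (h1 : Tw V p a q a') (h2 : Tw V q b p b') : ⁅a, b⁆ * ⁅b', a'⁆⁻¹ ∈ V := by
  have h3 := h.beta_tw hp hp1 hq hq1 hqp hq hq1 hp hp1 (Ne.symm hqp) ha hb ha' hb' h1 h2
  rwa [h.comm_swap hp hp1 hq hq1 hb' ha'] at h3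

/-- **(III.a)** : `[C_{W_p}(E_q), C_{W_q}(E_p)] ≤ V`. -/
theorem w1_comm [Finite G] (h : One T V z) (hp : p ∈ V) (hp1 : p ≠ 1) (hq : q ∈ V) (hq1 : q ≠ 1) {a b : G}
    (ha : a ∈ w1 V p) (hb : b ∈ w1 V q) : ⁅a, b⁆ ∈ V := by
  by_contra hcon
  obtain ⟨k, hk, hkV, hku⟩ := h.fu (h.comm_ii_mem hp hp1 hq hq1 ha.1 hb.1) hcon hp hp1
  have he := h.kq_ee hp hp1 hp hp1 hk hkV ha.1
  have hf := h.kq_ee hp hp1 hq hq1 hk hkV hb.1
  set e := k * a * k⁻¹ * a⁻¹ with hed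
  set f := k * b * k⁻¹ * b⁻¹ with hfd
  have e1 : k * a * k⁻¹ = e * a := by rw [hed]; group
  have e2 : k * b * k⁻¹ = f * b := by rw [hfd]; group
  have h1 : ⁅e, b⁆ = 1 := commutatorElement_eq_one_iff_mul_comm.mpr (hb.2 p hp hp1 e he).symm
  have h2 : ⁅a, f⁆ = 1 := commutatorElement_eq_one_iff_mul_comm.mpr (ha.2 q hq hq1 f hf)
  have h3 : ⁅e, f⁆ = 1 := commutatorElement_eq_one_iff_mul_comm.mpr (h.ee_comm hp hp1 hq hq1 he hf)
  rw [conjugate_commutatorElement, e1, e2,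
    h.comm_mul_left hp hp1 hq hq1 he.1 ha.1 (mul_mem hf.1 hb.1),
    h.comm_mul_right hp hp1 hq hq1 he.1 hf.1 hb.1, h.comm_mul_right hp hp1 hq hq1 ha.1 hf.1 hb.1,
    h1, h2, h3, one_mul, one_mul, one_mul] at hku
  exact hp1 (by simpa using hku.symm)

end One

end Cfsg.Agent.Omega.NO3S.TwoOne
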