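import Cfsg.Agent.Omega.NO3S.TV.TwoEnd

/-!
# NO-3S, `CompP`: `k ≥ 2`, `A` consists of `λ`-transvections: the module part

The blocks `B h` of THEOREM TV2 (helper204, `TV/TwoEnd.lean`), together with the identification `α : M / Ē = A`:

* `Bk` : the blocks; `exists_bk` : they exist (`tv2`);
* `Bk.al_other` : `α` is trivial on the blocks which do not contain `v0`;
* `Bk.al_self` : `α m = 1`, `m ∈ B 1` imply `m ∈ {0, v0}`;
* `Bk.card_A` : `|A| = 4`.
-/

set_option autoImplicit false
set_option linter.unusedSectionVars false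

namespace Cfsg.Agent.Omega.NO3S.TvBig

open Cfsg.Agent.Omega.NO3S.Fit.Abs Cfsg.Agent.Omega.NO3S.TV

variable {H M : Type*} [Group H] [AddCommGroup M] [Module (ZMod 2) M] [DistribMulAction H M]

/-- the blocks of THEOREM TV2 -/
structure Bk (v0 : M) (A : Subgroup H) (B : H → AddSubgroup M) : Prop where
  self : ∀ h, h • v0 ∈ B h
  card : ∀ h, Nat.card (B h) = 2 * Nat.card A
  pt : ∀ h, ∀ m ∈ B h, m ≠ 0 → ∃ k : H, m = k • v0 ∧ B k = B h
  dis : ∀ h k, B h = B k ∨ ∀ m ∈ B h, m ∈ B k → m = 0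
  smul : ∀ x h, ∀ m ∈ B h, x • m ∈ B (x * h)
  full : ∀ h, ∀ (g : Module.Dual (ZMod 2) (sbm (B h))) (hv : h • v0 ∈ B h), g ⟨h • v0, hv⟩ = 0 →
        ∃ a ∈ A, ∀ m (hm : m ∈ B h), (h * a * h⁻¹) • m = m + g ⟨m, hm⟩ • h • v0
  triv : ∀ h k, B h ≠ B k → ∀ a ∈ A, ∀ m ∈ B k, (h * a * h⁻¹) • m = m
  sup : (⨆ h, B h) = ⊤
  ind : ∀ k, ∀ m ∈ B k, m ∈ (⨆ h : {h : H // B h ≠ B k}, B h) → m = 0

theorem exists_bk [Finite H] [Finite M] [FaithfulSMul H M] {v0 : M} {A : Subgroup H} (c : TVA v0 A)
    (hA : 4 ≤ Nat.card A) : ∃ B : H → AddSubgroup M, Bk v0 A B := by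
  obtain ⟨B, h1, h2, h3, h4, h5, h6, h7, h8, h9⟩ := tv2 c hA
  exact ⟨B, h1, h2, h3, h4, h5, h6, h7, h8, h9⟩

/-- the identification `M / Ē = A` -/
structure Al (v0 : M) (A : Subgroup H) (al : M → H) : Prop where
  mem : ∀ m, al m ∈ A
  add : ∀ m m', al (m + m') = al m * al m'
  surj : ∀ a ∈ A, ∃ m, al m = a
  conj : ∀ x : H, x • v0 = v0 → ∀ m, al (x • m) = x * al m * x⁻¹
  v0 : al v0 = 1

namespace Bk

variable {v0 : M} {A : Subgroup H} {B : H → AddSubgroup M} {al : M → H}

theorem self_one (b : Bk v0 A B) : v0 ∈ B 1 := by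
  have := b.self 1
  rwa [one_smul] at this

theorem eq_of_mem (b : Bk v0 A B) {h k : H} {m : M} (h1 : m ∈ B h) (h2 : m ∈ B k) (h0 : m ≠ 0) : B h = B k := by
  rcases b.dis h k with e | e
  · exact e
  · exact absurd (e m h1 h2) h0

theorem eq_smul (b : Bk v0 A B) (c : TVA v0 A) {x h : H} (e : x • v0 = h • v0) : B x = B h := by
  have h1 := b.self x
  rw [e] at h1
  exact b.eq_of_mem h1 (b.self h) (fun e => c.ne ((smul_eq_zero_iff_eq h).mp e))

theorem ne_self (_ : Bk v0 A B) (c : TVA v0 A) (h : H) : h • v0 ≠ 0 := fun e => c.ne ((smul_eq_zero_iff_eq h).mp e)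

/-- the functional of `h • v0 ≠ m` -/
theorem exists_fun (b : Bk v0 A B) {h : H} {m : M} (hm : m ∈ B h) (h0 : m ≠ 0) (h1 : m ≠ h • v0) :
    ∃ a ∈ A, (h * a * h⁻¹) • m = m + h • v0 := by
  -- a functional `g` with `g (h v0) = 0`, `g m = 1`
  have hnot : (⟨m, hm⟩ : sbm (B h)) ∉ Submodule.span (ZMod 2) {(⟨h • v0, b.self h⟩ : sbm (B h))} := by
    rw [Submodule.mem_span_singleton]
    rintro ⟨r, hr⟩
    rcases z2_cases r with rfl | rfl
    · rw [zero_smul] at hr
      exact h0 (congrArg Subtype.val hr).symm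
    · rw [one_smul] at hr
      exact h1 (congrArg Subtype.val hr).symm
  obtain ⟨g, hg1, hg2⟩ := Submodule.exists_dual_map_eq_bot_of_notMem hnot inferInstance
  have hg0 : g ⟨h • v0, b.self h⟩ = 0 := by
    have : g ⟨h • v0, b.self h⟩ ∈ (Submodule.span (ZMod 2) {(⟨h • v0, b.self h⟩ : sbm (B h))}).map g :=
      Submodule.mem_map_of_mem (Submodule.mem_span_singleton_self _)
    rw [hg2] at this
    exact this
  obtain ⟨a, ha, e⟩ := b.full h g (b.self h) hg0
  refine ⟨a, ha, ?_⟩
  rw [e m hm, (z2_cases _).resolve_left hg1, one_smul]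

theorem one_triv (b : Bk v0 A B) {l : H} (hl : B l ≠ B 1) {a : H} (ha : a ∈ A) {m : M} (hm : m ∈ B l) :
    a • m = m := by
  have := b.triv 1 l (Ne.symm hl) a ha m hm
  rwa [one_mul, inv_one, mul_one] at this

theorem mul_ne (b : Bk v0 A B) (c : TVA v0 A) {x l : H} (hx : x • v0 = v0) (hl : B l ≠ B 1) : B (x * l) ≠ B 1 := by
  intro e
  apply hl
  have e1 : B x = B 1 := b.eq_smul c (by rw [hx, one_smul])
  have h1 := b.self (x * l)
  rw [e, ← e1] at h1
  have h2 := b.smul x⁻¹ x _ h1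
  rw [inv_mul_cancel, mul_smul, inv_smul_smul] at h2
  exact b.eq_of_mem (b.self l) h2 (b.ne_self c l)

theorem ext_blocks (b : Bk v0 A B) [FaithfulSMul H M] {x y : H} (hh : ∀ l, ∀ m ∈ B l, x • m = y • m) : x = y := by
  refine FaithfulSMul.eq_of_smul_eq_smul (α := M) fun m => ?_
  let E : AddSubgroup M :=
    { carrier := {m | x • m = y • m}
      zero_mem' := by simp
      add_mem' := fun {m n} (hm : x • m = y • m) (hn : x • n = y • n) => by
        change x • (m + n) = y • (m + n)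
        rw [smul_add, smul_add, hm, hn]
      neg_mem' := fun {m} (hm : x • m = y • m) => by
        change x • (-m) = y • (-m)
        rw [smul_neg, smul_neg, hm] }
  have h1 : (⨆ h, B h) ≤ E := iSup_le fun h m hm => hh h m hm
  rw [b.sup] at h1
  exact h1 (AddSubgroup.mem_top m)

/-- `A^k` centralises `A` if the block of `k v0` does not contain `v0` -/
theorem comm_other (b : Bk v0 A B) (c : TVA v0 A) [FaithfulSMul H M] {k : H} (hk : B k ≠ B 1) {a a' : H}
    (ha : a ∈ A) (ha' : a' ∈ A) : k * a * k⁻¹ * a' = a' * (k * a * k⁻¹) := by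
  have hx : (k * a * k⁻¹) • v0 = v0 := b.triv k 1 hk a ha v0 b.self_one
  refine b.ext_blocks fun l m hm => ?_
  by_cases hl : B l = B 1
  · rw [hl] at hm
    have h1 : a' • m ∈ B 1 := by
      have h2 := b.smul a' 1 m hm
      rw [mul_one, b.eq_smul c (x := a') (h := 1) (by rw [c.fix a' ha', one_smul])] at h2
      exact h2
    rw [mul_smul _ a', mul_smul a', b.triv k 1 hk a ha _ h1, b.triv k 1 hk a ha _ hm]
  · rw [mul_smul _ a', mul_smul a', b.one_triv hl ha' hm,
      b.one_triv (b.mul_ne c hx hl) ha' (b.smul _ _ _ hm)]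

theorem exists_mem [Finite H] [Finite M] (b : Bk v0 A B) (hA : 4 ≤ Nat.card A) (k : H) (s : Set M)
    (hs : s.ncard < 8) : ∃ m ∈ B k, m ∉ s := by
  by_contra hcon
  push Not at hcon
  have h1 : (B k : Set M) ⊆ s := fun m hm => hcon m hm
  have h2 := Set.ncard_le_ncard h1 (Set.toFinite _)
  have h3 : Set.ncard (B k : Set M) = Nat.card (B k) := (Nat.card_coe_set_eq _).symm
  rw [h3, b.card] at h2
  omega

/-- `α` is trivial on the other blocks -/
theorem al_other [Finite H] [Finite M] (b : Bk v0 A B) (c : TVA v0 A) (hA : 4 ≤ Nat.card A) [FaithfulSMul H M]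
    (d : Al v0 A al) {h : H} (hh : B h ≠ B 1) {m : M} (hm : m ∈ B h) : al m = 1 := by
  have h10 : al 0 = 1 := by
    have := d.add 0 0
    rw [add_zero] at this
    exact (mul_eq_left.mp this.symm)
  by_cases hm0 : m = 0
  · rw [hm0, h10]
  obtain ⟨k, rfl, hk⟩ := b.pt h m hm hm0
  rw [← hk] at hh
  obtain ⟨m', hm', hn⟩ := b.exists_mem hA k {0, k • v0} (lt_of_le_of_lt (Set.ncard_insert_le _ _) (by simp))
  simp only [Set.mem_insert_iff, Set.mem_singleton_iff, not_or] at hn
  obtain ⟨a, ha, e⟩ := b.exists_fun hm' hn.1 hn.2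
  have hx : (k * a * k⁻¹) • v0 = v0 := b.triv k 1 hh a ha v0 b.self_one
  have h1 := d.conj _ hx m'
  rw [b.comm_other c hh ha (d.mem m'), mul_inv_cancel_right, e, d.add] at h1
  exact mul_eq_left.mp h1

/-- every element of `A` is the image of an element of `B 1` -/
theorem exists_one [Finite H] [Finite M] (b : Bk v0 A B) (c : TVA v0 A) (hA : 4 ≤ Nat.card A) [FaithfulSMul H M]
    (d : Al v0 A al) (m : M) : ∃ m1 ∈ B 1, al m1 = al m := by
  have h10 : al 0 = 1 := by
    have := d.add 0 0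
    rw [add_zero] at this
    exact (mul_eq_left.mp this.symm)
  have hneg : ∀ m, al (-m) = al m := fun m => by rw [neg_eq_of_add_eq_zero_left (two_of_module m)]
  let E : AddSubgroup M :=
    { carrier := {m | ∃ m1 ∈ B 1, al m1 = al m}
      zero_mem' := ⟨0, zero_mem _, rfl⟩
      add_mem' := by
        rintro m n ⟨m1, h1, e1⟩ ⟨n1, h2, e2⟩
        exact ⟨m1 + n1, add_mem h1 h2, by rw [d.add, d.add, e1, e2]⟩
      neg_mem' := by
        rintro m ⟨m1, h1, e1⟩
        exact ⟨m1, h1, by rw [hneg, e1]⟩ }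
  have h1 : (⨆ h, B h) ≤ E := by
    refine iSup_le fun h m hm => ?_
    by_cases hh : B h = B 1
    · exact ⟨m, hh ▸ hm, rfl⟩
    · exact ⟨0, zero_mem _, by rw [h10, b.al_other c hA d hh hm]⟩
  rw [b.sup] at h1
  exact h1 (AddSubgroup.mem_top m)

/-- `α` is injective modulo `v0` on `B 1` -/
theorem al_self [Finite H] [Finite M] (b : Bk v0 A B) (c : TVA v0 A) (hA : 4 ≤ Nat.card A) [FaithfulSMul H M]
    (d : Al v0 A al) {m : M} (hm : m ∈ B 1) (h1 : al m = 1) : m = 0 ∨ m = v0 := by
  have h10 : al 0 = 1 := by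
    have := d.add 0 0
    rw [add_zero] at this
    exact (mul_eq_left.mp this.symm)
  let f : B 1 →+ Additive A :=
    { toFun := fun m => Additive.ofMul ⟨al m, d.mem m⟩
      map_zero' := by
        apply congrArg Additive.ofMul
        exact Subtype.ext h10
      map_add' := fun m n => by
        apply congrArg Additive.ofMul
        exact Subtype.ext (d.add m n) }
  have hr : f.range = ⊤ := by
    rw [AddMonoidHom.range_eq_top]
    intro x
    obtain ⟨m0, e0⟩ := d.surj _ (x.toMul).2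
    obtain ⟨m1, hm1, e1⟩ := b.exists_one c hA d m0
    refine ⟨⟨m1, hm1⟩, ?_⟩
    have : (⟨al m1, d.mem m1⟩ : A) = x.toMul := Subtype.ext (e1.trans e0)
    exact congrArg Additive.ofMul this
  have h2 := AddSubgroup.card_mul_index f.ker
  rw [AddSubgroup.index_ker, hr, AddSubgroup.card_top] at h2
  have h3 : Nat.card (Additive A) = Nat.card A := rfl
  rw [h3, b.card] at h2
  have h4 : Nat.card f.ker = 2 := Nat.eq_of_mul_eq_mul_right (by omega) h2
  by_contra hcon
  push Not at hcon
  have hk : ∀ n (hn : n ∈ B 1), al n = 1 → (⟨n, hn⟩ : B 1) ∈ f.ker := by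
    intro n hn e
    rw [AddMonoidHom.mem_ker]
    apply congrArg Additive.ofMul
    exact Subtype.ext e
  let g : Fin 3 → f.ker := ![⟨_, hk 0 (zero_mem _) h10⟩, ⟨_, hk v0 b.self_one d.v0⟩, ⟨_, hk m hm h1⟩]
  have hg : Function.Injective g := by
    have key : ∀ i, (((g i : f.ker) : B 1) : M) = ![0, v0, m] i := by
      intro i; fin_cases i <;> rfl
    intro i j e
    have e' : (![0, v0, m] : Fin 3 → M) i = ![0, v0, m] j := by rw [← key, ← key, e]
    have hv := c.ne
    fin_cases i <;> fin_cases j <;> simp_all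
  have h5 := Nat.card_le_card_of_injective g hg
  rw [h4, Nat.card_fin] at h5
  omega

/-- **`|A| = 4`** -/
theorem card_A [Finite H] [Finite M] (b : Bk v0 A B) (c : TVA v0 A) (hA : 4 ≤ Nat.card A) [FaithfulSMul H M]
    (d : Al v0 A al) : Nat.card A = 4 := by
  classical
  have hp : ∃ n, Nat.card (B 1) = 2 ^ n := by
    refine ⟨Module.finrank (ZMod 2) (sbm (B 1)), ?_⟩
    have := Module.natCard_eq_pow_finrank (K := ZMod 2) (V := sbm (B 1))
    rw [Nat.card_zmod] at this
    exact this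
  obtain ⟨n, hn⟩ := hp
  rw [b.card] at hn
  suffices h8 : Nat.card A < 8 by
    have h1 : n < 4 := by
      by_contra hc
      have : 2 ^ 4 ≤ 2 ^ n := Nat.pow_le_pow_right (by norm_num) (by omega)
      omega
    interval_cases n <;> omega
  by_contra h8
  push Not at h8
  obtain ⟨u, hu, hu'⟩ := b.exists_mem hA 1 {0, v0} (lt_of_le_of_lt (Set.ncard_insert_le _ _) (by simp))
  simp only [Set.mem_insert_iff, Set.mem_singleton_iff, not_or] at hu'
  obtain ⟨k, rfl, hk⟩ := b.pt 1 u hu hu'.1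
  have hone : al (k • v0) = 1 := by
    refine b.ext_blocks fun l m' hm' => ?_
    rw [one_smul]
    by_cases hl : B l = B 1
    · rw [hl, ← hk] at hm'
      have hv : v0 ∈ B k := by rw [hk]; exact b.self_one
      -- a functional killing `k v0`, `v0`, `m'`
      have hfin : Finite (sbm (B k)) := inferInstanceAs (Finite (B k))
      let F : Finset (sbm (B k)) := {⟨k • v0, b.self k⟩, ⟨v0, hv⟩, ⟨m', hm'⟩}
      set p : Submodule (ZMod 2) (sbm (B k)) := Submodule.span (ZMod 2) (F : Set (sbm (B k))) with hpd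
      have hpt : p < ⊤ := by
        rw [lt_top_iff_ne_top]
        intro e
        have h1 : Module.finrank (ZMod 2) p ≤ 3 := (finrank_span_finset_le_card F).trans Finset.card_le_three
        rw [e, finrank_top] at h1
        have h2 := Module.natCard_eq_pow_finrank (K := ZMod 2) (V := sbm (B k))
        rw [Nat.card_zmod] at h2
        have h3 : Nat.card (sbm (B k)) = Nat.card (B k) := rfl
        rw [h3, b.card] at h2
        have h4 : 2 ^ Module.finrank (ZMod 2) (sbm (B k)) ≤ 2 ^ 3 := Nat.pow_le_pow_right (by norm_num) h1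
        omega
      obtain ⟨g, hg0, hg1⟩ := Submodule.exists_dual_map_eq_bot_of_lt_top hpt inferInstance
      have hgp : ∀ x ∈ p, g x = 0 := by
        intro x hx
        have : g x ∈ p.map g := Submodule.mem_map_of_mem hx
        rw [hg1] at this
        exact this
      have hF : ∀ x ∈ F, g x = 0 := fun x hx => hgp x (Submodule.subset_span hx)
      have g1 : g ⟨k • v0, b.self k⟩ = 0 := hF _ (by simp [F])
      have g2 : g ⟨v0, hv⟩ = 0 := hF _ (by simp [F])
      have g3 : g ⟨m', hm'⟩ = 0 := hF _ (by simp [F])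
      obtain ⟨m, hgm⟩ : ∃ m, g m = 1 := by
        by_contra hc
        push Not at hc
        apply hg0
        ext x
        exact (z2_cases (g x)).resolve_right (hc x)
      obtain ⟨a, ha, e⟩ := b.full k g (b.self k) g1
      have x1 : (k * a * k⁻¹) • v0 = v0 := by rw [e v0 hv, g2, zero_smul, add_zero]
      have x2 : (k * a * k⁻¹) • m' = m' := by rw [e m' hm', g3, zero_smul, add_zero]
      have x3 : (k * a * k⁻¹) • (m : M) = m + k • v0 := by rw [e m m.2, hgm, one_smul]
      have h1 := d.conj _ x1 (m : M)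
      rw [x3, d.add] at h1
      have x4 : (k * a * k⁻¹)⁻¹ • m' = m' := by rw [inv_smul_eq_iff, x2]
      have h2 : (al m * al (k • v0)) • m' = al m • m' := by
        rw [h1, mul_smul, mul_smul, x4]
        rcases c.tv _ (d.mem (m : M)) m' with e1 | e1
        · rw [e1, x2]
        · rw [e1, smul_add, x1, x2]
      rw [mul_smul] at h2
      exact smul_left_cancel _ h2
    · exact b.one_triv hl (d.mem _) hm'
  rcases b.al_self c hA d hu hone with e | e
  · exact hu'.1 e
  · exact hu'.2 e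

end Bk

end Cfsg.Agent.Omega.NO3S.TvBig
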